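import Groth.Agent.H8.FPAffine
import Groth.Prelude.Def_CohB1
import Groth.Prelude.Def_CxOX

/-!
# Finite type / finite presentation of `O_X`-modules, checked locally along open immersions
(helper90)

* `LocFG M x` / `LocFPres M x`: near `x` (on some open immersion `j : Z ⟶ X` through which `x`
  factors) the restriction of `M` has finitely many generating sections / a finite presentation.
* `isFT_of_locFG`, `isFP_of_locFPres`: local-to-global.
* `locFG_of_isFT`, `locFPres_of_isFP`: converses.

`localGeneratorsDataOfCover` / `isFiniteType_of_generators_cover` follow helper8's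
`H8/CohKerCoker.lean` (copied here to keep the import closure small).
-/

set_option autoImplicit false
set_option linter.style.haveILetI false
universe u
open CategoryTheory CategoryTheory.Limits AlgebraicGeometry TopologicalSpace Opposite
open AlgebraicGeometry.Scheme.Modules

namespace Groth.Agent.H90.LR

variable {X : Scheme.{u}}

section Generators

variable (M : X.Modules) {ι : Type u} (U : ι → X.Opens) (hU : IsOpenCover U)
  (G : ∀ i, (M.restrict (U i).ι).GeneratingSections)

set_option backward.isDefEq.respectTransparency false in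
/-- Local generators data from generating sections of the restrictions to an open cover. -/
noncomputable def localGeneratorsDataOfCover :
    SheafOfModules.LocalGeneratorsData.{u} (R := X.ringCatSheaf) M :=
  { I := ι
    X := U
    coversTop := (_root_.Opens.coversTop_iff _ U).mpr hU
    generators := fun i =>
      ((G i).map (Scheme.Modules.overEquiv (U i)).inverse
        ((U i).sheafOfModulesEquivOverInverseUnit X.ringCatSheaf).symm).ofEpi
        (((Scheme.Modules.overEquiv (U i)).inverse.mapIso
          ((Scheme.Modules.overFunctorEquiv (U i)).app M).symm ≪≫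
            ((Scheme.Modules.overEquiv (U i)).unitIso.app _).symm).hom) }

set_option backward.isDefEq.respectTransparency false in
include hU in
/-- Finitely many generating sections on the members of an open cover give finite type. -/
theorem isFiniteType_of_generators_cover (hG : ∀ i, (G i).IsFiniteType) :
    SheafOfModules.IsFiniteType (R := X.ringCatSheaf) M := by
  have h : (localGeneratorsDataOfCover M U hU G).IsFiniteType := by
    constructor
    intro i
    haveI := hG i
    constructor
    exact inferInstanceAs (Finite (G i).I)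
  constructor
  exact Exists.intro (localGeneratorsDataOfCover M U hU G) h

end Generators

/-- Near `x`, `M` is generated by finitely many sections. -/
def LocFG (M : X.Modules) (x : X) : Prop :=
  ∃ (Z : Scheme.{u}) (j : Z ⟶ X) (_ : IsOpenImmersion j) (z : Z), j z = x ∧
    ∃ G : ((restrictFunctor j).obj M).GeneratingSections, G.IsFiniteType

/-- Near `x`, `M` has a finite presentation. -/
def LocFPres (M : X.Modules) (x : X) : Prop :=
  ∃ (Z : Scheme.{u}) (j : Z ⟶ X) (_ : IsOpenImmersion j) (z : Z), j z = x ∧
    ∃ P : ((restrictFunctor j).obj M).Presentation, P.IsFinite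

set_option backward.isDefEq.respectTransparency false in
lemma LocFPres.locFG {M : X.Modules} {x : X} (h : LocFPres M x) : LocFG M x := by
  obtain ⟨Z, j, hj, z, hz, P, hP⟩ := h
  exact ⟨Z, j, hj, z, hz, P.generators, hP.isFiniteType_generators⟩

set_option backward.isDefEq.respectTransparency false in
lemma LocFG.of_epi {M N : X.Modules} (p : M ⟶ N) [Epi p] {x : X} (h : LocFG M x) :
    LocFG N x := by
  obtain ⟨Z, j, hj, z, hz, G, hG⟩ := h
  haveI : Epi ((restrictFunctor j).map p) := inferInstance
  exact ⟨Z, j, hj, z, hz, G.ofEpi ((restrictFunctor j).map p), inferInstance⟩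

lemma LocFG.of_iso {M N : X.Modules} (e : M ≅ N) {x : X} (h : LocFG M x) : LocFG N x :=
  h.of_epi e.hom

set_option backward.isDefEq.respectTransparency false in
lemma LocFPres.of_iso {M N : X.Modules} (e : M ≅ N) {x : X} (h : LocFPres M x) :
    LocFPres N x := by
  obtain ⟨Z, j, hj, z, hz, P, hP⟩ := h
  exact ⟨Z, j, hj, z, hz,
    SheafOfModules.Presentation.ofIsIso.{u, u, u} ((restrictFunctor j).mapIso e).hom P,
    inferInstance⟩

set_option backward.isDefEq.respectTransparency false in
lemma LocFG.of_restrict {U : Scheme.{u}} (i : U ⟶ X) [IsOpenImmersion i] {M : X.Modules} {y : U}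
    (h : LocFG ((restrictFunctor i).obj M) y) : LocFG M (i y) := by
  obtain ⟨Z, j, hj, z, hz, G, hG⟩ := h
  refine ⟨Z, j ≫ i, inferInstance, z, (congrArg i hz : i (j z) = i y),
    G.ofEpi ((restrictFunctorComp j i).app M).inv, inferInstance⟩

set_option backward.isDefEq.respectTransparency false in
lemma LocFPres.of_restrict {U : Scheme.{u}} (i : U ⟶ X) [IsOpenImmersion i] {M : X.Modules}
    {y : U} (h : LocFPres ((restrictFunctor i).obj M) y) : LocFPres M (i y) := by
  obtain ⟨Z, j, hj, z, hz, P, hP⟩ := h
  refine ⟨Z, j ≫ i, inferInstance, z, (congrArg i hz : i (j z) = i y),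
    SheafOfModules.Presentation.ofIsIso.{u, u, u} ((restrictFunctorComp j i).app M).inv P,
    inferInstance⟩

set_option backward.isDefEq.respectTransparency false in
lemma LocFG.exists_opens {M : X.Modules} {x : X} (h : LocFG M x) :
    ∃ U : X.Opens, x ∈ U ∧ ∃ G : (M.restrict U.ι).GeneratingSections, G.IsFiniteType := by
  obtain ⟨Z, j, hj, z, hz, G, hG⟩ := h
  have : PreservesColimitsOfSize.{u, u} (restrictFunctor j.isoOpensRange.inv) := inferInstance
  let iso : (restrictFunctor j.isoOpensRange.inv).obj ((restrictFunctor j).obj M) ≅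
      (restrictFunctor j.opensRange.ι).obj M :=
    ((restrictFunctorComp j.isoOpensRange.inv j).app M).symm ≪≫
      (restrictFunctorCongr (j.isoOpensRange_inv_comp)).app M
  exact ⟨j.opensRange, ⟨z, hz⟩,
    (G.map (restrictFunctor j.isoOpensRange.inv) (restrictUnitIso _).symm).ofEpi iso.hom,
    inferInstance⟩

set_option backward.isDefEq.respectTransparency false in
lemma LocFPres.exists_opens {M : X.Modules} {x : X} (h : LocFPres M x) :
    ∃ U : X.Opens, x ∈ U ∧ ∃ P : (M.restrict U.ι).Presentation, P.IsFinite := by
  obtain ⟨Z, j, hj, z, hz, P, hP⟩ := h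
  let iso : (restrictFunctor j.isoOpensRange.inv).obj ((restrictFunctor j).obj M) ≅
      (restrictFunctor j.opensRange.ι).obj M :=
    ((restrictFunctorComp j.isoOpensRange.inv j).app M).symm ≪≫
      (restrictFunctorCongr (j.isoOpensRange_inv_comp)).app M
  let P1 := presentationRestrict j.isoOpensRange.inv P
  haveI : P1.IsFinite :=
    ⟨⟨inferInstanceAs (Finite P.generators.I)⟩, ⟨inferInstanceAs (Finite P.relations.I)⟩⟩
  exact ⟨j.opensRange, ⟨z, hz⟩, SheafOfModules.Presentation.ofIsIso.{u, u, u} iso.hom P1,
    inferInstance⟩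

/-- Finite type is local. -/
theorem isFT_of_locFG (M : X.Modules) (h : ∀ x, LocFG M x) : CohB1.IsFT M := by
  choose U hxU G hG using fun x => (h x).exists_opens
  have hcov : IsOpenCover U := eq_top_iff.2 fun x _ => Opens.mem_iSup.2 ⟨x, hxU x⟩
  exact isFiniteType_of_generators_cover M U hcov G hG

/-- Finite presentation is local. -/
theorem isFP_of_locFPres (M : X.Modules) (h : ∀ x, LocFPres M x) : CohB1.IsFP M := by
  choose U hxU P hP using fun x => (h x).exists_opens
  have hcov : IsOpenCover U := eq_top_iff.2 fun x _ => Opens.mem_iSup.2 ⟨x, hxU x⟩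
  exact H8.isFinitePresentation_of_presentation_cover M U hcov P hP

theorem locFG_of_isFT (M : X.Modules) (h : CohB1.IsFT M) (x : X) : LocFG M x := by
  haveI : SheafOfModules.IsFiniteType (R := X.ringCatSheaf) M := h
  obtain ⟨ι, U, hG, hU, -⟩ := H8.exists_isOpenCover_generatingSections M
  obtain ⟨i, hi⟩ : ∃ i, x ∈ U i := by
    have : x ∈ (⨆ i, U i : X.Opens) := by rw [hU.iSup_eq_top]; trivial
    exact Opens.mem_iSup.1 this
  obtain ⟨G, hG'⟩ := hG i
  exact ⟨U i, (U i).ι, inferInstance, ⟨x, hi⟩, rfl, G, hG'⟩

theorem locFPres_of_isFP (M : X.Modules) (h : CohB1.IsFP M) (x : X) : LocFPres M x := by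
  haveI : SheafOfModules.IsFinitePresentation (R := X.ringCatSheaf) M := h
  obtain ⟨ι, U, hP, hU, -⟩ := H8.exists_isOpenCover_finite_presentation M
  obtain ⟨i, hi⟩ : ∃ i, x ∈ U i := by
    have : x ∈ (⨆ i, U i : X.Opens) := by rw [hU.iSup_eq_top]; trivial
    exact Opens.mem_iSup.1 this
  obtain ⟨P, hP'⟩ := hP i
  exact ⟨U i, (U i).ι, inferInstance, ⟨x, hi⟩, rfl, P, hP'⟩

end Groth.Agent.H90.LR
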