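import Mathlib

/-!
# `m`-quasi-isomorphisms in derived categories (helper90)

* `four_mono`, `four_epi`: the two four lemmas, stated with plain morphisms.
* `MQI m φ`: `φ` induces isomorphisms on `H^i` for `i > m` and an epimorphism on `H^m`.
* `mqi_hom₃`: five-lemma type statement for morphisms of distinguished triangles.
* `homologyCommIso`, `MQI.map`: exact functors commute with homology; they preserve `MQI`.
* `MQI.shift`.
-/

set_option autoImplicit false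
universe w w' v v' u u'
open CategoryTheory CategoryTheory.Limits

namespace Groth.Agent.H90.SPerf

section FourLemma

variable {C : Type*} [Category C] [Abelian C]

theorem four_mono {A₀ A₁ A₂ A₃ B₀ B₁ B₂ B₃ : C} {f₀ : A₀ ⟶ A₁} {f₁ : A₁ ⟶ A₂} {f₂ : A₂ ⟶ A₃}
    {g₀ : B₀ ⟶ B₁} {g₁ : B₁ ⟶ B₂} {g₂ : B₂ ⟶ B₃}
    {a₀ : A₀ ⟶ B₀} {a₁ : A₁ ⟶ B₁} {a₂ : A₂ ⟶ B₂} {a₃ : A₃ ⟶ B₃}
    (c₀ : f₀ ≫ a₁ = a₀ ≫ g₀) (c₁ : f₁ ≫ a₂ = a₁ ≫ g₁) (c₂ : f₂ ≫ a₃ = a₂ ≫ g₂)
    (w₀ : f₀ ≫ f₁ = 0) (w₁ : f₁ ≫ f₂ = 0) (hA : (ShortComplex.mk f₁ f₂ w₁).Exact)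
    (v₀ : g₀ ≫ g₁ = 0) (hB : (ShortComplex.mk g₀ g₁ v₀).Exact)
    [Epi a₀] [Mono a₁] [Mono a₃] : Mono a₂ := by
  apply Preadditive.mono_of_cancel_zero
  intro P x hx
  have h2 : x ≫ f₂ = 0 := by
    rw [← cancel_mono a₃, Category.assoc, c₂, reassoc_of% hx, zero_comp, zero_comp]
  obtain ⟨P₁, π₁, hπ₁, x₁, hx₁⟩ : ∃ (P₁ : C) (π₁ : P₁ ⟶ P) (_ : Epi π₁) (x₁ : P₁ ⟶ A₁),
      π₁ ≫ x = x₁ ≫ f₁ := hA.exact_up_to_refinements x h2
  have h3 : (x₁ ≫ a₁) ≫ g₁ = 0 := by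
    rw [Category.assoc, ← c₁, ← reassoc_of% hx₁, hx, comp_zero]
  obtain ⟨P₂, π₂, hπ₂, y₀, hy₀⟩ : ∃ (P₂ : C) (π₂ : P₂ ⟶ P₁) (_ : Epi π₂) (y₀ : P₂ ⟶ B₀),
      π₂ ≫ x₁ ≫ a₁ = y₀ ≫ g₀ := hB.exact_up_to_refinements _ h3
  obtain ⟨P₃, π₃, hπ₃, x₀, hx₀⟩ : ∃ (P₃ : C) (π₃ : P₃ ⟶ P₂) (_ : Epi π₃) (x₀ : P₃ ⟶ A₀),
      π₃ ≫ y₀ = x₀ ≫ a₀ := surjective_up_to_refinements_of_epi a₀ y₀
  have h4 : x₀ ≫ f₀ = π₃ ≫ π₂ ≫ x₁ := by
    rw [← cancel_mono a₁]
    simp only [Category.assoc]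
    rw [c₀, ← reassoc_of% hx₀, ← hy₀]
  rw [← cancel_epi π₁, comp_zero, hx₁, ← cancel_epi π₂, ← cancel_epi π₃, comp_zero, comp_zero,
    ← reassoc_of% h4, w₀, comp_zero]

theorem four_epi {A₀ A₁ A₂ A₃ B₀ B₁ B₂ B₃ : C} {f₀ : A₀ ⟶ A₁} {f₁ : A₁ ⟶ A₂} {f₂ : A₂ ⟶ A₃}
    {g₀ : B₀ ⟶ B₁} {g₁ : B₁ ⟶ B₂} {g₂ : B₂ ⟶ B₃}
    {a₀ : A₀ ⟶ B₀} {a₁ : A₁ ⟶ B₁} {a₂ : A₂ ⟶ B₂} {a₃ : A₃ ⟶ B₃}
    (c₀ : f₀ ≫ a₁ = a₀ ≫ g₀) (c₁ : f₁ ≫ a₂ = a₁ ≫ g₁) (c₂ : f₂ ≫ a₃ = a₂ ≫ g₂)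
    (w₁ : f₁ ≫ f₂ = 0) (hA : (ShortComplex.mk f₁ f₂ w₁).Exact)
    (v₀ : g₀ ≫ g₁ = 0) (hB : (ShortComplex.mk g₀ g₁ v₀).Exact) (v₁ : g₁ ≫ g₂ = 0)
    [Epi a₀] [Epi a₂] [Mono a₃] : Epi a₁ := by
  rw [epi_iff_surjective_up_to_refinements]
  intro P y₁
  obtain ⟨P₁, π₁, hπ₁, x₂, hx₂⟩ : ∃ (P₁ : C) (π₁ : P₁ ⟶ P) (_ : Epi π₁) (x₂ : P₁ ⟶ A₂),
      π₁ ≫ y₁ ≫ g₁ = x₂ ≫ a₂ := surjective_up_to_refinements_of_epi a₂ (y₁ ≫ g₁)
  have h2 : x₂ ≫ f₂ = 0 := by
    rw [← cancel_mono a₃, Category.assoc, zero_comp, c₂, ← reassoc_of% hx₂, v₁, comp_zero,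
      comp_zero]
  obtain ⟨P₂, π₂, hπ₂, x₁, hx₁⟩ : ∃ (P₂ : C) (π₂ : P₂ ⟶ P₁) (_ : Epi π₂) (x₁ : P₂ ⟶ A₁),
      π₂ ≫ x₂ = x₁ ≫ f₁ := hA.exact_up_to_refinements _ h2
  have h3 : (π₂ ≫ π₁ ≫ y₁ - x₁ ≫ a₁) ≫ g₁ = 0 := by
    rw [Preadditive.sub_comp]
    simp only [Category.assoc]
    rw [hx₂, ← c₁, reassoc_of% hx₁, sub_self]
  obtain ⟨P₃, π₃, hπ₃, y₀, hy₀⟩ : ∃ (P₃ : C) (π₃ : P₃ ⟶ P₂) (_ : Epi π₃) (y₀ : P₃ ⟶ B₀),
      π₃ ≫ (π₂ ≫ π₁ ≫ y₁ - x₁ ≫ a₁) = y₀ ≫ g₀ := hB.exact_up_to_refinements _ h3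
  obtain ⟨P₄, π₄, hπ₄, x₀, hx₀⟩ : ∃ (P₄ : C) (π₄ : P₄ ⟶ P₃) (_ : Epi π₄) (x₀ : P₄ ⟶ A₀),
      π₄ ≫ y₀ = x₀ ≫ a₀ := surjective_up_to_refinements_of_epi a₀ y₀
  refine ⟨P₄, π₄ ≫ π₃ ≫ π₂ ≫ π₁, inferInstance, π₄ ≫ π₃ ≫ x₁ + x₀ ≫ f₀, ?_⟩
  have h5 : π₄ ≫ π₃ ≫ (π₂ ≫ π₁ ≫ y₁ - x₁ ≫ a₁) = x₀ ≫ f₀ ≫ a₁ := by
    rw [hy₀, reassoc_of% hx₀, c₀]
  have h6 : (π₄ ≫ π₃ ≫ x₁ + x₀ ≫ f₀) ≫ a₁ =
      π₄ ≫ π₃ ≫ x₁ ≫ a₁ + π₄ ≫ π₃ ≫ (π₂ ≫ π₁ ≫ y₁ - x₁ ≫ a₁) := by
    rw [h5]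
    simp
  rw [h6]
  simp

end FourLemma

section MQIsec

variable {A : Type u} [Category.{v} A] [Abelian A] [HasDerivedCategory.{w} A]

/-- `φ` is an isomorphism on `H^i` for `i > m` and an epimorphism on `H^m`. -/
def MQI (m : ℤ) {K L : DerivedCategory A} (φ : K ⟶ L) : Prop :=
  (∀ i : ℤ, m < i → IsIso ((DerivedCategory.homologyFunctor A i).map φ)) ∧
    Epi ((DerivedCategory.homologyFunctor A m).map φ)

namespace MQI

variable {m : ℤ} {K L M : DerivedCategory A} {φ : K ⟶ L} {ψ : L ⟶ M}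

lemma epi_of_le (h : MQI m φ) (i : ℤ) (hi : m ≤ i) :
    Epi ((DerivedCategory.homologyFunctor A i).map φ) := by
  rcases hi.eq_or_lt with rfl | hi'
  · exact h.2
  · haveI := h.1 i hi'
    infer_instance

lemma mono_of_lt (h : MQI m φ) (i : ℤ) (hi : m < i) :
    Mono ((DerivedCategory.homologyFunctor A i).map φ) := by
  haveI := h.1 i hi
  infer_instance

lemma comp (h₁ : MQI m φ) (h₂ : MQI m ψ) : MQI m (φ ≫ ψ) := by
  refine ⟨fun i hi => ?_, ?_⟩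
  · rw [Functor.map_comp]
    have := h₁.1 i hi
    have := h₂.1 i hi
    infer_instance
  · rw [Functor.map_comp]
    have := h₁.2
    have := h₂.2
    exact epi_comp _ _

lemma of_isIso (m : ℤ) (φ : K ⟶ L) [IsIso φ] : MQI m φ :=
  ⟨fun _ _ => inferInstance, inferInstance⟩

lemma succ (h : MQI m φ) : MQI (m + 1) φ :=
  ⟨fun i hi => h.1 i (by omega), h.epi_of_le (m + 1) (by omega)⟩

lemma shift (h : MQI m φ) (n : ℤ) : MQI (m - n) (φ⟦n⟧') := by
  have key : ∀ i : ℤ, (DerivedCategory.homologyFunctor A i).map (φ⟦n⟧') =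
      ((DerivedCategory.homologyFunctor A 0).shiftIso n i (n + i) rfl).hom.app K ≫
        ((DerivedCategory.homologyFunctor A 0).shift (n + i)).map φ ≫
        ((DerivedCategory.homologyFunctor A 0).shiftIso n i (n + i) rfl).inv.app L := by
    intro i
    exact (NatIso.naturality_2
      ((DerivedCategory.homologyFunctor A 0).shiftIso n i (n + i) rfl) φ).symm
  refine ⟨fun i hi => ?_, ?_⟩
  · rw [key]
    have : IsIso (((DerivedCategory.homologyFunctor A 0).shift (n + i)).map φ) :=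
      h.1 (n + i) (by omega)
    have i1 : IsIso (((DerivedCategory.homologyFunctor A 0).shiftIso n i (n + i) rfl).hom.app K) :=
      (inferInstance : IsIso
        (((DerivedCategory.homologyFunctor A 0).shiftIso n i (n + i) rfl).app K).hom)
    have i2 : IsIso (((DerivedCategory.homologyFunctor A 0).shiftIso n i (n + i) rfl).inv.app L) :=
      (inferInstance : IsIso
        (((DerivedCategory.homologyFunctor A 0).shiftIso n i (n + i) rfl).app L).inv)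
    exact IsIso.comp_isIso' i1 (IsIso.comp_isIso' this i2)
  · rw [key]
    have : Epi (((DerivedCategory.homologyFunctor A 0).shift (n + (m - n))).map φ) :=
      h.epi_of_le _ (by omega)
    have i1 : IsIso (((DerivedCategory.homologyFunctor A 0).shiftIso n (m - n)
        (n + (m - n)) rfl).hom.app K) :=
      (inferInstance : IsIso
        (((DerivedCategory.homologyFunctor A 0).shiftIso n (m - n) (n + (m - n)) rfl).app K).hom)
    have i2 : IsIso (((DerivedCategory.homologyFunctor A 0).shiftIso n (m - n)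
        (n + (m - n)) rfl).inv.app L) :=
      (inferInstance : IsIso
        (((DerivedCategory.homologyFunctor A 0).shiftIso n (m - n) (n + (m - n)) rfl).app L).inv)
    exact epi_comp' (@IsIso.epi_of_iso _ _ _ _ _ i1)
      (epi_comp' this (@IsIso.epi_of_iso _ _ _ _ _ i2))

end MQI

open Pretriangulated DerivedCategory in
/-- Five-lemma type statement for the third component of a morphism of distinguished
triangles. -/
theorem mqi_hom₃ (T T' : Triangle (DerivedCategory A)) (hT : T ∈ distTriang _)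
    (hT' : T' ∈ distTriang _) (φ : T ⟶ T') (m : ℤ) (h₁ : MQI (m + 1) φ.hom₁)
    (h₂ : MQI m φ.hom₂) : MQI m φ.hom₃ := by
  have c1 : ∀ j : ℤ, (homologyFunctor A j).map T.mor₁ ≫ (homologyFunctor A j).map φ.hom₂ =
      (homologyFunctor A j).map φ.hom₁ ≫ (homologyFunctor A j).map T'.mor₁ := fun j => by
    rw [← Functor.map_comp, ← Functor.map_comp, φ.comm₁]
  have c2 : ∀ j : ℤ, (homologyFunctor A j).map T.mor₂ ≫ (homologyFunctor A j).map φ.hom₃ =
      (homologyFunctor A j).map φ.hom₂ ≫ (homologyFunctor A j).map T'.mor₂ := fun j => by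
    rw [← Functor.map_comp, ← Functor.map_comp, φ.comm₂]
  have c3 : ∀ j : ℤ, HomologySequence.δ T j (j + 1) rfl ≫
      (homologyFunctor A (j + 1)).map φ.hom₁ =
      (homologyFunctor A j).map φ.hom₃ ≫ HomologySequence.δ T' j (j + 1) rfl := fun j =>
    ((homologyFunctor A 0).homologySequenceδ_naturality T T' φ j (j + 1) rfl).symm
  have hepi : ∀ j, m ≤ j → Epi ((homologyFunctor A j).map φ.hom₃) := by
    intro j hj
    have : Epi ((homologyFunctor A j).map φ.hom₂) := h₂.epi_of_le j hj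
    have : Epi ((homologyFunctor A (j + 1)).map φ.hom₁) := h₁.epi_of_le (j + 1) (by omega)
    have : Mono ((homologyFunctor A (j + 1)).map φ.hom₂) := h₂.mono_of_lt (j + 1) (by omega)
    exact four_epi (c2 j) (c3 j) (c1 (j + 1))
      (HomologySequence.δ_comp T hT j (j + 1) rfl) (HomologySequence.exact₁ T hT j (j + 1) rfl)
      (HomologySequence.comp_δ T' hT' j (j + 1) rfl)
      (HomologySequence.exact₃ T' hT' j (j + 1) rfl)
      (HomologySequence.δ_comp T' hT' j (j + 1) rfl)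
  have hmono : ∀ j, m < j → Mono ((homologyFunctor A j).map φ.hom₃) := by
    intro j hj
    have : Epi ((homologyFunctor A j).map φ.hom₁) := h₁.epi_of_le j (by omega)
    have : Mono ((homologyFunctor A j).map φ.hom₂) := h₂.mono_of_lt j hj
    have : Mono ((homologyFunctor A (j + 1)).map φ.hom₁) := h₁.mono_of_lt (j + 1) (by omega)
    exact four_mono (c1 j) (c2 j) (c3 j)
      (by rw [← Functor.map_comp, comp_distTriang_mor_zero₁₂ _ hT, Functor.map_zero])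
      (HomologySequence.comp_δ T hT j (j + 1) rfl) (HomologySequence.exact₃ T hT j (j + 1) rfl)
      (by rw [← Functor.map_comp, comp_distTriang_mor_zero₁₂ _ hT', Functor.map_zero])
      (HomologySequence.exact₂ T' hT' j)
  exact ⟨fun i hi => by
    have := hmono i hi
    have := hepi i hi.le
    exact isIso_of_mono_of_epi _, hepi m le_rfl⟩

end MQIsec

section ExactFunctor

variable {A : Type u} [Category.{v} A] [Abelian A] [HasDerivedCategory.{w} A]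
  {B : Type u'} [Category.{v'} B] [Abelian B] [HasDerivedCategory.{w'} B]
  (G : A ⥤ B) [G.Additive] [PreservesFiniteLimits G] [PreservesFiniteColimits G]

/-- Exact functors commute with homology of complexes. -/
noncomputable def homologyMapHCIso (n : ℤ) :
    G.mapHomologicalComplex (ComplexShape.up ℤ) ⋙ HomologicalComplex.homologyFunctor B _ n ≅
      HomologicalComplex.homologyFunctor A _ n ⋙ G :=
  NatIso.ofComponents (fun K => (K.sc n).mapHomologyIso G)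
    (fun {K L} φ => ShortComplex.mapHomologyIso_hom_naturality
      ((HomologicalComplex.shortComplexFunctor A (ComplexShape.up ℤ) n).map φ) G)

/-- Exact functors commute with homology on derived categories. -/
noncomputable def homologyCommIso (n : ℤ) :
    G.mapDerivedCategory ⋙ DerivedCategory.homologyFunctor B n ≅
      DerivedCategory.homologyFunctor A n ⋙ G :=
  letI : Localization.Lifting DerivedCategory.Q
      (HomologicalComplex.quasiIso A (ComplexShape.up ℤ))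
      (HomologicalComplex.homologyFunctor A _ n) (DerivedCategory.homologyFunctor A n) :=
    ⟨DerivedCategory.homologyFunctorFactors A n⟩
  Localization.liftNatIso DerivedCategory.Q (HomologicalComplex.quasiIso A (ComplexShape.up ℤ))
    ((G.mapHomologicalComplex (ComplexShape.up ℤ) ⋙ DerivedCategory.Q) ⋙
      DerivedCategory.homologyFunctor B n)
    (HomologicalComplex.homologyFunctor A _ n ⋙ G) _ _
    (Functor.associator _ _ _ ≪≫
      Functor.isoWhiskerLeft _ (DerivedCategory.homologyFunctorFactors B n) ≪≫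
      homologyMapHCIso G n)

lemma MQI.map {m : ℤ} {K L : DerivedCategory A} {φ : K ⟶ L} (h : MQI m φ) :
    MQI m (G.mapDerivedCategory.map φ) := by
  have key : ∀ i : ℤ, (DerivedCategory.homologyFunctor B i).map (G.mapDerivedCategory.map φ) =
      (homologyCommIso G i).hom.app K ≫ G.map ((DerivedCategory.homologyFunctor A i).map φ) ≫
        (homologyCommIso G i).inv.app L := by
    intro i
    have := (homologyCommIso G i).hom.naturality φ
    simp only [Functor.comp_map] at this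
    rw [← Category.assoc, ← this]
    simp
  refine ⟨fun i hi => ?_, ?_⟩
  · rw [key]
    have := h.1 i hi
    infer_instance
  · rw [key]
    have := h.2
    have : Epi (G.map ((DerivedCategory.homologyFunctor A m).map φ)) := inferInstance
    infer_instance

end ExactFunctor

end Groth.Agent.H90.SPerf
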