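import Groth.Agent.H90.PerfLoc
import Groth.Agent.H90.MQI
import Groth.Agent.H28.PCohD

/-!
# Pseudo-coherent objects on schemes: local presentations and triangles (helper90)
-/

set_option autoImplicit false
universe u
open CategoryTheory CategoryTheory.Limits AlgebraicGeometry

attribute [local instance] HasDerivedCategory.standard

namespace Groth.Agent.H90.SPerf

open Groth.Agent.H28.PCohD

variable {X : Scheme.{u}}

lemma isZero_freeMod_zero (X : Scheme.{u}) : IsZero (FlatMod.freeMod X 0) := by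
  rw [IsZero.iff_id_eq_zero]
  exact Sigma.hom_ext _ _ (fun j => j.elim0)

theorem isFinLocFree_of_isZero {M : X.Modules} (hM : IsZero M) : FlatMod.IsFinLocFree M := by
  intro x
  exact ⟨⊤, 0, trivial,
    ⟨(Functor.map_isZero (Scheme.Modules.restrictFunctor _) hM).iso (isZero_freeMod_zero _)⟩⟩

theorem isStrictlyPerfect_brutalGE {E : CochainComplex X.Modules ℤ} (n : ℤ)
    (hE : DCoh.IsStrictlyPerfect E) : DCoh.IsStrictlyPerfect (brutalGE E n) := by
  obtain ⟨⟨a, b, hab⟩, hfl⟩ := hE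
  have h1 := le_max_left b n
  have h2 := le_max_right b n
  refine ⟨⟨n, max b n, ?_⟩, fun i => ?_⟩
  · rintro i (hi | hi)
    · exact isZero_brutalGE_X E n i hi
    · have : IsIso ((brutalGEι E n).f i) := isIso_brutalGEι_f E n i (by omega)
      exact IsZero.of_iso (hab i (Or.inr (by omega))) (asIso ((brutalGEι E n).f i))
  · by_cases hi : n ≤ i
    · have : IsIso ((brutalGEι E n).f i) := isIso_brutalGEι_f E n i hi
      exact H8.isFinLocFree_of_iso (asIso ((brutalGEι E n).f i)).symm (hfl i)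
    · exact isFinLocFree_of_isZero (isZero_brutalGE_X E n i (by omega))

lemma mqi_Q_brutalGEι (E : CochainComplex X.Modules ℤ) (n : ℤ) :
    MQI n (DerivedCategory.Q.map (brutalGEι E n)) :=
  ⟨fun i hi => (isIso_homologyFunctor_map_Q_iff _ i).2 (isIso_homologyMap_brutalGEι E n i hi),
    (epi_homologyFunctor_map_Q_iff _ n).2 (epi_homologyMap_brutalGEι E n)⟩

/-- `K` is, near `x`, the target of an `m`-quasi-isomorphism from a strictly perfect complex. -/
def LocPC (m : ℤ) (K : DCoh.D X) (x : X) : Prop :=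
  ∃ V : X.Opens, x ∈ V ∧ ∃ (E : CochainComplex (V : Scheme.{u}).Modules ℤ)
    (α : DerivedCategory.Q.obj E ⟶ (DCoh.restrictD V.ι).obj K),
    DCoh.IsStrictlyPerfect E ∧ MQI m α

lemma isPC_iff (m : ℤ) (K : DCoh.D X) :
    DCoh.IsPseudoCoherentD m K ↔ ∀ x, LocPC m K x := by
  constructor
  · intro h x
    obtain ⟨V, hxV, hV⟩ := h x
    obtain ⟨E, α, hE, h1, h2⟩ := hV (DerivedCategory.Q.objPreimage K)
      ⟨DerivedCategory.Q.objObjPreimageIso K⟩
    exact ⟨V, hxV, E, α ≫ (restrictDObjIso V.ι (DerivedCategory.Q.objObjPreimageIso K)).inv, hE,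
      MQI.comp ⟨h1, h2⟩ (MQI.of_isIso _ _)⟩
  · intro h x
    obtain ⟨V, hxV, E, α, hE, hα⟩ := h x
    refine ⟨V, hxV, fun F ⟨e₀⟩ => ⟨E, α ≫ (restrictDObjIso V.ι e₀).hom, hE, ?_⟩⟩
    have := hα.comp (MQI.of_isIso m (restrictDObjIso V.ι e₀).hom)
    exact ⟨this.1, this.2⟩

lemma locPC_of_immersion {U : Scheme.{u}} (j : U ⟶ X) [IsOpenImmersion j] (y : U) {m : ℤ}
    {K : DCoh.D X} {E : CochainComplex U.Modules ℤ} (hE : DCoh.IsStrictlyPerfect E)
    (α : DerivedCategory.Q.obj E ⟶ (DCoh.restrictD j).obj K) (hα : MQI m α) :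
    LocPC m K (j y) := by
  obtain ⟨c⟩ := restrictD_comp_obj j.isoOpensRange.inv j j.opensRange.ι
    (j.isoOpensRange_inv_comp).symm K
  refine ⟨j.opensRange, ⟨y, rfl⟩, _,
    (Scheme.Modules.restrictFunctor j.isoOpensRange.inv).mapDerivedCategoryFactors.inv.app E ≫
      (DCoh.restrictD j.isoOpensRange.inv).map α ≫ c.inv,
    isStrictlyPerfect_restrict _ hE, ?_⟩
  exact (MQI.of_isIso _ _).comp ((hα.map _).comp (MQI.of_isIso _ _))

lemma locPC_shrink {V W : X.Opens} (h : W ≤ V) {m : ℤ} {K : DCoh.D X}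
    {E : CochainComplex (V : Scheme.{u}).Modules ℤ} (hE : DCoh.IsStrictlyPerfect E)
    (α : DerivedCategory.Q.obj E ⟶ (DCoh.restrictD V.ι).obj K) (hα : MQI m α) :
    ∃ (E' : CochainComplex (W : Scheme.{u}).Modules ℤ)
      (α' : DerivedCategory.Q.obj E' ⟶ (DCoh.restrictD W.ι).obj K),
      DCoh.IsStrictlyPerfect E' ∧ MQI m α' := by
  obtain ⟨c⟩ := restrictD_comp_obj (X.homOfLE h) V.ι W.ι (X.homOfLE_ι h).symm K
  exact ⟨_, (Scheme.Modules.restrictFunctor (X.homOfLE h)).mapDerivedCategoryFactors.inv.app E ≫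
      (DCoh.restrictD (X.homOfLE h)).map α ≫ c.inv,
    isStrictlyPerfect_restrict _ hE,
    (MQI.of_isIso _ _).comp ((hα.map _).comp (MQI.of_isIso _ _))⟩

/-- Local lifting in the derived category. -/
theorem exists_lift_D {V : Scheme.{u}} {E₁ E₂ : CochainComplex V.Modules ℤ} {Ld : DCoh.D V}
    (hE₁ : DCoh.IsStrictlyPerfect E₁) (a : ℤ) (hE₁a : ∀ j : ℤ, j < a → IsZero (E₁.X j))
    (u : DerivedCategory.Q.obj E₁ ⟶ Ld) (β : DerivedCategory.Q.obj E₂ ⟶ Ld) (hβ : MQI a β)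
    (y : V) :
    ∃ (W : V.Opens) (γ : (DCoh.restrictCx W).obj E₁ ⟶ (DCoh.restrictCx W).obj E₂), y ∈ W ∧
      DerivedCategory.Q.map γ ≫
        (Scheme.Modules.restrictFunctor W.ι).mapDerivedCategoryFactors.inv.app E₂ ≫
        (DCoh.restrictD W.ι).map β =
      (Scheme.Modules.restrictFunctor W.ι).mapDerivedCategoryFactors.inv.app E₁ ≫
        (DCoh.restrictD W.ι).map u := by
  obtain ⟨F', b, s, hs, hb⟩ := DerivedCategory.left_fac
    (β ≫ (DerivedCategory.Q.objObjPreimageIso Ld).inv)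
  obtain ⟨F'', g, t, ht, hg⟩ := DerivedCategory.left_fac
    ((u ≫ (DerivedCategory.Q.objObjPreimageIso Ld).inv) ≫ DerivedCategory.Q.map s)
  have hβι : β ≫ ((DerivedCategory.Q.objObjPreimageIso Ld).inv ≫ DerivedCategory.Q.map s ≫
      DerivedCategory.Q.map t) = DerivedCategory.Q.map (b ≫ t) := by
    have h1 : β ≫ (DerivedCategory.Q.objObjPreimageIso Ld).inv ≫ DerivedCategory.Q.map s =
        DerivedCategory.Q.map b := by
      rw [← Category.assoc, hb, Category.assoc, IsIso.inv_hom_id, Category.comp_id]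
    rw [Functor.map_comp, ← h1]
    simp only [Category.assoc]
  have huι : u ≫ ((DerivedCategory.Q.objObjPreimageIso Ld).inv ≫ DerivedCategory.Q.map s ≫
      DerivedCategory.Q.map t) = DerivedCategory.Q.map g := by
    have h1 : ((u ≫ (DerivedCategory.Q.objObjPreimageIso Ld).inv) ≫ DerivedCategory.Q.map s) ≫
        DerivedCategory.Q.map t = DerivedCategory.Q.map g := by
      rw [hg, Category.assoc, IsIso.inv_hom_id, Category.comp_id]
    rw [← h1]
    simp only [Category.assoc]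
  have hιiso : IsIso ((DerivedCategory.Q.objObjPreimageIso Ld).inv ≫ DerivedCategory.Q.map s ≫
      DerivedCategory.Q.map t) := inferInstance
  have hf : MQI a (DerivedCategory.Q.map (b ≫ t)) := by
    rw [← hβι]
    exact hβ.comp (MQI.of_isIso _ _)
  obtain ⟨W, γ, hyW, ⟨hγ⟩⟩ := exists_lift_homotopy g (b ≫ t) hE₁ a hE₁a
    (fun j hj => (isIso_homologyFunctor_map_Q_iff (b ≫ t) j).1 (hf.1 j hj))
    ((epi_homologyFunctor_map_Q_iff (b ≫ t) a).1 hf.2) y
  refine ⟨W, γ, hyW, ?_⟩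
  have hQ := DerivedCategory.Q_map_eq_of_homotopy _ hγ
  rw [Functor.map_comp] at hQ
  have n1 := (Scheme.Modules.restrictFunctor W.ι).mapDerivedCategoryFactors_hom_naturality (b ≫ t)
  have n2 := (Scheme.Modules.restrictFunctor W.ι).mapDerivedCategoryFactors_hom_naturality g
  rw [← cancel_mono ((DCoh.restrictD W.ι).map ((DerivedCategory.Q.objObjPreimageIso Ld).inv ≫
      DerivedCategory.Q.map s ≫ DerivedCategory.Q.map t)),
    ← cancel_mono ((Scheme.Modules.restrictFunctor W.ι).mapDerivedCategoryFactors.hom.app F'')]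
  simp only [Category.assoc]
  rw [← Functor.map_comp_assoc, hβι, ← Functor.map_comp_assoc, huι, n1, n2,
    Iso.inv_hom_id_app_assoc, Iso.inv_hom_id_app_assoc, hQ]

open Pretriangulated in
theorem locPC_obj₃_aux (T : Triangle (DCoh.D X)) (hT : T ∈ distTriang _) (m : ℤ) (x : X)
    (V : X.Opens) (hxV : x ∈ V) {E₁ E₂ : CochainComplex (V : Scheme.{u}).Modules ℤ}
    (hE₁ : DCoh.IsStrictlyPerfect E₁)
    (α₁ : DerivedCategory.Q.obj E₁ ⟶ (DCoh.restrictD V.ι).obj T.obj₁) (hα₁ : MQI (m + 1) α₁)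
    (hE₂ : DCoh.IsStrictlyPerfect E₂)
    (α₂ : DerivedCategory.Q.obj E₂ ⟶ (DCoh.restrictD V.ι).obj T.obj₂) (hα₂ : MQI m α₂) :
    LocPC m T.obj₃ x := by
  have hE₁t := isStrictlyPerfect_brutalGE (m + 1) hE₁
  have hα₁t : MQI (m + 1) (DerivedCategory.Q.map (brutalGEι E₁ (m + 1)) ≫ α₁) :=
    (mqi_Q_brutalGEι E₁ (m + 1)).comp hα₁
  obtain ⟨W, γ, hxW, hγ⟩ := exists_lift_D hE₁t (m + 1)
    (fun j hj => isZero_brutalGE_X E₁ (m + 1) j hj)
    ((DerivedCategory.Q.map (brutalGEι E₁ (m + 1)) ≫ α₁) ≫ (DCoh.restrictD V.ι).map T.mor₁)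
    α₂ hα₂.succ (⟨x, hxV⟩ : V)
  have hTγ := DerivedCategory.mappingCone_triangle_distinguished γ
  have hT'' : (DCoh.restrictD W.ι).mapTriangle.obj ((DCoh.restrictD V.ι).mapTriangle.obj T) ∈
      distTriang _ :=
    (DCoh.restrictD W.ι).map_distinguished _ ((DCoh.restrictD V.ι).map_distinguished _ hT)
  have ha₁ : MQI (m + 1)
      ((Scheme.Modules.restrictFunctor W.ι).mapDerivedCategoryFactors.inv.app
          (brutalGE E₁ (m + 1)) ≫
        (DCoh.restrictD W.ι).map (DerivedCategory.Q.map (brutalGEι E₁ (m + 1)) ≫ α₁)) :=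
    (MQI.of_isIso _ _).comp (hα₁t.map _)
  have ha₂ : MQI m
      ((Scheme.Modules.restrictFunctor W.ι).mapDerivedCategoryFactors.inv.app E₂ ≫
        (DCoh.restrictD W.ι).map α₂) :=
    (MQI.of_isIso _ _).comp (hα₂.map _)
  have comm : (DerivedCategory.Q.mapTriangle.obj (CochainComplex.mappingCone.triangle γ)).mor₁ ≫
      ((Scheme.Modules.restrictFunctor W.ι).mapDerivedCategoryFactors.inv.app E₂ ≫
        (DCoh.restrictD W.ι).map α₂) =
      ((Scheme.Modules.restrictFunctor W.ι).mapDerivedCategoryFactors.inv.app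
          (brutalGE E₁ (m + 1)) ≫
        (DCoh.restrictD W.ι).map (DerivedCategory.Q.map (brutalGEι E₁ (m + 1)) ≫ α₁)) ≫
      ((DCoh.restrictD W.ι).mapTriangle.obj ((DCoh.restrictD V.ι).mapTriangle.obj T)).mor₁ := by
    show DerivedCategory.Q.map γ ≫
      ((Scheme.Modules.restrictFunctor W.ι).mapDerivedCategoryFactors.inv.app E₂ ≫
        (DCoh.restrictD W.ι).map α₂) =
      ((Scheme.Modules.restrictFunctor W.ι).mapDerivedCategoryFactors.inv.app
          (brutalGE E₁ (m + 1)) ≫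
        (DCoh.restrictD W.ι).map (DerivedCategory.Q.map (brutalGEι E₁ (m + 1)) ≫ α₁)) ≫
      (DCoh.restrictD W.ι).map ((DCoh.restrictD V.ι).map T.mor₁)
    rw [hγ]
    simp only [Functor.map_comp, Category.assoc]
  obtain ⟨c, hc₁, hc₂⟩ := complete_distinguished_triangle_morphism _ _ hTγ hT'' _ _ comm
  have hc : MQI m c := mqi_hom₃ _ _ hTγ hT''
    { hom₁ := _, hom₂ := _, hom₃ := c, comm₁ := comm, comm₂ := hc₁, comm₃ := hc₂ } m ha₁ ha₂
  obtain ⟨c1⟩ := restrictD_comp_obj W.ι V.ι (W.ι ≫ V.ι) rfl T.obj₃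
  have hcone := isStrictlyPerfect_mappingCone γ (isStrictlyPerfect_restrict W.ι hE₁t)
    (isStrictlyPerfect_restrict W.ι hE₂)
  have h1 : MQI m c1.inv := MQI.of_isIso m c1.inv
  exact locPC_of_immersion (W.ι ≫ V.ι) (⟨⟨x, hxV⟩, hxW⟩ : W) hcone (c ≫ c1.inv) (hc.comp h1)

open Pretriangulated in
theorem locPC_obj₃ (T : Triangle (DCoh.D X)) (hT : T ∈ distTriang _) (m : ℤ) (x : X)
    (h₁ : LocPC (m + 1) T.obj₁ x) (h₂ : LocPC m T.obj₂ x) : LocPC m T.obj₃ x := by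
  obtain ⟨V₁, hx₁, E₁, α₁, hE₁, hα₁⟩ := h₁
  obtain ⟨V₂, hx₂, E₂, α₂, hE₂, hα₂⟩ := h₂
  obtain ⟨E₁', α₁', hE₁', hα₁'⟩ := locPC_shrink (inf_le_left : V₁ ⊓ V₂ ≤ V₁) hE₁ α₁ hα₁
  obtain ⟨E₂', α₂', hE₂', hα₂'⟩ := locPC_shrink (inf_le_right : V₁ ⊓ V₂ ≤ V₂) hE₂ α₂ hα₂
  exact locPC_obj₃_aux T hT m x (V₁ ⊓ V₂) ⟨hx₁, hx₂⟩ hE₁' α₁' hα₁' hE₂' α₂' hα₂'

lemma locPC_shift {m : ℤ} {K : DCoh.D X} {x : X} (n : ℤ) (h : LocPC m K x) :
    LocPC (m - n) (K⟦n⟧) x := by
  obtain ⟨V, hxV, E, α, hE, hα⟩ := h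
  refine ⟨V, hxV, E⟦n⟧, ((DerivedCategory.Q.commShiftIso n).app E).hom ≫ α⟦n⟧' ≫
    (((DCoh.restrictD V.ι).commShiftIso n).app K).inv, isStrictlyPerfect_shift E n hE, ?_⟩
  exact (MQI.of_isIso _ _).comp ((hα.shift n).comp (MQI.of_isIso _ _))

lemma locPC_shift_neg_one {m : ℤ} {K : DCoh.D X} {x : X} (h : LocPC m K x) :
    LocPC (m + 1) (K⟦(-1 : ℤ)⟧) x := by
  have := locPC_shift (-1) h
  rwa [show m - (-1) = m + 1 by ring] at this

open Pretriangulated in
/-- Pseudo-coherence in distinguished triangles. -/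
theorem isPC_triangle (m : ℤ) (T : Triangle (DCoh.D X)) (hT : T ∈ distTriang _) :
    (DCoh.IsPseudoCoherentD (m + 1) T.obj₁ → DCoh.IsPseudoCoherentD m T.obj₂ →
      DCoh.IsPseudoCoherentD m T.obj₃) ∧
    (DCoh.IsPseudoCoherentD m T.obj₁ → DCoh.IsPseudoCoherentD m T.obj₃ →
      DCoh.IsPseudoCoherentD m T.obj₂) ∧
    (DCoh.IsPseudoCoherentD (m + 1) T.obj₂ → DCoh.IsPseudoCoherentD m T.obj₃ →
      DCoh.IsPseudoCoherentD (m + 1) T.obj₁) := by
  simp only [isPC_iff]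
  refine ⟨fun h1 h2 x => locPC_obj₃ T hT m x (h1 x) (h2 x), fun h1 h3 x => ?_, fun h2 h3 x => ?_⟩
  · exact locPC_obj₃ T.invRotate (inv_rot_of_distTriang _ hT) m x
      (locPC_shift_neg_one (h3 x)) (h1 x)
  · exact locPC_obj₃ T.invRotate.invRotate
      (inv_rot_of_distTriang _ (inv_rot_of_distTriang _ hT)) (m + 1) x
      (locPC_shift_neg_one (h2 x)) (locPC_shift_neg_one (h3 x))

end Groth.Agent.H90.SPerf
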