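import Groth.Agent.H90.PCohLoc

/-!
# Direct summands of pseudo-coherent objects on schemes (helper90)
-/

set_option autoImplicit false
universe u
open CategoryTheory CategoryTheory.Limits AlgebraicGeometry

attribute [local instance] HasDerivedCategory.standard

namespace Groth.Agent.H90.SPerf

open ZeroObject Pretriangulated

variable {X : Scheme.{u}}

lemma locPC_of_iso {m : ℤ} {K K' : DCoh.D X} (e : K ≅ K') {x : X} (h : LocPC m K x) :
    LocPC m K' x := by
  obtain ⟨V, hxV, E, α, hE, hα⟩ := h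
  exact ⟨V, hxV, E, α ≫ (DCoh.restrictD V.ι).map e.hom, hE, hα.comp (MQI.of_isIso _ _)⟩

lemma locPC_mono {m n : ℤ} (hmn : m ≤ n) {K : DCoh.D X} {x : X} (h : LocPC m K x) :
    LocPC n K x := by
  obtain ⟨V, hxV, E, α, hE, hα⟩ := h
  exact ⟨V, hxV, E, α, hE, ⟨fun i hi => hα.1 i (by omega), hα.epi_of_le n hmn⟩⟩

lemma isStrictlyPerfect_zero (V : Scheme.{u}) :
    DCoh.IsStrictlyPerfect (0 : CochainComplex V.Modules ℤ) := by
  have hz : ∀ i : ℤ, IsZero ((0 : CochainComplex V.Modules ℤ).X i) := fun i =>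
    Functor.map_isZero (HomologicalComplex.eval V.Modules (ComplexShape.up ℤ) i) (isZero_zero _)
  exact ⟨⟨0, 0, fun i _ => hz i⟩, fun i => isFinLocFree_of_isZero (hz i)⟩

lemma locPC_of_bounded {K : DCoh.D X} {x : X} {V : X.Opens} (hxV : x ∈ V) (N : ℤ)
    (hK : ∀ i : ℤ, N ≤ i → IsZero ((DerivedCategory.homologyFunctor _ i).obj
      ((DCoh.restrictD V.ι).obj K))) : LocPC N K x := by
  have hsrc : ∀ i : ℤ, IsZero ((DerivedCategory.homologyFunctor (V : Scheme.{u}).Modules i).obj
      (DerivedCategory.Q.obj (0 : CochainComplex (V : Scheme.{u}).Modules ℤ))) := fun i =>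
    Functor.map_isZero _ (Functor.map_isZero _ (isZero_zero _))
  refine ⟨V, hxV, 0, 0, isStrictlyPerfect_zero _, ⟨fun i hi => ?_, ?_⟩⟩
  · exact ⟨⟨0, (hsrc i).eq_of_src _ _, (hK i hi.le).eq_of_src _ _⟩⟩
  · exact ⟨fun g h _ => (hK N le_rfl).eq_of_src g h⟩

lemma isZero_of_retract {C D : Type*} [Category C] [Category D] [HasZeroMorphisms D]
    (F : C ⥤ D) {K P : C} (r : K ⟶ P) (s : P ⟶ K) (hrs : r ≫ s = 𝟙 K) (hP : IsZero (F.obj P)) :
    IsZero (F.obj K) := by
  rw [IsZero.iff_id_eq_zero, ← F.map_id, ← hrs, F.map_comp, hP.eq_of_tgt (F.map r) 0, zero_comp]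

theorem locPC_summands (m : ℤ) (K L : DCoh.D X) [HasBinaryBiproduct K L] (x : X)
    (h : LocPC m (K ⊞ L) x) : LocPC m K x ∧ LocPC m L x := by
  obtain ⟨V, hxV, E, α, hE, hα⟩ := id h
  obtain ⟨⟨a, b, hab⟩, _⟩ := id hE
  have h1 := le_max_left m b
  have h2 := le_max_right m b
  have hP : ∀ i : ℤ, max m b < i → IsZero ((DCoh.restrictD V.ι ⋙
      DerivedCategory.homologyFunctor _ i).obj (K ⊞ L)) := by
    intro i hi
    have := hα.1 i (by omega)
    refine IsZero.of_iso ?_ (asIso ((DerivedCategory.homologyFunctor _ i).map α)).symm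
    exact IsZero.of_iso ((E.exactAt_iff_isZero_homology i).1
      (HomologicalComplex.ExactAt.of_isZero (hab i (Or.inr (by omega)))))
      ((DerivedCategory.homologyFunctorFactors _ i).app E)
  have hKz : ∀ i : ℤ, max m b < i → IsZero ((DCoh.restrictD V.ι ⋙
      DerivedCategory.homologyFunctor _ i).obj K) := fun i hi =>
    isZero_of_retract _ biprod.inl biprod.fst biprod.inl_fst (hP i hi)
  have hLz : ∀ i : ℤ, max m b < i → IsZero ((DCoh.restrictD V.ι ⋙
      DerivedCategory.homologyFunctor _ i).obj L) := fun i hi =>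
    isZero_of_retract _ biprod.inr biprod.snd biprod.inr_snd (hP i hi)
  have base : LocPC (max m b + 1) K x ∧ LocPC (max m b + 1) L x :=
    ⟨locPC_of_bounded hxV _ (fun i hi => hKz i (by omega)),
      locPC_of_bounded hxV _ (fun i hi => hLz i (by omega))⟩
  have step : ∀ k : ℕ, m ≤ max m b + 1 - (k : ℤ) →
      LocPC (max m b + 1 - (k : ℤ)) K x ∧ LocPC (max m b + 1 - (k : ℤ)) L x := by
    intro k
    induction k with
    | zero =>
      intro _
      simpa using base
    | succ k ih =>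
      intro hk
      obtain ⟨hK', hL'⟩ := ih (by push_cast at hk ⊢; omega)
      have hn : max m b + 1 - (k : ℤ) = (max m b + 1 - ((k + 1 : ℕ) : ℤ)) + 1 := by
        push_cast
        ring
      rw [hn] at hK' hL'
      have hP' : LocPC (max m b + 1 - ((k + 1 : ℕ) : ℤ)) (K ⊞ L) x := locPC_mono hk h
      exact ⟨locPC_obj₃ (binaryBiproductTriangle L K) (binaryBiproductTriangle_distinguished L K)
          _ x hL' (locPC_of_iso (biprod.braiding K L) hP'),
        locPC_obj₃ (binaryBiproductTriangle K L) (binaryBiproductTriangle_distinguished K L)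
          _ x hK' hP'⟩
  have := step (max m b + 1 - m).toNat (by rw [Int.toNat_of_nonneg (by omega)]; omega)
  rwa [Int.toNat_of_nonneg (by omega), sub_sub_cancel] at this

theorem isPC_summands (m : ℤ) (K L : DCoh.D X) [HasBinaryBiproduct K L]
    (h : DCoh.IsPseudoCoherentD m (K ⊞ L)) :
    DCoh.IsPseudoCoherentD m K ∧ DCoh.IsPseudoCoherentD m L := by
  rw [isPC_iff] at h
  simp only [isPC_iff]
  exact ⟨fun x => (locPC_summands m K L x (h x)).1, fun x => (locPC_summands m K L x (h x)).2⟩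

end Groth.Agent.H90.SPerf
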