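import Groth.Agent.H90.LocRetr
import Groth.Agent.H90.LocFP
import Groth.Agent.H90.PCohLoc
import Groth.Agent.H90.PCohSummand
import Mathlib.Algebra.Homology.DerivedCategory.SingleTriangle
import Mathlib.Algebra.Homology.SingleHomology

/-!
# Top cohomology of pseudo-coherent objects; pseudo-coherence of a single module (helper90)

* `isFT_isFP_top` (= S0890): for `K` `m`-pseudo-coherent, `H^m(K)` is of finite type if `H^i(K) = 0`
  for `i > m`, and `H^{m+1}(K)` is of finite presentation if `H^i(K) = 0` for `i > m + 1`.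
* `isPC_single_iff` (= S6518): `F[0]` is `0`-pseudo-coherent iff `F` is of finite type, and
  `(-1)`-pseudo-coherent iff `F` is of finite presentation.
-/

set_option autoImplicit false
universe w v u' u
open CategoryTheory CategoryTheory.Limits AlgebraicGeometry
open AlgebraicGeometry.Scheme.Modules

attribute [local instance] HasDerivedCategory.standard

namespace Groth.Agent.H90.LR

open Groth.Agent.H90.SPerf

section Single

variable {C : Type u'} [Category.{v} C] [Abelian C] [HasDerivedCategory.{w} C]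

/-- `H^0` of the single functor. -/
noncomputable def singleH0Iso :
    DerivedCategory.singleFunctor C 0 ⋙ DerivedCategory.homologyFunctor C 0 ≅ 𝟭 C :=
  Functor.isoWhiskerRight (DerivedCategory.singleFunctorIsoCompQ C 0) _ ≪≫
    Functor.associator _ _ _ ≪≫
    Functor.isoWhiskerLeft _ (DerivedCategory.homologyFunctorFactors C 0) ≪≫
    HomologicalComplex.homologyFunctorSingleIso C (ComplexShape.up ℤ) 0

lemma isZero_homology_single (M : C) (i : ℤ) (hi : i ≠ 0) :
    IsZero ((DerivedCategory.homologyFunctor C i).obj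
      ((DerivedCategory.singleFunctor C 0).obj M)) :=
  IsZero.of_iso (HomologicalComplex.isZero_single_obj_homology (ComplexShape.up ℤ) 0 M i hi)
    ((DerivedCategory.homologyFunctorFactors C i).app
      ((HomologicalComplex.single C (ComplexShape.up ℤ) 0).obj M))

lemma homology_map_single {M N : C} (f : M ⟶ N) :
    (DerivedCategory.homologyFunctor C 0).map ((DerivedCategory.singleFunctor C 0).map f) =
      (singleH0Iso (C := C)).hom.app M ≫ f ≫ (singleH0Iso (C := C)).inv.app N :=
  (NatIso.naturality_2 (singleH0Iso (C := C)) f).symm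

lemma mqi_single_of_epi {M N : C} (f : M ⟶ N) [Epi f] :
    MQI 0 ((DerivedCategory.singleFunctor C 0).map f) := by
  refine ⟨fun i hi => ?_, ?_⟩
  · exact ⟨⟨0, (isZero_homology_single M i (by omega)).eq_of_src _ _,
      (isZero_homology_single N i (by omega)).eq_of_src _ _⟩⟩
  · rw [homology_map_single]
    have h1 : Epi ((singleH0Iso (C := C)).hom.app M) := inferInstance
    have h3 : Epi ((singleH0Iso (C := C)).inv.app N) := inferInstance
    exact epi_comp' h1 (epi_comp' ‹Epi f› h3)

end Single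

variable {X : Scheme.{u}}

section Top

theorem locFPres_HD_of_locPC {m : ℤ} {K : DCoh.D X} {x : X} (h : LocPC m K x) :
    ((∀ i, m < i → IsZero (DCoh.HD K i)) → LocFG (DCoh.HD K m) x) ∧
    ((∀ i, m + 1 < i → IsZero (DCoh.HD K i)) → LocFPres (DCoh.HD K (m + 1)) x) := by
  obtain ⟨V, hxV, E, α, hE, hα⟩ := h
  have e1 : ∀ i, (DerivedCategory.homologyFunctor _ i).obj (DerivedCategory.Q.obj E) ≅
      E.homology i := fun i => (DerivedCategory.homologyFunctorFactors _ i).app E
  have e2 : ∀ i, (DerivedCategory.homologyFunctor _ i).obj ((DCoh.restrictD V.ι).obj K) ≅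
      (restrictFunctor V.ι).obj (DCoh.HD K i) :=
    fun i => (homologyCommIso (restrictFunctor V.ι) i).app K
  have hzero : ∀ i, m < i → IsZero (DCoh.HD K i) → IsZero (E.homology i) := fun i hi hz => by
    have := hα.1 i hi
    exact IsZero.of_iso (Functor.map_isZero (restrictFunctor V.ι) hz)
      ((e1 i).symm ≪≫ asIso ((DerivedCategory.homologyFunctor _ i).map α) ≪≫ e2 i)
  constructor
  · intro hz
    have h1 : LocFG (E.homology m) ⟨x, hxV⟩ :=
      LocFPres.locFG (exists_presentation_homology E m hE (fun i hi => hzero i hi (hz i hi))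
        ⟨x, hxV⟩)
    have hepi : Epi ((DerivedCategory.homologyFunctor _ m).map α) := hα.2
    have hq : Epi ((e1 m).inv ≫ (DerivedCategory.homologyFunctor _ m).map α ≫ (e2 m).hom) :=
      epi_comp' inferInstance (epi_comp' hepi inferInstance)
    have h2 : LocFG ((restrictFunctor V.ι).obj (DCoh.HD K m)) ⟨x, hxV⟩ :=
      h1.of_epi ((e1 m).inv ≫ (DerivedCategory.homologyFunctor _ m).map α ≫ (e2 m).hom)
    exact h2.of_restrict V.ι
  · intro hz
    have h1 : LocFPres (E.homology (m + 1)) ⟨x, hxV⟩ :=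
      exists_presentation_homology E (m + 1) hE
        (fun i hi => hzero i (by omega) (hz i hi)) ⟨x, hxV⟩
    have := hα.1 (m + 1) (by omega)
    have h2 : LocFPres ((restrictFunctor V.ι).obj (DCoh.HD K (m + 1))) ⟨x, hxV⟩ :=
      h1.of_iso ((e1 (m + 1)).symm ≪≫
        asIso ((DerivedCategory.homologyFunctor _ (m + 1)).map α) ≪≫ e2 (m + 1))
    exact h2.of_restrict V.ι

/-- S0890. -/
theorem isFT_isFP_top (m : ℤ) (K : DCoh.D X) (hK : DCoh.IsPseudoCoherentD m K) :
    ((∀ i : ℤ, m < i → IsZero (DCoh.HD K i)) → CohB1.IsFT (DCoh.HD K m)) ∧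
    ((∀ i : ℤ, m + 1 < i → IsZero (DCoh.HD K i)) → CohB1.IsFP (DCoh.HD K (m + 1))) := by
  rw [isPC_iff] at hK
  exact ⟨fun hz => isFT_of_locFG _ fun x => (locFPres_HD_of_locPC (hK x)).1 hz,
    fun hz => isFP_of_locFPres _ fun x => (locFPres_HD_of_locPC (hK x)).2 hz⟩

end Top

section SingleModule

lemma isStrictlyPerfect_single {U : Scheme.{u}} {P : U.Modules} (hP : FlatMod.IsFinLocFree P) :
    DCoh.IsStrictlyPerfect ((HomologicalComplex.single U.Modules (ComplexShape.up ℤ) 0).obj P) := by
  refine ⟨⟨0, 0, fun i hi => HomologicalComplex.isZero_single_obj_X _ _ _ _ (by omega)⟩,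
    fun i => ?_⟩
  by_cases hi : i = 0
  · subst hi
    exact H8.isFinLocFree_of_iso (HomologicalComplex.singleObjXSelf (ComplexShape.up ℤ) 0 P).symm hP
  · exact isFinLocFree_of_isZero (HomologicalComplex.isZero_single_obj_X _ _ _ _ hi)

lemma locPC_of_restrict {U : Scheme.{u}} (j : U ⟶ X) [IsOpenImmersion j] {m : ℤ} {K : DCoh.D X}
    {y : U} (h : LocPC m ((DCoh.restrictD j).obj K) y) : LocPC m K (j y) := by
  obtain ⟨V, hyV, E, α, hE, hα⟩ := h
  obtain ⟨c⟩ := restrictD_comp_obj V.ι j (V.ι ≫ j) rfl K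
  exact locPC_of_immersion (V.ι ≫ j) ⟨y, hyV⟩ hE (α ≫ c.inv) (hα.comp (MQI.of_isIso _ _))

lemma locPC_single {U : Scheme.{u}} (j : U ⟶ X) [IsOpenImmersion j] {M : X.Modules}
    {P : U.Modules} (hP : FlatMod.IsFinLocFree P) (π : P ⟶ (restrictFunctor j).obj M) (m : ℤ)
    (hπ : MQI m ((DerivedCategory.singleFunctor U.Modules 0).map π)) (y : U) :
    LocPC m (DCoh.inD X M) (j y) :=
  locPC_of_immersion j y (isStrictlyPerfect_single hP)
    ((DerivedCategory.singleFunctor U.Modules 0).map π ≫
      ((restrictFunctor j).mapDerivedCategorySingleFunctor 0).inv.app M)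
    (hπ.comp (MQI.of_isIso _ _))

lemma locPC_inD_of_epi {Z : Scheme.{u}} {P M : Z.Modules} (hP : FlatMod.IsFinLocFree P)
    (π : P ⟶ M) [Epi π] (z : Z) : LocPC 0 (DCoh.inD Z M) z := by
  have : Epi ((restrictFunctor (⊤ : Z.Opens).ι).map π) := inferInstance
  exact locPC_single (⊤ : Z.Opens).ι (isFinLocFree_restrict _ hP)
    ((restrictFunctor (⊤ : Z.Opens).ι).map π) 0 (mqi_single_of_epi _) ⟨z, trivial⟩

lemma locPC_inD_of_finLocFree {Z : Scheme.{u}} {P : Z.Modules} (hP : FlatMod.IsFinLocFree P)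
    (m : ℤ) (z : Z) : LocPC m (DCoh.inD Z P) z := by
  refine locPC_single (⊤ : Z.Opens).ι (isFinLocFree_restrict _ hP) (𝟙 _) m ?_ ⟨z, trivial⟩
  rw [CategoryTheory.Functor.map_id]
  exact MQI.of_isIso _ _

lemma isFinLocFree_free (Z : Scheme.{u}) (I : Type u) [Finite I] :
    FlatMod.IsFinLocFree (SheafOfModules.free.{u} (R := Z.ringCatSheaf) I) := by
  obtain ⟨k, ⟨e⟩⟩ := Finite.exists_equiv_fin I
  exact H8.isFinLocFree_of_iso
    (Sigma.whiskerEquiv (f := fun _ : I => SheafOfModules.unit Z.ringCatSheaf)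
      (g := fun _ : Fin k => Coh.structureModule Z) e (fun _ => Iso.refl _)).symm
    (isFinLocFree_freeMod Z k)

set_option backward.isDefEq.respectTransparency false in
lemma locPC_zero_of_locFG {F : X.Modules} {x : X} (h : LocFG F x) :
    LocPC 0 (DCoh.inD X F) x := by
  obtain ⟨Z, j, hj, z, hz, G, hG⟩ := h
  have : Finite G.I := hG.finite
  have : Epi G.π := G.epi
  exact hz ▸ locPC_single j (isFinLocFree_free Z G.I) G.π 0 (mqi_single_of_epi _) z

set_option backward.isDefEq.respectTransparency false in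
lemma locPC_neg_one_of_locFPres {F : X.Modules} {x : X} (h : LocFPres F x) :
    LocPC (-1) (DCoh.inD X F) x := by
  obtain ⟨Z, j, hj, z, hz, P, hP⟩ := h
  have : Finite P.generators.I := hP.isFiniteType_generators.finite
  have : Finite P.relations.I := hP.isFiniteType_relations.finite
  have : Epi P.generators.π := P.generators.epi
  have : Epi P.relations.π := P.relations.epi
  let S : ShortComplex Z.Modules :=
    ShortComplex.mk (kernel.ι P.generators.π) P.generators.π (kernel.condition _)
  have hS : S.ShortExact :=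
    { exact := ShortComplex.exact_of_f_is_kernel _ (kernelIsKernel _)
      mono_f := inferInstanceAs (Mono (kernel.ι P.generators.π))
      epi_g := inferInstanceAs (Epi P.generators.π) }
  have h₁ : LocPC ((-1 : ℤ) + 1) hS.singleTriangle.obj₁ z := by
    rw [show (-1 : ℤ) + 1 = 0 by norm_num]
    exact locPC_inD_of_epi (isFinLocFree_free Z P.relations.I) P.relations.π z
  have h₂ : LocPC (-1) hS.singleTriangle.obj₂ z :=
    locPC_inD_of_finLocFree (isFinLocFree_free Z P.generators.I) (-1) z
  have h₃ : LocPC (-1) (DCoh.inD Z ((restrictFunctor j).obj F)) z :=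
    locPC_obj₃ hS.singleTriangle hS.singleTriangle_distinguished (-1) z h₁ h₂
  have h₄ : LocPC (-1) ((DCoh.restrictD j).obj (DCoh.inD X F)) z :=
    locPC_of_iso (((restrictFunctor j).mapDerivedCategorySingleFunctor 0).app F).symm h₃
  exact hz ▸ locPC_of_restrict j h₄

/-- S6518. -/
theorem isPC_single_iff (F : X.Modules) :
    (DCoh.IsPseudoCoherentD 0 (DCoh.inD X F) ↔ CohB1.IsFT F) ∧
    (DCoh.IsPseudoCoherentD (-1) (DCoh.inD X F) ↔ CohB1.IsFP F) := by
  have hz : ∀ i : ℤ, 0 < i → IsZero (DCoh.HD (DCoh.inD X F) i) := fun i hi =>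
    isZero_homology_single F i (by omega)
  have e : DCoh.HD (DCoh.inD X F) 0 ≅ F := (singleH0Iso (C := X.Modules)).app F
  refine ⟨⟨fun h => ?_, fun h => ?_⟩, ⟨fun h => ?_, fun h => ?_⟩⟩
  · have h1 := (isFT_isFP_top 0 _ h).1 hz
    exact isFT_of_locFG _ fun x => (locFG_of_isFT _ h1 x).of_iso e
  · rw [isPC_iff]
    exact fun x => locPC_zero_of_locFG (locFG_of_isFT F h x)
  · have h1 := (isFT_isFP_top (-1) _ h).2 (fun i hi => hz i (by omega))
    rw [show (-1 : ℤ) + 1 = 0 by norm_num] at h1
    exact isFP_of_locFPres _ fun x => (locFPres_of_isFP _ h1 x).of_iso e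
  · rw [isPC_iff]
    exact fun x => locPC_neg_one_of_locFPres (locFPres_of_isFP F h x)

end SingleModule

end Groth.Agent.H90.LR
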