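import Groth.Agent.H8.CohKerCoker
import Groth.Agent.H8.LocFreeNearFinite
import Groth.Agent.H90.PCohTop

/-!
# Quasi-coherence / coherence of cohomology sheaves of pseudo-coherent and perfect objects (helper90)

* `isQCoh_of_locally`, `isZero_of_locally`: quasi-coherence and vanishing of an `O_X`-module are local.
* `isQCoh_homology`, `isCoh_homology`: homology of complexes with quasi-coherent (coherent, `X` locally
  Noetherian) terms.
* `exists_homology_map_of_locPC`, `exists_homology_iso_of_locPerfO`: comparison of `H^i(K)|_V` with the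
  homology of a local strictly perfect approximation.
* `isQCoh_HD_of_isPC` (= S7240), `isCohD_bounded_of_isPerfect` (= S1006).
-/

set_option autoImplicit false
set_option linter.style.haveILetI false
universe u
open CategoryTheory CategoryTheory.Limits AlgebraicGeometry TopologicalSpace Opposite
open AlgebraicGeometry.Scheme.Modules

attribute [local instance] HasDerivedCategory.standard

namespace Groth.Agent.H90.QH

open Groth.Agent.H90.SPerf Groth.Agent.H90.LR

variable {X : Scheme.{u}}

section Local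

set_option backward.isDefEq.respectTransparency false in
/-- Quasi-coherence is local. -/
theorem isQCoh_of_locally (M : X.Modules)
    (h : ∀ x : X, ∃ U : X.Opens, x ∈ U ∧ (M.restrict U.ι).IsQuasicoherent) :
    M.IsQuasicoherent := by
  have hcov : IsOpenCover (fun i : {W : X.affineOpens // ∃ U : X.Opens,
      (W : X.Opens) ≤ U ∧ (M.restrict U.ι).IsQuasicoherent} =>
      ((i.1 : X.affineOpens) : X.Opens)) := by
    refine eq_top_iff.mpr fun x _ => ?_
    obtain ⟨U, hxU, hU⟩ := h x
    obtain ⟨W, hW, hxW, hWU⟩ := exists_isAffineOpen_mem_and_subset (x := x) (U := U) hxU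
    exact Opens.mem_iSup.mpr ⟨⟨⟨W, hW⟩, U, fun _ ha => hWU ha, hU⟩, hxW⟩
  have hP : ∀ i : {W : X.affineOpens // ∃ U : X.Opens,
      (W : X.Opens) ≤ U ∧ (M.restrict U.ι).IsQuasicoherent},
      Nonempty (M.restrict ((i.1 : X.affineOpens) : X.Opens).ι).Presentation := by
    rintro ⟨W, U, hWU, hU⟩
    haveI := hU
    haveI : (M.restrict W.2.fromSpec).IsQuasicoherent := by
      have e : W.2.fromSpec = (W.2.isoSpec.inv ≫ X.homOfLE hWU) ≫ U.ι := by
        rw [Category.assoc, Scheme.homOfLE_ι, IsAffineOpen.isoSpec_inv_ι]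
      have i1 : M.restrict W.2.fromSpec ≅
          (M.restrict U.ι).restrict (W.2.isoSpec.inv ≫ X.homOfLE hWU) :=
        (restrictFunctorCongr e).app M ≪≫
          (restrictFunctorComp (W.2.isoSpec.inv ≫ X.homOfLE hWU) U.ι).app M
      exact H22.QCohLimits.isQuasicoherent_of_iso i1.symm
    exact H8.nonempty_presentation_restrict_ι W.2 M
  exact H8.isQuasicoherent_of_presentation_cover M _ hcov (fun i => (hP i).some)

/-- Sections of a zero module vanish. -/
lemma subsingleton_sections_of_isZero {N : X.Modules} (hN : IsZero N) (U : X.Opens) :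
    Subsingleton Γ(N, U) := by
  have h : ∀ r : Γ(N, U), r = 0 := fun r => by
    have h1 : (𝟙 N : N ⟶ N) = 0 := (IsZero.iff_id_eq_zero N).1 hN
    have h2 := congrArg (fun φ : N ⟶ N => (Scheme.Modules.Hom.app φ U) r) h1
    exact h2
  exact ⟨fun s t => by rw [h s, h t]⟩

/-- Vanishing of a module is local. -/
theorem isZero_of_locally (M : X.Modules)
    (h : ∀ x : X, ∃ U : X.Opens, x ∈ U ∧ IsZero (M.restrict U.ι)) : IsZero M := by
  rw [IsZero.iff_id_eq_zero]
  refine Scheme.Modules.hom_ext _ _ (fun W => ?_)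
  have hs : ∀ s : Γ(M, W), s = 0 := fun s => by
    refine H8.section_eq_of_cover M s 0 (fun x hxW => ?_)
    obtain ⟨U, hxU, hU⟩ := h x
    have hsub : Subsingleton Γ(M, U.ι ''ᵁ (U.ι ⁻¹ᵁ W)) :=
      subsingleton_sections_of_isZero hU (U.ι ⁻¹ᵁ W)
    refine ⟨U.ι ''ᵁ (U.ι ⁻¹ᵁ W), Scheme.Hom.image_preimage_le _ _, ?_, Subsingleton.elim _ _⟩
    rw [Scheme.Hom.image_preimage_eq_opensRange_inf, Scheme.Opens.opensRange_ι]
    exact ⟨hxU, hxW⟩
  ext s
  exact (hs _).trans (hs _).symm

end Local

section Homology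

/-- Homology of a complex with quasi-coherent terms is quasi-coherent. -/
theorem isQCoh_homology (K : CochainComplex X.Modules ℤ) (i : ℤ)
    (h : ∀ j, (K.X j).IsQuasicoherent) : (K.homology i).IsQuasicoherent := by
  haveI h1 : ((K.sc i).X₁).IsQuasicoherent := h _
  haveI h2 : ((K.sc i).X₂).IsQuasicoherent := h _
  haveI h3 : ((K.sc i).X₃).IsQuasicoherent := h _
  haveI hk : (kernel (K.sc i).g).IsQuasicoherent :=
    H22.QCohLimits.isQuasicoherent_kernel (K.sc i).g
  haveI hc : (cokernel (kernel.lift (K.sc i).g (K.sc i).f (K.sc i).zero)).IsQuasicoherent :=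
    H8.isQuasicoherent_cokernel _
  exact H22.QCohLimits.isQuasicoherent_of_iso ((K.sc i).homologyIsoCokernelLift).symm

/-- Coherence is invariant under isomorphism. -/
theorem isCoh_of_iso {F G : X.Modules} (e : F ≅ G) (hF : Coh.IsCoh F) : Coh.IsCoh G := by
  haveI : F.IsQuasicoherent := hF.1
  haveI : SheafOfModules.IsFiniteType (R := X.ringCatSheaf) F := hF.2
  exact ⟨H22.QCohLimits.isQuasicoherent_of_iso e, H8.isFiniteType_of_epi e.hom⟩

/-- Finite locally free modules are coherent. -/
theorem isCoh_of_isFinLocFree {E : X.Modules} (hE : FlatMod.IsFinLocFree E) : Coh.IsCoh E := by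
  haveI hq : E.IsQuasicoherent := H8.isQuasicoherent_of_isFinLocFree E hE
  refine ⟨hq, H8.isFiniteType_of_forall_affine_finite E (fun U => ?_)⟩
  haveI := (H8.finitePresentation_projective_sections_of_isFinLocFree E hE U.2).1
  infer_instance

/-- Homology of a complex with coherent terms on a locally Noetherian scheme is coherent. -/
theorem isCoh_homology [IsLocallyNoetherian X] (K : CochainComplex X.Modules ℤ) (i : ℤ)
    (h : ∀ j, Coh.IsCoh (K.X j)) : Coh.IsCoh (K.homology i) := by
  have h1 : Coh.IsCoh ((K.sc i).X₁) := h _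
  have h2 : Coh.IsCoh ((K.sc i).X₂) := h _
  have h3 : Coh.IsCoh ((K.sc i).X₃) := h _
  have hk : Coh.IsCoh (kernel (K.sc i).g) := H8.isCoh_kernel h2 h3 _
  have hc : Coh.IsCoh (cokernel (kernel.lift (K.sc i).g (K.sc i).f (K.sc i).zero)) :=
    H8.isCoh_cokernel h1 hk _
  exact isCoh_of_iso ((K.sc i).homologyIsoCokernelLift).symm hc

theorem isQCoh_homology_of_isStrictlyPerfect {E : CochainComplex X.Modules ℤ}
    (hE : DCoh.IsStrictlyPerfect E) (i : ℤ) : (E.homology i).IsQuasicoherent :=
  isQCoh_homology E i (fun j => H8.isQuasicoherent_of_isFinLocFree _ (hE.2 j))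

theorem isCoh_homology_of_isStrictlyPerfect [IsLocallyNoetherian X]
    {E : CochainComplex X.Modules ℤ} (hE : DCoh.IsStrictlyPerfect E) (i : ℤ) :
    Coh.IsCoh (E.homology i) :=
  isCoh_homology E i (fun j => isCoh_of_isFinLocFree (hE.2 j))

end Homology

section Compare

/-- Near `x`, an `m`-pseudo-coherent object has cohomology sheaves receiving maps from the homology of a
strictly perfect complex, isomorphisms above `m` and an epimorphism in degree `m`. -/
theorem exists_homology_map_of_locPC {m : ℤ} {K : DCoh.D X} {x : X} (h : LocPC m K x) :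
    ∃ V : X.Opens, x ∈ V ∧ ∃ (E : CochainComplex (V : Scheme.{u}).Modules ℤ)
      (π : ∀ i : ℤ, E.homology i ⟶ (restrictFunctor V.ι).obj (DCoh.HD K i)),
      DCoh.IsStrictlyPerfect E ∧ (∀ i : ℤ, m < i → IsIso (π i)) ∧ Epi (π m) := by
  obtain ⟨V, hxV, E, α, hE, hα⟩ := h
  have e1 : ∀ i, (DerivedCategory.homologyFunctor _ i).obj (DerivedCategory.Q.obj E) ≅
      E.homology i := fun i => (DerivedCategory.homologyFunctorFactors _ i).app E
  have e2 : ∀ i, (DerivedCategory.homologyFunctor _ i).obj ((DCoh.restrictD V.ι).obj K) ≅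
      (restrictFunctor V.ι).obj (DCoh.HD K i) :=
    fun i => (homologyCommIso (restrictFunctor V.ι) i).app K
  refine ⟨V, hxV, E, fun i => (e1 i).inv ≫ (DerivedCategory.homologyFunctor _ i).map α ≫
    (e2 i).hom, hE, fun i hi => ?_, ?_⟩
  · have h1 : IsIso ((DerivedCategory.homologyFunctor _ i).map α) := hα.1 i hi
    have h0 : IsIso (e1 i).inv := inferInstance
    have h3 : IsIso (e2 i).hom := inferInstance
    exact IsIso.comp_isIso' h0 (IsIso.comp_isIso' h1 h3)
  · have hepi : Epi ((DerivedCategory.homologyFunctor _ m).map α) := hα.2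
    have h0 : Epi (e1 m).inv := inferInstance
    have h3 : Epi (e2 m).hom := inferInstance
    exact epi_comp' h0 (epi_comp' hepi h3)

/-- Near `x`, the cohomology sheaves of a perfect object are the homology of a strictly perfect
complex. -/
theorem exists_homology_iso_of_locPerfO {K : DCoh.D X} {x : X} (h : LocPerfO K x) :
    ∃ V : X.Opens, x ∈ V ∧ ∃ E : CochainComplex (V : Scheme.{u}).Modules ℤ,
      DCoh.IsStrictlyPerfect E ∧
        ∀ i : ℤ, Nonempty ((restrictFunctor V.ι).obj (DCoh.HD K i) ≅ E.homology i) := by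
  obtain ⟨V, hxV, E, hE, ⟨e⟩⟩ := h
  have e1 : ∀ i, (DerivedCategory.homologyFunctor _ i).obj (DerivedCategory.Q.obj E) ≅
      E.homology i := fun i => (DerivedCategory.homologyFunctorFactors _ i).app E
  have e2 : ∀ i, (DerivedCategory.homologyFunctor _ i).obj ((DCoh.restrictD V.ι).obj K) ≅
      (restrictFunctor V.ι).obj (DCoh.HD K i) :=
    fun i => (homologyCommIso (restrictFunctor V.ι) i).app K
  exact ⟨V, hxV, E, hE, fun i =>
    ⟨(e2 i).symm ≪≫ (DerivedCategory.homologyFunctor _ i).mapIso e ≪≫ e1 i⟩⟩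

end Compare

section Main

/-- S7240. -/
theorem isQCoh_HD_of_isPC (m : ℤ) (E : DCoh.D X) (hE : DCoh.IsPseudoCoherentD m E) :
    (∀ i : ℤ, m < i → Coh.IsQCoh (DCoh.HD E i)) ∧
      ∀ x : X, ∃ (V : X.Opens) (Q : (V : Scheme.{u}).Modules)
        (π : Q ⟶ (Scheme.Modules.restrictFunctor V.ι).obj (DCoh.HD E m)),
        x ∈ V ∧ Coh.IsQCoh Q ∧ Epi π := by
  rw [isPC_iff] at hE
  constructor
  · intro i hi
    refine isQCoh_of_locally _ (fun x => ?_)
    obtain ⟨V, hxV, P, π, hP, hiso, -⟩ := exists_homology_map_of_locPC (hE x)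
    haveI := hiso i hi
    haveI := isQCoh_homology_of_isStrictlyPerfect hP i
    exact ⟨V, hxV, H22.QCohLimits.isQuasicoherent_of_iso (asIso (π i))⟩
  · intro x
    obtain ⟨V, hxV, P, π, hP, -, hepi⟩ := exists_homology_map_of_locPC (hE x)
    exact ⟨V, P.homology m, π m, hxV, isQCoh_homology_of_isStrictlyPerfect hP m, hepi⟩

/-- S1006. -/
theorem isCohD_bounded_of_isPerfect [IsNoetherian X] (E : DCoh.D X) (hE : DCoh.IsPerfect E) :
    DCoh.IsCohD E ∧ ∃ a b : ℤ, E.IsGE a ∧ E.IsLE b := by
  rw [isPerfect_iff] at hE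
  choose V hxV P hP e using fun x => exists_homology_iso_of_locPerfO (hE x)
  have hcoh : ∀ i, Coh.IsCoh (DCoh.HD E i) := by
    intro i
    have hloc : ∀ x, Coh.IsCoh ((restrictFunctor (V x).ι).obj (DCoh.HD E i)) := fun x => by
      obtain ⟨ei⟩ := e x i
      exact isCoh_of_iso ei.symm (isCoh_homology_of_isStrictlyPerfect (hP x) i)
    refine ⟨isQCoh_of_locally _ (fun x => ⟨V x, hxV x, (hloc x).1⟩),
      isFT_of_locFG _ (fun x => ?_)⟩
    have h1 : LocFG ((restrictFunctor (V x).ι).obj (DCoh.HD E i)) ⟨x, hxV x⟩ :=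
      locFG_of_isFT _ (hloc x).2 _
    exact h1.of_restrict (V x).ι
  choose a b hab using fun x => (hP x).1
  obtain ⟨t, ht⟩ := isCompact_univ.elim_finite_subcover (fun x => ((V x : X.Opens) : Set X))
    (fun x => (V x).isOpen) (fun y _ => Set.mem_iUnion.2 ⟨y, hxV y⟩)
  let N : ℕ := t.sup (fun x => max (a x).natAbs (b x).natAbs)
  have hN : ∀ x ∈ t, -(N : ℤ) ≤ a x ∧ b x ≤ N := fun x hx => by
    have h1 : max (a x).natAbs (b x).natAbs ≤ N :=
      Finset.le_sup (f := fun x => max (a x).natAbs (b x).natAbs) hx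
    have h2 := le_max_left (a x).natAbs (b x).natAbs
    have h3 := le_max_right (a x).natAbs (b x).natAbs
    omega
  have hz : ∀ i : ℤ, (i < -(N : ℤ) ∨ (N : ℤ) < i) → IsZero (DCoh.HD E i) := fun i hi => by
    refine isZero_of_locally _ (fun y => ?_)
    have hy := ht (Set.mem_univ y)
    obtain ⟨x, hx⟩ := Set.mem_iUnion.1 hy
    obtain ⟨hxt, hyx⟩ := Set.mem_iUnion.1 hx
    obtain ⟨ei⟩ := e x i
    have := hN x hxt
    have h0 : IsZero ((P x).X i) := hab x i (by omega)
    exact ⟨V x, hyx, IsZero.of_iso (ShortComplex.isZero_homology_of_isZero_X₂ _ h0) ei⟩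
  exact ⟨hcoh, -(N : ℤ), N, (DerivedCategory.isGE_iff E _).2 (fun i hi => hz i (Or.inl hi)),
    (DerivedCategory.isLE_iff E _).2 (fun i hi => hz i (Or.inr hi))⟩

end Main

end Groth.Agent.H90.QH
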