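import Groth.Agent.H90.CohPC
import Groth.Agent.H17.StalkSeq
import Groth.Agent.H72.PdLocal
import Groth.Agent.S0563
import Groth.Agent.H49.InjCokerOpen
import Groth.Agent.H28.PCohD
import Groth.Agent.S9805
import Groth.Agent.H8.FPAffine
import Groth.Agent.H8.LocFreeStalk

/-!
# Bounded coherent objects on regular locally Noetherian schemes are perfect (helper90)

* `pdLT_stalk_opcycles`: syzygy argument on stalks of the opcycles of a complex of finite locally free
  modules at a point with regular local ring.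
* `exists_free_nhd_opcycles`: opcycles with projective stalk at `z` are free near `z`.
* `locPerfO_of_regular_stalk`: a complex receiving a deep enough `m`-quasi-isomorphism from a strictly
  perfect complex is perfect near a point with regular local ring.
* `isPerfect_of_regular` (= S1005).
-/

set_option autoImplicit false
set_option linter.style.haveILetI false
universe u
open CategoryTheory CategoryTheory.Limits AlgebraicGeometry TopologicalSpace Opposite
open AlgebraicGeometry.Scheme.Modules

attribute [local instance] HasDerivedCategory.standard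

namespace Groth.Agent.H90.QH

open Groth.Agent.H90.SPerf Groth.Agent.H90.LR Groth.Agent.H28.PCohD

section Abelian

variable {A : Type*} [Category A] [Abelian A]

/-- `0 ⟶ opcycles j ⟶ C^{j+1} ⟶ opcycles (j+1) ⟶ 0` is short exact when `C` is exact at `j`
(same statement as helper28's `H28.PerfTor.opcycles_shortExact`, restated to keep imports light). -/
theorem opcycles_shortExact' (C : CochainComplex A ℤ) (j : ℤ) (hex : C.ExactAt j) :
    (ShortComplex.mk (C.fromOpcycles j (j + 1)) (C.pOpcycles (j + 1))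
      (by rw [← cancel_epi (C.pOpcycles j), HomologicalComplex.p_fromOpcycles_assoc,
        HomologicalComplex.d_pOpcycles, comp_zero])).ShortExact := by
  have hz : IsZero (C.homology j) := by
    rwa [← HomologicalComplex.exactAt_iff_isZero_homology]
  have hmono : Mono (C.fromOpcycles j (j + 1)) :=
    Preadditive.mono_of_isZero_kernel' _ (C.homologyIsKernel j (j + 1) (by simp)) hz
  have hcok : IsColimit (CokernelCofork.ofπ (C.pOpcycles (j + 1))
      (show C.fromOpcycles j (j + 1) ≫ C.pOpcycles (j + 1) = 0 by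
        rw [← cancel_epi (C.pOpcycles j), HomologicalComplex.p_fromOpcycles_assoc,
          HomologicalComplex.d_pOpcycles, comp_zero])) :=
    isCokernelOfComp (C.pOpcycles j) (C.d j (j + 1)) (C.opcyclesIsCokernel j (j + 1) (by simp)) _
      (C.p_fromOpcycles j (j + 1))
  exact ShortComplex.ShortExact.mk' (ShortComplex.exact_of_g_is_cokernel _ hcok) hmono
    inferInstance

end Abelian

variable {Z : Scheme.{u}}

/-- Stalks of finite locally free modules are projective. -/
theorem projective_stalk_of_isFinLocFree {E : Z.Modules} (hE : FlatMod.IsFinLocFree E) (z : Z) :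
    Module.Projective (Z.presheaf.stalk z) (E.presheaf.stalk z) := by
  haveI hq : E.IsQuasicoherent := H8.isQuasicoherent_of_isFinLocFree E hE
  obtain ⟨U, hU, hzU, -⟩ := exists_isAffineOpen_mem_and_subset (x := z)
    (U := (⊤ : Z.Opens)) trivial
  obtain ⟨hfp, hproj⟩ := H8.finitePresentation_projective_sections_of_isFinLocFree E hE hU
  haveI := hfp
  haveI := hproj
  haveI : Module.Finite Γ(Z, U) Γ(E, U) := inferInstance
  haveI : Module.Flat Γ(Z, U) Γ(E, U) := inferInstance
  haveI := H8.free_stalk_of_finite_flat_sections E hU z hzU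
  infer_instance

/-- The linear equivalence on stalks induced by an isomorphism of modules. -/
noncomputable def stalkEquiv {M N : Z.Modules} (e : M ≅ N) (z : Z) :
    M.presheaf.stalk z ≃ₗ[Z.presheaf.stalk z] N.presheaf.stalk z :=
  LinearEquiv.ofBijective (H17.StalkSeq.stalkMapₗ e.hom z)
    ⟨H17.StalkSeq.stalkMap_injective_of_mono e.hom z,
      H17.StalkSeq.stalkMap_surjective_of_epi e.hom z⟩

/-- Syzygies: at a point with regular local ring of dimension `d`, the stalk of `opcycles (a-1-k)` of a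
complex of finite locally free modules exact in degrees `[a-1-d, a-2]` has projective dimension
`< d - k + 1`. -/
theorem pdLT_stalk_opcycles (P : CochainComplex Z.Modules ℤ)
    (hP : ∀ i, FlatMod.IsFinLocFree (P.X i)) (z : Z)
    [IsRegularLocalRing (Z.presheaf.stalk z)] (d : ℕ)
    (hd : ringKrullDim (Z.presheaf.stalk z) = d) (a : ℤ)
    (hex : ∀ j : ℤ, a - 1 - d ≤ j → j ≤ a - 2 → P.ExactAt j) :
    ∀ (k e : ℕ) (j : ℤ), k + e = d → j = a - 1 - k →
      H72.PdLocal.PdLT (Z.presheaf.stalk z) ((P.opcycles j).presheaf.stalk z) (e + 1) := by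
  intro k
  induction k with
  | zero =>
    intro e j he _
    obtain rfl : e = d := by omega
    exact Groth.Agent.S0563.result (Z.presheaf.stalk z) e hd _
  | succ k ih =>
    intro e j he hj
    have h1 := ih (e + 1) (j + 1) (by omega) (by rw [hj]; push_cast; ring)
    have hS := opcycles_shortExact' P j
      (hex j (by rw [hj]; push_cast; omega) (by rw [hj]; push_cast; omega))
    have hm : Mono (P.fromOpcycles j (j + 1)) := hS.mono_f
    have hp : Epi (P.pOpcycles (j + 1)) := hS.epi_g
    haveI : Module.Projective (Z.presheaf.stalk z) ((P.X (j + 1)).presheaf.stalk z) :=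
      projective_stalk_of_isFinLocFree (hP (j + 1)) z
    exact (H72.PdLocal.pdLT_succ_iff_of_exact
      (H17.StalkSeq.stalkMapₗ (P.fromOpcycles j (j + 1)) z)
      (H17.StalkSeq.stalkMapₗ (P.pOpcycles (j + 1)) z)
      (H17.StalkSeq.stalkMap_injective_of_mono (P.fromOpcycles j (j + 1)) z)
      (H17.StalkSeq.stalkMap_exact _ hS.exact z)
      (H17.StalkSeq.stalkMap_surjective_of_epi (P.pOpcycles (j + 1)) z) e).1 h1

set_option backward.isDefEq.respectTransparency false in
/-- Opcycles of a complex of finite locally free modules with projective stalk at `z` are free of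
finite rank near `z`. -/
theorem exists_free_nhd_opcycles (P : CochainComplex Z.Modules ℤ)
    (hP : ∀ i, FlatMod.IsFinLocFree (P.X i)) (a' : ℤ) (z : Z)
    (hproj : Module.Projective (Z.presheaf.stalk z) ((P.opcycles a').presheaf.stalk z)) :
    ∃ W : Z.Opens, z ∈ W ∧ ∃ n : ℕ,
      Nonempty ((restrictFunctor W.ι).obj (P.opcycles a') ≅ FlatMod.freeMod (↑W) n) := by
  haveI q1 : (P.X (a' - 1)).IsQuasicoherent := H8.isQuasicoherent_of_isFinLocFree _ (hP _)
  haveI q2 : (P.X a').IsQuasicoherent := H8.isQuasicoherent_of_isFinLocFree _ (hP _)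
  have e : cokernel (P.d (a' - 1) a') ≅ P.opcycles a' :=
    IsColimit.coconePointUniqueUpToIso (cokernelIsCokernel (P.d (a' - 1) a'))
      (P.opcyclesIsCokernel (a' - 1) a' (by simp))
  have fp1 : CohB1.IsFP (P.X (a' - 1)) := ((Groth.Agent.S9805.result Z _ q1).2 (hP _)).2
  have fp2 : CohB1.IsFP (P.X a') := ((Groth.Agent.S9805.result Z _ q2).2 (hP _)).2
  haveI hq : (cokernel (P.d (a' - 1) a')).IsQuasicoherent := H8.isQuasicoherent_cokernel _
  haveI hfp : SheafOfModules.IsFinitePresentation (R := Z.ringCatSheaf)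
      (cokernel (P.d (a' - 1) a')) :=
    Groth.Agent.H49.InjCoker.isFP_cokernel (P.d (a' - 1) a') fp2 fp1
  obtain ⟨U, hU, hzU, -⟩ := exists_isAffineOpen_mem_and_subset (x := z)
    (U := (⊤ : Z.Opens)) trivial
  haveI := H8.finitePresentation_sections_of_isAffineOpen (cokernel (P.d (a' - 1) a')) hU
  haveI : Module.Finite Γ(Z, U) Γ(cokernel (P.d (a' - 1) a'), U) := inferInstance
  haveI : Module.Finite (Z.presheaf.stalk z) ((cokernel (P.d (a' - 1) a')).presheaf.stalk z) :=
    H8.finite_stalk_of_finite_sections _ hU z hzU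
  haveI := hproj
  haveI : Module.Projective (Z.presheaf.stalk z)
      ((cokernel (P.d (a' - 1) a')).presheaf.stalk z) :=
    Module.Projective.of_equiv (stalkEquiv e z).symm
  haveI : Module.Free (Z.presheaf.stalk z) ((cokernel (P.d (a' - 1) a')).presheaf.stalk z) :=
    Module.free_of_flat_of_isLocalRing
  obtain ⟨f, hzf, n, ⟨i⟩⟩ := H8.exists_basicOpen_restrict_iso_freeMod_of_free_stalk
    (cokernel (P.d (a' - 1) a')) hU z hzU
  exact ⟨Z.basicOpen f, hzf, n, ⟨(restrictFunctor (Z.basicOpen f).ι).mapIso e.symm ≪≫ i⟩⟩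

lemma locPerfO_of_restrict {X : Scheme.{u}} {U : Scheme.{u}} (j : U ⟶ X) [IsOpenImmersion j]
    {K : DCoh.D X} {y : U} (h : LocPerfO ((DCoh.restrictD j).obj K) y) : LocPerfO K (j y) := by
  obtain ⟨V, hyV, E, hE, ⟨e⟩⟩ := h
  obtain ⟨c⟩ := restrictD_comp_obj V.ι j (V.ι ≫ j) rfl K
  exact locPerfO_of_immersion (V.ι ≫ j) ⟨y, hyV⟩ hE (c ≪≫ e)

lemma locPerfO_of_iso {X : Scheme.{u}} {K K' : DCoh.D X} (e : K ≅ K') {x : X}
    (h : LocPerfO K x) : LocPerfO K' x := by
  obtain ⟨V, hxV, E, hE, ⟨e₀⟩⟩ := h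
  exact ⟨V, hxV, E, hE, ⟨(DCoh.restrictD V.ι).mapIso e.symm ≪≫ e₀⟩⟩

open CochainComplex HomologicalComplex in
/-- Near a point `z` with regular local ring of dimension `d`: if `F` has no cohomology below `a` and
receives an `(a-2-d)`-quasi-isomorphism from a strictly perfect complex, then `F` is perfect
near `z`. -/
theorem locPerfO_of_regular_stalk (z : Z) [IsRegularLocalRing (Z.presheaf.stalk z)] (d : ℕ)
    (hd : ringKrullDim (Z.presheaf.stalk z) = d) {P F : CochainComplex Z.Modules ℤ}
    (hP : DCoh.IsStrictlyPerfect P) (β : P ⟶ F) (a : ℤ)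
    (hF : ∀ i : ℤ, i < a → IsZero (F.homology i))
    (hβ : MQI (a - 2 - d) (DerivedCategory.Q.map β)) :
    LocPerfO (DerivedCategory.Q.obj F) z := by
  obtain ⟨⟨a₁, b₁, hPv⟩, hPf⟩ := id hP
  -- exactness of `P` in degrees `(a-2-d, a)`
  have hiso : ∀ i : ℤ, a - 2 - d < i → IsIso (homologyMap β i) := fun i hi =>
    (isIso_homologyFunctor_map_Q_iff β i).1 (hβ.1 i hi)
  have hex : ∀ j : ℤ, a - 1 - d ≤ j → j ≤ a - 2 → P.ExactAt j := fun j h1 h2 => by
    rw [HomologicalComplex.exactAt_iff_isZero_homology]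
    haveI := hiso j (by omega)
    exact IsZero.of_iso (hF j (by omega)) (asIso (homologyMap β j))
  -- projectivity of the stalk of opcycles
  have hpd := pdLT_stalk_opcycles P hPf z d hd a hex d 0 (a - 1 - d) (by omega) rfl
  have hproj : Module.Projective (Z.presheaf.stalk z)
      ((P.opcycles (a - 1 - d)).presheaf.stalk z) :=
    (H72.PdLocal.pdLT_one_iff _).1 hpd
  obtain ⟨W, hzW, n, ⟨iW⟩⟩ := exists_free_nhd_opcycles P hPf (a - 1 - d) z hproj
  -- the global isomorphism `Q F ≅ Q (τ_{≥ a-1-d} P)`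
  have hq : QuasiIso (truncGEMap β (a - 1 - d)) := by
    rw [CochainComplex.quasiIso_truncGEMap_iff]
    intro i hi
    rw [quasiIsoAt_iff_isIso_homologyMap]
    exact hiso i (by omega)
  haveI h1 : IsIso (DerivedCategory.Q.map (truncGEMap β (a - 1 - d))) :=
    (DerivedCategory.isIso_Q_map_iff_quasiIso (C := Z.Modules) _).2 hq
  haveI hFge : F.IsGE (a - 1 - d) := by
    rw [CochainComplex.isGE_iff]
    intro i hi
    rw [HomologicalComplex.exactAt_iff_isZero_homology]
    exact hF i (by omega)
  haveI h2 : IsIso (DerivedCategory.Q.map (F.πTruncGE (a - 1 - d))) :=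
    (DerivedCategory.isIso_Q_map_iff_quasiIso (C := Z.Modules) _).2 inferInstance
  have iso₀ : DerivedCategory.Q.obj F ≅ DerivedCategory.Q.obj (P.truncGE (a - 1 - d)) :=
    asIso (DerivedCategory.Q.map (F.πTruncGE (a - 1 - d))) ≪≫
      (asIso (DerivedCategory.Q.map (truncGEMap β (a - 1 - d)))).symm
  -- the restriction of `τ_{≥ a-1-d} P` to `W` is strictly perfect
  have hT : DCoh.IsStrictlyPerfect ((DCoh.restrictCx W).obj (P.truncGE (a - 1 - d))) := by
    refine ⟨⟨a - 1 - d, max b₁ (a - 1 - d), fun i hi => ?_⟩, fun i => ?_⟩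
    · refine Functor.map_isZero (restrictFunctor W.ι) ?_
      rcases hi with hi | hi
      · exact (P.truncGE (a - 1 - d)).isZero_of_isStrictlyGE (a - 1 - d) i hi
      · have h1 : b₁ < i := lt_of_le_of_lt (le_max_left _ _) hi
        have h2 : a - 1 - d < i := lt_of_le_of_lt (le_max_right _ _) hi
        exact IsZero.of_iso (hPv i (Or.inr h1)) (P.truncGEXIso (a - 1 - d) i h2)
    · rcases lt_trichotomy i (a - 1 - d) with h | h | h
      · exact isFinLocFree_of_isZero (Functor.map_isZero (restrictFunctor W.ι)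
          ((P.truncGE (a - 1 - d)).isZero_of_isStrictlyGE (a - 1 - d) i h))
      · subst h
        exact H8.isFinLocFree_of_iso
          ((restrictFunctor W.ι).mapIso (P.truncGEXIsoOpcycles (a - 1 - d)) ≪≫ iW).symm
          (isFinLocFree_freeMod _ n)
      · exact H8.isFinLocFree_of_iso
          ((restrictFunctor W.ι).mapIso (P.truncGEXIso (a - 1 - d) i h)).symm
          (isFinLocFree_restrict W.ι (hPf i))
  exact ⟨W, hzW, _, hT, ⟨(DCoh.restrictD W.ι).mapIso iso₀ ≪≫
    (restrictFunctor W.ι).mapDerivedCategoryFactors.app (P.truncGE (a - 1 - d))⟩⟩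

lemma regular_stalk_of_isOpenImmersion {U X : Scheme.{u}} (j : U ⟶ X) [IsOpenImmersion j]
    (hreg : ∀ x : X, IsRegularLocalRing (X.presheaf.stalk x)) (z : U) :
    IsRegularLocalRing (U.presheaf.stalk z) ∧
      ringKrullDim (U.presheaf.stalk z) = ringKrullDim (X.presheaf.stalk (j z)) := by
  haveI := hreg (j z)
  exact ⟨IsRegularLocalRing.of_ringEquiv (asIso (j.stalkMap z)).commRingCatIsoToRingEquiv,
    (ringKrullDim_eq_of_ringEquiv (asIso (j.stalkMap z)).commRingCatIsoToRingEquiv).symm⟩

/-- S1005. -/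
theorem isPerfect_of_regular (X : Scheme.{u}) [IsLocallyNoetherian X]
    (hreg : ∀ x : X, IsRegularLocalRing (X.presheaf.stalk x))
    (K : DCoh.D X) (a b : ℤ) [K.IsGE a] [K.IsLE b] (hK : DCoh.IsCohD K) : DCoh.IsPerfect K := by
  rw [isPerfect_iff]
  intro x
  haveI := hreg x
  obtain ⟨d, hd⟩ : ∃ d : ℕ, ringKrullDim (X.presheaf.stalk x) = d :=
    ⟨_, (IsRegularLocalRing.spanFinrank_maximalIdeal).symm⟩
  have eF : DerivedCategory.Q.obj (DerivedCategory.Q.objPreimage K) ≅ K :=
    DerivedCategory.Q.objObjPreimageIso K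
  have hpc : LocPC (a - 2 - d) K x :=
    locPC_of_coh_isLE (a - 2 - d) x (b - (a - 2 - d) + 1).toNat K b inferInstance
      (fun i _ => hK i) (by omega)
  obtain ⟨V, hxV, P, α, hP, hα⟩ := hpc
  let FV := (DCoh.restrictCx V).obj (DerivedCategory.Q.objPreimage K)
  let e1 : (DCoh.restrictD V.ι).obj K ≅ DerivedCategory.Q.obj FV := restrictDObjIso V.ι eF
  have hα' : MQI (a - 2 - d) (α ≫ e1.hom) := hα.comp (MQI.of_isIso _ e1.hom)
  obtain ⟨W, hxW, hW⟩ := exists_chain_map_rep hP (α ≫ e1.hom) ⟨x, hxV⟩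
  obtain ⟨β, hβ⟩ := hW
  have hQβ : DerivedCategory.Q.map β =
      (Scheme.Modules.restrictFunctor W.ι).mapDerivedCategoryFactors.inv.app P ≫
        (DCoh.restrictD W.ι).map (α ≫ e1.hom) ≫
        (Scheme.Modules.restrictFunctor W.ι).mapDerivedCategoryFactors.hom.app FV := by
    rw [hβ]
    simp
  have hmqi : MQI (a - 2 - d) (DerivedCategory.Q.map β) := by
    rw [hQβ]
    exact (MQI.of_isIso _ _).comp ((hα'.map _).comp (MQI.of_isIso _ _))
  -- the point and its regular local ring
  obtain ⟨hregz, hdz'⟩ := regular_stalk_of_isOpenImmersion (W.ι ≫ V.ι) hreg ⟨⟨x, hxV⟩, hxW⟩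
  haveI := hregz
  have hdz : ringKrullDim ((W : Scheme.{u}).presheaf.stalk ⟨⟨x, hxV⟩, hxW⟩) = d := hdz'.trans hd
  -- vanishing of the cohomology of `FV|_W` below `a`
  have e2 : DerivedCategory.Q.obj ((DCoh.restrictCx W).obj FV) ≅
      (DCoh.restrictD W.ι).obj ((DCoh.restrictD V.ι).obj K) :=
    (restrictDObjIso W.ι (Iso.refl (DerivedCategory.Q.obj FV))).symm ≪≫
      (DCoh.restrictD W.ι).mapIso e1.symm
  have hzero : ∀ i : ℤ, i < a → IsZero (((DCoh.restrictCx W).obj FV).homology i) := fun i hi => by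
    have h0 : IsZero (DCoh.HD K i) := K.isZero_of_isGE a i hi
    have h1 : IsZero ((DerivedCategory.homologyFunctor _ i).obj ((DCoh.restrictD V.ι).obj K)) :=
      IsZero.of_iso (Functor.map_isZero (restrictFunctor V.ι) h0)
        ((homologyCommIso (restrictFunctor V.ι) i).app K)
    have h2 : IsZero ((DerivedCategory.homologyFunctor _ i).obj
        ((DCoh.restrictD W.ι).obj ((DCoh.restrictD V.ι).obj K))) :=
      IsZero.of_iso (Functor.map_isZero (restrictFunctor W.ι) h1)
        ((homologyCommIso (restrictFunctor W.ι) i).app ((DCoh.restrictD V.ι).obj K))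
    have h3 : IsZero ((DerivedCategory.homologyFunctor _ i).obj
        (DerivedCategory.Q.obj ((DCoh.restrictCx W).obj FV))) :=
      IsZero.of_iso h2 ((DerivedCategory.homologyFunctor _ i).mapIso e2)
    exact IsZero.of_iso h3
      ((DerivedCategory.homologyFunctorFactors _ i).app ((DCoh.restrictCx W).obj FV)).symm
  have hloc : LocPerfO (DerivedCategory.Q.obj ((DCoh.restrictCx W).obj FV))
      (⟨⟨x, hxV⟩, hxW⟩ : (W : Scheme.{u})) :=
    locPerfO_of_regular_stalk _ d hdz (isStrictlyPerfect_restrict W.ι hP) β a hzero hmqi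
  have hloc2 : LocPerfO ((DCoh.restrictD V.ι).obj K) (W.ι ⟨⟨x, hxV⟩, hxW⟩) :=
    locPerfO_of_restrict W.ι (locPerfO_of_iso e2 hloc)
  exact locPerfO_of_restrict V.ι hloc2

end Groth.Agent.H90.QH
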