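import Groth.Agent.H90.RegPerf
import Groth.Agent.H8.RankLocFree
import Groth.Agent.S5626
import Mathlib.Algebra.Exact.Basic

/-!
# The locus where the cohomology sheaves of a perfect object are finite free (helper90)

* `free_finite_stalk_restrict_iff`: the stalk of `M|_V` at `z : V` is free / finite over `O_{V,z}` iff the
  stalk of `M` at `z` is so over `O_{X,z}` (semilinear comparison of stalks).
* `projective_of_exact_four`: middle term of a four term exact sequence with projective outer terms.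
* `FreeAt M x`: `M` is free of finite rank on an open neighbourhood of `x`; transfers along open
  immersions, kernels of epimorphisms, four term exact sequences.
* `freeAt_homology`: the homology of a bounded above complex of finite locally free modules whose homology
  has projective stalks at `z` is free near `z`.
* `locus_free` (= S0892).
-/

set_option autoImplicit false
set_option linter.style.haveILetI false
universe u
open CategoryTheory CategoryTheory.Limits AlgebraicGeometry TopologicalSpace Opposite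
open AlgebraicGeometry.Scheme.Modules

attribute [local instance] HasDerivedCategory.standard

namespace Groth.Agent.H90.QH

open Groth.Agent.H90.SPerf Groth.Agent.H90.LR

section StalkRestrict

variable {X : Scheme.{u}} (V : X.Opens) (M : X.Modules) (z : (V : Scheme.{u}))

/-- The additive isomorphism between the stalk of `M|_V` at `z` and the stalk of `M` at `z`. -/
noncomputable def stalkAddIso :
    (M.restrict V.ι).presheaf.stalk z ≅ M.presheaf.stalk (V.ι z) :=
  (restrictStalkNatIso V.ι z).app M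

/-- The ring isomorphism between the stalk of `O_V` at `z` and the stalk of `O_X` at `z`. -/
noncomputable def stalkRingIso :
    (V : Scheme.{u}).presheaf.stalk z ≅ X.presheaf.stalk (V.ι z) :=
  V.stalkIso z

lemma stalkAddIso_germ (W : (V : Scheme.{u}).Opens) (hz : z ∈ W) (hmem : V.ι z ∈ V.ι ''ᵁ W)
    (n : Γ(M.restrict V.ι, W)) :
    (stalkAddIso V M z).hom ((M.restrict V.ι).presheaf.germ W z hz n) =
      M.presheaf.germ (V.ι ''ᵁ W) (V.ι z) hmem n :=
  ConcreteCategory.congr_hom (germ_restrictStalkNatIso_hom_app V.ι z M hz) n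

lemma stalkRingIso_germ (W : (V : Scheme.{u}).Opens) (hz : z ∈ W) (hmem : V.ι z ∈ V.ι ''ᵁ W)
    (a : Γ((V : Scheme.{u}), W)) :
    (stalkRingIso V z).hom ((V : Scheme.{u}).presheaf.germ W z hz a) =
      X.presheaf.germ (V.ι ''ᵁ W) (V.ι z) hmem a :=
  ConcreteCategory.congr_hom (V.germ_stalkIso_hom z hz) a

lemma stalkAddIso_smul_germ (W : (V : Scheme.{u}).Opens) (hz : z ∈ W) (a : Γ((V : Scheme.{u}), W))
    (m : Γ(M.restrict V.ι, W)) :
    (stalkAddIso V M z).hom ((V : Scheme.{u}).presheaf.germ W z hz a •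
        (M.restrict V.ι).presheaf.germ W z hz m) =
      (stalkRingIso V z).hom ((V : Scheme.{u}).presheaf.germ W z hz a) •
        (stalkAddIso V M z).hom ((M.restrict V.ι).presheaf.germ W z hz m) := by
  have hmem : V.ι z ∈ V.ι ''ᵁ W := ⟨z, hz, rfl⟩
  rw [← H8.germ_smul (M.restrict V.ι) z hz, stalkAddIso_germ V M z W hz hmem,
    stalkAddIso_germ V M z W hz hmem, stalkRingIso_germ V z W hz hmem]
  refine Eq.trans ?_ (H8.germ_smul M (V.ι z) hmem a m)
  exact congrArg (fun t => M.presheaf.germ (V.ι ''ᵁ W) (V.ι z) hmem t)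
    (H8.smul_restrict_ι M W a m)

lemma stalkAddIso_smul (r : (V : Scheme.{u}).presheaf.stalk z)
    (m : (M.restrict V.ι).presheaf.stalk z) :
    (stalkAddIso V M z).hom (r • m) = (stalkRingIso V z).hom r • (stalkAddIso V M z).hom m := by
  obtain ⟨U, hzU, a, rfl⟩ := (V : Scheme.{u}).presheaf.exists_germ_eq r
  obtain ⟨U', hzU', m₀, rfl⟩ := (M.restrict V.ι).presheaf.exists_germ_eq m
  have hzW : z ∈ U ⊓ U' := ⟨hzU, hzU'⟩
  rw [← (V : Scheme.{u}).presheaf.germ_res_apply (homOfLE (inf_le_left : U ⊓ U' ≤ U)) z hzW a,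
    ← (M.restrict V.ι).presheaf.germ_res_apply (homOfLE (inf_le_right : U ⊓ U' ≤ U')) z hzW m₀]
  exact stalkAddIso_smul_germ V M z (U ⊓ U') hzW _ _

/-- Freeness and finiteness of the stalk can be tested on an open subscheme. -/
theorem free_finite_stalk_restrict_iff :
    (Module.Free ((V : Scheme.{u}).presheaf.stalk z) ((M.restrict V.ι).presheaf.stalk z) ∧
      Module.Finite ((V : Scheme.{u}).presheaf.stalk z) ((M.restrict V.ι).presheaf.stalk z)) ↔
    (Module.Free (X.presheaf.stalk (V.ι z)) (M.presheaf.stalk (V.ι z)) ∧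
      Module.Finite (X.presheaf.stalk (V.ι z)) (M.presheaf.stalk (V.ι z))) := by
  let e₁ : ((V : Scheme.{u}).presheaf.stalk z : Type u) ≃+* (X.presheaf.stalk (V.ι z) : Type u) :=
    (stalkRingIso V z).commRingCatIsoToRingEquiv
  letI i1 : RingHomInvPair
      (e₁ : ((V : Scheme.{u}).presheaf.stalk z : Type u) →+* (X.presheaf.stalk (V.ι z) : Type u))
      (e₁.symm : (X.presheaf.stalk (V.ι z) : Type u) →+* ((V : Scheme.{u}).presheaf.stalk z : Type u)) :=
    RingHomInvPair.of_ringEquiv e₁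
  letI i2 : RingHomInvPair
      (e₁.symm : (X.presheaf.stalk (V.ι z) : Type u) →+* ((V : Scheme.{u}).presheaf.stalk z : Type u))
      (e₁ : ((V : Scheme.{u}).presheaf.stalk z : Type u) →+* (X.presheaf.stalk (V.ι z) : Type u)) :=
    RingHomInvPair.of_ringEquiv_symm e₁
  let e₂ : ((M.restrict V.ι).presheaf.stalk z : Type u) ≃ₛₗ[
      (e₁ : ((V : Scheme.{u}).presheaf.stalk z : Type u) →+* (X.presheaf.stalk (V.ι z) : Type u))]
      (M.presheaf.stalk (V.ι z) : Type u) :=
    { toFun := fun m => (stalkAddIso V M z).hom m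
      map_add' := fun a b => map_add _ a b
      map_smul' := fun r m => stalkAddIso_smul V M z r m
      invFun := fun m => (stalkAddIso V M z).inv m
      left_inv := fun m => ConcreteCategory.congr_hom (stalkAddIso V M z).hom_inv_id m
      right_inv := fun m => ConcreteCategory.congr_hom (stalkAddIso V M z).inv_hom_id m }
  constructor
  · rintro ⟨h1, h2⟩
    exact ⟨Module.Free.of_equiv e₂, Module.Finite.of_surjective e₂.toLinearMap e₂.surjective⟩
  · rintro ⟨h1, h2⟩
    exact ⟨Module.Free.of_equiv e₂.symm,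
      Module.Finite.of_surjective e₂.symm.toLinearMap e₂.symm.surjective⟩

end StalkRestrict

section Algebra

/-- In an exact sequence `0 → H → O → F → O' → 0` with `H`, `F`, `O'` projective, `O` is projective. -/
lemma projective_of_exact_four {R : Type u} [CommRing R] {H O F O' : Type u}
    [AddCommGroup H] [Module R H] [AddCommGroup O] [Module R O] [AddCommGroup F] [Module R F]
    [AddCommGroup O'] [Module R O']
    (f : H →ₗ[R] O) (g : O →ₗ[R] F) (h : F →ₗ[R] O')
    (hf : Function.Injective f) (hfg : Function.Exact f g) (hgh : Function.Exact g h)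
    (hh : Function.Surjective h)
    [Module.Projective R H] [Module.Projective R F] [Module.Projective R O'] :
    Module.Projective R O := by
  -- `K = ker h` is a direct summand of `F`
  obtain ⟨σ, hσ⟩ := Module.projective_lifting_property h LinearMap.id hh
  obtain ⟨e, he, -⟩ := (LinearMap.exact_subtype_ker_map h).splitSurjectiveEquiv
    (Submodule.subtype_injective _) ⟨σ, hσ⟩
  haveI : Module.Projective R (LinearMap.ker h) :=
    Module.Projective.of_split (LinearMap.ker h).subtype
      ((LinearMap.fst R (LinearMap.ker h) O').comp e.toLinearMap) (by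
        rw [he]
        ext x
        simp)
  -- `O` surjects onto `K` with kernel `H`
  let g' : O →ₗ[R] LinearMap.ker h := g.codRestrict (LinearMap.ker h)
    (fun x => hgh.apply_apply_eq_zero x)
  have hg' : Function.Surjective g' := by
    rintro ⟨k, hk⟩
    obtain ⟨o, rfl⟩ := (hgh k).1 hk
    exact ⟨o, rfl⟩
  have hfg' : Function.Exact f g' := by
    intro o
    rw [← hfg o]
    constructor
    · intro h0
      exact congrArg Subtype.val h0
    · intro h0
      exact Subtype.ext h0
  obtain ⟨τ, hτ⟩ := Module.projective_lifting_property g' LinearMap.id hg'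
  exact Module.Projective.of_equiv (hfg'.splitSurjectiveEquiv hf ⟨τ, hτ⟩).1.symm

end Algebra

section Cat

variable {C D : Type*} [Category C] [Abelian C] [Category D] [Abelian D]

/-- If `F` is exact and `F p` has a section, then `F (ker p)` is a retract of the source of `F p`. -/
lemma exists_retraction_map_kernel (F : C ⥤ D) [F.Additive] [PreservesFiniteLimits F]
    {K B C' : C} (p : B ⟶ C') (ι : K ⟶ B) (w : ι ≫ p = 0) (hK : IsLimit (KernelFork.ofι ι w))
    (ψ : F.obj C' ⟶ F.obj B) (hψ : ψ ≫ F.map p = 𝟙 _) :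
    ∃ r : F.obj B ⟶ F.obj K, F.map ι ≫ r = 𝟙 _ := by
  have w' : F.map ι ≫ F.map p = 0 := by rw [← F.map_comp, w, F.map_zero]
  have hK' : IsLimit (KernelFork.ofι (F.map ι) w') := (KernelFork.ofι ι w).mapIsLimit hK F
  refine exists_retraction_of_kernelFork w' hK' (𝟙 _ - F.map p ≫ ψ) ?_ ?_
  · rw [Preadditive.sub_comp, Category.id_comp, Category.assoc, hψ, Category.comp_id, sub_self]
  · rw [Preadditive.comp_sub, Category.comp_id, ← Category.assoc, w', zero_comp, sub_zero]

end Cat

section FreeAt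

variable {X : Scheme.{u}}

/-- `M` is free of finite rank on an open neighbourhood of `x`. -/
def FreeAt (M : X.Modules) (x : X) : Prop :=
  ∃ W : X.Opens, x ∈ W ∧ ∃ n : ℕ, Nonempty (M.restrict W.ι ≅ FlatMod.freeMod (↑W) n)

lemma FreeAt.of_iso {M N : X.Modules} (e : M ≅ N) {x : X} (h : FreeAt M x) : FreeAt N x := by
  obtain ⟨W, hx, n, ⟨i⟩⟩ := h
  exact ⟨W, hx, n, ⟨(restrictFunctor W.ι).mapIso e.symm ≪≫ i⟩⟩

lemma freeAt_of_isFinLocFree {M : X.Modules} (h : FlatMod.IsFinLocFree M) (x : X) :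
    FreeAt M x := by
  obtain ⟨U, n, hx, he⟩ := h x
  exact ⟨U, hx, n, he⟩

/-- If `M` restricted along an open immersion `j` is free, then `M` is free on the range of `j`. -/
lemma restrict_opensRange_iso_free {Z : Scheme.{u}} (j : Z ⟶ X) [IsOpenImmersion j]
    (M : X.Modules) (n : ℕ) (e : M.restrict j ≅ FlatMod.freeMod Z n) :
    Nonempty (M.restrict j.opensRange.ι ≅ FlatMod.freeMod (↑j.opensRange) n) :=
  ⟨((restrictFunctorCongr j.isoOpensRange_inv_comp.symm).app M ≪≫
      (restrictFunctorComp j.isoOpensRange.inv j).app M) ≪≫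
    (restrictFunctor j.isoOpensRange.inv).mapIso e ≪≫ H8.restrictFreeIso j.isoOpensRange.inv n⟩

lemma FreeAt.of_immersion {Z : Scheme.{u}} (j : Z ⟶ X) [IsOpenImmersion j] (z : Z)
    {M : X.Modules} {n : ℕ} (e : M.restrict j ≅ FlatMod.freeMod Z n) : FreeAt M (j z) :=
  ⟨j.opensRange, ⟨z, rfl⟩, n, restrict_opensRange_iso_free j M n e⟩

lemma FreeAt.of_restrict {Z : Scheme.{u}} (j : Z ⟶ X) [IsOpenImmersion j] {M : X.Modules} {z : Z}
    (h : FreeAt (M.restrict j) z) : FreeAt M (j z) := by
  obtain ⟨W, hz, n, ⟨e⟩⟩ := h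
  exact FreeAt.of_immersion (W.ι ≫ j) ⟨z, hz⟩ ((restrictFunctorComp W.ι j).app M ≪≫ e)

lemma FreeAt.restrict {Z : Scheme.{u}} (j : Z ⟶ X) [IsOpenImmersion j] {M : X.Modules} {z : Z}
    (h : FreeAt M (j z)) : FreeAt (M.restrict j) z := by
  obtain ⟨W, hz, n, ⟨e⟩⟩ := h
  refine ⟨j ⁻¹ᵁ W, hz, n, ⟨?_⟩⟩
  exact H8.restrictRestrictIsoOfComm M (j ⁻¹ᵁ W).ι j (j ∣_ W) W.ι (morphismRestrict_ι j W).symm ≪≫
    (restrictFunctor (j ∣_ W)).mapIso e ≪≫ H8.restrictFreeIso (j ∣_ W) n

/-- A module which is free near every point of `U` restricts to a finite locally free module on `U`. -/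
lemma isFinLocFree_restrict_of_freeAt {M : X.Modules} (U : X.Opens) (h : ∀ y ∈ U, FreeAt M y) :
    FlatMod.IsFinLocFree (M.restrict U.ι) := by
  intro y
  obtain ⟨W, hy, n, he⟩ := FreeAt.restrict U.ι (M := M) (z := y) (h (U.ι y) y.2)
  exact ⟨W, n, hy, he⟩

lemma freeAt_of_isFinLocFree_restrict {M : X.Modules} (U : X.Opens)
    (h : FlatMod.IsFinLocFree (M.restrict U.ι)) (y : X) (hy : y ∈ U) : FreeAt M y :=
  FreeAt.of_restrict U.ι (z := ⟨y, hy⟩) (freeAt_of_isFinLocFree h ⟨y, hy⟩)

/-- Stalks of a quasi-coherent module which is free near `x` are free of finite rank. -/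
lemma free_finite_stalk_of_freeAt {M : X.Modules} [M.IsQuasicoherent] {x : X} (h : FreeAt M x) :
    Module.Free (X.presheaf.stalk x) (M.presheaf.stalk x) ∧
      Module.Finite (X.presheaf.stalk x) (M.presheaf.stalk x) := by
  obtain ⟨W, hx, n, ⟨e⟩⟩ := h
  obtain ⟨b⟩ := H8.exists_basis_stalk_of_restrict_iso M e x hx
  exact ⟨Module.Free.of_basis b, Module.Finite.of_basis b⟩

lemma freeAt_of_lrAt {M : X.Modules} {x : X} (h : LRAt M x) : FreeAt M x := by
  obtain ⟨Z, j, hj, z, rfl, k, ⟨r⟩⟩ := h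
  have hfl : FlatMod.IsFinLocFree (M.restrict j) :=
    Groth.Agent.S5626.isFinLocFree_of_retract_freeMod _ k r.i r.r r.retract
  exact FreeAt.of_restrict j (freeAt_of_isFinLocFree hfl z)

/-- The kernel of an epimorphism between modules which are free near `y` is free near `y`. -/
theorem freeAt_kernel_of_epi {K B C : X.Modules} (p : B ⟶ C) [Epi p] (ι : K ⟶ B)
    (w : ι ≫ p = 0) (hK : IsLimit (KernelFork.ofι ι w)) (y : X) (hB : FreeAt B y)
    (hC : FreeAt C y) : FreeAt K y := by
  obtain ⟨W₁, hy₁, n₁, ⟨e₁⟩⟩ := hB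
  obtain ⟨W₂, hy₂, n₂, ⟨e₂⟩⟩ := hC
  have hy : y ∈ W₁ ⊓ W₂ := ⟨hy₁, hy₂⟩
  obtain ⟨eB⟩ := H8.nonempty_restrict_iso_freeMod_of_le B (inf_le_left : W₁ ⊓ W₂ ≤ W₁) n₁ e₁
  obtain ⟨eC⟩ := H8.nonempty_restrict_iso_freeMod_of_le C (inf_le_right : W₁ ⊓ W₂ ≤ W₂) n₂ e₂
  have hB' : IsRetrFree ((restrictFunctor (W₁ ⊓ W₂).ι).obj B) :=
    (isRetrFree_freeMod _ n₁).of_iso eB.symm
  have hC' : IsRetrFree ((restrictFunctor (W₁ ⊓ W₂).ι).obj C) :=
    (isRetrFree_freeMod _ n₂).of_iso eC.symm
  haveI : Epi ((restrictFunctor (W₁ ⊓ W₂).ι).map p) := inferInstance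
  obtain ⟨V, ψ, hyV, hψ⟩ := exists_lift_of_isRetrFree hC'
    ((restrictFunctor (W₁ ⊓ W₂).ι).map p) (𝟙 _) ⟨y, hy⟩
  rw [CategoryTheory.Functor.map_id] at hψ
  obtain ⟨r, hr⟩ := exists_retraction_map_kernel
    (restrictFunctor (W₁ ⊓ W₂).ι ⋙ restrictFunctor V.ι) p ι w hK ψ hψ
  have h1 : IsRetrFree ((restrictFunctor (W₁ ⊓ W₂).ι ⋙ restrictFunctor V.ι).obj K) :=
    (hB'.map_restrict V.ι).of_retract ⟨_, r, hr⟩
  exact freeAt_of_lrAt ⟨V, V.ι ≫ (W₁ ⊓ W₂).ι, inferInstance, ⟨⟨y, hy⟩, hyV⟩, rfl,
    h1.of_iso ((restrictFunctorComp V.ι (W₁ ⊓ W₂).ι).app _).symm⟩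

/-- In an exact sequence `0 → K → A → B → C → 0` of modules with `A`, `B`, `C` free near `y`, so
is `K`. -/
theorem freeAt_kernel_of_four {K A B C : X.Modules} (k : K ⟶ A) (f : A ⟶ B) (p : B ⟶ C)
    (wk : k ≫ f = 0) (hk : IsLimit (KernelFork.ofι k wk)) (wp : f ≫ p = 0)
    (hex : (ShortComplex.mk f p wp).Exact) [Epi p] (y : X)
    (hA : FreeAt A y) (hB : FreeAt B y) (hC : FreeAt C y) : FreeAt K y := by
  have h1 : FreeAt (ShortComplex.mk f p wp).cycles y :=
    freeAt_kernel_of_epi p (ShortComplex.mk f p wp).iCycles (ShortComplex.mk f p wp).iCycles_g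
      (ShortComplex.mk f p wp).cyclesIsKernel y hB hC
  haveI : Epi (ShortComplex.mk f p wp).toCycles := hex.epi_toCycles
  have wk' : k ≫ (ShortComplex.mk f p wp).toCycles = 0 := by
    rw [← cancel_mono (ShortComplex.mk f p wp).iCycles, Category.assoc,
      (ShortComplex.mk f p wp).toCycles_i, zero_comp]
    exact wk
  have hk' : IsLimit (KernelFork.ofι k wk') :=
    isKernelOfComp (ShortComplex.mk f p wp).iCycles f hk wk' (ShortComplex.mk f p wp).toCycles_i
  exact freeAt_kernel_of_epi (ShortComplex.mk f p wp).toCycles k wk' hk' y hA h1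

end FreeAt

section Homology

variable {Z : Scheme.{u}}

/-- Descending induction on stalks: if all the cohomology sheaves of a bounded above complex of finite
locally free modules have projective stalks at `z`, so have all its opcycles. -/
theorem projective_stalk_opcycles (E : CochainComplex Z.Modules ℤ)
    (hfl : ∀ i, FlatMod.IsFinLocFree (E.X i)) (b : ℤ) (hb : ∀ i, b < i → IsZero (E.X i)) (z : Z)
    (hfree : ∀ i, Module.Projective (Z.presheaf.stalk z) ((E.homology i).presheaf.stalk z)) :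
    ∀ (d : ℕ) (i : ℤ), b + 1 ≤ i + d →
      Module.Projective (Z.presheaf.stalk z) ((E.opcycles i).presheaf.stalk z) := by
  intro d
  induction d with
  | zero =>
    intro i hi
    have h0 : IsZero (E.opcycles i) := (hb i (by omega)).of_epi (E.pOpcycles i)
    haveI : Subsingleton ((E.opcycles i).presheaf.stalk z) :=
      H8.subsingleton_stalk_of_isZero _ h0 z
    infer_instance
  | succ d ih =>
    intro i hi
    haveI := ih (i + 1) (by push_cast at hi ⊢; omega)
    haveI := hfree i
    haveI := projective_stalk_of_isFinLocFree (hfl (i + 1)) z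
    have hex1 : (ShortComplex.mk (E.homologyι i) (E.fromOpcycles i (i + 1))
        (E.homologyι_comp_fromOpcycles i (i + 1))).Exact :=
      ShortComplex.exact_of_f_is_kernel _ (E.homologyIsKernel i (i + 1) (by simp))
    have w2 : E.fromOpcycles i (i + 1) ≫ E.pOpcycles (i + 1) = 0 := by
      rw [← cancel_epi (E.pOpcycles i), HomologicalComplex.p_fromOpcycles_assoc,
        HomologicalComplex.d_pOpcycles, comp_zero]
    have hcok : IsColimit (CokernelCofork.ofπ (E.pOpcycles (i + 1)) w2) :=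
      isCokernelOfComp (E.pOpcycles i) (E.d i (i + 1))
        (E.opcyclesIsCokernel i (i + 1) (by simp)) _ (E.p_fromOpcycles i (i + 1))
    have hex2 : (ShortComplex.mk (E.fromOpcycles i (i + 1)) (E.pOpcycles (i + 1)) w2).Exact :=
      ShortComplex.exact_of_g_is_cokernel _ hcok
    exact projective_of_exact_four
      (H17.StalkSeq.stalkMapₗ (E.homologyι i) z)
      (H17.StalkSeq.stalkMapₗ (E.fromOpcycles i (i + 1)) z)
      (H17.StalkSeq.stalkMapₗ (E.pOpcycles (i + 1)) z)
      (H17.StalkSeq.stalkMap_injective_of_mono (E.homologyι i) z)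
      (H17.StalkSeq.stalkMap_exact _ hex1 z)
      (H17.StalkSeq.stalkMap_exact _ hex2 z)
      (H17.StalkSeq.stalkMap_surjective_of_epi (E.pOpcycles (i + 1)) z)

/-- The cohomology sheaves of a bounded above complex of finite locally free modules, all of whose
stalks at `z` are projective, are free of finite rank near `z`. -/
theorem freeAt_homology (E : CochainComplex Z.Modules ℤ)
    (hfl : ∀ i, FlatMod.IsFinLocFree (E.X i)) (b : ℤ) (hb : ∀ i, b < i → IsZero (E.X i)) (z : Z)
    (hfree : ∀ i, Module.Projective (Z.presheaf.stalk z) ((E.homology i).presheaf.stalk z))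
    (i : ℤ) : FreeAt (E.homology i) z := by
  have hproj : ∀ j, Module.Projective (Z.presheaf.stalk z) ((E.opcycles j).presheaf.stalk z) :=
    fun j => projective_stalk_opcycles E hfl b hb z hfree (b + 1 - j).toNat j (by omega)
  have hopc : ∀ j, FreeAt (E.opcycles j) z := fun j => by
    obtain ⟨W, hz, n, he⟩ := exists_free_nhd_opcycles E hfl j z (hproj j)
    exact ⟨W, hz, n, he⟩
  have w2 : E.fromOpcycles i (i + 1) ≫ E.pOpcycles (i + 1) = 0 := by
    rw [← cancel_epi (E.pOpcycles i), HomologicalComplex.p_fromOpcycles_assoc,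
      HomologicalComplex.d_pOpcycles, comp_zero]
  have hcok : IsColimit (CokernelCofork.ofπ (E.pOpcycles (i + 1)) w2) :=
    isCokernelOfComp (E.pOpcycles i) (E.d i (i + 1))
      (E.opcyclesIsCokernel i (i + 1) (by simp)) _ (E.p_fromOpcycles i (i + 1))
  exact freeAt_kernel_of_four (E.homologyι i) (E.fromOpcycles i (i + 1)) (E.pOpcycles (i + 1))
    (E.homologyι_comp_fromOpcycles i (i + 1)) (E.homologyIsKernel i (i + 1) (by simp)) w2
    (ShortComplex.exact_of_g_is_cokernel _ hcok) z (hopc i)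
    (freeAt_of_isFinLocFree (hfl (i + 1)) z) (hopc (i + 1))

end Homology

section Main

variable {X : Scheme.{u}}

/-- The cohomology sheaves of a perfect object are quasi-coherent. -/
theorem isQCoh_HD_of_isPerfect (E : DCoh.D X) (hE : DCoh.IsPerfect E) (i : ℤ) :
    (DCoh.HD E i).IsQuasicoherent := by
  rw [isPerfect_iff] at hE
  refine isQCoh_of_locally _ (fun x => ?_)
  obtain ⟨V, hxV, P, hP, hiso⟩ := exists_homology_iso_of_locPerfO (hE x)
  obtain ⟨e⟩ := hiso i
  haveI := isQCoh_homology_of_isStrictlyPerfect hP i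
  exact ⟨V, hxV, H22.QCohLimits.isQuasicoherent_of_iso e.symm⟩

lemma exists_opens_le_of_finset (s : Finset ℤ) (Wf : ℤ → X.Opens) (x : X) (h : ∀ i, x ∈ Wf i) :
    ∃ W : X.Opens, x ∈ W ∧ ∀ i ∈ s, W ≤ Wf i := by
  classical
  induction s using Finset.induction_on with
  | empty => exact ⟨⊤, trivial, fun i hi => absurd hi (Finset.notMem_empty i)⟩
  | insert i s _ ih =>
    obtain ⟨W, hxW, hW⟩ := ih
    refine ⟨W ⊓ Wf i, ⟨hxW, h i⟩, fun j hj => ?_⟩
    rcases Finset.mem_insert.1 hj with rfl | hj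
    · exact inf_le_right
    · exact inf_le_left.trans (hW j hj)

/-- S0892. -/
theorem locus_free (E : DCoh.D X) (hE : DCoh.IsPerfect E) :
    ∃ U : X.Opens,
      (U : Set X) = {x : X | ∀ i : ℤ,
        Module.Free (X.presheaf.stalk x) ((DCoh.HD E i).presheaf.stalk x) ∧
        Module.Finite (X.presheaf.stalk x) ((DCoh.HD E i).presheaf.stalk x)} ∧
      (∀ i : ℤ, FlatMod.IsFinLocFree ((DCoh.HD E i).restrict U.ι)) ∧
      ∀ W : X.Opens, (∀ i : ℤ, FlatMod.IsFinLocFree ((DCoh.HD E i).restrict W.ι)) → W ≤ U := by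
  have hq : ∀ i, (DCoh.HD E i).IsQuasicoherent := isQCoh_HD_of_isPerfect E hE
  have hloc := (isPerfect_iff E).1 hE
  have key : ∀ x : X, (∀ i : ℤ,
      Module.Free (X.presheaf.stalk x) ((DCoh.HD E i).presheaf.stalk x) ∧
      Module.Finite (X.presheaf.stalk x) ((DCoh.HD E i).presheaf.stalk x)) →
      ∃ W : X.Opens, x ∈ W ∧ ∀ w ∈ W, ∀ i : ℤ, FreeAt (DCoh.HD E i) w := by
    intro x hx
    obtain ⟨V, hxV, P, hP, hiso⟩ := exists_homology_iso_of_locPerfO (hloc x)
    obtain ⟨⟨a, b, hab⟩, hfl⟩ := hP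
    obtain ⟨z, rfl⟩ : ∃ z : (V : Scheme.{u}), V.ι z = x := ⟨⟨x, hxV⟩, rfl⟩
    have hfree : ∀ i, Module.Projective ((V : Scheme.{u}).presheaf.stalk z)
        ((P.homology i).presheaf.stalk z) := by
      intro i
      obtain ⟨e⟩ := hiso i
      haveI : Module.Free ((V : Scheme.{u}).presheaf.stalk z)
          (((DCoh.HD E i).restrict V.ι).presheaf.stalk z) :=
        ((free_finite_stalk_restrict_iff V (DCoh.HD E i) z).2 (hx i)).1
      exact Module.Projective.of_equiv (stalkEquiv e z)
    have hF : ∀ i, FreeAt (DCoh.HD E i) (V.ι z) := fun i => by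
      obtain ⟨e⟩ := hiso i
      exact FreeAt.of_restrict V.ι (z := z)
        ((freeAt_homology P hfl b (fun j hj => hab j (Or.inr hj)) z hfree i).of_iso e.symm)
    choose Wf hWf using hF
    obtain ⟨W, hxW, hW⟩ := exists_opens_le_of_finset (Finset.Icc a b) Wf (V.ι z)
      (fun i => (hWf i).1)
    refine ⟨V ⊓ W, ⟨hxV, hxW⟩, fun w hw i => ?_⟩
    by_cases hi : a ≤ i ∧ i ≤ b
    · obtain ⟨-, n, ⟨e⟩⟩ := hWf i
      exact ⟨Wf i, hW i (Finset.mem_Icc.2 hi) hw.2, n, ⟨e⟩⟩
    · obtain ⟨e⟩ := hiso i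
      have hz : IsZero (P.homology i) := by
        have hX : IsZero (P.X i) := hab i (by omega)
        exact (HomologicalComplex.exactAt_iff_isZero_homology _ _).1
          (HomologicalComplex.ExactAt.of_isZero hX)
      exact ⟨V, hw.1, 0, ⟨(IsZero.of_iso hz e).iso (isZero_freeMod_zero _)⟩⟩
  have hopen : IsOpen {x : X | ∀ i : ℤ,
      Module.Free (X.presheaf.stalk x) ((DCoh.HD E i).presheaf.stalk x) ∧
      Module.Finite (X.presheaf.stalk x) ((DCoh.HD E i).presheaf.stalk x)} := by
    rw [isOpen_iff_forall_mem_open]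
    intro x hx
    obtain ⟨W, hxW, hW⟩ := key x hx
    refine ⟨W, fun w hw i => ?_, W.isOpen, hxW⟩
    haveI := hq i
    exact free_finite_stalk_of_freeAt (hW w hw i)
  refine ⟨⟨_, hopen⟩, rfl, fun i => ?_, fun W hW => ?_⟩
  · refine isFinLocFree_restrict_of_freeAt _ (fun y hy => ?_)
    obtain ⟨W, hyW, hW⟩ := key y hy
    exact hW y hyW i
  · intro w hw i
    haveI := hq i
    exact free_finite_stalk_of_freeAt (freeAt_of_isFinLocFree_restrict W (hW i) w hw)

end Main

end Groth.Agent.H90.QH
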