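import Groth.Agent.H90.ClosedPC
import Groth.Agent.H35.MPCoh

/-!
# Pseudo-coherence on affine schemes: `M~` is `m`-pseudo-coherent iff `M` is (helper90)

* `finite_of_isFiniteType_tilde`: if `N~` is of finite type then `N` is a finite module.
* `isPC_tildeD_iff` (= S1004).
-/

set_option autoImplicit false
set_option linter.style.haveILetI false
universe w v u' u
open CategoryTheory CategoryTheory.Limits AlgebraicGeometry TopologicalSpace Opposite
open AlgebraicGeometry.Scheme.Modules

attribute [local instance] HasDerivedCategory.standard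

namespace Groth.Agent.H90.TPC

open Groth.Agent.H90.SPerf Groth.Agent.H90.LR Groth.Agent.H90.QH Groth.Agent.H28.PCohD
open Groth.Agent.H90.CPC

section General

variable {𝒜 : Type u'} [Category.{v} 𝒜] [Abelian 𝒜] [HasDerivedCategory.{w} 𝒜]

open Pretriangulated in
/-- The homology of the cone of a chain map `A[-n] ⟶ F` which is an epimorphism on `H^n`, when
`F` has no cohomology above degree `n`, vanishes in degrees `≥ n`. -/
theorem isZero_homology_cone' (F : CochainComplex 𝒜 ℤ) (n : ℤ) {A : 𝒜}
    (f : (HomologicalComplex.single 𝒜 (ComplexShape.up ℤ) n).obj A ⟶ F)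
    (hf : Epi (HomologicalComplex.homologyMap f n))
    (hF : ∀ j : ℤ, n < j → IsZero (F.homology j)) (j : ℤ) (hj : n ≤ j) :
    IsZero ((CochainComplex.mappingCone f).homology j) := by
  have hT := DerivedCategory.mappingCone_triangle_distinguished f
  have hm : MQI n (DerivedCategory.Q.map f) := by
    refine ⟨fun l hl => ?_, ?_⟩
    · rw [isIso_homologyFunctor_map_Q_iff]
      have h1 : IsZero (((HomologicalComplex.single 𝒜 (ComplexShape.up ℤ) n).obj
          A).homology l) :=
        HomologicalComplex.isZero_single_obj_homology (ComplexShape.up ℤ) n A l (by omega)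
      exact ⟨⟨0, h1.eq_of_src _ _, (hF l hl).eq_of_src _ _⟩⟩
    · rw [epi_homologyFunctor_map_Q_iff]
      exact hf
  have hz := isZero_homology_obj₃_of_mqi _ hT n hm j hj
  exact IsZero.of_iso hz ((DerivedCategory.homologyFunctorFactors _ j).app _).symm

end General

section Scheme

variable {X : Scheme.{u}}

lemma isPC_of_iso {K K' : DCoh.D X} (e : K ≅ K') {m : ℤ} (h : DCoh.IsPseudoCoherentD m K) :
    DCoh.IsPseudoCoherentD m K' :=
  (isPC_iff m K').2 fun x => locPC_of_iso e ((isPC_iff m K).1 h x)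

lemma isPC_mono {K : DCoh.D X} {m n : ℤ} (hmn : m ≤ n) (h : DCoh.IsPseudoCoherentD m K) :
    DCoh.IsPseudoCoherentD n K :=
  (isPC_iff n K).2 fun x => locPC_mono hmn ((isPC_iff m K).1 h x)

/-- The target of an `m`-quasi-isomorphism from a strictly perfect complex is
`m`-pseudo-coherent. -/
lemma isPC_of_mqi {P : CochainComplex X.Modules ℤ} (hP : DCoh.IsStrictlyPerfect P) {K : DCoh.D X}
    {m : ℤ} (α : DerivedCategory.Q.obj P ⟶ K) (hα : MQI m α) : DCoh.IsPseudoCoherentD m K := by
  rw [isPC_iff]
  intro x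
  exact ⟨⊤, trivial, _,
    ((restrictFunctor (⊤ : X.Opens).ι).mapDerivedCategoryFactors.app P).inv ≫
      (DCoh.restrictD (⊤ : X.Opens).ι).map α,
    isStrictlyPerfect_restrict _ hP, (MQI.of_isIso _ _).comp (hα.map _)⟩

end Scheme

section Ring

variable {R : CommRingCat.{u}}

lemma bijective_algebraMap_top :
    Function.Bijective (algebraMap R Γ(Spec R, (⊤ : (Spec R).Opens))) := by
  rw [IsAffineOpen.algebraMap_Spec_obj]
  haveI : IsIso (homOfLE (le_top : (⊤ : (Spec R).Opens) ≤ ⊤)) :=
    ⟨⟨homOfLE le_rfl, Subsingleton.elim _ _, Subsingleton.elim _ _⟩⟩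
  haveI : IsIso ((Scheme.ΓSpecIso R).inv ≫
      (Spec R).presheaf.map (homOfLE (le_top : (⊤ : (Spec R).Opens) ≤ ⊤)).op) := inferInstance
  exact ConcreteCategory.bijective_of_isIso _

/-- If `N~` is of finite type, then `N` is a finite module. -/
theorem finite_of_isFiniteType_tilde (N : ModuleCat.{u} R)
    (h : SheafOfModules.IsFiniteType (R := (Spec R).ringCatSheaf) (tilde N)) :
    Module.Finite R N := by
  haveI := h
  haveI : (tilde N).IsQuasicoherent := inferInstance
  haveI h1 : Module.Finite Γ(Spec R, (⊤ : (Spec R).Opens)) Γ(tilde N, (⊤ : (Spec R).Opens)) :=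
    H8.finite_sections_of_isAffineOpen (tilde N) (isAffineOpen_top (Spec R))
  haveI : Module.Finite R Γ(Spec R, (⊤ : (Spec R).Opens)) :=
    Module.Finite.of_surjective (Algebra.linearMap R _) bijective_algebraMap_top.2
  have h2 : Module.Finite R Γ(tilde N, (⊤ : (Spec R).Opens)) :=
    Module.Finite.trans Γ(Spec R, (⊤ : (Spec R).Opens)) _
  haveI h3 : Module.Finite R ↑((modulesSpecToSheaf.obj (tilde N)).presheaf.obj (.op ⊤)) := h2
  exact Module.Finite.equiv (tilde.isoTop N).toLinearEquiv.symm

end Ring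

section Main

variable (R : CommRingCat.{u})

open ZeroObject

/-- `(A^r)~ ≅ O^r`. -/
noncomputable def tildeFreeIso (r : ℕ) :
    (tilde.functor R).obj (ModuleCat.of R (ULift.{u} (Fin r) →₀ R)) ≅
      FlatMod.freeMod (Spec R) r :=
  tildeFinsupp (R := R) (ULift.{u} (Fin r)) ≪≫ H8.freeIsoFreeMod _ r

lemma isZero_of_isZero_tilde (N : ModuleCat.{u} R)
    (h : IsZero ((tilde.functor R).obj N)) : IsZero N := by
  rw [IsZero.iff_id_eq_zero]
  apply (tilde.functor R).map_injective
  rw [CategoryTheory.Functor.map_id, CategoryTheory.Functor.map_zero]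
  exact h.eq_of_src _ _

lemma isPseudoCoherent_of_isZero_homology (F : DRing.Cx R) (m : ℤ)
    (hF : ∀ j : ℤ, m ≤ j → IsZero (F.homology j)) :
    DRing.IsPseudoCoherent R m (DerivedCategory.Q.obj F) := by
  have hz0 : ∀ i : ℤ, IsZero ((0 : DRing.Cx R).X i) := fun i =>
    Functor.map_isZero (HomologicalComplex.eval _ (ComplexShape.up ℤ) i) (isZero_zero _)
  have hsrc : ∀ i : ℤ, IsZero ((DerivedCategory.homologyFunctor (ModuleCat.{u} R) i).obj
      (DerivedCategory.Q.obj (0 : DRing.Cx R))) :=
    fun i => Functor.map_isZero _ (Functor.map_isZero _ (isZero_zero _))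
  have htgt : ∀ i : ℤ, m ≤ i → IsZero ((DerivedCategory.homologyFunctor (ModuleCat.{u} R) i).obj
      (DerivedCategory.Q.obj F)) :=
    fun i hi => IsZero.of_iso (hF i hi) ((DerivedCategory.homologyFunctorFactors _ i).app F)
  refine ⟨0, 0, 0, 0, fun i _ => hz0 i, fun i => ?_, fun i hi => ?_, ?_⟩
  · haveI : Subsingleton ↑((0 : DRing.Cx R).X i) := ModuleCat.subsingleton_of_isZero (hz0 i)
    exact ⟨inferInstance, inferInstance⟩
  · exact ⟨⟨0, (hsrc i).eq_of_src _ _, (htgt i hi.le).eq_of_src _ _⟩⟩
  · exact ⟨fun g h _ => (htgt m le_rfl).eq_of_src g h⟩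

lemma isPseudoCoherent_single (P₀ : ModuleCat.{u} R) [Module.Finite R P₀] [Module.Free R P₀]
    (n m : ℤ) :
    DRing.IsPseudoCoherent R m (DerivedCategory.Q.obj
      ((HomologicalComplex.single (ModuleCat.{u} R) (ComplexShape.up ℤ) n).obj P₀)) := by
  refine ⟨_, n, n, 𝟙 _, fun i hi => HomologicalComplex.isZero_single_obj_X _ _ _ _ (by omega),
    fun i => ?_, fun _ _ => inferInstance, inferInstance⟩
  by_cases hi : i = n
  · subst hi
    let e := (HomologicalComplex.singleObjXSelf (ComplexShape.up ℤ) i P₀).toLinearEquiv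
    exact ⟨Module.Finite.equiv e.symm, Module.Free.of_equiv e.symm⟩
  · haveI : Subsingleton ↑(((HomologicalComplex.single (ModuleCat.{u} R)
        (ComplexShape.up ℤ) n).obj P₀).X i) :=
      ModuleCat.subsingleton_of_isZero (HomologicalComplex.isZero_single_obj_X _ _ _ _ hi)
    exact ⟨inferInstance, inferInstance⟩

lemma exists_equiv_fin (N : Type u) [AddCommGroup N] [Module R N] [Module.Finite R N]
    [Module.Free R N] : ∃ r : ℕ, Nonempty (N ≃ₗ[R] (Fin r → R)) := by
  cases subsingleton_or_nontrivial R with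
  | inl hs =>
    haveI := hs
    haveI : Subsingleton N := Module.subsingleton R N
    haveI : Subsingleton (Fin 0 → R) := inferInstance
    exact ⟨0, ⟨LinearEquiv.ofSubsingleton N (Fin 0 → R)⟩⟩
  | inr hn =>
    haveI := hn
    exact ⟨Module.finrank R N, ⟨(Module.finBasis R N).equivFun⟩⟩

variable [PreservesFiniteLimits (tilde.functor R)]

/-- `H^j(M~) ≅ H^j(M)~`. -/
noncomputable def hdTildeIso (F : DRing.Cx R) (j : ℤ) :
    DCoh.HD ((DCoh.tildeD R).obj (DerivedCategory.Q.obj F)) j ≅
      (tilde.functor R).obj (F.homology j) :=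
  (homologyCommIso (tilde.functor R) j).app (DerivedCategory.Q.obj F) ≪≫
    (tilde.functor R).mapIso ((DerivedCategory.homologyFunctorFactors _ j).app F)

open Pretriangulated in
/-- The induction for the implication `M~` `m`-pseudo-coherent `⟹` `M` `m`-pseudo-coherent. -/
theorem ring_claim : ∀ (k : ℕ) (F : DRing.Cx R) (m : ℤ),
    (∀ j : ℤ, m + k ≤ j → IsZero (F.homology j)) →
    DCoh.IsPseudoCoherentD m
      ((DCoh.tildeD R).obj (DerivedCategory.Q.obj F)) →
    DRing.IsPseudoCoherent R m (DerivedCategory.Q.obj F) := by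
  intro k
  induction k with
  | zero =>
    intro F m hF _
    exact isPseudoCoherent_of_isZero_homology R F m (fun j hj => hF j (by simpa using hj))
  | succ k ih =>
    intro F m hF hE
    have hFn : ∀ j : ℤ, m + k < j → IsZero (F.homology j) := fun j hj =>
      hF j (by push_cast; omega)
    have hE' := isPC_mono (show m ≤ m + k by omega) hE
    have hFT := (isFT_isFP_top (m + k) _ hE').1 (fun j hj =>
      IsZero.of_iso (Functor.map_isZero _ (hFn j hj)) (hdTildeIso R F j))
    have hFT' : SheafOfModules.IsFiniteType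
        (R := (Spec R).ringCatSheaf) (tilde (F.homology (m + k))) := by
      have he : Epi (hdTildeIso R F (m + k)).hom :=
        @IsIso.epi_of_iso _ _ _ _ _ (Iso.isIso_hom (hdTildeIso R F (m + k)))
      exact @H8.isFiniteType_of_epi _ _ _ (hdTildeIso R F (m + k)).hom he hFT
    haveI hfin : Module.Finite R (F.homology (m + k)) :=
      finite_of_isFiniteType_tilde (R := R) _ hFT'
    obtain ⟨r, g₀, hg₀⟩ := Module.Finite.exists_fin' R (F.homology (m + k))
    let eq : (ULift.{u} (Fin r) →₀ R) ≃ₗ[R] (Fin r → R) :=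
      Finsupp.domLCongr Equiv.ulift ≪≫ₗ Finsupp.linearEquivFunOnFinite R R (Fin r)
    let P₀ : ModuleCat.{u} R := ModuleCat.of R (ULift.{u} (Fin r) →₀ R)
    let π : P₀ ⟶ F.homology (m + k) := ModuleCat.ofHom (g₀ ∘ₗ eq.toLinearMap)
    have hπ : Epi π := (ModuleCat.epi_iff_surjective π).2 (hg₀.comp eq.surjective)
    let σ : P₀ ⟶ F.cycles (m + k) := Projective.factorThru π (F.homologyπ (m + k))
    have hσ : σ ≫ F.homologyπ (m + k) = π := Projective.factorThru_comp _ _
    have hφ : ∀ k' : ℤ, (ComplexShape.up ℤ).Rel (m + k) k' →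
        (σ ≫ F.iCycles (m + k)) ≫ F.d (m + k) k' = 0 := fun k' _ => by
      rw [Category.assoc, HomologicalComplex.iCycles_d, comp_zero]
    have hf : Epi (HomologicalComplex.homologyMap
        (HomologicalComplex.mkHomFromSingle (σ ≫ F.iCycles (m + k)) hφ) (m + k)) :=
      epi_homologyMap_mkHomFromSingle F (m + k) σ (by rw [hσ]; exact hπ) hφ
    have hcone : ∀ j : ℤ, m + k ≤ j → IsZero ((CochainComplex.mappingCone
        (HomologicalComplex.mkHomFromSingle (σ ≫ F.iCycles (m + k)) hφ)).homology j) :=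
      fun j hj => isZero_homology_cone' F (m + k) _ hf hFn j hj
    have hT := DerivedCategory.mappingCone_triangle_distinguished
      (HomologicalComplex.mkHomFromSingle (σ ≫ F.iCycles (m + k)) hφ)
    have hT' := (DCoh.tildeD R).map_distinguished _ hT
    have e₁ : (DCoh.tildeD R).obj (DerivedCategory.Q.obj
          ((HomologicalComplex.single (ModuleCat.{u} R) (ComplexShape.up ℤ) (m + k)).obj P₀)) ≅
        DerivedCategory.Q.obj ((HomologicalComplex.single _ (ComplexShape.up ℤ) (m + k)).obj
          (FlatMod.freeMod (Spec R) r)) :=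
      (tilde.functor R).mapDerivedCategoryFactors.app _ ≪≫
        DerivedCategory.Q.mapIso
          ((HomologicalComplex.singleMapHomologicalComplex (tilde.functor R)
            (ComplexShape.up ℤ) (m + k)).app P₀ ≪≫
            (HomologicalComplex.single _ (ComplexShape.up ℤ) (m + k)).mapIso (tildeFreeIso R r))
    have h₁' : ∀ m' : ℤ, DCoh.IsPseudoCoherentD m'
        ((DCoh.tildeD R).obj (DerivedCategory.Q.obj
          ((HomologicalComplex.single (ModuleCat.{u} R) (ComplexShape.up ℤ) (m + k)).obj P₀))) :=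
      fun m' => isPC_of_iso e₁.symm ((isPC_iff m' _).2 (fun x =>
        locPC_Q_of_isStrictlyPerfect
          (isStrictlyPerfect_single' (isFinLocFree_freeMod _ r) (m + k)) m' x))
    have hC := (isPC_triangle m _ hT').1 (h₁' (m + 1)) hE
    have hCr := ih _ m hcone hC
    exact H35.MPCoh.isPseudoCoherent_obj₂ _ hT m (isPseudoCoherent_single R P₀ (m + k) m) hCr

/-- S1004. -/
theorem isPC_tildeD_iff (M : Dual.D R) (m : ℤ) :
    DCoh.IsPseudoCoherentD m ((DCoh.tildeD R).obj M) ↔
      DRing.IsPseudoCoherent R m M := by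
  constructor
  · intro h
    have e : DerivedCategory.Q.obj (DerivedCategory.Q.objPreimage M) ≅ M :=
      DerivedCategory.Q.objObjPreimageIso M
    have h' := isPC_of_iso ((DCoh.tildeD R).mapIso e.symm) h
    obtain ⟨b, hb⟩ := exists_bound_HD_of_isPC m _ h'
    have hz : ∀ j : ℤ, b < j → IsZero ((DerivedCategory.Q.objPreimage M).homology j) :=
      fun j hj => isZero_of_isZero_tilde R _
        (IsZero.of_iso (hb j hj) (hdTildeIso R _ j).symm)
    refine H35.MPCoh.isPseudoCoherent_of_iso e
      (ring_claim R (b + 1 - m).toNat _ m (fun j hj => hz j ?_) h')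
    have := Int.self_le_toNat (b + 1 - m)
    omega
  · rintro ⟨E, a, b, α, hv, hff, hiso, hepi⟩
    have hm : MQI m α := ⟨hiso, hepi⟩
    have hE : DCoh.IsStrictlyPerfect
        (((tilde.functor R).mapHomologicalComplex (ComplexShape.up ℤ)).obj E) := by
      refine ⟨⟨a, b, fun i hi => Functor.map_isZero (tilde.functor R) (hv i hi)⟩, fun i => ?_⟩
      haveI := (hff i).1
      haveI := (hff i).2
      obtain ⟨r, ⟨e0⟩⟩ := exists_equiv_fin R ↑(E.X i)
      let e1 : ↑(E.X i) ≃ₗ[R] (ULift.{u} (Fin r) →₀ R) :=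
        e0 ≪≫ₗ
          (Finsupp.linearEquivFunOnFinite R R (Fin r)).symm ≪≫ₗ
          Finsupp.domLCongr Equiv.ulift.symm
      exact H8.isFinLocFree_of_iso
        ((tilde.functor R).mapIso e1.toModuleIso ≪≫ tildeFreeIso R r).symm
        (isFinLocFree_freeMod _ r)
    exact isPC_of_mqi hE
      (((tilde.functor R).mapDerivedCategoryFactors.app E).inv ≫
        (DCoh.tildeD R).map α)
      ((MQI.of_isIso _ _).comp (hm.map _))

end Main

end Groth.Agent.H90.TPC
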