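import Groth.Agent.H8.ClosedPush
import Groth.Agent.H90.QCohHom
import Groth.Prelude.Def_DerSch2

/-!
# Relative pseudo-coherence: boundedness above on quasi-compact schemes (helper90)

* `isZero_of_isZero_pushforward`: the direct image along a closed embedding reflects zero objects.
* `exactAt_of_exactAt_pushCx`: the termwise direct image along a closed embedding reflects exactness.
* `exists_bound_HD_of_isPC`: a pseudo-coherent object on a quasi-compact scheme is bounded above.
* `isLE_of_isPseudoCoherentRel` (= S6236).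
-/

set_option autoImplicit false
set_option linter.style.haveILetI false
universe u
open CategoryTheory CategoryTheory.Limits AlgebraicGeometry TopologicalSpace Opposite
open AlgebraicGeometry.Scheme.Modules

attribute [local instance] HasDerivedCategory.standard

namespace Groth.Agent.H90.QH

open Groth.Agent.H90.SPerf Groth.Agent.H90.LR

section ClosedPush

variable {Z T : Scheme.{u}} (ι : Z ⟶ T)

/-- The direct image along a closed embedding reflects zero objects. -/
theorem isZero_of_isZero_pushforward (hce : Topology.IsClosedEmbedding ι.base) (M : Z.Modules)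
    (h : IsZero ((Scheme.Modules.pushforward ι).obj M)) : IsZero M := by
  rw [IsZero.iff_id_eq_zero]
  haveI : IsIso (0 : M ⟶ M) := H8.ClosedPush.isIso_of_T (0 : M ⟶ M) (fun z => by
    have hz : IsZero ((H8.ClosedPush.T Z z).obj M) :=
      IsZero.of_iso (Functor.map_isZero (H8.ClosedPush.T T (ι z)) h)
        ((H8.ClosedPush.spIso ι hce.isInducing z).app M).symm
    exact ⟨⟨(H8.ClosedPush.T Z z).map 0, hz.eq_of_src _ _, hz.eq_of_src _ _⟩⟩)
  have h1 := IsIso.hom_inv_id (0 : M ⟶ M)
  rw [zero_comp] at h1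
  exact h1.symm

/-- The termwise direct image along a closed embedding reflects exactness. -/
theorem exactAt_of_exactAt_pushCx (hce : Topology.IsClosedEmbedding ι.base)
    (C : CochainComplex Z.Modules ℤ) (j : ℤ) (h : ((DerSch.pushCx ι).obj C).ExactAt j) :
    C.ExactAt j := by
  haveI := H8.ClosedPush.preservesColimitsOfSize_pushforward ι hce
  haveI : PreservesFiniteColimits (Scheme.Modules.pushforward ι) :=
    PreservesColimitsOfSize.preservesFiniteColimits _
  haveI : PreservesFiniteLimits (Scheme.Modules.pushforward ι) := inferInstance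
  haveI : (Scheme.Modules.pushforward ι).PreservesHomology := inferInstance
  rw [HomologicalComplex.exactAt_iff, ShortComplex.exact_iff_isZero_homology] at h ⊢
  have e : ((C.sc j).map (Scheme.Modules.pushforward ι)).homology ≅
      (Scheme.Modules.pushforward ι).obj (C.sc j).homology := (C.sc j).mapHomologyIso _
  exact isZero_of_isZero_pushforward ι hce _ (IsZero.of_iso h e.symm)

end ClosedPush

section Bound

/-- A pseudo-coherent object on a quasi-compact scheme has cohomology bounded above. -/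
theorem exists_bound_HD_of_isPC {T : Scheme.{u}} [CompactSpace T] (m : ℤ) (K : DCoh.D T)
    (hK : DCoh.IsPseudoCoherentD m K) : ∃ b : ℤ, ∀ j : ℤ, b < j → IsZero (DCoh.HD K j) := by
  rw [isPC_iff] at hK
  have hloc : ∀ t : T, ∃ (W : T.Opens) (b : ℤ), t ∈ W ∧
      ∀ j : ℤ, b < j → IsZero ((DCoh.HD K j).restrict W.ι) := by
    intro t
    obtain ⟨W, htW, P, π, ⟨⟨a, b, hab⟩, hfl⟩, hiso, -⟩ := exists_homology_map_of_locPC (hK t)
    refine ⟨W, max m b, htW, fun j hj => ?_⟩
    haveI := hiso j (lt_of_le_of_lt (le_max_left _ _) hj)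
    have hz : IsZero (P.homology j) :=
      (HomologicalComplex.exactAt_iff_isZero_homology _ _).1
        (HomologicalComplex.ExactAt.of_isZero
          (hab j (Or.inr (lt_of_le_of_lt (le_max_right _ _) hj))))
    exact IsZero.of_iso hz (asIso (π j)).symm
  choose W b hW hb using hloc
  obtain ⟨s, hs⟩ := isCompact_univ.elim_nhds_subcover (fun t => ((W t : T.Opens) : Set T))
    (fun t _ => (W t).isOpen.mem_nhds (hW t))
  obtain ⟨B, hB⟩ := (s.image b).exists_le
  refine ⟨B, fun j hj => isZero_of_locally _ (fun t => ?_)⟩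
  have ht : t ∈ ⋃ x ∈ s, ((W x : T.Opens) : Set T) := hs.2 (Set.mem_univ t)
  simp only [Set.mem_iUnion] at ht
  obtain ⟨x, hxs, htx⟩ := ht
  exact ⟨W x, htx, hb x j (lt_of_le_of_lt (hB _ (Finset.mem_image_of_mem b hxs)) hj)⟩

variable {X : Scheme.{u}}

/-- Exactness of `G|_U` in degree `j` kills `H^j(E)|_U` when `G` represents `E`. -/
theorem isZero_restrict_HD_of_exactAt (U : X.Opens) (E : DCoh.D X)
    (G : CochainComplex X.Modules ℤ) (e : DerivedCategory.Q.obj G ≅ E) (j : ℤ)
    (h : ((DCoh.restrictCx U).obj G).ExactAt j) : IsZero ((DCoh.HD E j).restrict U.ι) := by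
  have e1 : (DerivedCategory.homologyFunctor _ j).obj ((DCoh.restrictD U.ι).obj E) ≅
      (restrictFunctor U.ι).obj (DCoh.HD E j) := (homologyCommIso (restrictFunctor U.ι) j).app E
  have e2 : (DCoh.restrictD U.ι).obj E ≅ DerivedCategory.Q.obj ((DCoh.restrictCx U).obj G) :=
    restrictDObjIso U.ι e
  have e3 : (DerivedCategory.homologyFunctor _ j).obj
      (DerivedCategory.Q.obj ((DCoh.restrictCx U).obj G)) ≅
      ((DCoh.restrictCx U).obj G).homology j :=
    (DerivedCategory.homologyFunctorFactors _ j).app _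
  have hz : IsZero (((DCoh.restrictCx U).obj G).homology j) :=
    (HomologicalComplex.exactAt_iff_isZero_homology _ _).1 h
  exact IsZero.of_iso hz
    (e1.symm ≪≫ (DerivedCategory.homologyFunctor _ j).mapIso e2 ≪≫ e3)

lemma exactAt_of_isZero_HD {T : Scheme.{u}} (C : CochainComplex T.Modules ℤ) (j : ℤ)
    (h : IsZero (DCoh.HD (DCoh.toD T C) j)) : C.ExactAt j :=
  (HomologicalComplex.exactAt_iff_isZero_homology _ _).2
    (IsZero.of_iso h ((DerivedCategory.homologyFunctorFactors _ j).app C).symm)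

/-- The chart morphism of a chart on an affine open is a closed embedding. -/
lemma isClosedEmbedding_chartImm {U : X.Opens} (hU : IsAffineOpen U) {R : Type u} [CommRing R]
    {n : ℕ} (φ : MvPolynomial (Fin n) R →+* Γ(X, U)) (hφ : Function.Surjective φ) :
    Topology.IsClosedEmbedding (DerSch.chartImm U φ).base := by
  haveI : IsIso U.toSpecΓ := by
    rw [← hU.isoSpec_hom]
    infer_instance
  haveI : IsClosedImmersion (Spec.map (CommRingCat.ofHom φ)) :=
    IsClosedImmersion.spec_of_surjective _ hφ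
  haveI : IsClosedImmersion (DerSch.chartImm U φ) := by
    unfold DerSch.chartImm
    infer_instance
  exact Scheme.Hom.isClosedEmbedding _

/-- S6236. -/
theorem isLE_of_isPseudoCoherentRel {Y : Scheme.{u}} [CompactSpace X] (f : X ⟶ Y) (n : ℤ)
    (E : DCoh.D X) (hE : DerSch.IsPseudoCoherentRel f n E) : ∃ b : ℤ, E.IsLE b := by
  obtain ⟨-, 𝒱, h𝒱, hrest⟩ := hE
  have eG : DerivedCategory.Q.obj (DerivedCategory.Q.objPreimage E) ≅ E :=
    DerivedCategory.Q.objObjPreimageIso E
  have hloc : ∀ x : X, ∃ (W : X.Opens) (b : ℤ), x ∈ W ∧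
      ∀ j : ℤ, b < j → IsZero ((DCoh.HD E j).restrict W.ι) := by
    intro x
    have hx : f x ∈ ⨆ V ∈ 𝒱, ((V : Y.affineOpens) : Y.Opens) := by
      rw [h𝒱]
      trivial
    simp only [Opens.mem_iSup] at hx
    obtain ⟨V, hV, hxV⟩ := hx
    obtain ⟨𝒰, h𝒰, hch⟩ := hrest V hV
    have hx' : x ∈ ⨆ U ∈ 𝒰, ((U : X.affineOpens) : X.Opens) := by
      rw [h𝒰]
      exact hxV
    simp only [Opens.mem_iSup] at hx'
    obtain ⟨U, hU, hxU⟩ := hx'
    have hUle : (U : X.Opens) ≤ f ⁻¹ᵁ (V : Y.Opens) := by
      rw [← h𝒰]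
      exact le_iSup₂_of_le U hU le_rfl
    obtain ⟨n', φ, ⟨hsurj, -⟩, hPC⟩ := hch U hU hUle
    have hce := isClosedEmbedding_chartImm U.2 φ hsurj
    obtain ⟨b, hb⟩ := exists_bound_HD_of_isPC n _ (hPC _ ⟨eG⟩)
    refine ⟨U, b, hxU, fun j hj => ?_⟩
    exact isZero_restrict_HD_of_exactAt (U : X.Opens) E _ eG j
      (exactAt_of_exactAt_pushCx _ hce _ j (exactAt_of_isZero_HD _ j (hb j hj)))
  choose W b hW hb using hloc
  obtain ⟨s, hs⟩ := isCompact_univ.elim_nhds_subcover (fun t => ((W t : X.Opens) : Set X))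
    (fun t _ => (W t).isOpen.mem_nhds (hW t))
  obtain ⟨B, hB⟩ := (s.image b).exists_le
  refine ⟨B, (DerivedCategory.isLE_iff E B).2 (fun j hj => isZero_of_locally _ (fun t => ?_))⟩
  have ht : t ∈ ⋃ x ∈ s, ((W x : X.Opens) : Set X) := hs.2 (Set.mem_univ t)
  simp only [Set.mem_iUnion] at ht
  obtain ⟨x, hxs, htx⟩ := ht
  exact ⟨W x, htx, hb x j (lt_of_le_of_lt (hB _ (Finset.mem_image_of_mem b hxs)) hj)⟩

end Bound

end Groth.Agent.H90.QH
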