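import Groth.Agent.H31.PushRestrict
import Groth.Agent.H90.RelBound
import Groth.Agent.H90.PCohTop
import Mathlib.Algebra.Category.ModuleCat.Sheaf.PullbackFree

/-!
# Pseudo-coherence and direct images along closed immersions (helper90)

For a closed immersion `i : Z ⟶ X` with `i_* O_Z` pseudo-coherent, an object `E` of `D(O_Z)` is
`m`-pseudo-coherent iff `i_* E` is (`isPC_pushforward_iff`, = S1102).

Main steps:
* `epi_homologyMap_mkHomFromSingle`, `exists_cycles_homology_iso`, `isZero_homology_obj₃_of_mqi`: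
  homological algebra.
* `locPC_restrict_iff`, `locPC_obj₂`, `locPC_Q_of_isZero_homology`, ...: utilities on `LocPC`.
* `pushRestrictCxIso`, `epi_of_epi_push`, `locFG_of_locFG_push`: direct images along closed
  immersions (restriction to opens, reflection of epimorphisms, descent of finite type).
* `locPC_push_freeMod`: `i_* O_Z^k` is pseudo-coherent.
* `exists_single_map`: generators of the top cohomology lift locally to a chain map `O^k[-n] ⟶ F`.
* `claim_of_cone`, `claim`, `claim'`: the induction on the top degree.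
-/

set_option autoImplicit false
set_option linter.style.haveILetI false
universe w v u' u
open CategoryTheory CategoryTheory.Limits AlgebraicGeometry TopologicalSpace Opposite
open AlgebraicGeometry.Scheme.Modules

attribute [local instance] HasDerivedCategory.standard

namespace Groth.Agent.H90.CPC

open Groth.Agent.H90.SPerf Groth.Agent.H90.LR Groth.Agent.H90.QH Groth.Agent.H28.PCohD

section General

variable {𝒜 : Type u'} [Category.{v} 𝒜] [Abelian 𝒜]

/-- A map `A ⟶ Z^n(K)` inducing an epimorphism `A ⟶ H^n(K)` gives a chain map `A[-n] ⟶ K` which is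
an epimorphism on `H^n`. -/
theorem epi_homologyMap_mkHomFromSingle (K : CochainComplex 𝒜 ℤ) (n : ℤ) {A : 𝒜}
    (σ : A ⟶ K.cycles n) (hσ : Epi (σ ≫ K.homologyπ n))
    (hφ : ∀ k : ℤ, (ComplexShape.up ℤ).Rel n k → (σ ≫ K.iCycles n) ≫ K.d n k = 0) :
    Epi (HomologicalComplex.homologyMap
      (HomologicalComplex.mkHomFromSingle (σ ≫ K.iCycles n) hφ) n) := by
  have h1 : (HomologicalComplex.singleObjCyclesSelfIso (ComplexShape.up ℤ) n A).inv ≫
      HomologicalComplex.cyclesMap
        (HomologicalComplex.mkHomFromSingle (σ ≫ K.iCycles n) hφ) n = σ := by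
    rw [← cancel_mono (K.iCycles n), Category.assoc, HomologicalComplex.cyclesMap_i,
      HomologicalComplex.singleObjCyclesSelfIso_inv_iCycles_assoc,
      HomologicalComplex.mkHomFromSingle_f, Iso.inv_hom_id_assoc]
  have key : (HomologicalComplex.singleObjHomologySelfIso (ComplexShape.up ℤ) n A).inv ≫
      HomologicalComplex.homologyMap
        (HomologicalComplex.mkHomFromSingle (σ ≫ K.iCycles n) hφ) n = σ ≫ K.homologyπ n := by
    rw [← HomologicalComplex.singleObjCyclesSelfIso_inv_homologyπ, Category.assoc,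
      HomologicalComplex.homologyπ_naturality, ← Category.assoc, h1]
  have h2 : HomologicalComplex.homologyMap
      (HomologicalComplex.mkHomFromSingle (σ ≫ K.iCycles n) hφ) n =
      (HomologicalComplex.singleObjHomologySelfIso (ComplexShape.up ℤ) n A).hom ≫
        σ ≫ K.homologyπ n := by
    rw [← key, Iso.hom_inv_id_assoc]
  rw [h2]
  exact epi_comp' inferInstance hσ

/-- Cycles and homology commute with exact functors, compatibly with `iCycles` and `homologyπ`. -/
theorem exists_cycles_homology_iso {ℬ : Type*} [Category ℬ] [Abelian ℬ] (G : 𝒜 ⥤ ℬ) [G.Additive]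
    [PreservesFiniteLimits G] [PreservesFiniteColimits G] (K : CochainComplex 𝒜 ℤ) (n : ℤ) :
    ∃ (c : ((G.mapHomologicalComplex (ComplexShape.up ℤ)).obj K).cycles n ≅ G.obj (K.cycles n))
      (e : ((G.mapHomologicalComplex (ComplexShape.up ℤ)).obj K).homology n ≅
        G.obj (K.homology n)),
      c.hom ≫ G.map (K.iCycles n) =
        ((G.mapHomologicalComplex (ComplexShape.up ℤ)).obj K).iCycles n ∧
      ((G.mapHomologicalComplex (ComplexShape.up ℤ)).obj K).homologyπ n ≫ e.hom =
        c.hom ≫ G.map (K.homologyπ n) := by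
  haveI : G.PreservesHomology := inferInstance
  refine ⟨((K.sc n).leftHomologyData.map G).cyclesIso,
    ((K.sc n).leftHomologyData.map G).homologyIso ≪≫ G.mapIso (K.sc n).leftHomologyIso, ?_, ?_⟩
  · exact ((K.sc n).leftHomologyData.map G).cyclesIso_hom_comp_i
  · have h1 := ((K.sc n).leftHomologyData.map G).homologyπ_comp_homologyIso_hom
    have h2 : G.map (K.sc n).leftHomologyπ ≫ G.map (K.sc n).leftHomologyIso.hom =
        G.map (K.sc n).homologyπ := (G.map_comp _ _).symm
    exact ((Category.assoc _ _ _).symm.trans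
      (congrArg (· ≫ G.map (K.sc n).leftHomologyIso.hom) h1)).trans
      ((Category.assoc _ _ _).trans (congrArg (_ ≫ ·) h2))

open Pretriangulated in
/-- If the first map of a distinguished triangle is an `n`-quasi-isomorphism, the third object has
no cohomology in degrees `≥ n`. -/
theorem isZero_homology_obj₃_of_mqi [HasDerivedCategory.{w} 𝒜] (T : Triangle (DerivedCategory 𝒜))
    (hT : T ∈ distTriang _) (n : ℤ) (h : MQI n T.mor₁) (j : ℤ) (hj : n ≤ j) :
    IsZero ((DerivedCategory.homologyFunctor 𝒜 j).obj T.obj₃) := by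
  let φ : contractibleTriangle T.obj₁ ⟶ T :=
    { hom₁ := 𝟙 _
      hom₂ := T.mor₁
      hom₃ := 0
      comm₁ := (Category.id_comp _).trans (Category.id_comp _).symm
      comm₂ := comp_zero.trans (comp_distTriang_mor_zero₁₂ T hT).symm
      comm₃ := zero_comp.trans zero_comp.symm }
  have hφ : MQI n φ.hom₃ :=
    mqi_hom₃ _ _ (contractible_distinguished T.obj₁) hT φ n
      (show MQI (n + 1) (𝟙 T.obj₁) from MQI.of_isIso _ _) h
  have hz : IsZero ((DerivedCategory.homologyFunctor 𝒜 j).obj
      (contractibleTriangle T.obj₁).obj₃) :=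
    Functor.map_isZero _ (isZero_zero _)
  haveI := hφ.epi_of_le j hj
  exact IsZero.of_epi ((DerivedCategory.homologyFunctor 𝒜 j).map φ.hom₃) hz

end General

section LocPCUtil

variable {X : Scheme.{u}}

lemma locPC_iso_iff {m : ℤ} {K K' : DCoh.D X} (e : K ≅ K') (x : X) :
    LocPC m K x ↔ LocPC m K' x :=
  ⟨locPC_of_iso e, locPC_of_iso e.symm⟩

/-- A strictly perfect complex is pseudo-coherent. -/
lemma locPC_Q_of_isStrictlyPerfect {P : CochainComplex X.Modules ℤ}
    (hP : DCoh.IsStrictlyPerfect P) (m : ℤ) (x : X) : LocPC m (DerivedCategory.Q.obj P) x :=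
  ⟨⊤, trivial, _, ((restrictFunctor (⊤ : X.Opens).ι).mapDerivedCategoryFactors.app P).inv,
    isStrictlyPerfect_restrict _ hP, MQI.of_isIso _ _⟩

/-- Local pseudo-coherence may be tested after restriction to an open neighbourhood. -/
lemma locPC_restrict_iff (W : X.Opens) (K : DCoh.D X) (m : ℤ) (y : (W : Scheme.{u})) :
    LocPC m ((DCoh.restrictD W.ι).obj K) y ↔ LocPC m K (W.ι y) := by
  constructor
  · exact locPC_of_restrict W.ι
  · rintro ⟨V, hxV, E, α, hE, hα⟩
    have hle : V ⊓ W ≤ W := inf_le_right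
    obtain ⟨E', α', hE', hα'⟩ := locPC_shrink (inf_le_left : V ⊓ W ≤ V) hE α hα
    obtain ⟨c⟩ := restrictD_comp_obj (X.homOfLE hle) W.ι (V ⊓ W).ι (X.homOfLE_ι hle).symm K
    have hyW : W.ι y ∈ W := y.2
    let p : ((V ⊓ W : X.Opens) : Scheme.{u}) := ⟨W.ι y, hxV, hyW⟩
    have h := locPC_of_immersion (X.homOfLE hle) p hE' (α' ≫ c.hom)
      (hα'.comp (MQI.of_isIso _ _))
    have hpt : (X.homOfLE hle) p = y := by
      apply W.ι.isOpenEmbedding.injective
      rw [← Scheme.Hom.comp_apply, X.homOfLE_ι]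
      rfl
    rwa [hpt] at h

lemma locPC_Q_restrictCx_iff (W : X.Opens) (F : CochainComplex X.Modules ℤ) (m : ℤ)
    (y : (W : Scheme.{u})) :
    LocPC m (DerivedCategory.Q.obj ((DCoh.restrictCx W).obj F)) y ↔
      LocPC m (DerivedCategory.Q.obj F) (W.ι y) :=
  (locPC_iso_iff ((restrictFunctor W.ι).mapDerivedCategoryFactors.app F).symm y).trans
    (locPC_restrict_iff W _ m y)

open Pretriangulated in
lemma locPC_obj₂ (T : Triangle (DCoh.D X)) (hT : T ∈ distTriang _) (m : ℤ) (x : X)
    (h₁ : LocPC m T.obj₁ x) (h₃ : LocPC m T.obj₃ x) : LocPC m T.obj₂ x :=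
  locPC_obj₃ T.invRotate (inv_rot_of_distTriang _ hT) m x (locPC_shift_neg_one h₃) h₁

lemma locPC_of_isZero {K : DCoh.D X} (hK : IsZero K) (m : ℤ) (x : X) : LocPC m K x :=
  locPC_of_bounded (V := ⊤) trivial m
    (fun _ _ => Functor.map_isZero _ (Functor.map_isZero _ hK))

lemma locPC_Q_of_isZero_homology (F : CochainComplex X.Modules ℤ) (m : ℤ)
    (h : ∀ j : ℤ, m ≤ j → IsZero (F.homology j)) (x : X) :
    LocPC m (DerivedCategory.Q.obj F) x := by
  refine locPC_of_bounded (V := ⊤) trivial m (fun j hj => ?_)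
  have e1 : (DerivedCategory.homologyFunctor _ j).obj
      ((DCoh.restrictD (⊤ : X.Opens).ι).obj (DerivedCategory.Q.obj F)) ≅
      (restrictFunctor (⊤ : X.Opens).ι).obj (DCoh.HD (DerivedCategory.Q.obj F) j) :=
    (homologyCommIso (restrictFunctor (⊤ : X.Opens).ι) j).app _
  have e2 : DCoh.HD (DerivedCategory.Q.obj F) j ≅ F.homology j :=
    (DerivedCategory.homologyFunctorFactors _ j).app F
  exact IsZero.of_iso (Functor.map_isZero _ (IsZero.of_iso (h j hj) e2)) e1

lemma isStrictlyPerfect_single' {P : X.Modules} (hP : FlatMod.IsFinLocFree P) (n : ℤ) :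
    DCoh.IsStrictlyPerfect
      ((HomologicalComplex.single X.Modules (ComplexShape.up ℤ) n).obj P) := by
  refine ⟨⟨n, n, fun j hj => HomologicalComplex.isZero_single_obj_X _ _ _ _ (by omega)⟩,
    fun j => ?_⟩
  by_cases hj : j = n
  · subst hj
    exact H8.isFinLocFree_of_iso
      (HomologicalComplex.singleObjXSelf (ComplexShape.up ℤ) j P).symm hP
  · exact isFinLocFree_of_isZero (HomologicalComplex.isZero_single_obj_X _ _ _ _ hj)

lemma locPC_Q_single_of_inD {B : X.Modules}
    (hB : ∀ (m : ℤ) (x : X), LocPC m (DCoh.inD X B) x) (n m : ℤ) (x : X) :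
    LocPC m (DerivedCategory.Q.obj
      ((HomologicalComplex.single X.Modules (ComplexShape.up ℤ) n).obj B)) x := by
  have e1 : (DerivedCategory.singleFunctor X.Modules n).obj B ≅
      DerivedCategory.Q.obj ((HomologicalComplex.single X.Modules (ComplexShape.up ℤ) n).obj B) :=
    (DerivedCategory.singleFunctorIsoCompQ X.Modules n).app B
  have e2 : ((DerivedCategory.singleFunctor X.Modules 0).obj B)⟦(-n : ℤ)⟧ ≅
      (DerivedCategory.singleFunctor X.Modules n).obj B :=
    ((DerivedCategory.singleFunctors X.Modules).shiftIso (-n) n 0 (by omega)).app B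
  have h := locPC_shift (-n) (hB (m - n) x)
  rw [show m - n - -n = m by ring] at h
  exact locPC_of_iso (e2 ≪≫ e1) h

lemma exists_epi_freeMod_of_generatingSections {M : X.Modules} (G : M.GeneratingSections)
    (hG : G.IsFiniteType) : ∃ (k : ℕ) (π : FlatMod.freeMod X k ⟶ M), Epi π := by
  haveI : Finite G.I := hG.finite
  obtain ⟨k, ⟨e⟩⟩ := Finite.exists_equiv_fin G.I
  let iso : SheafOfModules.free.{u} (R := X.ringCatSheaf) G.I ≅ FlatMod.freeMod X k :=
    Sigma.whiskerEquiv (f := fun _ : G.I => SheafOfModules.unit X.ringCatSheaf)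
      (g := fun _ : Fin k => Coh.structureModule X) e (fun _ => Iso.refl _)
  haveI hi : IsIso iso.inv := ⟨⟨iso.hom, iso.inv_hom_id, iso.hom_inv_id⟩⟩
  have he : Epi iso.inv := @IsIso.epi_of_iso _ _ _ _ iso.inv hi
  exact ⟨k, iso.inv ≫ G.π, epi_comp' he G.epi⟩

end LocPCUtil

section Final

lemma final_opensMap {X Y : Scheme.{u}} (f : X ⟶ Y) : (Opens.map f.base).Final where
  out U := by
    let T : StructuredArrow U (Opens.map f.base) :=
      StructuredArrow.mk (Y := (⊤ : Opens Y)) (homOfLE le_top)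
    refine isConnected_of_isTerminal _ (x := T) (IsTerminal.ofUniqueHom
      (fun A => StructuredArrow.homMk (homOfLE (by exact le_top)) (Subsingleton.elim _ _))
      (fun A m => ?_))
    apply StructuredArrow.ext
    apply Subsingleton.elim

end Final

section Closed

variable {Z X : Scheme.{u}} (i : Z ⟶ X) [IsClosedImmersion i]

lemma isClosedEmbedding : Topology.IsClosedEmbedding i.base := Scheme.Hom.isClosedEmbedding i

instance preservesFiniteColimits_pushforward : PreservesFiniteColimits (pushforward i) := by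
  haveI := H8.ClosedPush.preservesColimitsOfSize_pushforward i (isClosedEmbedding i)
  exact PreservesColimitsOfSize.preservesFiniteColimits _

instance preservesFiniteLimits_pushforward : PreservesFiniteLimits (pushforward i) :=
  inferInstance

lemma exists_opens_preimage (V : Z.Opens) : ∃ W : X.Opens, i ⁻¹ᵁ W = V := by
  obtain ⟨t, ht, hVt⟩ := (isClosedEmbedding i).isInducing.isOpen_iff.1 V.isOpen
  exact ⟨⟨t, ht⟩, Opens.ext hVt⟩

/-- `(i_* F)|_W ≅ (i|_W)_* (F|_{i⁻¹W})` for complexes. -/
noncomputable def pushRestrictCxIso (W : X.Opens) (F : CochainComplex Z.Modules ℤ) :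
    (DCoh.restrictCx W).obj ((DerSch.pushCx i).obj F) ≅
      (DerSch.pushCx (i ∣_ W)).obj ((DCoh.restrictCx (i ⁻¹ᵁ W)).obj F) :=
  HomologicalComplex.Hom.isoOfComponents
    (fun j => (H31.PushRestrict.pushRestrictIso i W).app (F.X j))
    (fun j k _ => ((H31.PushRestrict.pushRestrictIso i W).hom.naturality (F.d j k)).symm)

/-- `H^j(i_* F) ≅ i_* H^j(F)`. -/
noncomputable def homologyPushCxIso (F : CochainComplex Z.Modules ℤ) (j : ℤ) :
    ((DerSch.pushCx i).obj F).homology j ≅ (pushforward i).obj (F.homology j) :=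
  (homologyMapHCIso (pushforward i) j).app F

/-- `H^j(i_* F)|_W ≅ (i|_W)_* (H^j(F)|_{i⁻¹W})`. -/
noncomputable def restrictHDPushIso (W : X.Opens) (F : CochainComplex Z.Modules ℤ) (j : ℤ) :
    (restrictFunctor W.ι).obj (DCoh.HD (DerivedCategory.Q.obj ((DerSch.pushCx i).obj F)) j) ≅
      (pushforward (i ∣_ W)).obj ((restrictFunctor (i ⁻¹ᵁ W).ι).obj (F.homology j)) :=
  (restrictFunctor W.ι).mapIso ((DerivedCategory.homologyFunctorFactors _ j).app _ ≪≫
    homologyPushCxIso i F j) ≪≫ (H31.PushRestrict.pushRestrictIso i W).app _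

/-- Direct image along a closed immersion reflects epimorphisms. -/
theorem epi_of_epi_push {M N : Z.Modules} (φ : M ⟶ N) (h : Epi ((pushforward i).map φ)) :
    Epi φ := by
  have hz : IsZero (cokernel ((pushforward i).map φ)) := isZero_cokernel_of_epi _
  have e : (pushforward i).obj (cokernel φ) ≅ cokernel ((pushforward i).map φ) :=
    PreservesCokernel.iso (pushforward i) φ
  have h0 : IsZero (cokernel φ) :=
    isZero_of_isZero_pushforward i (isClosedEmbedding i) _ (IsZero.of_iso hz e)
  exact Preadditive.epi_of_isZero_cokernel φ h0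

set_option backward.isDefEq.respectTransparency.types false in
/-- Generators of `i_* M` give generators of `M`. -/
theorem exists_epi_free_of_push (M : Z.Modules) {I : Type u}
    (π : SheafOfModules.free.{u} (R := X.ringCatSheaf) I ⟶ (pushforward i).obj M) (hπ : Epi π) :
    ∃ ψ : SheafOfModules.free.{u} (R := Z.ringCatSheaf) I ⟶ M, Epi ψ := by
  haveI := final_opensMap i
  let adj := Scheme.Modules.pullbackPushforwardAdjunction i
  let φ : (Scheme.Modules.pullback i).obj (SheafOfModules.free I) ⟶ M :=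
    (adj.homEquiv _ _).symm π
  have h1 : adj.unit.app _ ≫ (pushforward i).map φ = π :=
    (adj.homEquiv_unit (f := φ)).symm.trans (Equiv.apply_symm_apply _ _)
  have h2 : Epi ((pushforward i).map φ) := by
    haveI : Epi (adj.unit.app _ ≫ (pushforward i).map φ) := by
      rw [h1]
      exact hπ
    exact epi_of_epi (adj.unit.app _) _
  have h3 : Epi φ := epi_of_epi_push i φ h2
  let e : (Scheme.Modules.pullback i).obj (SheafOfModules.free I) ≅ SheafOfModules.free I :=
    SheafOfModules.pullbackObjFreeIso i.toRingCatSheafHom I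
  haveI hi : IsIso e.inv := ⟨⟨e.hom, e.inv_hom_id, e.hom_inv_id⟩⟩
  have he : Epi e.inv := @IsIso.epi_of_iso _ _ _ _ e.inv hi
  exact ⟨e.inv ≫ φ, epi_comp' he h3⟩

/-- Finite type descends along closed immersions (local form). -/
theorem locFG_of_locFG_push (M : Z.Modules) (z : Z)
    (h : LocFG ((pushforward i).obj M) (i z)) : LocFG M z := by
  obtain ⟨W, hzW, G, hG⟩ := h.exists_opens
  let e : (restrictFunctor W.ι).obj ((pushforward i).obj M) ≅
      (pushforward (i ∣_ W)).obj ((restrictFunctor (i ⁻¹ᵁ W).ι).obj M) :=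
    (H31.PushRestrict.pushRestrictIso i W).app M
  haveI : Finite G.I := hG.finite
  have he : Epi e.hom := @IsIso.epi_of_iso _ _ _ _ e.hom ⟨⟨e.inv, e.hom_inv_id, e.inv_hom_id⟩⟩
  obtain ⟨ψ, hψ⟩ := exists_epi_free_of_push (i ∣_ W) ((restrictFunctor (i ⁻¹ᵁ W).ι).obj M)
    (G.π ≫ e.hom) (epi_comp' G.epi he)
  refine ⟨(i ⁻¹ᵁ W : Z.Opens), (i ⁻¹ᵁ W).ι, inferInstance, ⟨z, hzW⟩, rfl,
    { I := G.I
      s := SheafOfModules.freeHomEquiv _ ψ
      epi := by
        rw [Equiv.symm_apply_apply]
        exact hψ }, ⟨‹Finite G.I›⟩⟩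

/-- `i_* O_Z^k` is pseudo-coherent when `i_* O_Z` is. -/
theorem locPC_push_freeMod
    (hO : ∀ (m : ℤ) (x : X),
      LocPC m (DCoh.inD X ((pushforward i).obj (Coh.structureModule Z))) x) :
    ∀ (k : ℕ) (m : ℤ) (x : X),
      LocPC m (DCoh.inD X ((pushforward i).obj (FlatMod.freeMod Z k))) x := by
  intro k
  induction k with
  | zero =>
    intro m x
    exact locPC_of_isZero
      (Functor.map_isZero _ (Functor.map_isZero _ (isZero_freeMod_zero Z))) m x
  | succ k ih =>
    intro m x
    have hS : (ShortComplex.mk (biprod.inl : FlatMod.freeMod Z k ⟶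
        FlatMod.freeMod Z k ⊞ FlatMod.freeMod Z 1) biprod.snd (by simp)).ShortExact :=
      (ShortComplex.Splitting.ofHasBinaryBiproduct _ _).shortExact
    have hS' := hS.map_of_exact (pushforward i)
    have h₁ : LocPC m hS'.singleTriangle.obj₁ x := ih m x
    have e₃ : FlatMod.freeMod Z 1 ≅ Coh.structureModule Z :=
      coproductUniqueIso (fun _ : Fin 1 => Coh.structureModule Z)
    have h₃ : LocPC m hS'.singleTriangle.obj₃ x :=
      locPC_of_iso ((DerivedCategory.singleFunctor _ 0).mapIso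
        ((pushforward i).mapIso e₃.symm)) (hO m x)
    have h₂ := locPC_obj₂ hS'.singleTriangle hS'.singleTriangle_distinguished m x h₁ h₃
    exact locPC_of_iso ((DerivedCategory.singleFunctor _ 0).mapIso
      ((pushforward i).mapIso (freeBiprodIso Z k 1))) h₂

/-- The hypothesis on `i_* O_Z` restricts to opens. -/
theorem hO_restrict
    (hO : ∀ (m : ℤ) (x : X),
      LocPC m (DCoh.inD X ((pushforward i).obj (Coh.structureModule Z))) x) (W : X.Opens) :
    ∀ (m : ℤ) (y : (W : Scheme.{u})),
      LocPC m (DCoh.inD (W : Scheme.{u}) ((pushforward (i ∣_ W)).obj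
        (Coh.structureModule ((i ⁻¹ᵁ W : Z.Opens) : Scheme.{u})))) y := by
  intro m y
  have h1 : LocPC m ((DCoh.restrictD W.ι).obj
      (DCoh.inD X ((pushforward i).obj (Coh.structureModule Z)))) y :=
    (locPC_restrict_iff W _ m y).2 (hO m (W.ι y))
  let e1 := ((restrictFunctor W.ι).mapDerivedCategorySingleFunctor 0).app
    ((pushforward i).obj (Coh.structureModule Z))
  let e2 : (restrictFunctor W.ι).obj ((pushforward i).obj (Coh.structureModule Z)) ≅
      (pushforward (i ∣_ W)).obj (Coh.structureModule ((i ⁻¹ᵁ W : Z.Opens) : Scheme.{u})) :=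
    (H31.PushRestrict.pushRestrictIso i W).app _ ≪≫
      (pushforward (i ∣_ W)).mapIso (restrictUnitIso (i ⁻¹ᵁ W).ι)
  exact locPC_of_iso (e1 ≪≫ (DerivedCategory.singleFunctor _ 0).mapIso e2) h1

lemma locPC_Q_pushCx_restrict_iff (W : X.Opens) (F : CochainComplex Z.Modules ℤ) (m : ℤ)
    (z : ((i ⁻¹ᵁ W : Z.Opens) : Scheme.{u})) :
    LocPC m (DerivedCategory.Q.obj ((DerSch.pushCx (i ∣_ W)).obj
        ((DCoh.restrictCx (i ⁻¹ᵁ W)).obj F))) ((i ∣_ W) z) ↔
      LocPC m (DerivedCategory.Q.obj ((DerSch.pushCx i).obj F)) (i ((i ⁻¹ᵁ W).ι z)) := by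
  have hpt : W.ι ((i ∣_ W) z) = i ((i ⁻¹ᵁ W).ι z) := by
    rw [← Scheme.Hom.comp_apply, morphismRestrict_ι, Scheme.Hom.comp_apply]
  rw [← hpt]
  exact (locPC_iso_iff (DerivedCategory.Q.mapIso (pushRestrictCxIso i W F)).symm _).trans
    (locPC_Q_restrictCx_iff W ((DerSch.pushCx i).obj F) m ((i ∣_ W) z))

/-- Away from the image of `i`, the direct image is zero. -/
theorem locPC_outside (F : CochainComplex Z.Modules ℤ) (m : ℤ) (x : X)
    (hx : x ∉ Set.range i.base) :
    LocPC m (DerivedCategory.Q.obj ((DerSch.pushCx i).obj F)) x := by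
  let W : X.Opens := ⟨(Set.range i.base)ᶜ, (isClosedEmbedding i).isClosed_range.isOpen_compl⟩
  have hempty : ∀ M : ((i ⁻¹ᵁ W : Z.Opens) : Scheme.{u}).Modules, IsZero M := fun M =>
    isZero_of_locally M
      (fun y => ((y.2 : i.base y.1 ∉ Set.range i.base) ⟨y.1, rfl⟩).elim)
  refine locPC_of_bounded (V := W) hx m (fun j _ => ?_)
  have e1 := (homologyCommIso (restrictFunctor W.ι) j).app
    (DerivedCategory.Q.obj ((DerSch.pushCx i).obj F))
  exact IsZero.of_iso (Functor.map_isZero _ (hempty _)) (e1 ≪≫ restrictHDPushIso i W F j)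

end Closed

section Lift

variable {Z : Scheme.{u}}

/-- Generators of `H^n(F)` lift locally to a chain map `O^k[-n] ⟶ F` which is an epimorphism on
`H^n`. -/
theorem exists_single_map (F : CochainComplex Z.Modules ℤ) (n : ℤ) (k : ℕ)
    (π : FlatMod.freeMod Z k ⟶ F.homology n) (hπ : Epi π) (z : Z) :
    ∃ V : Z.Opens, z ∈ V ∧
      ∃ f : (HomologicalComplex.single (V : Scheme.{u}).Modules (ComplexShape.up ℤ) n).obj
          (FlatMod.freeMod (V : Scheme.{u}) k) ⟶ (DCoh.restrictCx V).obj F,
        Epi (HomologicalComplex.homologyMap f n) := by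
  obtain ⟨V, ψ, hzV, hψ⟩ :=
    Groth.Agent.S0934.result (F.homologyπ n) π (isFinLocFree_freeMod Z k) z
  refine ⟨V, hzV, ?_⟩
  obtain ⟨c, e, -, he⟩ := exists_cycles_homology_iso (restrictFunctor V.ι) F n
  have he' : c.inv ≫ ((DCoh.restrictCx V).obj F).homologyπ n =
      (restrictFunctor V.ι).map (F.homologyπ n) ≫ e.inv := by
    rw [Iso.inv_comp_eq, ← Category.assoc, ← he, Category.assoc, Iso.hom_inv_id, Category.comp_id]
  have hσ : Epi (((H8.restrictFreeIso V.ι k).inv ≫ ψ ≫ c.inv) ≫
      ((DCoh.restrictCx V).obj F).homologyπ n) := by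
    have h1 : ((H8.restrictFreeIso V.ι k).inv ≫ ψ ≫ c.inv) ≫
        ((DCoh.restrictCx V).obj F).homologyπ n =
        (H8.restrictFreeIso V.ι k).inv ≫ (restrictFunctor V.ι).map π ≫ e.inv := by
      rw [Category.assoc, Category.assoc, he', ← Category.assoc ψ, hψ]
    rw [h1]
    have h2 : Epi ((restrictFunctor V.ι).map π) := inferInstance
    have h3 : Epi e.inv := inferInstance
    have h4 : Epi (H8.restrictFreeIso V.ι k).inv := inferInstance
    exact epi_comp' h4 (epi_comp' h2 h3)
  exact ⟨_, epi_homologyMap_mkHomFromSingle ((DCoh.restrictCx V).obj F) n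
    ((H8.restrictFreeIso V.ι k).inv ≫ ψ ≫ c.inv) hσ
    (fun k' _ => by rw [Category.assoc, HomologicalComplex.iCycles_d, comp_zero])⟩

end Lift

section Induction

variable {Z X : Scheme.{u}} (i : Z ⟶ X) [IsClosedImmersion i]

open Pretriangulated in
/-- The induction step: the claim for the cone of `O^k[-n] ⟶ F` implies the claim for `F`. -/
theorem claim_of_cone
    (hO : ∀ (m : ℤ) (x : X),
      LocPC m (DCoh.inD X ((pushforward i).obj (Coh.structureModule Z))) x)
    (F : CochainComplex Z.Modules ℤ) (n : ℤ) (k : ℕ)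
    (f : (HomologicalComplex.single Z.Modules (ComplexShape.up ℤ) n).obj (FlatMod.freeMod Z k) ⟶ F)
    (m : ℤ) (z : Z)
    (IH : LocPC m (DerivedCategory.Q.obj (CochainComplex.mappingCone f)) z ↔
      LocPC m (DerivedCategory.Q.obj
        ((DerSch.pushCx i).obj (CochainComplex.mappingCone f))) (i z)) :
    LocPC m (DerivedCategory.Q.obj F) z ↔
      LocPC m (DerivedCategory.Q.obj ((DerSch.pushCx i).obj F)) (i z) := by
  have hT := DerivedCategory.mappingCone_triangle_distinguished f
  have h₁ : ∀ m' : ℤ, LocPC m'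
      (DerivedCategory.Q.mapTriangle.obj (CochainComplex.mappingCone.triangle f)).obj₁ z :=
    fun m' => locPC_Q_of_isStrictlyPerfect
      (isStrictlyPerfect_single' (isFinLocFree_freeMod Z k) n) m' z
  have ha : LocPC m (DerivedCategory.Q.obj F) z ↔
      LocPC m (DerivedCategory.Q.obj (CochainComplex.mappingCone f)) z :=
    ⟨fun h => locPC_obj₃ _ hT m z (h₁ (m + 1)) h, fun h => locPC_obj₂ _ hT m z (h₁ m) h⟩
  have hT' := (pushforward i).mapDerivedCategory.map_distinguished _ hT
  have e₁ : (pushforward i).mapDerivedCategory.obj (DerivedCategory.Q.obj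
        ((HomologicalComplex.single Z.Modules (ComplexShape.up ℤ) n).obj (FlatMod.freeMod Z k))) ≅
      DerivedCategory.Q.obj ((HomologicalComplex.single X.Modules (ComplexShape.up ℤ) n).obj
        ((pushforward i).obj (FlatMod.freeMod Z k))) :=
    (pushforward i).mapDerivedCategoryFactors.app _ ≪≫ DerivedCategory.Q.mapIso
      ((HomologicalComplex.singleMapHomologicalComplex (pushforward i)
        (ComplexShape.up ℤ) n).app _)
  have h₁' : ∀ m' : ℤ, LocPC m' ((pushforward i).mapDerivedCategory.obj (DerivedCategory.Q.obj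
      ((HomologicalComplex.single Z.Modules (ComplexShape.up ℤ) n).obj
        (FlatMod.freeMod Z k)))) (i z) :=
    fun m' => locPC_of_iso e₁.symm
      (locPC_Q_single_of_inD (fun m'' x => locPC_push_freeMod i hO k m'' x) n m' (i z))
  have hb : LocPC m ((pushforward i).mapDerivedCategory.obj (DerivedCategory.Q.obj F)) (i z) ↔
      LocPC m ((pushforward i).mapDerivedCategory.obj
        (DerivedCategory.Q.obj (CochainComplex.mappingCone f))) (i z) :=
    ⟨fun h => locPC_obj₃ _ hT' m (i z) (h₁' (m + 1)) h,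
      fun h => locPC_obj₂ _ hT' m (i z) (h₁' m) h⟩
  have e₂ : (pushforward i).mapDerivedCategory.obj (DerivedCategory.Q.obj F) ≅
      DerivedCategory.Q.obj ((DerSch.pushCx i).obj F) :=
    (pushforward i).mapDerivedCategoryFactors.app F
  have e₃ : (pushforward i).mapDerivedCategory.obj
        (DerivedCategory.Q.obj (CochainComplex.mappingCone f)) ≅
      DerivedCategory.Q.obj ((DerSch.pushCx i).obj (CochainComplex.mappingCone f)) :=
    (pushforward i).mapDerivedCategoryFactors.app _
  exact ha.trans (IH.trans ((locPC_iso_iff e₃ _).symm.trans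
    (hb.symm.trans (locPC_iso_iff e₂ _))))

end Induction

section Main

open Pretriangulated in
/-- The homology of the cone of a chain map `A[-n] ⟶ F` which is an epimorphism on `H^n`, when
`F` has no cohomology above degree `n`, vanishes in degrees `≥ n`. -/
theorem isZero_homology_cone {Y : Scheme.{u}} (F : CochainComplex Y.Modules ℤ) (n : ℤ)
    {A : Y.Modules}
    (f : (HomologicalComplex.single Y.Modules (ComplexShape.up ℤ) n).obj A ⟶ F)
    (hf : Epi (HomologicalComplex.homologyMap f n))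
    (hF : ∀ j : ℤ, n < j → IsZero (F.homology j)) (j : ℤ) (hj : n ≤ j) :
    IsZero ((CochainComplex.mappingCone f).homology j) := by
  have hT := DerivedCategory.mappingCone_triangle_distinguished f
  have hm : MQI n (DerivedCategory.Q.map f) := by
    refine ⟨fun l hl => ?_, ?_⟩
    · rw [isIso_homologyFunctor_map_Q_iff]
      have h1 : IsZero (((HomologicalComplex.single Y.Modules (ComplexShape.up ℤ) n).obj
          A).homology l) :=
        HomologicalComplex.isZero_single_obj_homology (ComplexShape.up ℤ) n A l (by omega)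
      exact ⟨⟨0, h1.eq_of_src _ _, (hF l hl).eq_of_src _ _⟩⟩
    · rw [epi_homologyFunctor_map_Q_iff]
      exact hf
  have hz := isZero_homology_obj₃_of_mqi _ hT n hm j hj
  exact IsZero.of_iso hz ((DerivedCategory.homologyFunctorFactors _ j).app _).symm

/-- The main induction: `k` bounds the number of possibly nonzero cohomology sheaves in degrees
`≥ m`. -/
theorem claim : ∀ (k : ℕ) {Z X : Scheme.{u}} (i : Z ⟶ X) [IsClosedImmersion i]
    (_ : ∀ (m : ℤ) (x : X),
      LocPC m (DCoh.inD X ((pushforward i).obj (Coh.structureModule Z))) x)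
    (F : CochainComplex Z.Modules ℤ) (m : ℤ)
    (_ : ∀ j : ℤ, m + k ≤ j → IsZero (F.homology j)) (z : Z),
    LocPC m (DerivedCategory.Q.obj F) z ↔
      LocPC m (DerivedCategory.Q.obj ((DerSch.pushCx i).obj F)) (i z) := by
  intro k
  induction k with
  | zero =>
    intro Z X i _ hO F m hF z
    have h1 : LocPC m (DerivedCategory.Q.obj F) z :=
      locPC_Q_of_isZero_homology F m (fun j hj => hF j (by simpa using hj)) z
    have h2 : LocPC m (DerivedCategory.Q.obj ((DerSch.pushCx i).obj F)) (i z) :=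
      locPC_Q_of_isZero_homology _ m (fun j hj =>
        IsZero.of_iso (Functor.map_isZero _ (hF j (by simpa using hj)))
          (homologyPushCxIso i F j)) (i z)
    exact ⟨fun _ => h2, fun _ => h1⟩
  | succ k ih =>
    intro Z X i _ hO F m hF z
    have hFn : ∀ j : ℤ, m + k < j → IsZero (F.homology j) := fun j hj =>
      hF j (by push_cast; omega)
    have hfgL : LocPC m (DerivedCategory.Q.obj F) z → LocFG (F.homology (m + k)) z := by
      intro h
      have h' : LocPC (m + k) (DerivedCategory.Q.obj F) z := locPC_mono (by omega) h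
      have h2 := (locFPres_HD_of_locPC h').1 (fun j hj =>
        IsZero.of_iso (hFn j hj) ((DerivedCategory.homologyFunctorFactors _ j).app F))
      exact h2.of_iso ((DerivedCategory.homologyFunctorFactors _ (m + k)).app F)
    have hfgR : LocPC m (DerivedCategory.Q.obj ((DerSch.pushCx i).obj F)) (i z) →
        LocFG (F.homology (m + k)) z := by
      intro h
      have h' : LocPC (m + k) (DerivedCategory.Q.obj ((DerSch.pushCx i).obj F)) (i z) :=
        locPC_mono (by omega) h
      have h2 := (locFPres_HD_of_locPC h').1 (fun j hj =>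
        IsZero.of_iso (Functor.map_isZero (pushforward i) (hFn j hj))
          ((DerivedCategory.homologyFunctorFactors _ j).app _ ≪≫ homologyPushCxIso i F j))
      exact locFG_of_locFG_push i _ z
        (h2.of_iso ((DerivedCategory.homologyFunctorFactors _ (m + k)).app _ ≪≫
          homologyPushCxIso i F (m + k)))
    have key : LocFG (F.homology (m + k)) z →
        (LocPC m (DerivedCategory.Q.obj F) z ↔
          LocPC m (DerivedCategory.Q.obj ((DerSch.pushCx i).obj F)) (i z)) := by
      intro hfg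
      -- Step 1: restrict to an open where `H^n(F)` has global generators.
      obtain ⟨V₁, hzV₁, G, hG⟩ := hfg.exists_opens
      obtain ⟨W₁, rfl⟩ := exists_opens_preimage i V₁
      obtain ⟨z₁, rfl⟩ : ∃ z₁ : ((i ⁻¹ᵁ W₁ : Z.Opens) : Scheme.{u}), (i ⁻¹ᵁ W₁).ι z₁ = z :=
        ⟨⟨z, hzV₁⟩, rfl⟩
      refine ((locPC_Q_restrictCx_iff _ F m z₁).symm.trans ?_).trans
        (locPC_Q_pushCx_restrict_iff i W₁ F m z₁)
      have hO₁ := hO_restrict i hO W₁
      have eH : ∀ j : ℤ, ((DCoh.restrictCx (i ⁻¹ᵁ W₁)).obj F).homology j ≅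
          (restrictFunctor (i ⁻¹ᵁ W₁).ι).obj (F.homology j) := fun j =>
        (homologyMapHCIso (restrictFunctor (i ⁻¹ᵁ W₁).ι) j).app F
      have hF₁ : ∀ j : ℤ, m + k < j →
          IsZero (((DCoh.restrictCx (i ⁻¹ᵁ W₁)).obj F).homology j) := fun j hj =>
        IsZero.of_iso (Functor.map_isZero _ (hFn j hj)) (eH j)
      obtain ⟨k₁, π₀, hπ₀⟩ := exists_epi_freeMod_of_generatingSections G hG
      have hπ₁ : Epi (π₀ ≫ (eH (m + k)).inv) := epi_comp' hπ₀ inferInstance
      -- Step 2: lift the generators to a chain map on a smaller open.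
      obtain ⟨V₂, hz₁V₂, f, hf⟩ := exists_single_map _ (m + k) k₁ (π₀ ≫ (eH (m + k)).inv) hπ₁ z₁
      obtain ⟨W₂, rfl⟩ := exists_opens_preimage (i ∣_ W₁) V₂
      obtain ⟨z₂, rfl⟩ : ∃ z₂ : (((i ∣_ W₁) ⁻¹ᵁ W₂ : ((i ⁻¹ᵁ W₁ : Z.Opens) : Scheme.{u}).Opens) :
          Scheme.{u}), ((i ∣_ W₁) ⁻¹ᵁ W₂).ι z₂ = z₁ := ⟨⟨z₁, hz₁V₂⟩, rfl⟩
      refine ((locPC_Q_restrictCx_iff _ _ m z₂).symm.trans ?_).trans
        (locPC_Q_pushCx_restrict_iff (i ∣_ W₁) W₂ _ m z₂)
      have hO₂ := hO_restrict (i ∣_ W₁) hO₁ W₂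
      have hF₂ : ∀ j : ℤ, m + k < j →
          IsZero (((DCoh.restrictCx ((i ∣_ W₁) ⁻¹ᵁ W₂)).obj
            ((DCoh.restrictCx (i ⁻¹ᵁ W₁)).obj F)).homology j) := fun j hj =>
        IsZero.of_iso (Functor.map_isZero (restrictFunctor ((i ∣_ W₁) ⁻¹ᵁ W₂).ι) (hF₁ j hj))
          ((homologyMapHCIso (restrictFunctor ((i ∣_ W₁) ⁻¹ᵁ W₂).ι) j).app
            ((DCoh.restrictCx (i ⁻¹ᵁ W₁)).obj F))
      -- Step 3: the cone has one cohomology sheaf less.
      refine claim_of_cone ((i ∣_ W₁) ∣_ W₂) hO₂ _ (m + k) k₁ f m z₂ ?_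
      exact ih ((i ∣_ W₁) ∣_ W₂) hO₂ (CochainComplex.mappingCone f) m
        (fun j hj => isZero_homology_cone _ (m + k) f hf hF₂ j hj) z₂
    exact ⟨fun h => (key (hfgL h)).1 h, fun h => (key (hfgR h)).2 h⟩

variable {Z X : Scheme.{u}} (i : Z ⟶ X) [IsClosedImmersion i]

/-- The claim without any boundedness hypothesis. -/
theorem claim'
    (hO : ∀ (m : ℤ) (x : X),
      LocPC m (DCoh.inD X ((pushforward i).obj (Coh.structureModule Z))) x)
    (F : CochainComplex Z.Modules ℤ) (m : ℤ) (z : Z) :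
    LocPC m (DerivedCategory.Q.obj F) z ↔
      LocPC m (DerivedCategory.Q.obj ((DerSch.pushCx i).obj F)) (i z) := by
  have key : ∀ (W : X.Opens) (z₁ : ((i ⁻¹ᵁ W : Z.Opens) : Scheme.{u})) (b : ℤ)
      (_ : ∀ j : ℤ, b < j → IsZero ((restrictFunctor (i ⁻¹ᵁ W).ι).obj (F.homology j))),
      LocPC m (DerivedCategory.Q.obj F) ((i ⁻¹ᵁ W).ι z₁) ↔
        LocPC m (DerivedCategory.Q.obj ((DerSch.pushCx i).obj F)) (i ((i ⁻¹ᵁ W).ι z₁)) := by
    intro W z₁ b hb
    refine ((locPC_Q_restrictCx_iff _ F m z₁).symm.trans ?_).trans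
      (locPC_Q_pushCx_restrict_iff i W F m z₁)
    refine claim (b + 1 - m).toNat (i ∣_ W) (hO_restrict i hO W) _ m (fun j hj => ?_) z₁
    have hj' : b < j := by
      have := Int.self_le_toNat (b + 1 - m)
      omega
    exact IsZero.of_iso (hb j hj') ((homologyMapHCIso (restrictFunctor (i ⁻¹ᵁ W).ι) j).app F)
  constructor
  · intro h
    obtain ⟨V, hzV, P, π, ⟨⟨a, b, hab⟩, -⟩, hiso, -⟩ := exists_homology_map_of_locPC h
    obtain ⟨W, rfl⟩ := exists_opens_preimage i V
    obtain ⟨z₁, rfl⟩ : ∃ z₁ : ((i ⁻¹ᵁ W : Z.Opens) : Scheme.{u}), (i ⁻¹ᵁ W).ι z₁ = z :=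
      ⟨⟨z, hzV⟩, rfl⟩
    refine (key W z₁ (max m b) (fun j hj => ?_)).1 h
    haveI := hiso j (lt_of_le_of_lt (le_max_left _ _) hj)
    have hz : IsZero (P.homology j) :=
      (HomologicalComplex.exactAt_iff_isZero_homology _ _).1
        (HomologicalComplex.ExactAt.of_isZero
          (hab j (Or.inr (lt_of_le_of_lt (le_max_right _ _) hj))))
    have e2 : DCoh.HD (DerivedCategory.Q.obj F) j ≅ F.homology j :=
      (DerivedCategory.homologyFunctorFactors _ j).app F
    exact IsZero.of_iso hz ((restrictFunctor _).mapIso e2.symm ≪≫ (asIso (π j)).symm)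
  · intro h
    obtain ⟨W, hzW, P, π, ⟨⟨a, b, hab⟩, -⟩, hiso, -⟩ := exists_homology_map_of_locPC h
    obtain ⟨z₁, rfl⟩ : ∃ z₁ : ((i ⁻¹ᵁ W : Z.Opens) : Scheme.{u}), (i ⁻¹ᵁ W).ι z₁ = z :=
      ⟨⟨z, hzW⟩, rfl⟩
    refine (key W z₁ (max m b) (fun j hj => ?_)).2 h
    haveI := hiso j (lt_of_le_of_lt (le_max_left _ _) hj)
    have hz : IsZero (P.homology j) :=
      (HomologicalComplex.exactAt_iff_isZero_homology _ _).1
        (HomologicalComplex.ExactAt.of_isZero
          (hab j (Or.inr (lt_of_le_of_lt (le_max_right _ _) hj))))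
    have h0 : IsZero ((restrictFunctor W.ι).obj
        (DCoh.HD (DerivedCategory.Q.obj ((DerSch.pushCx i).obj F)) j)) :=
      IsZero.of_iso hz (asIso (π j)).symm
    exact isZero_of_isZero_pushforward (i ∣_ W) (isClosedEmbedding _) _
      (IsZero.of_iso h0 (restrictHDPushIso i W F j).symm)

/-- S1102: for a closed immersion `i` with `i_* O_Z` pseudo-coherent, `E` is `m`-pseudo-coherent
iff `i_* E` is. -/
theorem isPC_pushforward_iff [(pushforward i).Additive] [PreservesFiniteLimits (pushforward i)]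
    [PreservesFiniteColimits (pushforward i)]
    (hO : ∀ m : ℤ, DCoh.IsPseudoCoherentD m
      (DCoh.inD X ((pushforward i).obj (Coh.structureModule Z))))
    (E : DCoh.D Z) (m : ℤ) :
    DCoh.IsPseudoCoherentD m E ↔
      DCoh.IsPseudoCoherentD m ((pushforward i).mapDerivedCategory.obj E) := by
  have hO' : ∀ (m : ℤ) (x : X),
      LocPC m (DCoh.inD X ((pushforward i).obj (Coh.structureModule Z))) x :=
    fun m => (isPC_iff m _).1 (hO m)
  have e : DerivedCategory.Q.obj (DerivedCategory.Q.objPreimage E) ≅ E :=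
    DerivedCategory.Q.objObjPreimageIso E
  have e' : (pushforward i).mapDerivedCategory.obj E ≅
      DerivedCategory.Q.obj ((DerSch.pushCx i).obj (DerivedCategory.Q.objPreimage E)) :=
    (pushforward i).mapDerivedCategory.mapIso e.symm ≪≫
      (pushforward i).mapDerivedCategoryFactors.app _
  rw [isPC_iff, isPC_iff]
  constructor
  · intro h x
    refine locPC_of_iso e'.symm ?_
    by_cases hx : x ∈ Set.range i.base
    · obtain ⟨z, rfl⟩ := hx
      exact (claim' i hO' _ m z).1 (locPC_of_iso e.symm (h z))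
    · exact locPC_outside i _ m x hx
  · intro h z
    exact locPC_of_iso e ((claim' i hO' _ m z).2 (locPC_of_iso e' (h (i z))))

end Main

end Groth.Agent.H90.CPC
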