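import Groth.Agent.H90.ChartBase

/-!
# Relative pseudo-coherence: consequences of independence of charts (helper90)

* `exists_isChart`: charts exist on affine pairs for morphisms locally of finite type.
* `chartPC_of_good`: once a pair of affine opens is good, every chart passes the test.
* `isPseudoCoherentRel_of_forall_good`: the cover of all affine pairs.
* `rel_of_two`: a chartwise implication gives an implication of relative pseudo-coherence.
* `chartPC_iff_chartD`, `chartPC_triangle`, `isPseudoCoherentRel_triangle` (= S6204).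
* `pcHom_of_chart`, `test_iff_isPC_restrict`, `isPC_iff_isPseudoCoherentRel` (= S6207).
* `good_comp_iff`, `isPseudoCoherentRel_comp_iff` (= S12088).
-/

set_option autoImplicit false
set_option linter.style.haveILetI false
set_option maxHeartbeats 400000
universe u
open CategoryTheory CategoryTheory.Limits AlgebraicGeometry TopologicalSpace Opposite
open AlgebraicGeometry.Scheme.Modules

attribute [local instance] HasDerivedCategory.standard

namespace Groth.Agent.H90.Chart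

open Groth.Agent.H56
open Groth.Agent.H90.SPerf Groth.Agent.H90.LR Groth.Agent.H90.QH Groth.Agent.H28.PCohD
open Groth.Agent.H90.CPC Groth.Agent.H90.TPC Groth.Agent.H90.TPerf Groth.Agent.H90.CPerf

section Basic

variable {X S : Scheme.{u}} {f : X ⟶ S} {U : X.Opens} {V : S.Opens}

/-- A chart exists on every pair of affine opens for a morphism locally of finite type. -/
theorem exists_isChart (hf : LocallyOfFiniteType f) (hU : IsAffineOpen U) (hV : IsAffineOpen V)
    (h : U ≤ f ⁻¹ᵁ V) :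
    ∃ (n : ℕ) (φ : MvPolynomial (Fin n) Γ(S, V) →+* Γ(X, U)), DerSch.IsChart f U V h φ := by
  have hft : (f.appLE V U h).hom.FiniteType :=
    HasRingHomProperty.appLE (P := @LocallyOfFiniteType) f hf ⟨V, hV⟩ ⟨U, hU⟩ h
  letI : Algebra Γ(S, V) Γ(X, U) := (f.appLE V U h).hom.toAlgebra
  have hft' : Algebra.FiniteType Γ(S, V) Γ(X, U) := hft
  obtain ⟨n, α, hα⟩ := Algebra.FiniteType.iff_quotient_mvPolynomial''.1 hft'
  exact ⟨n, α.toRingHom, hα, RingHom.ext (fun r => α.commutes r)⟩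

/-- Once a pair is good, every chart passes the test. -/
theorem chartPC_of_good {h : U ≤ f ⁻¹ᵁ V} {m : ℤ} {E : DCoh.D X}
    (H : Good f m E U V h) {n : ℕ} (φ : MvPolynomial (Fin n) Γ(S, V) →+* Γ(X, U))
    (hφ : DerSch.IsChart f U V h φ) : DerSch.ChartPC m E U V φ := by
  obtain ⟨k, ψ, hψ, hPC⟩ := H
  intro G hG
  exact (chart_iff_chart (f.appLE V U h).hom ψ hψ.1 hψ.2 φ hφ.1 hφ.2 _ m).1 (hPC G hG)

/-- The cover by all pairs of affine opens. -/
theorem isPseudoCoherentRel_of_forall_good (hf : LocallyOfFiniteType f) {m : ℤ} {E : DCoh.D X}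
    (H : ∀ (U : X.affineOpens) (V : S.affineOpens) (h : (U : X.Opens) ≤ f ⁻¹ᵁ (V : S.Opens)),
      Good f m E U V h) :
    DerSch.IsPseudoCoherentRel f m E := by
  refine ⟨hf, Set.univ, ?_, ?_⟩
  · simp only [Set.mem_univ, iSup_pos]
    exact iSup_affineOpens_eq_top S
  · intro V _
    refine ⟨{U : X.affineOpens | (U : X.Opens) ≤ f ⁻¹ᵁ (V : S.Opens)}, ?_, ?_⟩
    · apply le_antisymm
      · exact iSup₂_le (fun U hU => hU)
      · intro x hx
        obtain ⟨W, hW, hxW, hWV⟩ :=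
          exists_isAffineOpen_mem_and_subset (x := x) (U := f ⁻¹ᵁ (V : S.Opens)) hx
        rw [TopologicalSpace.Opens.mem_iSup]
        refine ⟨⟨W, hW⟩, ?_⟩
        rw [TopologicalSpace.Opens.mem_iSup]
        exact ⟨fun y hy => hWV hy, hxW⟩
    · intro U _ h
      exact H U V h

/-- A chartwise implication gives an implication for relative pseudo-coherence. -/
theorem rel_of_two {m₁ m₂ m₃ : ℤ} {E₁ E₂ E₃ : DCoh.D X}
    (h₁ : DerSch.IsPseudoCoherentRel f m₁ E₁) (h₂ : DerSch.IsPseudoCoherentRel f m₂ E₂)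
    (step : ∀ (U : X.Opens) (V : S.Opens), IsAffineOpen U → ∀ {n : ℕ}
      (φ : MvPolynomial (Fin n) Γ(S, V) →+* Γ(X, U)), Function.Surjective φ →
      DerSch.ChartPC m₁ E₁ U V φ → DerSch.ChartPC m₂ E₂ U V φ → DerSch.ChartPC m₃ E₃ U V φ) :
    DerSch.IsPseudoCoherentRel f m₃ E₃ := by
  refine isPseudoCoherentRel_of_forall_good h₁.1 (fun U V h => ?_)
  obtain ⟨n, φ, hφ, hPC₁⟩ := good_of_isPseudoCoherentRel h₁ U.2 V.2 h
  have hPC₂ := chartPC_of_good (good_of_isPseudoCoherentRel h₂ U.2 V.2 h) φ hφ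
  exact ⟨n, φ, hφ, step U V U.2 φ hφ.1 hPC₁ hPC₂⟩

/-- A chartwise implication gives an implication for relative pseudo-coherence (one
hypothesis). -/
theorem rel_of_one {m₁ m₃ : ℤ} {E₁ E₃ : DCoh.D X}
    (h₁ : DerSch.IsPseudoCoherentRel f m₁ E₁)
    (step : ∀ (U : X.Opens) (V : S.Opens), IsAffineOpen U → ∀ {n : ℕ}
      (φ : MvPolynomial (Fin n) Γ(S, V) →+* Γ(X, U)), Function.Surjective φ →
      DerSch.ChartPC m₁ E₁ U V φ → DerSch.ChartPC m₃ E₃ U V φ) :
    DerSch.IsPseudoCoherentRel f m₃ E₃ :=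
  rel_of_two h₁ h₁ (fun U V hU _ φ hφ a _ => step U V hU φ hφ a)

end Basic

section ChartD

variable {X : Scheme.{u}} {U : X.Opens}

/-- The chart test in terms of the derived functors of restriction and direct image. -/
theorem chartPC_iff_chartD (hU : IsAffineOpen U) {P : Type u} [CommRing P] (θ : P →+* Γ(X, U))
    (hθ : Function.Surjective θ) [IsClosedImmersion (imm U θ)] (m : ℤ) (E : DCoh.D X) :
    (∀ G : CochainComplex X.Modules ℤ, Nonempty (DCoh.toD X G ≅ E) →
      DCoh.IsPseudoCoherentD m (DCoh.toD (Spec (CommRingCat.of P))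
        ((DerSch.pushCx (imm U θ)).obj ((DCoh.restrictCx U).obj G)))) ↔
      DCoh.IsPseudoCoherentD m ((pushforward (imm U θ)).mapDerivedCategory.obj
        ((restrictFunctor U.ι).mapDerivedCategory.obj E)) := by
  obtain ⟨G₀, ⟨e⟩⟩ : ∃ G₀ : CochainComplex X.Modules ℤ, Nonempty (DCoh.toD X G₀ ≅ E) :=
    ⟨DerivedCategory.Q.objPreimage E, ⟨DerivedCategory.Q.objObjPreimageIso E⟩⟩
  refine (forall_rep_iff hU θ hθ m E G₀ e).trans ?_
  have e' : DCoh.toD (Spec (CommRingCat.of P))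
      ((DerSch.pushCx (imm U θ)).obj ((DCoh.restrictCx U).obj G₀)) ≅
      (pushforward (imm U θ)).mapDerivedCategory.obj
        ((restrictFunctor U.ι).mapDerivedCategory.obj E) :=
    ((pushforward (imm U θ)).mapDerivedCategoryFactors.app ((DCoh.restrictCx U).obj G₀)).symm ≪≫
      (pushforward (imm U θ)).mapDerivedCategory.mapIso
        (((restrictFunctor U.ι).mapDerivedCategoryFactors.app G₀).symm ≪≫
          (restrictFunctor U.ι).mapDerivedCategory.mapIso e)
  exact ⟨isPC_of_iso e', isPC_of_iso e'.symm⟩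

open Pretriangulated in
/-- Two out of three for the chart test. -/
theorem chartPC_triangle {S : Scheme.{u}} (hU : IsAffineOpen U) (V : S.Opens) {n : ℕ}
    (φ : MvPolynomial (Fin n) Γ(S, V) →+* Γ(X, U)) (hφ : Function.Surjective φ) (m : ℤ)
    (T : Triangle (DCoh.D X)) (hT : T ∈ distTriang _) :
    (DerSch.ChartPC (m + 1) T.obj₁ U V φ → DerSch.ChartPC m T.obj₂ U V φ →
      DerSch.ChartPC m T.obj₃ U V φ) ∧
    (DerSch.ChartPC m T.obj₁ U V φ → DerSch.ChartPC m T.obj₃ U V φ →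
      DerSch.ChartPC m T.obj₂ U V φ) ∧
    (DerSch.ChartPC (m + 1) T.obj₂ U V φ → DerSch.ChartPC m T.obj₃ U V φ →
      DerSch.ChartPC (m + 1) T.obj₁ U V φ) := by
  haveI := isClosedImmersion_imm hU φ hφ
  have key : ∀ (k : ℤ) (E : DCoh.D X), DerSch.ChartPC k E U V φ ↔
      DCoh.IsPseudoCoherentD k ((pushforward (imm U φ)).mapDerivedCategory.obj
        ((restrictFunctor U.ι).mapDerivedCategory.obj E)) :=
    fun k E => chartPC_iff_chartD hU φ hφ k E
  simp only [key]
  have hT' := (pushforward (imm U φ)).mapDerivedCategory.map_distinguished _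
    ((restrictFunctor U.ι).mapDerivedCategory.map_distinguished T hT)
  exact isPC_triangle m _ hT'

open Pretriangulated in
/-- Two out of three for relative pseudo-coherence (= S6204). -/
theorem isPseudoCoherentRel_triangle {S : Scheme.{u}} (f : X ⟶ S) (m : ℤ)
    (T : Triangle (DCoh.D X)) (hT : T ∈ distTriang _) :
    (DerSch.IsPseudoCoherentRel f (m + 1) T.obj₁ → DerSch.IsPseudoCoherentRel f m T.obj₂ →
      DerSch.IsPseudoCoherentRel f m T.obj₃) ∧
    (DerSch.IsPseudoCoherentRel f m T.obj₁ → DerSch.IsPseudoCoherentRel f m T.obj₃ →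
      DerSch.IsPseudoCoherentRel f m T.obj₂) ∧
    (DerSch.IsPseudoCoherentRel f (m + 1) T.obj₂ → DerSch.IsPseudoCoherentRel f m T.obj₃ →
      DerSch.IsPseudoCoherentRel f (m + 1) T.obj₁) := by
  refine ⟨fun h₁ h₂ => rel_of_two h₁ h₂ (fun U V hU _ φ hφ a b => ?_),
    fun h₁ h₂ => rel_of_two h₁ h₂ (fun U V hU _ φ hφ a b => ?_),
    fun h₁ h₂ => rel_of_two h₁ h₂ (fun U V hU _ φ hφ a b => ?_)⟩
  · exact (chartPC_triangle hU V φ hφ m T hT).1 a b
  · exact (chartPC_triangle hU V φ hφ m T hT).2.1 a b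
  · exact (chartPC_triangle hU V φ hφ m T hT).2.2 a b

end ChartD

section Abs

variable {Y Z : Scheme.{u}} {g : Y ⟶ Z} {U : Y.Opens} {V : Z.Opens}

/-- Charts of a pseudo-coherent morphism are pseudo-coherent ring maps. -/
theorem pcHom_of_chart (hg : ∀ n : ℤ, DerSch.IsNPseudoCoherent g n) (hU : IsAffineOpen U)
    (hV : IsAffineOpen V) (h : U ≤ g ⁻¹ᵁ V) {n : ℕ}
    (φ : MvPolynomial (Fin n) Γ(Z, V) →+* Γ(Y, U)) (hφ : DerSch.IsChart g U V h φ) :
    PcHom φ :=
  fun m => (chartPC_unit_iff hU V φ hφ.1 m).1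
    (chartPC_of_good (good_of_isPseudoCoherentRel (hg m) hU hV h) φ hφ)

/-- Along a chart of a pseudo-coherent morphism, the chart test is the absolute test on `U`. -/
theorem test_iff_isPC_restrict (hg : ∀ n : ℤ, DerSch.IsNPseudoCoherent g n)
    (hU : IsAffineOpen U) (hV : IsAffineOpen V) (h : U ≤ g ⁻¹ᵁ V) {n : ℕ}
    (φ : MvPolynomial (Fin n) Γ(Z, V) →+* Γ(Y, U)) (hφ : DerSch.IsChart g U V h φ) (m : ℤ)
    (G₀ : CochainComplex Y.Modules ℤ) :
    Test m G₀ U φ ↔
      DCoh.IsPseudoCoherentD m (DerivedCategory.Q.obj ((DCoh.restrictCx U).obj G₀)) := by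
  haveI := isClosedImmersion_imm hU φ hφ.1
  have hO : ∀ k : ℤ, DCoh.IsPseudoCoherentD k
      (DCoh.inD (Spec (CommRingCat.of (MvPolynomial (Fin n) Γ(Z, V))))
        ((pushforward (imm U φ)).obj (Coh.structureModule (U : Scheme.{u})))) :=
    fun k => (isPC_push_imm_iff hU φ hφ.1 k).2 (pcHom_of_chart hg hU hV h φ hφ k)
  exact (isPC_Q_pushCx_iff (imm U φ) hO _ m).symm

/-- For a pseudo-coherent morphism, absolute and relative pseudo-coherence agree (= S6207). -/
theorem isPC_iff_isPseudoCoherentRel (g : Y ⟶ Z) (hg : ∀ n : ℤ, DerSch.IsNPseudoCoherent g n)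
    (r : ℤ) (E : DCoh.D Y) :
    DCoh.IsPseudoCoherentD r E ↔ DerSch.IsPseudoCoherentRel g r E := by
  have hf : LocallyOfFiniteType g := (hg 0).1
  constructor
  · intro hE
    refine isPseudoCoherentRel_of_forall_good hf (fun U V h => ?_)
    obtain ⟨n, φ, hφ⟩ := exists_isChart hf U.2 V.2 h
    refine ⟨n, φ, hφ, ?_⟩
    rintro G ⟨e⟩
    exact (test_iff_isPC_restrict hg U.2 V.2 h φ hφ r G).2
      (isPC_restrictCx _ G r (isPC_of_iso e.symm hE))
  · intro hE
    rw [isPC_iff]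
    intro x
    obtain ⟨V, hV, hxV, -⟩ :=
      exists_isAffineOpen_mem_and_subset (x := g.base x) (U := (⊤ : Z.Opens)) trivial
    obtain ⟨U, hU, hxU, hUV⟩ :=
      exists_isAffineOpen_mem_and_subset (x := x) (U := g ⁻¹ᵁ V) hxV
    have h : U ≤ g ⁻¹ᵁ V := fun y hy => hUV hy
    obtain ⟨n, φ, hφ, hPC⟩ := good_of_isPseudoCoherentRel hE hU hV h
    have e := DerivedCategory.Q.objObjPreimageIso E
    have h1 := (test_iff_isPC_restrict hg hU hV h φ hφ r _).1 (hPC _ ⟨e⟩)
    rw [isPC_iff] at h1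
    have h2 := (locPC_Q_restrictCx_iff U _ r ⟨x, hxU⟩).1 (h1 ⟨x, hxU⟩)
    exact locPC_of_iso e h2

end Abs

section Comp

variable {X Y S : Scheme.{u}} (f : X ⟶ Y) (g : Y ⟶ S)

/-- Good pairs for `f` and for `f ≫ g` correspond when `g` is pseudo-coherent. -/
theorem good_comp_iff (hf : LocallyOfFiniteType f)
    (hg : ∀ n : ℤ, DerSch.IsNPseudoCoherent g n)
    {U : X.Opens} {V : Y.Opens} {W : S.Opens} (hU : IsAffineOpen U) (hV : IsAffineOpen V)
    (hW : IsAffineOpen W) (hUV : U ≤ f ⁻¹ᵁ V) (hVW : V ≤ g ⁻¹ᵁ W)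
    (hUW : U ≤ (f ≫ g) ⁻¹ᵁ W) (m : ℤ) (E : DCoh.D X) :
    Good f m E U V hUV ↔ Good (f ≫ g) m E U W hUW := by
  have hgf : LocallyOfFiniteType g := (hg 0).1
  obtain ⟨k, ψ, hψ⟩ := exists_isChart hgf hV hW hVW
  have hψp : PcHom ψ := pcHom_of_chart hg hV hW hVW ψ hψ
  have hγ0 : PolyLike (g.appLE W V hVW).hom := ⟨k, ψ, hψ.1, hψp, hψ.2⟩
  have hcomp : (f.appLE V U hUV).hom.comp (g.appLE W V hVW).hom =
      ((f ≫ g).appLE W U hUW).hom := by
    have h1 := Scheme.Hom.appLE_comp_appLE f g W V U hVW hUV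
    exact congrArg (fun t => t.hom) h1
  have key : ∀ {n : ℕ} (φ : MvPolynomial (Fin n) Γ(Y, V) →+* Γ(X, U)),
      DerSch.IsChart f U V hUV φ →
      ∀ {l : ℕ} (χ : MvPolynomial (Fin l) Γ(S, W) →+* Γ(X, U)),
      DerSch.IsChart (f ≫ g) U W hUW χ →
      (DerSch.ChartPC m E U V φ ↔ DerSch.ChartPC m E U W χ) := by
    intro n φ hφ l χ hχ
    have hγ := hγ0.mvPolynomial n
    have hχC : χ.comp MvPolynomial.C =
        φ.comp ((MvPolynomial.C : Γ(Y, V) →+* MvPolynomial (Fin n) Γ(Y, V)).comp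
          (g.appLE W V hVW).hom) := by
      rw [hχ.2, ← RingHom.comp_assoc, hφ.2, hcomp]
    constructor
    · intro H G hG
      exact (test_iff_of_polyLike _ hγ φ hφ.1 χ hχ.1 hχC m G).1 (H G hG)
    · intro H G hG
      exact (test_iff_of_polyLike _ hγ φ hφ.1 χ hχ.1 hχC m G).2 (H G hG)
  constructor
  · rintro ⟨n, φ, hφ, hPC⟩
    have hfg : LocallyOfFiniteType (f ≫ g) := by
      haveI := hf
      haveI := hgf
      infer_instance
    obtain ⟨l, χ, hχ⟩ := exists_isChart hfg hU hW hUW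
    exact ⟨l, χ, hχ, (key φ hφ χ hχ).1 hPC⟩
  · rintro ⟨l, χ, hχ, hPC⟩
    obtain ⟨n, φ, hφ⟩ := exists_isChart hf hU hV hUV
    exact ⟨n, φ, hφ, (key φ hφ χ hχ).2 hPC⟩

/-- Relative pseudo-coherence with respect to `f` and to `f ≫ g`, for `g` pseudo-coherent
(= S12088). -/
theorem isPseudoCoherentRel_comp_iff (hf : LocallyOfFiniteType f)
    (hg : ∀ n : ℤ, DerSch.IsNPseudoCoherent g n) (m : ℤ) (E : DCoh.D X) :
    DerSch.IsPseudoCoherentRel f m E ↔ DerSch.IsPseudoCoherentRel (f ≫ g) m E := by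
  have hgf : LocallyOfFiniteType g := (hg 0).1
  have hfg : LocallyOfFiniteType (f ≫ g) := by
    haveI := hf
    haveI := hgf
    infer_instance
  constructor
  · intro hE
    refine ⟨hfg, Set.univ, ?_, ?_⟩
    · simp only [Set.mem_univ, iSup_pos]
      exact iSup_affineOpens_eq_top S
    · intro W _
      refine ⟨{U : X.affineOpens | ∃ V : Y.affineOpens,
        (V : Y.Opens) ≤ g ⁻¹ᵁ (W : S.Opens) ∧ (U : X.Opens) ≤ f ⁻¹ᵁ (V : Y.Opens)}, ?_, ?_⟩
      · apply le_antisymm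
        · refine iSup₂_le (fun U hU => ?_)
          obtain ⟨V, hVW, hUV⟩ := hU
          intro x hx
          exact hVW (hUV hx)
        · intro x hx
          obtain ⟨V, hV, hxV, hVW⟩ :=
            exists_isAffineOpen_mem_and_subset (x := f.base x) (U := g ⁻¹ᵁ (W : S.Opens)) hx
          obtain ⟨U, hU, hxU, hUV⟩ :=
            exists_isAffineOpen_mem_and_subset (x := x) (U := f ⁻¹ᵁ V) hxV
          rw [TopologicalSpace.Opens.mem_iSup]
          refine ⟨⟨U, hU⟩, ?_⟩
          rw [TopologicalSpace.Opens.mem_iSup]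
          exact ⟨⟨⟨V, hV⟩, fun y hy => hVW hy, fun y hy => hUV hy⟩, hxU⟩
      · rintro U ⟨V, hVW, hUV⟩ h
        exact (good_comp_iff f g hf hg U.2 V.2 W.2 hUV hVW h m E).1
          (good_of_isPseudoCoherentRel hE U.2 V.2 hUV)
  · intro hE
    refine ⟨hf, {V : Y.affineOpens | ∃ W : S.affineOpens,
      (V : Y.Opens) ≤ g ⁻¹ᵁ (W : S.Opens)}, ?_, ?_⟩
    · apply le_antisymm le_top
      intro y _
      obtain ⟨W, hW, hyW, -⟩ :=
        exists_isAffineOpen_mem_and_subset (x := g.base y) (U := (⊤ : S.Opens)) trivial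
      obtain ⟨V, hV, hyV, hVW⟩ :=
        exists_isAffineOpen_mem_and_subset (x := y) (U := g ⁻¹ᵁ W) hyW
      rw [TopologicalSpace.Opens.mem_iSup]
      refine ⟨⟨V, hV⟩, ?_⟩
      rw [TopologicalSpace.Opens.mem_iSup]
      exact ⟨⟨⟨W, hW⟩, fun z hz => hVW hz⟩, hyV⟩
    · rintro V ⟨W, hVW⟩
      refine ⟨{U : X.affineOpens | (U : X.Opens) ≤ f ⁻¹ᵁ (V : Y.Opens)}, ?_, ?_⟩
      · apply le_antisymm
        · exact iSup₂_le (fun U hU => hU)
        · intro x hx
          obtain ⟨W', hW', hxW', hWV'⟩ :=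
            exists_isAffineOpen_mem_and_subset (x := x) (U := f ⁻¹ᵁ (V : Y.Opens)) hx
          rw [TopologicalSpace.Opens.mem_iSup]
          refine ⟨⟨W', hW'⟩, ?_⟩
          rw [TopologicalSpace.Opens.mem_iSup]
          exact ⟨fun y hy => hWV' hy, hxW'⟩
      · intro U _ h
        have hUW : (U : X.Opens) ≤ (f ≫ g) ⁻¹ᵁ (W : S.Opens) := fun x hx => hVW (h hx)
        exact (good_comp_iff f g hf hg U.2 V.2 W.2 h hVW hUW m E).2
          (good_of_isPseudoCoherentRel hE U.2 W.2 hUW)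

end Comp

end Groth.Agent.H90.Chart
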