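import Groth.Agent.H90.SPerfLift
import Groth.Agent.H8.UnitIso

/-!
# Perfect complexes on schemes: local presentations and two-out-of-three (helper90)
-/

set_option autoImplicit false
universe u
open CategoryTheory CategoryTheory.Limits AlgebraicGeometry

attribute [local instance] HasDerivedCategory.standard

namespace Groth.Agent.H90.SPerf

section FinLocFree

variable {X : Scheme.{u}}

lemma isZero_biprod' {C : Type*} [Category C] [HasZeroMorphisms C] {A B : C}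
    [HasBinaryBiproduct A B] (hA : IsZero A) (hB : IsZero B) : IsZero (A ⊞ B) := by
  rw [IsZero.iff_id_eq_zero]
  apply biprod.hom_ext
  · exact hA.eq_of_tgt _ _
  · exact hB.eq_of_tgt _ _

/-- `O^m ⨿ O^n` is the coproduct over `Fin m ⊕ Fin n`. -/
noncomputable def coprodFreeIso (X : Scheme.{u}) (m n : ℕ) :
    (FlatMod.freeMod X m ⨿ FlatMod.freeMod X n) ≅
      ∐ (Sum.elim (fun _ : Fin m => Coh.structureModule X)
        (fun _ : Fin n => Coh.structureModule X)) := by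
  let h := Cofan.combPairIsColimit
    (coproductIsCoproduct (fun _ : Fin m => Coh.structureModule X))
    (coproductIsCoproduct (fun _ : Fin n => Coh.structureModule X))
    (coprodIsCoprod (∐ fun _ : Fin m => Coh.structureModule X)
      (∐ fun _ : Fin n => Coh.structureModule X))
  exact IsColimit.coconePointUniqueUpToIso h (coproductIsCoproduct _)

/-- `O^m ⊕ O^n ≅ O^(m+n)`. -/
noncomputable def freeBiprodIso (X : Scheme.{u}) (m n : ℕ) :
    FlatMod.freeMod X m ⊞ FlatMod.freeMod X n ≅ FlatMod.freeMod X (m + n) :=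
  biprod.isoCoprod _ _ ≪≫ coprodFreeIso X m n ≪≫
  Sigma.whiskerEquiv (f := Sum.elim (fun _ : Fin m => Coh.structureModule X)
      (fun _ : Fin n => Coh.structureModule X))
    (g := fun _ : Fin (m + n) => Coh.structureModule X) finSumFinEquiv
    (fun j => by cases j <;> exact Iso.refl _)

/-- A direct sum of finite locally free modules is finite locally free. -/
theorem isFinLocFree_biprod {M N : X.Modules} (hM : FlatMod.IsFinLocFree M)
    (hN : FlatMod.IsFinLocFree N) : FlatMod.IsFinLocFree (M ⊞ N) := by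
  intro x
  obtain ⟨U₁, n₁, h₁, ⟨e₁⟩⟩ := hM x
  obtain ⟨U₂, n₂, h₂, ⟨e₂⟩⟩ := hN x
  obtain ⟨e₁'⟩ := H8.nonempty_restrict_iso_freeMod_of_le M (inf_le_left : U₁ ⊓ U₂ ≤ U₁) n₁ e₁
  obtain ⟨e₂'⟩ := H8.nonempty_restrict_iso_freeMod_of_le N (inf_le_right : U₁ ⊓ U₂ ≤ U₂) n₂ e₂
  refine ⟨U₁ ⊓ U₂, n₁ + n₂, ⟨h₁, h₂⟩, ⟨?_⟩⟩
  haveI := preservesBinaryBiproducts_of_preservesBinaryCoproducts
    (Scheme.Modules.restrictFunctor (U₁ ⊓ U₂).ι)
  exact (Scheme.Modules.restrictFunctor (U₁ ⊓ U₂).ι).mapBiprod M N ≪≫ biprod.mapIso e₁' e₂' ≪≫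
    freeBiprodIso _ n₁ n₂

/-- The mapping cone of a morphism of strictly perfect complexes is strictly perfect. -/
theorem isStrictlyPerfect_mappingCone {E F : CochainComplex X.Modules ℤ} (φ : E ⟶ F)
    (hE : DCoh.IsStrictlyPerfect E) (hF : DCoh.IsStrictlyPerfect F) :
    DCoh.IsStrictlyPerfect (CochainComplex.mappingCone φ) := by
  obtain ⟨⟨a₁, b₁, h₁⟩, f₁⟩ := hE
  obtain ⟨⟨a₂, b₂, h₂⟩, f₂⟩ := hF
  have iso : ∀ i, (CochainComplex.mappingCone φ).X i ≅ E.X (i + 1) ⊞ F.X i := fun i =>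
    HomologicalComplex.homotopyCofiber.XIsoBiprod φ i (i + 1) rfl
  have hmin1 := min_le_left a₁ a₂
  have hmin2 := min_le_right a₁ a₂
  have hmax1 := le_max_left b₁ b₂
  have hmax2 := le_max_right b₁ b₂
  refine ⟨⟨min a₁ a₂ - 1, max b₁ b₂, fun i hi => ?_⟩, fun i => ?_⟩
  · refine IsZero.of_iso ?_ (iso i)
    exact isZero_biprod' (h₁ _ (by omega)) (h₂ _ (by omega))
  · exact H8.isFinLocFree_of_iso (iso i).symm (isFinLocFree_biprod (f₁ _) (f₂ _))

/-- Restriction of a strictly perfect complex along an open immersion. -/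
theorem isStrictlyPerfect_restrict {U : Scheme.{u}} (j : U ⟶ X) [IsOpenImmersion j]
    {E : CochainComplex X.Modules ℤ} (hE : DCoh.IsStrictlyPerfect E) :
    DCoh.IsStrictlyPerfect
      (((Scheme.Modules.restrictFunctor j).mapHomologicalComplex (ComplexShape.up ℤ)).obj E) := by
  obtain ⟨⟨a, b, hab⟩, hfl⟩ := hE
  exact ⟨⟨a, b, fun i hi => Functor.map_isZero (Scheme.Modules.restrictFunctor j) (hab i hi)⟩,
    fun i => isFinLocFree_restrict j (hfl i)⟩

/-- Shifts of strictly perfect complexes are strictly perfect. -/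
theorem isStrictlyPerfect_shift (E : CochainComplex X.Modules ℤ) (n : ℤ)
    (hE : DCoh.IsStrictlyPerfect E) : DCoh.IsStrictlyPerfect (E⟦n⟧) := by
  obtain ⟨⟨a, b, hab⟩, hfl⟩ := hE
  refine ⟨⟨a - n, b - n, fun i hi => ?_⟩, fun i => ?_⟩
  · show IsZero (E.X (i + n))
    exact hab (i + n) (by omega)
  · show FlatMod.IsFinLocFree (E.X (i + n))
    exact hfl (i + n)

end FinLocFree

section Derived

variable {X : Scheme.{u}}

/-- `(K|_U) ≅ Q (F|_U)` for a complex `F` representing `K`. -/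
noncomputable def restrictDObjIso {U : Scheme.{u}} (j : U ⟶ X) [IsOpenImmersion j]
    {K : DCoh.D X} {F : CochainComplex X.Modules ℤ} (e₀ : DerivedCategory.Q.obj F ≅ K) :
    (DCoh.restrictD j).obj K ≅ DerivedCategory.Q.obj
      (((Scheme.Modules.restrictFunctor j).mapHomologicalComplex (ComplexShape.up ℤ)).obj F) :=
  (DCoh.restrictD j).mapIso e₀.symm ≪≫
    (Scheme.Modules.restrictFunctor j).mapDerivedCategoryFactors.app F

/-- Restriction in two steps, objectwise. -/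
lemma restrictD_comp_obj {U U' : Scheme.{u}} (i : U' ⟶ U) (j : U ⟶ X) (k : U' ⟶ X)
    [IsOpenImmersion i] [IsOpenImmersion j] [IsOpenImmersion k] (hk : k = i ≫ j)
    (K : DCoh.D X) :
    Nonempty ((DCoh.restrictD k).obj K ≅ (DCoh.restrictD i).obj ((DCoh.restrictD j).obj K)) := by
  let F := DerivedCategory.Q.objPreimage K
  let e₀ : DerivedCategory.Q.obj F ≅ K := DerivedCategory.Q.objObjPreimageIso K
  let c : ((Scheme.Modules.restrictFunctor k).mapHomologicalComplex (ComplexShape.up ℤ)).obj F ≅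
      ((Scheme.Modules.restrictFunctor i).mapHomologicalComplex (ComplexShape.up ℤ)).obj
        (((Scheme.Modules.restrictFunctor j).mapHomologicalComplex (ComplexShape.up ℤ)).obj F) :=
    (NatIso.mapHomologicalComplex (Scheme.Modules.restrictFunctorCongr hk ≪≫
      Scheme.Modules.restrictFunctorComp i j) (ComplexShape.up ℤ)).app F
  exact ⟨restrictDObjIso k e₀ ≪≫ DerivedCategory.Q.mapIso c ≪≫
    (restrictDObjIso i (Iso.refl _)).symm ≪≫
    (DCoh.restrictD i).mapIso (restrictDObjIso j e₀).symm⟩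

/-- Transport of a local strictly perfect presentation along a further open immersion. -/
lemma locData_comp {U U' : Scheme.{u}} (i : U' ⟶ U) (j : U ⟶ X) (k : U' ⟶ X)
    [IsOpenImmersion i] [IsOpenImmersion j] [IsOpenImmersion k] (hk : k = i ≫ j)
    {K : DCoh.D X} {E : CochainComplex U.Modules ℤ} (hE : DCoh.IsStrictlyPerfect E)
    (e : (DCoh.restrictD j).obj K ≅ DerivedCategory.Q.obj E) :
    DCoh.IsStrictlyPerfect
      (((Scheme.Modules.restrictFunctor i).mapHomologicalComplex (ComplexShape.up ℤ)).obj E) ∧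
    Nonempty ((DCoh.restrictD k).obj K ≅ DerivedCategory.Q.obj
      (((Scheme.Modules.restrictFunctor i).mapHomologicalComplex (ComplexShape.up ℤ)).obj E)) := by
  obtain ⟨c⟩ := restrictD_comp_obj i j k hk K
  exact ⟨isStrictlyPerfect_restrict i hE,
    ⟨c ≪≫ (DCoh.restrictD i).mapIso e ≪≫ restrictDObjIso i (Iso.refl _)⟩⟩

/-- `K` is, near `x`, isomorphic to a strictly perfect complex. -/
def LocPerfO (K : DCoh.D X) (x : X) : Prop :=
  ∃ V : X.Opens, x ∈ V ∧ ∃ E : CochainComplex (V : Scheme.{u}).Modules ℤ,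
    DCoh.IsStrictlyPerfect E ∧ Nonempty ((DCoh.restrictD V.ι).obj K ≅ DerivedCategory.Q.obj E)

lemma locPerfO_of_immersion {U : Scheme.{u}} (j : U ⟶ X) [IsOpenImmersion j] (y : U)
    {K : DCoh.D X} {E : CochainComplex U.Modules ℤ} (hE : DCoh.IsStrictlyPerfect E)
    (e : (DCoh.restrictD j).obj K ≅ DerivedCategory.Q.obj E) : LocPerfO K (j y) := by
  obtain ⟨hE', ⟨e'⟩⟩ := locData_comp j.isoOpensRange.inv j j.opensRange.ι
    (j.isoOpensRange_inv_comp).symm hE e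
  exact ⟨j.opensRange, ⟨y, rfl⟩, _, hE', ⟨e'⟩⟩

lemma isPerfect_iff (K : DCoh.D X) : DCoh.IsPerfect K ↔ ∀ x, LocPerfO K x := by
  constructor
  · intro h x
    obtain ⟨V, hxV, hV⟩ := h x
    obtain ⟨E, hE, ⟨e⟩⟩ := hV (DerivedCategory.Q.objPreimage K)
      ⟨DerivedCategory.Q.objObjPreimageIso K⟩
    exact ⟨V, hxV, E, hE,
      ⟨restrictDObjIso V.ι (DerivedCategory.Q.objObjPreimageIso K) ≪≫ e⟩⟩
  · intro h x
    obtain ⟨V, hxV, E, hE, ⟨e⟩⟩ := h x
    exact ⟨V, hxV, fun F ⟨e₀⟩ => ⟨E, hE, ⟨(restrictDObjIso V.ι e₀).symm ≪≫ e⟩⟩⟩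

/-- Shifts of perfect objects are perfect. -/
theorem isPerfect_shift (K : DCoh.D X) (n : ℤ) (h : DCoh.IsPerfect K) :
    DCoh.IsPerfect (K⟦n⟧) := by
  rw [isPerfect_iff] at h ⊢
  intro x
  obtain ⟨V, hxV, E, hE, ⟨e⟩⟩ := h x
  refine ⟨V, hxV, E⟦n⟧, isStrictlyPerfect_shift E n hE, ⟨?_⟩⟩
  exact ((DCoh.restrictD V.ι).commShiftIso n).app K ≪≫ (shiftFunctor _ n).mapIso e ≪≫
    ((DerivedCategory.Q.commShiftIso n).app E).symm

lemma exists_common {K L : DCoh.D X} {x : X} (hK : LocPerfO K x) (hL : LocPerfO L x) :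
    ∃ V : X.Opens, x ∈ V ∧ ∃ E₁ E₂ : CochainComplex (V : Scheme.{u}).Modules ℤ,
      DCoh.IsStrictlyPerfect E₁ ∧ DCoh.IsStrictlyPerfect E₂ ∧
      Nonempty ((DCoh.restrictD V.ι).obj K ≅ DerivedCategory.Q.obj E₁) ∧
      Nonempty ((DCoh.restrictD V.ι).obj L ≅ DerivedCategory.Q.obj E₂) := by
  obtain ⟨V₁, hx₁, E₁, hE₁, ⟨e₁⟩⟩ := hK
  obtain ⟨V₂, hx₂, E₂, hE₂, ⟨e₂⟩⟩ := hL
  obtain ⟨hE₁', a⟩ := locData_comp (X.homOfLE (inf_le_left : V₁ ⊓ V₂ ≤ V₁)) V₁.ι (V₁ ⊓ V₂).ι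
    (X.homOfLE_ι _).symm hE₁ e₁
  obtain ⟨hE₂', b⟩ := locData_comp (X.homOfLE (inf_le_right : V₁ ⊓ V₂ ≤ V₂)) V₂.ι (V₁ ⊓ V₂).ι
    (X.homOfLE_ι _).symm hE₂ e₂
  exact ⟨V₁ ⊓ V₂, ⟨hx₁, hx₂⟩, _, _, hE₁', hE₂', a, b⟩

open Pretriangulated in
/-- Third vertex of a distinguished triangle with two perfect vertices. -/
theorem isPerfect_obj₃ (T : Triangle (DCoh.D X)) (hT : T ∈ distTriang _)
    (h₁ : DCoh.IsPerfect T.obj₁) (h₂ : DCoh.IsPerfect T.obj₂) : DCoh.IsPerfect T.obj₃ := by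
  rw [isPerfect_iff] at h₁ h₂ ⊢
  intro x
  obtain ⟨V, hxV, E₁, E₂, hE₁, hE₂, ⟨a⟩, ⟨b⟩⟩ := exists_common (h₁ x) (h₂ x)
  obtain ⟨W, hxW, hW⟩ := exists_chain_map_rep hE₁
    (a.inv ≫ (DCoh.restrictD V.ι).map T.mor₁ ≫ b.hom) (⟨x, hxV⟩ : V)
  obtain ⟨β, hβ⟩ := hW
  have hT'' : (DCoh.restrictD W.ι).mapTriangle.obj ((DCoh.restrictD V.ι).mapTriangle.obj T) ∈
      distTriang _ :=
    (DCoh.restrictD W.ι).map_distinguished _ ((DCoh.restrictD V.ι).map_distinguished _ hT)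
  have hTβ := DerivedCategory.mappingCone_triangle_distinguished β
  have h3 : (DCoh.restrictD W.ι).map (a.inv ≫ (DCoh.restrictD V.ι).map T.mor₁ ≫ b.hom) ≫
      (Scheme.Modules.restrictFunctor W.ι).mapDerivedCategoryFactors.hom.app E₂ =
      (Scheme.Modules.restrictFunctor W.ι).mapDerivedCategoryFactors.hom.app E₁ ≫
        DerivedCategory.Q.map β := by
    rw [hβ]
    simp only [Category.assoc, Iso.inv_hom_id_app, Functor.comp_obj]
    erw [Category.comp_id]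
  have h4 : (DCoh.restrictD W.ι).map a.hom ≫
      (DCoh.restrictD W.ι).map (a.inv ≫ (DCoh.restrictD V.ι).map T.mor₁ ≫ b.hom) =
      (DCoh.restrictD W.ι).map ((DCoh.restrictD V.ι).map T.mor₁) ≫
        (DCoh.restrictD W.ι).map b.hom := by
    rw [← Functor.map_comp, ← Functor.map_comp, Iso.hom_inv_id_assoc]
  have comm : ((DCoh.restrictD W.ι).mapTriangle.obj
        ((DCoh.restrictD V.ι).mapTriangle.obj T)).mor₁ ≫
      ((DCoh.restrictD W.ι).mapIso b ≪≫
        (Scheme.Modules.restrictFunctor W.ι).mapDerivedCategoryFactors.app E₂).hom =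
      ((DCoh.restrictD W.ι).mapIso a ≪≫
        (Scheme.Modules.restrictFunctor W.ι).mapDerivedCategoryFactors.app E₁).hom ≫
      (DerivedCategory.Q.mapTriangle.obj (CochainComplex.mappingCone.triangle β)).mor₁ := by
    show (DCoh.restrictD W.ι).map ((DCoh.restrictD V.ι).map T.mor₁) ≫
      ((DCoh.restrictD W.ι).map b.hom ≫
        (Scheme.Modules.restrictFunctor W.ι).mapDerivedCategoryFactors.hom.app E₂) =
      ((DCoh.restrictD W.ι).map a.hom ≫
        (Scheme.Modules.restrictFunctor W.ι).mapDerivedCategoryFactors.hom.app E₁) ≫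
        DerivedCategory.Q.map β
    rw [← Category.assoc, ← h4]
    simp only [Category.assoc]
    rw [h3]
  have c : (DCoh.restrictD W.ι).obj ((DCoh.restrictD V.ι).obj T.obj₃) ≅
      DerivedCategory.Q.obj (CochainComplex.mappingCone β) :=
    Triangle.π₃.mapIso (isoTriangleOfIso₁₂ _ _ hT'' hTβ _ _ comm)
  obtain ⟨c1⟩ := restrictD_comp_obj W.ι V.ι (W.ι ≫ V.ι) rfl T.obj₃
  have hcone := isStrictlyPerfect_mappingCone β (isStrictlyPerfect_restrict W.ι hE₁)
    (isStrictlyPerfect_restrict W.ι hE₂)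
  exact locPerfO_of_immersion (W.ι ≫ V.ι) (⟨⟨x, hxV⟩, hxW⟩ : W) hcone (c1 ≪≫ c)

end Derived

end Groth.Agent.H90.SPerf
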