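import Groth.Agent.H90.QCohHom

/-!
# Pseudo-coherence on Noetherian schemes via coherent cohomology (helper90)

* `locPC_inD_of_isCoh'`: a coherent module on a locally Noetherian scheme is `m`-pseudo-coherent for
  every `m` (as an object of the derived category placed in degree `0`).
* `locPC_of_coh_isLE`: bounded above with coherent cohomology in degrees `≥ m` implies
  `m`-pseudo-coherent.
* `isPC_iff_coh` (= S1039).
-/

set_option autoImplicit false
set_option linter.style.haveILetI false
universe w v u' u
open CategoryTheory CategoryTheory.Limits AlgebraicGeometry TopologicalSpace Opposite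
open AlgebraicGeometry.Scheme.Modules

attribute [local instance] HasDerivedCategory.standard

namespace Groth.Agent.H90.QH

open Groth.Agent.H90.SPerf Groth.Agent.H90.LR

section Single

variable {C : Type u'} [Category.{v} C] [Abelian C] [HasDerivedCategory.{w} C]

/-- `H^n` of the single functor in degree `n`. -/
noncomputable def singleHIso (n : ℤ) :
    DerivedCategory.singleFunctor C n ⋙ DerivedCategory.homologyFunctor C n ≅ 𝟭 C :=
  Functor.isoWhiskerRight (DerivedCategory.singleFunctorIsoCompQ C n) _ ≪≫
    Functor.associator _ _ _ ≪≫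
    Functor.isoWhiskerLeft _ (DerivedCategory.homologyFunctorFactors C n) ≪≫
    HomologicalComplex.homologyFunctorSingleIso C (ComplexShape.up ℤ) n

end Single

variable {X : Scheme.{u}}

lemma isCoh_of_isZero {M : X.Modules} (h : IsZero M) : Coh.IsCoh M :=
  isCoh_of_isFinLocFree (isFinLocFree_of_isZero h)

set_option backward.isDefEq.respectTransparency false in
/-- A coherent module on a locally Noetherian scheme is `(-n)`-pseudo-coherent for all `n`. -/
theorem locPC_inD_of_isCoh (n : ℕ) : ∀ {Z : Scheme.{u}} [IsLocallyNoetherian Z] (F : Z.Modules),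
    Coh.IsCoh F → ∀ z : Z, LocPC (-(n : ℤ)) (DCoh.inD Z F) z := by
  induction n with
  | zero =>
    intro Z _ F hF z
    simpa using locPC_zero_of_locFG (locFG_of_isFT F hF.2 z)
  | succ n ih =>
    intro Z _ F hF z
    obtain ⟨Z', j, hj, z', hz, G, hG⟩ := locFG_of_isFT F hF.2 z
    haveI : IsLocallyNoetherian Z' := isLocallyNoetherian_of_isOpenImmersion j
    have : Finite G.I := hG.finite
    have : Epi G.π := G.epi
    have hfree : Coh.IsCoh (SheafOfModules.free.{u} (R := Z'.ringCatSheaf) G.I) :=
      isCoh_of_isFinLocFree (isFinLocFree_free Z' G.I)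
    haveI : F.IsQuasicoherent := hF.1
    haveI : ((restrictFunctor j).obj F).IsQuasicoherent := inferInstance
    haveI : SheafOfModules.IsFiniteType (R := Z'.ringCatSheaf)
        (SheafOfModules.free.{u} (R := Z'.ringCatSheaf) G.I) := hfree.2
    have hFj : Coh.IsCoh ((restrictFunctor j).obj F) :=
      ⟨inferInstance, H8.isFiniteType_of_epi G.π⟩
    have hK : Coh.IsCoh (kernel G.π) := H8.isCoh_kernel hfree hFj G.π
    let S : ShortComplex Z'.Modules :=
      ShortComplex.mk (kernel.ι G.π) G.π (kernel.condition _)
    have hS : S.ShortExact :=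
      { exact := ShortComplex.exact_of_f_is_kernel _ (kernelIsKernel _)
        mono_f := inferInstanceAs (Mono (kernel.ι G.π))
        epi_g := inferInstanceAs (Epi G.π) }
    have h₁ : LocPC ((-((n + 1 : ℕ) : ℤ)) + 1) hS.singleTriangle.obj₁ z' := by
      rw [show (-((n + 1 : ℕ) : ℤ)) + 1 = -(n : ℤ) by push_cast; ring]
      exact ih (kernel G.π) hK z'
    have h₂ : LocPC (-((n + 1 : ℕ) : ℤ)) hS.singleTriangle.obj₂ z' :=
      locPC_inD_of_finLocFree (isFinLocFree_free Z' G.I) _ z'
    have h₃ : LocPC (-((n + 1 : ℕ) : ℤ)) (DCoh.inD Z' ((restrictFunctor j).obj F)) z' :=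
      locPC_obj₃ hS.singleTriangle hS.singleTriangle_distinguished _ z' h₁ h₂
    have h₄ : LocPC (-((n + 1 : ℕ) : ℤ)) ((DCoh.restrictD j).obj (DCoh.inD Z F)) z' :=
      locPC_of_iso (((restrictFunctor j).mapDerivedCategorySingleFunctor 0).app F).symm h₃
    exact hz ▸ locPC_of_restrict j h₄

theorem locPC_inD_of_isCoh' [IsLocallyNoetherian X] (F : X.Modules) (hF : Coh.IsCoh F) (m : ℤ)
    (x : X) : LocPC m (DCoh.inD X F) x :=
  locPC_mono (by omega : -((m.natAbs : ℕ) : ℤ) ≤ m) (locPC_inD_of_isCoh m.natAbs F hF x)

/-- A coherent module placed in any degree is `m`-pseudo-coherent for every `m`. -/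
theorem locPC_single_of_isCoh [IsLocallyNoetherian X] (F : X.Modules) (hF : Coh.IsCoh F)
    (b m : ℤ) (x : X) : LocPC m ((DerivedCategory.singleFunctor X.Modules b).obj F) x := by
  have h := locPC_shift (-b) (locPC_inD_of_isCoh' F hF (m + -b) x)
  have e : ((DCoh.inD X F)⟦-b⟧) ≅ (DerivedCategory.singleFunctor X.Modules b).obj F :=
    ((DerivedCategory.singleFunctors X.Modules).shiftIso (-b) b 0 (by omega)).app F
  have h' := locPC_of_iso e h
  rwa [show m + -b - -b = m by ring] at h'

open Pretriangulated DerivedCategory in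
/-- On a locally Noetherian scheme, an object bounded above by `b` with coherent cohomology in degrees
`≥ m` is `m`-pseudo-coherent (at every point). -/
theorem locPC_of_coh_isLE [IsLocallyNoetherian X] (m : ℤ) (x : X) (n : ℕ) :
    ∀ (E : DCoh.D X) (b : ℤ), E.IsLE b → (∀ i : ℤ, m ≤ i → Coh.IsCoh (DCoh.HD E i)) →
      b < m + n → LocPC m E x := by
  induction n with
  | zero =>
    intro E b hb _ hbm
    haveI := hb
    refine locPC_of_bounded (V := ⊤) trivial m (fun i hi => ?_)
    have e2 : (DerivedCategory.homologyFunctor _ i).obj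
        ((DCoh.restrictD (⊤ : X.Opens).ι).obj E) ≅
        (restrictFunctor (⊤ : X.Opens).ι).obj (DCoh.HD E i) :=
      (homologyCommIso (restrictFunctor (⊤ : X.Opens).ι) i).app E
    have hz : IsZero (DCoh.HD E i) := E.isZero_of_isLE b i (by push_cast at hbm; omega)
    exact IsZero.of_iso (Functor.map_isZero (restrictFunctor (⊤ : X.Opens).ι) hz) e2
  | succ n ih =>
    intro E b hb hcoh hbm
    by_cases hlt : b < m + n
    · exact ih E b hb hcoh hlt
    · haveI := hb
      obtain ⟨A, B, hA, hB, f, g, h, hT⟩ :=
        (DerivedCategory.TStructure.t : Triangulated.TStructure (DCoh.D X)).exists_triangle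
          E (b - 1) b (by omega)
      haveI : A.IsLE (b - 1) := ⟨hA⟩
      haveI : B.IsGE b := ⟨hB⟩
      have zA : ∀ i, b - 1 < i → IsZero ((homologyFunctor _ i).obj A) :=
        fun i hi => A.isZero_of_isLE (b - 1) i hi
      have zB : ∀ i, i < b → IsZero ((homologyFunctor _ i).obj B) :=
        fun i hi => B.isZero_of_isGE b i hi
      have zE : ∀ i, b < i → IsZero ((homologyFunctor _ i).obj E) :=
        fun i hi => E.isZero_of_isLE b i hi
      haveI : B.IsLE b := (DerivedCategory.isLE_iff B b).2 (fun i hi => by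
        have ex := HomologySequence.exact₃ _ hT i (i + 1) rfl
        exact ex.isZero_of_both_zeros ((zE i hi).eq_of_src _ _)
          ((zA (i + 1) (by omega)).eq_of_tgt _ _))
      have isoB : IsIso ((homologyFunctor _ b).map g) := by
        have ex2 := HomologySequence.exact₂ _ hT b
        have ex3 := HomologySequence.exact₃ _ hT b (b + 1) rfl
        have h1 : Mono ((homologyFunctor _ b).map g) :=
          ex2.mono_g ((zA b (by omega)).eq_of_src _ _)
        have h2 : Epi ((homologyFunctor _ b).map g) :=
          ex3.epi_f ((zA (b + 1) (by omega)).eq_of_tgt _ _)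
        exact isIso_of_mono_of_epi _
      obtain ⟨F, ⟨eB⟩⟩ := DerivedCategory.exists_iso_singleFunctor_obj_of_isGE_of_isLE B b
      have eF : F ≅ DCoh.HD E b :=
        ((singleHIso b).app F).symm ≪≫ (homologyFunctor _ b).mapIso eB.symm ≪≫
          (asIso ((homologyFunctor _ b).map g)).symm
      have hF : Coh.IsCoh F := isCoh_of_iso eF.symm (hcoh b (by push_cast at hbm; omega))
      have hBpc : LocPC m B x := locPC_of_iso eB.symm (locPC_single_of_isCoh F hF b m x)
      have hAcoh : ∀ i : ℤ, m ≤ i → Coh.IsCoh (DCoh.HD A i) := fun i hi => by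
        by_cases hib : i < b
        · have ex1 := HomologySequence.exact₁ _ hT (i - 1) i (by omega)
          have ex2 := HomologySequence.exact₂ _ hT i
          have h1 : Mono ((homologyFunctor _ i).map f) :=
            ex1.mono_g ((zB (i - 1) (by omega)).eq_of_src _ _)
          have h2 : Epi ((homologyFunctor _ i).map f) :=
            ex2.epi_f ((zB i hib).eq_of_tgt _ _)
          have h3 : IsIso ((homologyFunctor _ i).map f) := isIso_of_mono_of_epi _
          exact isCoh_of_iso (asIso ((homologyFunctor _ i).map f)).symm (hcoh i hi)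
        · exact isCoh_of_isZero (zA i (by omega))
      have hApc : LocPC m A x :=
        ih A (b - 1) inferInstance hAcoh (by push_cast at hbm; omega)
      exact locPC_obj₃ (Triangle.mk f g h).invRotate (inv_rot_of_distTriang _ hT) m x
        (locPC_shift_neg_one hBpc) hApc

/-- S1039. -/
theorem isPC_iff_coh [IsNoetherian X] (E : DCoh.D X) (hE : DCoh.IsQCohD E) (m : ℤ) :
    DCoh.IsPseudoCoherentD m E ↔
      (∀ i : ℤ, m ≤ i → Coh.IsCoh (DCoh.HD E i)) ∧ ∃ b : ℤ, E.IsLE b := by
  constructor
  · intro h
    rw [isPC_iff] at h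
    choose V hxV P π hP hiso hepi using fun x => exists_homology_map_of_locPC (h x)
    have hcohP : ∀ x i, Coh.IsCoh ((P x).homology i) := fun x i =>
      isCoh_homology_of_isStrictlyPerfect (hP x) i
    refine ⟨fun i hi => ⟨hE i, isFT_of_locFG _ (fun x => ?_)⟩, ?_⟩
    · have h1 : LocFG ((P x).homology i) ⟨x, hxV x⟩ := locFG_of_isFT _ (hcohP x i).2 _
      haveI : Epi (π x i) := by
        rcases hi.eq_or_lt with heq | hlt
        · subst heq
          exact hepi x
        · haveI := hiso x i hlt
          infer_instance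
      exact (h1.of_epi (π x i)).of_restrict (V x).ι
    · choose a b hab using fun x => (hP x).1
      obtain ⟨t, ht⟩ := isCompact_univ.elim_finite_subcover
        (fun x => ((V x : X.Opens) : Set X)) (fun x => (V x).isOpen)
        (fun y _ => Set.mem_iUnion.2 ⟨y, hxV y⟩)
      let N : ℕ := t.sup (fun x => (b x).natAbs)
      refine ⟨max (N : ℤ) m, (DerivedCategory.isLE_iff E _).2 (fun i hi => ?_)⟩
      refine isZero_of_locally _ (fun y => ?_)
      have hy := ht (Set.mem_univ y)
      obtain ⟨x, hx⟩ := Set.mem_iUnion.1 hy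
      obtain ⟨hxt, hyx⟩ := Set.mem_iUnion.1 hx
      have hbx : (b x).natAbs ≤ N := Finset.le_sup (f := fun x => (b x).natAbs) hxt
      have h1 := le_max_left (N : ℤ) m
      have h2 := le_max_right (N : ℤ) m
      have h0 : IsZero ((P x).X i) := hab x i (Or.inr (by omega))
      haveI := hiso x i (by omega)
      exact ⟨V x, hyx, IsZero.of_iso (ShortComplex.isZero_homology_of_isZero_X₂ _ h0)
        (asIso (π x i)).symm⟩
  · rintro ⟨hcoh, b, hb⟩
    rw [isPC_iff]
    intro x
    exact locPC_of_coh_isLE m x (b - m + 1).toNat E b hb hcoh (by omega)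

end Groth.Agent.H90.QH
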