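import Groth.Agent.S0934
import Groth.Agent.H8.InvRestrict
import Groth.Agent.H8.FreeMod
import Groth.Prelude.Def_DCoh2
import Groth.Prelude.Def_CxOX
import Mathlib

/-!
# Strictly perfect complexes on schemes: local null-homotopies (helper90 library)

* `homotopy_of_natIso`, `nullhomotopy_of_comp_iso`: transport of homotopies along isomorphisms of
  additive functors.
* `singleMap`, `singleHomotopy`: the null-homotopic map attached to a single morphism
  `K.X c ⟶ L.X (c - 1)`.
* `isFinLocFree_restrict`: restriction of a finite locally free module along an open immersion.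
* `exists_nullhomotopy_aux`, `exists_nullhomotopy`: a chain map from a bounded complex of finite
  locally free modules, zero in degrees `< a`, to a complex exact in degrees `≥ a` is locally
  null-homotopic (phrased with open immersions).
-/

set_option autoImplicit false
universe u
open CategoryTheory CategoryTheory.Limits AlgebraicGeometry

namespace Groth.Agent.H90.SPerf

section General

variable {A B C : Type*} [Category A] [Category B] [Category C]
  [Preadditive A] [Preadditive B] [Preadditive C]

lemma map_eq_conj {G G' : A ⥤ B} [G.Additive] [G'.Additive] (e : G ≅ G')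
    {K L : CochainComplex A ℤ} (χ : K ⟶ L) :
    (G.mapHomologicalComplex (ComplexShape.up ℤ)).map χ =
      (NatIso.mapHomologicalComplex e (ComplexShape.up ℤ)).hom.app K ≫
        (G'.mapHomologicalComplex (ComplexShape.up ℤ)).map χ ≫
        (NatIso.mapHomologicalComplex e (ComplexShape.up ℤ)).inv.app L := by
  rw [← NatTrans.naturality_assoc, Iso.hom_inv_id_app, Category.comp_id]

/-- Transport of a homotopy along an isomorphism of additive functors. -/
lemma homotopy_of_natIso {G G' : A ⥤ B} [G.Additive] [G'.Additive] (e : G ≅ G')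
    {K L : CochainComplex A ℤ} {φ ψ : K ⟶ L}
    (h : Homotopy ((G'.mapHomologicalComplex (ComplexShape.up ℤ)).map φ)
      ((G'.mapHomologicalComplex (ComplexShape.up ℤ)).map ψ)) :
    Nonempty (Homotopy ((G.mapHomologicalComplex (ComplexShape.up ℤ)).map φ)
      ((G.mapHomologicalComplex (ComplexShape.up ℤ)).map ψ)) :=
  ⟨(Homotopy.ofEq (map_eq_conj e φ)).trans
    (((h.compRight ((NatIso.mapHomologicalComplex e (ComplexShape.up ℤ)).inv.app L)).compLeft
      ((NatIso.mapHomologicalComplex e (ComplexShape.up ℤ)).hom.app K)).trans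
    (Homotopy.ofEq (map_eq_conj e ψ).symm))⟩

/-- Transport of a null-homotopy along an isomorphism of additive functors. -/
lemma nullhomotopy_of_natIso {G G' : A ⥤ B} [G.Additive] [G'.Additive] (e : G ≅ G')
    {K L : CochainComplex A ℤ} {φ : K ⟶ L}
    (h : Homotopy ((G'.mapHomologicalComplex (ComplexShape.up ℤ)).map φ) 0) :
    Nonempty (Homotopy ((G.mapHomologicalComplex (ComplexShape.up ℤ)).map φ) 0) :=
  ⟨(Homotopy.ofEq (map_eq_conj e φ)).trans
    (((h.compRight ((NatIso.mapHomologicalComplex e (ComplexShape.up ℤ)).inv.app L)).compLeft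
      ((NatIso.mapHomologicalComplex e (ComplexShape.up ℤ)).hom.app K)).trans
    (Homotopy.ofEq (by rw [zero_comp, comp_zero])))⟩

/-- A null-homotopy after two successive additive functors gives one for any isomorphic functor. -/
lemma nullhomotopy_of_comp_iso (G₁ : A ⥤ B) (G₂ : B ⥤ C) (G₃ : A ⥤ C)
    [G₁.Additive] [G₂.Additive] [G₃.Additive]
    (e : G₃ ≅ G₁ ⋙ G₂) {K L : CochainComplex A ℤ} (α : K ⟶ L)
    (h : Homotopy ((G₂.mapHomologicalComplex (ComplexShape.up ℤ)).map
      ((G₁.mapHomologicalComplex (ComplexShape.up ℤ)).map α)) 0) :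
    Nonempty (Homotopy ((G₃.mapHomologicalComplex (ComplexShape.up ℤ)).map α) 0) := by
  have h0 : Homotopy (((G₁ ⋙ G₂).mapHomologicalComplex (ComplexShape.up ℤ)).map α) 0 := h
  exact nullhomotopy_of_natIso e h0

end General

section Single

variable {B : Type*} [Category B] [Preadditive B] {K L : CochainComplex B ℤ} (c : ℤ)
  (ψ : K.X c ⟶ L.X (c - 1))

/-- The family of morphisms with the single nonzero component `ψ : K.X c ⟶ L.X (c - 1)`. -/
noncomputable def singleHom : ∀ i j : ℤ, K.X i ⟶ L.X j := fun i j =>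
  if h : i = c ∧ j = c - 1 then eqToHom (by rw [h.1]) ≫ ψ ≫ eqToHom (by rw [h.2]) else 0

lemma singleHom_self : singleHom c ψ c (c - 1) = ψ := by
  simp [singleHom]

lemma singleHom_of_ne (i j : ℤ) (h : i ≠ c) : singleHom c ψ i j = 0 := by
  simp [singleHom, h]

lemma singleHom_zero (i j : ℤ) (h : ¬ (ComplexShape.up ℤ).Rel j i) : singleHom c ψ i j = 0 := by
  unfold singleHom
  split_ifs with h'
  · exfalso
    apply h
    simp [h'.1, h'.2]
  · rfl

/-- The null-homotopic map attached to `ψ : K.X c ⟶ L.X (c - 1)`. -/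
noncomputable def singleMap : K ⟶ L := Homotopy.nullHomotopicMap (singleHom c ψ)

/-- `singleMap c ψ` is null-homotopic. -/
noncomputable def singleHomotopy : Homotopy (singleMap c ψ) 0 :=
  Homotopy.nullHomotopy _ (singleHom_zero c ψ)

lemma singleMap_f_self : (singleMap c ψ).f c = ψ ≫ L.d (c - 1) c := by
  rw [singleMap, Homotopy.nullHomotopicMap_f (k₂ := c - 1) (k₁ := c) (k₀ := c + 1)
    (by simp) (by simp), singleHom_self, singleHom_of_ne c ψ (c + 1) c (by omega),
    comp_zero, zero_add]

lemma singleMap_f_pred : (singleMap c ψ).f (c - 1) = K.d (c - 1) c ≫ ψ := by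
  rw [singleMap, Homotopy.nullHomotopicMap_f (k₂ := c - 1 - 1) (k₁ := c - 1) (k₀ := c)
    (by simp) (by simp), singleHom_self, singleHom_of_ne c ψ (c - 1) (c - 1 - 1) (by omega),
    zero_comp, add_zero]

lemma singleMap_f_of_gt (k : ℤ) (hk : c < k) : (singleMap c ψ).f k = 0 := by
  rw [singleMap, Homotopy.nullHomotopicMap_f (k₂ := k - 1) (k₁ := k) (k₀ := k + 1)
    (by simp) (by simp), singleHom_of_ne c ψ (k + 1) k (by omega),
    singleHom_of_ne c ψ k (k - 1) (by omega), comp_zero, zero_comp, add_zero]

end Single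

section Schemes

variable {X Y : Scheme.{u}}

/-- Restriction of a finite locally free module along an open immersion is finite locally free. -/
theorem isFinLocFree_restrict (j : Y ⟶ X) [IsOpenImmersion j] {M : X.Modules}
    (hM : FlatMod.IsFinLocFree M) :
    FlatMod.IsFinLocFree ((Scheme.Modules.restrictFunctor j).obj M) := by
  intro y
  obtain ⟨W, n, hyW, ⟨e⟩⟩ := hM (j y)
  refine ⟨j ⁻¹ᵁ W, n, hyW, ⟨?_⟩⟩
  exact H8.restrictRestrictIsoOfComm M (j ⁻¹ᵁ W).ι j (j ∣_ W) W.ι (morphismRestrict_ι j W).symm ≪≫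
    (Scheme.Modules.restrictFunctor (j ∣_ W)).mapIso e ≪≫ H8.restrictFreeIso (j ∣_ W) n

/-- Inductive form of the local null-homotopy lemma. -/
theorem exists_nullhomotopy_aux (n : ℕ) :
    ∀ (U : Scheme.{u}) (E F : CochainComplex U.Modules ℤ) (α : E ⟶ F) (a : ℤ)
      (_ : ∀ i, FlatMod.IsFinLocFree (E.X i)) (_ : ∀ i, i < a → IsZero (E.X i))
      (_ : ∀ i, a ≤ i → (F.sc' (i - 1) i (i + 1)).Exact)
      (_ : ∀ i, a + (n : ℤ) ≤ i → α.f i = 0) (y : U),
      ∃ (U' : Scheme.{u}) (j : U' ⟶ U) (_ : IsOpenImmersion j) (y' : U'), j y' = y ∧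
        Nonempty (Homotopy (((Scheme.Modules.restrictFunctor j).mapHomologicalComplex
          (ComplexShape.up ℤ)).map α) 0) := by
  induction n with
  | zero =>
    intro U E F α a hE hEa hF hα y
    have hα0 : α = 0 := by
      refine HomologicalComplex.hom_ext _ _ (fun i => ?_)
      by_cases hi : i < a
      · exact (hEa i hi).eq_of_src _ _
      · rw [HomologicalComplex.zero_f_apply]
        exact hα i (by push_cast; omega)
    refine ⟨U, 𝟙 U, inferInstance, y, by simp, ⟨Homotopy.ofEq ?_⟩⟩
    rw [hα0, Functor.map_zero]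
  | succ n ih =>
    intro U E F α a hE hEa hF hα y
    have hc : a ≤ a + (n : ℤ) := by omega
    generalize hcdef : a + (n : ℤ) = c at hc
    have hαk : ∀ k, c < k → α.f k = 0 := fun k hk => hα k (by push_cast; omega)
    have z : α.f c ≫ F.d c (c + 1) = 0 := by
      rw [α.comm c (c + 1), hαk (c + 1) (by omega), comp_zero]
    have hex := hF c hc
    have : Epi (kernel.lift (F.d c (c + 1)) (F.d (c - 1) c) (F.d_comp_d _ _ _)) :=
      hex.epi_kernelLift
    obtain ⟨W, ψ, hyW, hψ⟩ := S0934.result
      (kernel.lift (F.d c (c + 1)) (F.d (c - 1) c) (F.d_comp_d _ _ _))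
      (kernel.lift (F.d c (c + 1)) (α.f c) z) (hE c) y
    have hψ' : ψ ≫ (Scheme.Modules.restrictFunctor W.ι).map (F.d (c - 1) c) =
        (Scheme.Modules.restrictFunctor W.ι).map (α.f c) := by
      have := congrArg
        (· ≫ (Scheme.Modules.restrictFunctor W.ι).map (kernel.ι (F.d c (c + 1)))) hψ
      simpa only [Category.assoc, ← Functor.map_comp, kernel.lift_ι] using this
    let R := Scheme.Modules.restrictFunctor W.ι
    let RW := R.mapHomologicalComplex (ComplexShape.up ℤ)
    let ψ' : (RW.obj E).X c ⟶ (RW.obj F).X (c - 1) := ψ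
    have hα'' : ∀ k, a + (n : ℤ) ≤ k → (RW.map α - singleMap c ψ').f k = 0 := by
      intro k hk
      rw [HomologicalComplex.sub_f_apply]
      rcases (show k = c ∨ c < k by omega) with rfl | hk'
      · rw [singleMap_f_self, sub_eq_zero]
        exact hψ'.symm
      · rw [singleMap_f_of_gt c ψ' k hk', sub_zero]
        show R.map (α.f k) = 0
        rw [hαk k hk', Functor.map_zero]
    obtain ⟨U'', j', hj', y'', hy'', ⟨h⟩⟩ := ih (↑W) (RW.obj E) (RW.obj F)
      (RW.map α - singleMap c ψ') a
      (fun i => isFinLocFree_restrict W.ι (hE i))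
      (fun i hi => Functor.map_isZero R (hEa i hi))
      (fun i hi => (hF i hi).map R) hα'' ⟨y, hyW⟩
    have := hj'
    have h1 : Homotopy (((Scheme.Modules.restrictFunctor j').mapHomologicalComplex
        (ComplexShape.up ℤ)).map (singleMap c ψ')) 0 :=
      ((Scheme.Modules.restrictFunctor j').mapHomotopy (singleHomotopy c ψ')).trans
        (Homotopy.ofEq (Functor.map_zero _ _ _))
    have h2 : Homotopy (((Scheme.Modules.restrictFunctor j').mapHomologicalComplex
        (ComplexShape.up ℤ)).map (RW.map α)) 0 :=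
      (Homotopy.ofEq (by rw [← Functor.map_add, sub_add_cancel])).trans
        ((h.add h1).trans (Homotopy.ofEq (add_zero 0)))
    refine ⟨U'', j' ≫ W.ι, inferInstance, y'', ?_, ?_⟩
    · rw [Scheme.Hom.comp_apply, hy'']
      rfl
    · exact nullhomotopy_of_comp_iso (Scheme.Modules.restrictFunctor W.ι)
        (Scheme.Modules.restrictFunctor j') (Scheme.Modules.restrictFunctor (j' ≫ W.ι))
        (Scheme.Modules.restrictFunctorComp j' W.ι) α h2

/-- From a null-homotopy over an open immersion to a null-homotopy over an open subset. -/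
theorem nullhomotopy_opensRange {U : Scheme.{u}} (j : U ⟶ X) [IsOpenImmersion j]
    {E F : CochainComplex X.Modules ℤ} (α : E ⟶ F)
    (h : Homotopy (((Scheme.Modules.restrictFunctor j).mapHomologicalComplex
      (ComplexShape.up ℤ)).map α) 0) :
    Nonempty (Homotopy ((DCoh.restrictCx j.opensRange).map α) 0) :=
  nullhomotopy_of_comp_iso (Scheme.Modules.restrictFunctor j)
    (Scheme.Modules.restrictFunctor j.isoOpensRange.inv)
    (Scheme.Modules.restrictFunctor j.opensRange.ι)
    (Scheme.Modules.restrictFunctorCongr (j.isoOpensRange_inv_comp).symm ≪≫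
      Scheme.Modules.restrictFunctorComp j.isoOpensRange.inv j) α
    (((Scheme.Modules.restrictFunctor j.isoOpensRange.inv).mapHomotopy h).trans
      (Homotopy.ofEq (Functor.map_zero _ _ _)))

/-- Local null-homotopy: a chain map from a bounded complex of finite locally free modules
vanishing in degrees `< a` to a complex with vanishing cohomology in degrees `≥ a` is locally
null-homotopic. -/
theorem exists_nullhomotopy {E F : CochainComplex X.Modules ℤ}
    (α : E ⟶ F) (hE : DCoh.IsStrictlyPerfect E) (a : ℤ) (hEa : ∀ i : ℤ, i < a → IsZero (E.X i))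
    (hF : ∀ i : ℤ, a ≤ i → IsZero (F.homology i)) (x : X) :
    ∃ V : X.Opens, x ∈ V ∧ Nonempty (Homotopy ((DCoh.restrictCx V).map α) 0) := by
  obtain ⟨⟨a', b, hab⟩, hfl⟩ := hE
  have hle := Int.self_le_toNat (b + 1 - a)
  obtain ⟨U', j, hj, y', hy', ⟨h⟩⟩ := exists_nullhomotopy_aux (b + 1 - a).toNat X E F α a hfl hEa
    (fun i hi => (F.exactAt_iff' (i - 1) i (i + 1) (by simp) (by simp)).1
      ((F.exactAt_iff_isZero_homology i).2 (hF i hi)))
    (fun i hi => (hab i (Or.inr (by omega))).eq_of_src _ _) x
  have := hj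
  exact ⟨j.opensRange, ⟨y', hy'⟩, nullhomotopy_opensRange j α h⟩

end Schemes

end Groth.Agent.H90.SPerf
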