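import Groth.Agent.H90.SPerf
import Groth.Prelude.Def_DCoh3

/-!
# Strictly perfect complexes on schemes: local lifting through quasi-isomorphisms (helper90)

* `isZero_homology_mappingCone_of`: vanishing of the cohomology of a mapping cone.
* `exists_lift_of_comp_inr_nullhomotopic`: lifting up to homotopy through `f` of a map whose
  composition with `inr f` is null-homotopic.
* `exists_lift_homotopy`: local lifting up to homotopy from a strictly perfect complex.
* `exists_chain_map_rep`: a morphism in the derived category out of a strictly perfect complex is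
  locally given by a chain map.
-/

set_option autoImplicit false
universe w u
open CategoryTheory CategoryTheory.Limits AlgebraicGeometry

attribute [local instance] HasDerivedCategory.standard

namespace Groth.Agent.H90.SPerf

section Cone

open Pretriangulated

lemma isZero_homology_mappingCone_of {C : Type*} [Category C] [Abelian C]
    [HasDerivedCategory.{w} C] {G F : CochainComplex C ℤ} (f : G ⟶ F) (j : ℤ)
    (h1 : Epi (HomologicalComplex.homologyMap f j))
    (h2 : Mono (HomologicalComplex.homologyMap f (j + 1))) :
    IsZero ((CochainComplex.mappingCone f).homology j) := by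
  let T := CochainComplex.mappingCone.triangle f
  have hT : DerivedCategory.Q.mapTriangle.obj T ∈ distTriang _ :=
    DerivedCategory.mappingCone_triangle_distinguished f
  have e2 := CochainComplex.homologyMap_exact₂_of_distTriang T hT j
  have e3 := CochainComplex.homologyMap_exact₃_of_distTriang T hT j (j + 1) rfl
  have e1 := CochainComplex.homologyMap_exact₁_of_distTriang T hT j (j + 1) rfl
  have z2 : HomologicalComplex.homologyMap T.mor₂ j = 0 := e2.epi_f_iff.1 h1
  have z3 : CochainComplex.homologyδOfTriangle T j (j + 1) rfl = 0 := e1.mono_g_iff.1 h2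
  exact e3.isZero_of_both_zeros z2 z3

lemma exists_lift_of_comp_inr_nullhomotopic {C : Type*} [Category C] [Preadditive C]
    [HasZeroObject C] [HasBinaryBiproducts C]
    {E F G : CochainComplex C ℤ} (α : E ⟶ F) (f : G ⟶ F)
    (h : Homotopy (α ≫ CochainComplex.mappingCone.inr f) 0) :
    ∃ β : E ⟶ G, Nonempty (Homotopy (β ≫ f) α) := by
  have hT := HomotopyCategory.mappingCone_triangleh_distinguished f
  obtain ⟨g, hg⟩ := Triangle.coyoneda_exact₂ _ hT ((HomotopyCategory.quotient _ _).map α) (by
    show (HomotopyCategory.quotient _ _).map α ≫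
      (HomotopyCategory.quotient _ _).map (CochainComplex.mappingCone.inr f) = 0
    rw [← Functor.map_comp, HomotopyCategory.eq_of_homotopy _ _ h, Functor.map_zero])
  obtain ⟨β, hβ⟩ : ∃ β : E ⟶ G, (HomotopyCategory.quotient _ _).map β = g :=
    (HomotopyCategory.quotient _ _).map_surjective g
  refine ⟨β, ⟨(HomotopyCategory.homotopyOfEq _ _ ?_).symm⟩⟩
  rw [Functor.map_comp, hβ]
  exact hg

end Cone

section Schemes

variable {X : Scheme.{u}}

/-- Local lifting up to homotopy from a strictly perfect complex. -/
theorem exists_lift_homotopy {E F G : CochainComplex X.Modules ℤ}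
    (α : E ⟶ F) (f : G ⟶ F) (hE : DCoh.IsStrictlyPerfect E) (a : ℤ)
    (hEa : ∀ j : ℤ, j < a → IsZero (E.X j))
    (hf : ∀ j : ℤ, a < j → IsIso (HomologicalComplex.homologyMap f j))
    (hfa : Epi (HomologicalComplex.homologyMap f a)) (x : X) :
    ∃ (V : X.Opens) (β : (DCoh.restrictCx V).obj E ⟶ (DCoh.restrictCx V).obj G), x ∈ V ∧
      Nonempty (Homotopy (β ≫ (DCoh.restrictCx V).map f) ((DCoh.restrictCx V).map α)) := by
  have hC : ∀ j, a ≤ j → IsZero ((CochainComplex.mappingCone f).homology j) := by
    intro j hj
    apply isZero_homology_mappingCone_of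
    · rcases hj.eq_or_lt with rfl | hj'
      · exact hfa
      · have := hf j hj'
        infer_instance
    · have := hf (j + 1) (by omega)
      infer_instance
  obtain ⟨V, hxV, ⟨h⟩⟩ :=
    exists_nullhomotopy (α ≫ CochainComplex.mappingCone.inr f) hE a hEa hC x
  have h' : Homotopy ((DCoh.restrictCx V).map α ≫
      CochainComplex.mappingCone.inr ((DCoh.restrictCx V).map f)) 0 :=
    (Homotopy.ofEq (by
      rw [Functor.map_comp, Category.assoc, CochainComplex.mappingCone.map_inr])).trans
      ((h.compRight (CochainComplex.mappingCone.mapHomologicalComplexIso f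
        (Scheme.Modules.restrictFunctor V.ι)).hom).trans (Homotopy.ofEq zero_comp))
  obtain ⟨β, hβ⟩ := exists_lift_of_comp_inr_nullhomotopic _ _ h'
  exact ⟨V, β, hxV, hβ⟩

/-- A morphism in the derived category out of a strictly perfect complex is locally
represented by a chain map. -/
theorem exists_chain_map_rep {E F : CochainComplex X.Modules ℤ}
    (hE : DCoh.IsStrictlyPerfect E) (α : DCoh.toD X E ⟶ DCoh.toD X F) (x : X) :
    ∃ V : X.Opens, x ∈ V ∧ ∀ [PreservesFiniteLimits (Scheme.Modules.restrictFunctor V.ι)],
      ∃ β : (DCoh.restrictCx V).obj E ⟶ (DCoh.restrictCx V).obj F,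
        (DCoh.restrictD V.ι).map α =
          (Scheme.Modules.restrictFunctor V.ι).mapDerivedCategoryFactors.hom.app E ≫
            DerivedCategory.Q.map β ≫
            (Scheme.Modules.restrictFunctor V.ι).mapDerivedCategoryFactors.inv.app F := by
  obtain ⟨F', g, s, hs, hα⟩ := DerivedCategory.left_fac α
  have hs' : QuasiIso s := (DerivedCategory.isIso_Q_map_iff_quasiIso _ s).1 hs
  obtain ⟨⟨a, b, hab⟩, hfl⟩ := id hE
  have hsj : ∀ j : ℤ, IsIso (HomologicalComplex.homologyMap s j) := fun j =>
    (quasiIsoAt_iff_isIso_homologyMap s j).1 inferInstance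
  obtain ⟨V, β, hxV, ⟨hβ⟩⟩ := exists_lift_homotopy g s hE a (fun j hj => hab j (Or.inl hj))
    (fun j _ => hsj j) (by have := hsj a; infer_instance) x
  refine ⟨V, hxV, ?_⟩
  intro inst
  refine ⟨β, ?_⟩
  have hαs : α ≫ DerivedCategory.Q.map s = DerivedCategory.Q.map g := by
    rw [hα, Category.assoc, IsIso.inv_hom_id, Category.comp_id]
  have hQ : DerivedCategory.Q.map β ≫ DerivedCategory.Q.map ((DCoh.restrictCx V).map s) =
      DerivedCategory.Q.map ((DCoh.restrictCx V).map g) := by
    rw [← Functor.map_comp]
    exact DerivedCategory.Q_map_eq_of_homotopy _ hβ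
  have n1 := (Scheme.Modules.restrictFunctor V.ι).mapDerivedCategoryFactors_hom_naturality s
  have n2 := (Scheme.Modules.restrictFunctor V.ι).mapDerivedCategoryFactors_hom_naturality g
  rw [← cancel_mono ((DCoh.restrictD V.ι).map (DerivedCategory.Q.map s)),
    ← cancel_mono ((Scheme.Modules.restrictFunctor V.ι).mapDerivedCategoryFactors.hom.app F'),
    ← Functor.map_comp, hαs, n2]
  simp only [Category.assoc]
  rw [n1, Iso.inv_hom_id_app_assoc, hQ]

end Schemes

end Groth.Agent.H90.SPerf
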