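import Groth.Agent.H90.QCohHom
import Groth.Agent.S9805
import Groth.Prelude.Def_DCoh3

/-!
# Perfect objects are relatively perfect over a flat base (helper90)

* `isFlatOverAt_of_isFlatAt`: a module flat at `y` is flat over `S` at `y` when `g : Y ⟶ S` is flat at `y`.
* `locPC_of_locPerfO`: locally strictly perfect implies `LocPC m` for every `m`.
* `relPerfect_of_perfect` (= S7248).
-/

set_option autoImplicit false
set_option linter.style.haveILetI false
universe u
open CategoryTheory CategoryTheory.Limits AlgebraicGeometry TopologicalSpace Opposite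
open AlgebraicGeometry.Scheme.Modules

attribute [local instance] HasDerivedCategory.standard

namespace Groth.Agent.H90.QH

open Groth.Agent.H90.SPerf Groth.Agent.H90.LR

theorem isFlatOverAt_of_isFlatAt {Y S : Scheme.{u}} (g : Y ⟶ S) (M : Y.Modules) (y : Y)
    (hg : (g.stalkMap y).hom.Flat) (h : FlatMod.IsFlatAt M y) : FlatMod.IsFlatOverAt g M y := by
  letI a1 : Algebra (S.presheaf.stalk (g y)) (Y.presheaf.stalk y) := (g.stalkMap y).hom.toAlgebra
  letI m2 : Module (S.presheaf.stalk (g y)) (M.presheaf.stalk y) :=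
    Module.compHom _ (g.stalkMap y).hom
  haveI t : IsScalarTower (S.presheaf.stalk (g y)) (Y.presheaf.stalk y) (M.presheaf.stalk y) :=
    IsScalarTower.of_algebraMap_smul fun r m => rfl
  haveI : Module.Flat (S.presheaf.stalk (g y)) (Y.presheaf.stalk y) := hg
  haveI : Module.Flat (Y.presheaf.stalk y) (M.presheaf.stalk y) := h
  exact Module.Flat.trans (S.presheaf.stalk (g y)) (Y.presheaf.stalk y) (M.presheaf.stalk y)

variable {X : Scheme.{u}}

theorem isFlat_of_isFinLocFree {M : X.Modules} (hM : FlatMod.IsFinLocFree M) :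
    FlatMod.IsFlat M :=
  ((Groth.Agent.S9805.result X M (H8.isQuasicoherent_of_isFinLocFree M hM)).2 hM).1

lemma locPC_of_locPerfO {K : DCoh.D X} {x : X} (m : ℤ) (h : LocPerfO K x) : LocPC m K x := by
  obtain ⟨V, hxV, P, hP, ⟨e⟩⟩ := h
  exact ⟨V, hxV, P, e.inv, hP, MQI.of_isIso m e.inv⟩

/-- S7248. -/
theorem relPerfect_of_perfect {S : Scheme.{u}} (f : X ⟶ S) [Flat f] (E : DCoh.D X)
    (hE : DCoh.IsPerfect E) :
    (∀ m : ℤ, DCoh.IsPseudoCoherentD m E) ∧ DCoh.LocHasFiniteRelTorDim f E := by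
  rw [isPerfect_iff] at hE
  refine ⟨fun m => (isPC_iff m E).2 (fun x => locPC_of_locPerfO m (hE x)), fun x => ?_⟩
  obtain ⟨V, hxV, P, hP, ⟨e⟩⟩ := hE x
  obtain ⟨a, b, hab⟩ := hP.1
  refine ⟨V, a, b, hxV, fun F' ⟨e₀⟩ => ⟨P, hab, fun i => ?_,
    ⟨((restrictDObjIso V.ι e₀).symm ≪≫ e).symm⟩⟩⟩
  intro y
  exact isFlatOverAt_of_isFlatAt (V.ι ≫ f) (P.X i) y (Flat.stalkMap (V.ι ≫ f) y)
    (isFlat_of_isFinLocFree (hP.2 i) y)

end Groth.Agent.H90.QH
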