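import Groth.Agent.H90.TildePC
import Groth.Agent.H90.RegPerf
import Groth.Agent.H28.PerfAmp3
import Groth.Agent.S12451
import Groth.Agent.H56.PCohMore

/-!
# Perfect objects on affine schemes: `M~` is perfect iff `M` is (helper90)

* `exists_locAmp_of_isPerfect`: a perfect object on a quasi-compact scheme has (locally) perfect
  amplitude in a fixed interval `[a, b]`.
* `isPerfect_tildeD_iff` (= S1105).
-/

set_option autoImplicit false
set_option linter.style.haveILetI false
set_option maxHeartbeats 400000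
universe w v u' u
open CategoryTheory CategoryTheory.Limits AlgebraicGeometry TopologicalSpace Opposite
open AlgebraicGeometry.Scheme.Modules

attribute [local instance] HasDerivedCategory.standard

namespace Groth.Agent.H90.TPerf

open Groth.Agent.H90.SPerf Groth.Agent.H90.LR Groth.Agent.H90.QH Groth.Agent.H28.PCohD
open Groth.Agent.H90.CPC Groth.Agent.H90.TPC

section Scheme

/-- A perfect object on a quasi-compact scheme has perfect amplitude in some `[a, b]`. -/
theorem exists_locAmp_of_isPerfect {T : Scheme.{u}} [CompactSpace T] (K : DCoh.D T)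
    (hK : DCoh.IsPerfect K) : ∃ a b : ℤ, ∀ x, Groth.Agent.H28.PerfAmp.LocAmp a b K x := by
  rw [isPerfect_iff] at hK
  have hloc : ∀ t : T, ∃ (W : T.Opens) (a b : ℤ), t ∈ W ∧
      ∃ E : CochainComplex (W : Scheme.{u}).Modules ℤ,
        DCoh.VanishesOutside E a b ∧ (∀ i : ℤ, FlatMod.IsFinLocFree (E.X i)) ∧
        Nonempty ((DCoh.restrictD W.ι).obj K ≅ DerivedCategory.Q.obj E) := by
    intro t
    obtain ⟨V, htV, E, ⟨⟨a, b, hab⟩, hfl⟩, he⟩ := hK t
    exact ⟨V, a, b, htV, E, hab, hfl, he⟩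
  choose W a b hW hE using hloc
  obtain ⟨s, hs⟩ := isCompact_univ.elim_nhds_subcover (fun t => ((W t : T.Opens) : Set T))
    (fun t _ => (W t).isOpen.mem_nhds (hW t))
  obtain ⟨B, hB⟩ := (s.image b).exists_le
  obtain ⟨A, hA⟩ := (s.image (fun t => - a t)).exists_le
  refine ⟨-A, B, fun t => ?_⟩
  have ht : t ∈ ⋃ x ∈ s, ((W x : T.Opens) : Set T) := hs.2 (Set.mem_univ t)
  simp only [Set.mem_iUnion] at ht
  obtain ⟨x, hxs, htx⟩ := ht
  obtain ⟨E, hv, hfl, he⟩ := hE x
  have h1 : b x ≤ B := hB _ (Finset.mem_image_of_mem b hxs)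
  have h2 : - a x ≤ A := hA _ (Finset.mem_image_of_mem (fun t => - a t) hxs)
  refine ⟨W x, htx, E, fun i hi => hv i ?_, hfl, he⟩
  rcases hi with hi | hi
  · exact Or.inl (by omega)
  · exact Or.inr (by omega)

variable {X : Scheme.{u}}

lemma locPerfO_Q_of_isStrictlyPerfect {P : CochainComplex X.Modules ℤ}
    (hP : DCoh.IsStrictlyPerfect P) (x : X) : LocPerfO (DerivedCategory.Q.obj P) x :=
  ⟨⊤, trivial, _, isStrictlyPerfect_restrict _ hP,
    ⟨(restrictFunctor (⊤ : X.Opens).ι).mapDerivedCategoryFactors.app P⟩⟩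

end Scheme

section Main

variable (R : CommRingCat.{u}) [PreservesFiniteLimits (tilde.functor R)]

/-- `M` perfect `⟹` `M~` perfect. -/
theorem isPerfect_tildeD_of (M : Dual.D R) (h : DRing.IsPerfect R M) :
    DCoh.IsPerfect ((DCoh.tildeD R).obj M) := by
  obtain ⟨E, a, b, hv, hfp, ⟨e⟩⟩ := h
  have hE : DCoh.IsStrictlyPerfect
      (((tilde.functor R).mapHomologicalComplex (ComplexShape.up ℤ)).obj E) := by
    refine ⟨⟨a, b, fun i hi => Functor.map_isZero (tilde.functor R) (hv i hi)⟩, fun i => ?_⟩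
    exact (Groth.Agent.S12451.result (E.X i)).2 (hfp i)
  rw [isPerfect_iff]
  intro x
  exact locPerfO_of_iso
    (((tilde.functor R).mapDerivedCategoryFactors.app E).symm ≪≫ (DCoh.tildeD R).mapIso e)
    (locPerfO_Q_of_isStrictlyPerfect hE x)

set_option backward.isDefEq.respectTransparency false in
open Groth.Agent.H31 Groth.Agent.H40.LTensorDCoh Groth.Agent.H40.TorAmp Groth.Agent.H40.TorAmp2
  Groth.Agent.H40.TorAmp3 Groth.Agent.H40.FlatCoker Groth.Agent.H40.FlatKer in
/-- `M~` perfect `⟹` `M` perfect. -/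
theorem isPerfect_of_tildeD (M : Dual.D R) (h : DCoh.IsPerfect ((DCoh.tildeD R).obj M)) :
    DRing.IsPerfect R M := by
  -- `M` is pseudo-coherent, hence has a bounded above finite free model `F`
  have hpc : ∀ m : ℤ, DRing.IsPseudoCoherent R m M := fun m =>
    (isPC_tildeD_iff R M m).1
      ((isPC_iff m _).2 (fun x => locPC_of_locPerfO m ((isPerfect_iff _).1 h x)))
  obtain ⟨F, b₀, hFv, hFff, ⟨eF⟩⟩ := Groth.Agent.H56.isPseudoCoherent'_iff_forall.2 hpc
  let G : CochainComplex (Spec R).Modules ℤ :=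
    ((tilde.functor R).mapHomologicalComplex (ComplexShape.up ℤ)).obj F
  have eG : DerivedCategory.Q.obj G ≅ (DCoh.tildeD R).obj M :=
    ((tilde.functor R).mapDerivedCategoryFactors.app F).symm ≪≫ (DCoh.tildeD R).mapIso eF
  have hGflf : ∀ i : ℤ, FlatMod.IsFinLocFree (G.X i) := fun i => by
    haveI := (hFff i).1
    haveI := (hFff i).2
    exact (Groth.Agent.S12451.result (F.X i)).2 ⟨inferInstance, inferInstance⟩
  have hGflat : ∀ i : ℤ, FlatMod.IsFlat (G.X i) := fun i =>
    Groth.Agent.H90.QH.isFlat_of_isFinLocFree (hGflf i)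
  have hGv : ∀ q : ℤ, b₀ < q → IsZero (G.X q) := fun q hq =>
    Functor.map_isZero (tilde.functor R) (hFv q hq)
  have hGK : DCoh.IsKFlat G := isKFlat_of_bounded_above_stalkFlat G b₀ hGv hGflat
  -- global amplitude
  obtain ⟨a, b, hE⟩ := exists_locAmp_of_isPerfect _ h
  have hvan : ∀ (G' : (Spec R).Modules) (i : ℤ), (i < a ∨ b < i) →
      IsZero (((Fc G').obj G).homology i) := fun G' i hi =>
    Groth.Agent.H28.PerfAmp.isZero_homology_TfC _ a b hE G hGK eG G' i hi
  have hvanG : ∀ i : ℤ, (i < a ∨ b < i) → IsZero (G.homology i) := fun i hi =>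
    isZero_homology_of_tensor_unit G i (hvan _ i hi)
  have hop : FlatMod.IsFlat (G.opcycles a) :=
    flat_cokernel_of_homology_zero G a (hGflat a)
      (fun G' => hvan G' (a - 1) (Or.inl (by omega))) (G.pOpcycles a)
      (G.d_pOpcycles _ _) (G.opcyclesIsCokernel (a - 1) a (by simp))
  have hflf : FlatMod.IsFinLocFree (G.opcycles a) :=
    Groth.Agent.H28.PerfTor.isFinLocFree_opcycles a (hGflf _) (hGflf _) hop
  -- back to modules
  have eop : G.opcycles a ≅ (tilde.functor R).obj (F.opcycles a) :=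
    (F.sc a).mapOpcyclesIso (tilde.functor R)
  have hWfp : Module.Finite R (F.opcycles a) ∧ Module.Projective R (F.opcycles a) :=
    (Groth.Agent.S12451.result (F.opcycles a)).1 (Groth.Agent.H8.isFinLocFree_of_iso eop hflf)
  have hFhom : ∀ i : ℤ, i < a → IsZero (F.homology i) := fun i hi =>
    isZero_of_isZero_tilde R _ (IsZero.of_iso (hvanG i (Or.inl hi))
      ((F.sc i).mapHomologyIso (tilde.functor R)).symm)
  have hFge : F.IsGE a := by
    rw [CochainComplex.isGE_iff]
    intro i hi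
    rw [HomologicalComplex.exactAt_iff_isZero_homology]
    exact hFhom i hi
  have hπ : QuasiIso (F.πTruncGE a) := inferInstance
  have hQπ : IsIso (DerivedCategory.Q.map (F.πTruncGE a)) :=
    (DerivedCategory.isIso_Q_map_iff_quasiIso _ _).2 hπ
  have e₁ : DerivedCategory.Q.obj (F.truncGE a) ≅ M :=
    (@asIso _ _ _ _ (DerivedCategory.Q.map (F.πTruncGE a)) hQπ).symm ≪≫ eF
  have hE₁lt : ∀ i : ℤ, i < a → IsZero ((F.truncGE a).X i) := fun i hi =>
    (F.truncGE a).isZero_of_isStrictlyGE a i hi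
  have hE₁v : ∀ i : ℤ, max b₀ a < i → IsZero ((F.truncGE a).X i) := fun i hi =>
    IsZero.of_iso (hFv _ (lt_of_le_of_lt (le_max_left _ _) hi))
      (F.truncGEXIso a i (lt_of_le_of_lt (le_max_right _ _) hi))
  have hE₁fp : ∀ i : ℤ, Module.Finite R ((F.truncGE a).X i) ∧
      Module.Projective R ((F.truncGE a).X i) := by
    intro i
    by_cases hia : i < a
    · exact Groth.Agent.H56.moduleFinite_projective_of_isZero _ (hE₁lt i hia)
    · by_cases hia' : i = a
      · subst hia'
        have e1 := (F.truncGEXIsoOpcycles i).toLinearEquiv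
        haveI := hWfp.1
        haveI := hWfp.2
        exact ⟨Module.Finite.equiv e1.symm, Module.Projective.of_equiv e1.symm⟩
      · have e1 := (F.truncGEXIso a i (by omega)).toLinearEquiv
        haveI := (hFff i).1
        haveI := (hFff i).2
        exact ⟨Module.Finite.equiv e1.symm, Module.Projective.of_equiv e1.symm⟩
  exact ⟨F.truncGE a, a, max b₀ a, fun i hi => hi.elim (hE₁lt i) (hE₁v i), hE₁fp, ⟨e₁⟩⟩

/-- S1105. -/
theorem isPerfect_tildeD_iff (M : Dual.D R) :
    DCoh.IsPerfect ((DCoh.tildeD R).obj M) ↔ DRing.IsPerfect R M :=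
  ⟨isPerfect_of_tildeD R M, isPerfect_tildeD_of R M⟩

end Main

end Groth.Agent.H90.TPerf
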