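import Mathlib
import Groth.Prelude.Def_BMCoh3

/-!
# Open-system colimits of a pre-theory: basic API (helper90)
-/

set_option autoImplicit false
universe u

namespace Groth.Agent.H90

open CategoryTheory CategoryTheory.Limits Opposite BMCoh AlgebraicGeometry

variable {V : ObjectProperty Scheme.{u}} [IsConstructible V] {R : Type u} [CommRing R]
  {A : Coefs R} (T : PreTheory V R A)

/-- The evaluated colimit cocone is a colimit. -/
noncomputable def ocolimIsColimit (X : Obj V) (P : X.scheme.Opens → Prop) (i n : ℤ) (M : A.Cat) :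
    IsColimit (((evaluation A.Cat (ModuleCat.{u} R)).obj M).mapCocone
      (colimit.cocone ((idxDiag X P).op ⋙ T.H i n))) :=
  isColimitOfPreserves _ (colimit.isColimit _)

theorem ocolim_hom_ext (X : Obj V) (P : X.scheme.Opens → Prop) (i n : ℤ) (M : A.Cat)
    {N : ModuleCat.{u} R} (f g : (T.ocolim X P i n).obj M ⟶ N)
    (h : ∀ U : Idx X P, (T.ocolimι X P i n U).app M ≫ f = (T.ocolimι X P i n U).app M ≫ g) :
    f = g := by
  refine (ocolimIsColimit T X P i n M).hom_ext fun j => ?_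
  exact h j.unop

/-- Compatibility of the colimit injections with restriction. -/
theorem ocolimι_w (X : Obj V) (P : X.scheme.Opens → Prop) (i n : ℤ) {U U' : Idx X P}
    (h : U ≤ U') :
    (T.H i n).map ((idxDiag X P).map (homOfLE h)).op ≫ T.ocolimι X P i n U
      = T.ocolimι X P i n U' :=
  colimit.w ((idxDiag X P).op ⋙ T.H i n) (homOfLE h).op

theorem ocolimι_w_app (X : Obj V) (P : X.scheme.Opens → Prop) (i n : ℤ) (M : A.Cat)
    {U U' : Idx X P} (h : U ≤ U')
    (hd : WeilCoh.dim (U.1 : Scheme.{u}) = WeilCoh.dim (U'.1 : Scheme.{u})) :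
    T.pull (X.resLE h hd) M i n ≫ (T.ocolimι X P i n U).app M
      = (T.ocolimι X P i n U').app M := by
  rw [← ocolimι_w T X P i n h]
  rfl

theorem ocolimMap_ι (X : Obj V) {P Q : X.scheme.Opens → Prop} (h : ∀ U, P U → Q U) (i n : ℤ)
    (U : Idx X P) :
    T.ocolimι X P i n U ≫ T.ocolimMap X h i n
      = T.ocolimι X Q i n ⟨U.1, h _ U.2.1, U.2.2⟩ :=
  colimit.ι_pre ((idxDiag X Q).op ⋙ T.H i n) (idxIncl X h).op (op U)

theorem ocolimMap_ι_app (X : Obj V) {P Q : X.scheme.Opens → Prop} (h : ∀ U, P U → Q U) (i n : ℤ)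
    (M : A.Cat) (U : Idx X P) :
    (T.ocolimι X P i n U).app M ≫ (T.ocolimMap X h i n).app M
      = (T.ocolimι X Q i n ⟨U.1, h _ U.2.1, U.2.2⟩).app M := by
  rw [← NatTrans.comp_app, ocolimMap_ι]

section Filtered

variable (X : Obj V) (P : X.scheme.Opens → Prop)

/-- Hypotheses making the index family cofiltered. -/
structure IdxDirected : Prop where
  nonempty : Nonempty (Idx X P)
  inter : ∀ U U' : Idx X P, P (U.1 ⊓ U'.1) ∧
    WeilCoh.dim ((U.1 ⊓ U'.1 : X.scheme.Opens) : Scheme.{u}) = WeilCoh.dim X.scheme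

variable {X P}

theorem IdxDirected.isFiltered (hP : IdxDirected X P) : IsFiltered (Idx X P)ᵒᵖ := by
  have : Nonempty (Idx X P) := hP.nonempty
  have : IsDirected (Idx X P) (· ≥ ·) :=
    ⟨fun U U' => ⟨⟨U.1 ⊓ U'.1, hP.inter U U'⟩,
      (inf_le_left : U.1 ⊓ U'.1 ≤ U.1), (inf_le_right : U.1 ⊓ U'.1 ≤ U'.1)⟩⟩
  have : IsCofiltered (Idx X P) := inferInstance
  infer_instance

theorem ocolim_exists_rep (hP : IdxDirected X P) (i n : ℤ) (M : A.Cat)
    (a : (T.ocolim X P i n).obj M) :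
    ∃ (U : Idx X P) (b : ((T.H i n).obj (op (X.res U.1))).obj M),
      ((T.ocolimι X P i n U).app M).hom b = a := by
  have := hP.isFiltered
  obtain ⟨j, y, hy⟩ := Concrete.isColimit_exists_rep _ (ocolimIsColimit T X P i n M) a
  exact ⟨j.unop, y, hy⟩

theorem ocolim_eq_zero (hP : IdxDirected X P) (i n : ℤ) (M : A.Cat) (U : Idx X P)
    (b : ((T.H i n).obj (op (X.res U.1))).obj M)
    (hb : ((T.ocolimι X P i n U).app M).hom b = 0) :
    ∃ (U' : Idx X P) (h : U' ≤ U),
      (T.pull (X.resLE h (U'.2.2.trans U.2.2.symm)) M i n).hom b = 0 := by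
  have := hP.isFiltered
  have h0 : ((T.ocolimι X P i n U).app M).hom b = ((T.ocolimι X P i n U).app M).hom 0 := by
    rw [hb, map_zero]
  obtain ⟨k, f, g, hfg⟩ := (Concrete.isColimit_rep_eq_iff_exists _
    (ocolimIsColimit T X P i n M) (i := op U) (j := op U) b 0).mp h0
  refine ⟨k.unop, f.unop.le, ?_⟩
  exact hfg.trans (map_zero _)

end Filtered

end Groth.Agent.H90
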