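import Mathlib
import Groth.Prelude.Def_BMCoh3

/-!
# Dimension lemmas for the Borel–Moore cluster (helper90)
-/

set_option autoImplicit false
universe u

namespace Groth.Agent.H90

open TopologicalSpace Topology Set AlgebraicGeometry CategoryTheory

theorem unbotD_toNat_mono (d e : WithBot ℕ∞) (h : d ≤ e) (he : e < ⊤) :
    (d.unbotD 0).toNat ≤ (e.unbotD 0).toNat := by
  induction d using WithBot.recBotCoe with
  | bot => simp
  | coe a =>
    induction e using WithBot.recBotCoe with
    | bot => simp at h
    | coe b =>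
      have hab : a ≤ b := WithBot.coe_le_coe.mp h
      have hb : b ≠ ⊤ := by
        rintro rfl; exact lt_irrefl _ he
      simpa using ENat.toNat_le_toNat hab hb

theorem le_unbotD_toNat (n : ℕ) (e : WithBot ℕ∞) (h : (n : WithBot ℕ∞) ≤ e) (he : e < ⊤) :
    n ≤ (e.unbotD 0).toNat := by
  have := unbotD_toNat_mono (n : WithBot ℕ∞) e h he
  simpa using this

theorem eq_coe_unbotD_toNat (e : WithBot ℕ∞) (h : 0 ≤ e) (he : e < ⊤) :
    e = (((e.unbotD 0).toNat : ℕ) : WithBot ℕ∞) := by
  induction e using WithBot.recBotCoe with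
  | bot => simp at h
  | coe b =>
    have hb : b ≠ ⊤ := by
      rintro rfl; exact lt_irrefl _ he
    obtain ⟨n, rfl⟩ := ENat.ne_top_iff_exists.mp hb
    simp

/-- natDim is monotone along inducing maps into finite-dimensional spaces. -/
theorem natDim_le_of_isInducing {A B : Type u} [TopologicalSpace A] [TopologicalSpace B]
    {f : A → B} (hf : IsInducing f) (hB : topologicalKrullDim B < ⊤) :
    WeilCoh.natDim A ≤ WeilCoh.natDim B :=
  unbotD_toNat_mono _ _ hf.topologicalKrullDim_le hB

/-- A chain of length `n` gives `n ≤ natDim` in a finite-dimensional space. -/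
theorem le_natDim_of_le_dim {A : Type u} [TopologicalSpace A] (n : ℕ)
    (h : (n : WithBot ℕ∞) ≤ topologicalKrullDim A) (hA : topologicalKrullDim A < ⊤) :
    n ≤ WeilCoh.natDim A :=
  le_unbotD_toNat n _ h hA

/-- In a nonempty finite-dimensional space there is a chain of length `natDim`. -/
theorem exists_ltSeries_length_eq_natDim {A : Type u} [TopologicalSpace A] [Nonempty A]
    (hA : topologicalKrullDim A < ⊤) :
    ∃ p : LTSeries (IrreducibleCloseds A), p.length = WeilCoh.natDim A := by
  have hne : Nonempty (IrreducibleCloseds A) := by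
    obtain ⟨a⟩ := ‹Nonempty A›
    exact ⟨⟨closure {a}, isIrreducible_singleton.closure, isClosed_closure⟩⟩
  have h0 : (0 : WithBot ℕ∞) ≤ topologicalKrullDim A := Order.krullDim_nonneg
  have h1 := eq_coe_unbotD_toNat _ h0 hA
  have h2 : ((WeilCoh.natDim A : ℕ) : WithBot ℕ∞) ≤ topologicalKrullDim A := by
    unfold WeilCoh.natDim; rw [← h1]
  exact Order.le_krullDim_iff.mp h2

/-- Preimage in a subspace `Y` of an irreducible set contained in `Y` is irreducible. -/
theorem isIrreducible_preimage_val {X : Type u} [TopologicalSpace X] {Y Z : Set X}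
    (hZ : IsIrreducible Z) (hZY : Z ⊆ Y) : IsIrreducible ((Subtype.val : Y → X) ⁻¹' Z) := by
  refine ⟨?_, ?_⟩
  · obtain ⟨z, hz⟩ := hZ.nonempty
    exact ⟨⟨z, hZY hz⟩, hz⟩
  · intro u v hu hv ⟨a, haZ, hau⟩ ⟨b, hbZ, hbv⟩
    obtain ⟨u', hu', rfl⟩ := isOpen_induced_iff.mp hu
    obtain ⟨v', hv', rfl⟩ := isOpen_induced_iff.mp hv
    obtain ⟨c, hcZ, hcu, hcv⟩ := hZ.isPreirreducible u' v' hu' hv' ⟨a, haZ, hau⟩ ⟨b, hbZ, hbv⟩
    exact ⟨⟨c, hZY hcZ⟩, hcZ, hcu, hcv⟩

/-- A chain of irreducible closed sets all contained in a subset `Y` restricts to a chain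
of the same length in `Y`. -/
theorem length_le_dim_of_subset {X : Type u} [TopologicalSpace X]
    (p : LTSeries (IrreducibleCloseds X))
    (Y : Set X) (hY : (p.last : Set X) ⊆ Y) :
    (p.length : WithBot ℕ∞) ≤ topologicalKrullDim Y := by
  have hsub : ∀ i, (p i : Set X) ⊆ Y := fun i => by
    have h : p i ≤ p.last := p.monotone (Fin.le_last i)
    exact fun a ha => hY (h ha)
  let f : Fin (p.length + 1) → IrreducibleCloseds Y := fun i =>
    { carrier := (Subtype.val : Y → X) ⁻¹' (p i : Set X)
      isIrreducible' := isIrreducible_preimage_val (p i).isIrreducible (hsub i)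
      isClosed' := (p i).isClosed.preimage continuous_subtype_val }
  have hf : StrictMono f := by
    intro i j hij
    have hlt : p i < p j := p.strictMono hij
    have hle : p i ≤ p j := hlt.le
    have hle' : f i ≤ f j := fun a ha => hle ha
    refine lt_of_le_of_ne hle' ?_
    intro heq
    apply hlt.ne
    apply IrreducibleCloseds.ext
    have h1 : ((Subtype.val : Y → X) ⁻¹' (p i : Set X)) =
        ((Subtype.val : Y → X) ⁻¹' (p j : Set X)) :=
      congrArg (fun s : IrreducibleCloseds Y => (s : Set Y)) heq
    have h2 := congrArg (fun s => (Subtype.val : Y → X) '' s) h1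
    simp only [Subtype.image_preimage_coe] at h2
    rwa [Set.inter_eq_right.mpr (hsub _), Set.inter_eq_right.mpr (hsub _)] at h2
  let q : LTSeries (IrreducibleCloseds Y) := LTSeries.mk p.length f hf
  exact Order.LTSeries.length_le_krullDim q

/-- Strict decrease of the dimension of the closure under proper specialization. -/
theorem natDim_closure_lt {X : Type u} [TopologicalSpace X] [T0Space X]
    (hX : topologicalKrullDim X < ⊤) {x y : X} (hy : y ∈ closure ({x} : Set X)) (hne : y ≠ x) :
    WeilCoh.natDim ↥(closure ({y} : Set X)) < WeilCoh.natDim ↥(closure ({x} : Set X)) := by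
  have hAfin : topologicalKrullDim ↥(closure ({y} : Set X)) < ⊤ :=
    lt_of_le_of_lt (topologicalKrullDim_subspace_le X _) hX
  have hBfin : topologicalKrullDim ↥(closure ({x} : Set X)) < ⊤ :=
    lt_of_le_of_lt (topologicalKrullDim_subspace_le X _) hX
  have : Nonempty ↥(closure ({y} : Set X)) := ⟨⟨y, subset_closure rfl⟩⟩
  obtain ⟨p, hp⟩ := exists_ltSeries_length_eq_natDim hAfin
  -- push the chain to X
  have hind : IsInducing (Subtype.val : ↥(closure ({y} : Set X)) → X) := IsInducing.subtypeVal
  let p' : LTSeries (IrreducibleCloseds X) :=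
    p.map (IrreducibleCloseds.map Subtype.val continuous_subtype_val)
      (IrreducibleCloseds.map_strictMono_of_isInducing hind)
  let B : IrreducibleCloseds X :=
    ⟨closure {x}, isIrreducible_singleton.closure, isClosed_closure⟩
  have hsubA : ∀ s : IrreducibleCloseds ↥(closure ({y} : Set X)),
      ((IrreducibleCloseds.map Subtype.val continuous_subtype_val s : IrreducibleCloseds X) : Set X)
        ⊆ closure {y} := by
    intro s
    show closure (Subtype.val '' (s : Set ↥(closure ({y} : Set X)))) ⊆ closure {y}
    refine closure_minimal ?_ isClosed_closure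
    rintro _ ⟨a, _, rfl⟩
    exact a.2
  have hAB : closure ({y} : Set X) ⊆ closure {x} :=
    closure_minimal (singleton_subset_iff.mpr hy) isClosed_closure
  have hlast : p'.last < B := by
    refine lt_of_le_of_ne ?_ ?_
    · intro a ha
      exact hAB (hsubA _ ha)
    · intro heq
      have hx : x ∈ (p'.last : Set X) := by
        rw [heq]; exact subset_closure rfl
      have hxy : x ∈ closure ({y} : Set X) := hsubA _ hx
      exact hne ((specializes_iff_mem_closure.mpr hxy).antisymm
        (specializes_iff_mem_closure.mpr hy)).eq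
  let q : LTSeries (IrreducibleCloseds X) := p'.snoc B hlast
  have hq : (q.last : Set X) ⊆ closure {x} := by
    simp [q, B]
  have h1 := length_le_dim_of_subset q (closure {x}) hq
  have h2 : ((p.length + 1 : ℕ) : WithBot ℕ∞) ≤ topologicalKrullDim ↥(closure ({x} : Set X)) := by
    simpa [q, p'] using h1
  have h3 := le_natDim_of_le_dim _ h2 hBfin
  omega

end Groth.Agent.H90
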