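import Mathlib
import Groth.Prelude.Def_BMCoh3
import Groth.Agent.H90.BMDim

/-!
# Geometry of objects of a constructible class (helper90)
-/

set_option autoImplicit false
universe u

namespace Groth.Agent.H90

open TopologicalSpace Topology Set AlgebraicGeometry CategoryTheory BMCoh

variable {V : ObjectProperty Scheme.{u}} [IsConstructible V]

theorem finite_dim (X : Obj V) : topologicalKrullDim X.scheme < ⊤ :=
  IsConstructible.finiteDim X.mem

theorem range_ptSubι (X : Obj V) (x : X.scheme) :
    Set.range (X.ptSubι x) = closure ({x} : Set X.scheme) := by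
  rw [Scheme.IdealSheafData.range_subschemeι, Scheme.IdealSheafData.coe_support_vanishingIdeal]
  rfl

theorem dim_subtype_le (X : Obj V) (S : Set X.scheme) :
    WeilCoh.natDim ↥S ≤ WeilCoh.dim X.scheme :=
  natDim_le_of_isInducing IsInducing.subtypeVal (finite_dim X)

theorem pdim_le_dim (X : Obj V) (x : X.scheme) :
    WeilCoh.pdim X.scheme x ≤ WeilCoh.dim X.scheme :=
  dim_subtype_le X _

theorem dim_ptSub (X : Obj V) (x : X.scheme) :
    WeilCoh.dim (X.ptSub x).scheme = WeilCoh.pdim X.scheme x := by
  have hemb : IsClosedEmbedding (X.ptSubι x) := (X.ptSubι x).isClosedEmbedding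
  have h1 := IsHomeomorph.topologicalKrullDim_eq _ hemb.isEmbedding.toHomeomorph.isHomeomorph
  unfold WeilCoh.dim WeilCoh.pdim WeilCoh.natDim
  rw [h1, range_ptSubι]

theorem irreducibleSpace_ptSub (X : Obj V) (x : X.scheme) :
    IrreducibleSpace (X.ptSub x).scheme := by
  have hemb : IsClosedEmbedding (X.ptSubι x) := (X.ptSubι x).isClosedEmbedding
  have e := hemb.isEmbedding.toHomeomorph
  rw [e.irreducibleSpace_iff, range_ptSubι]
  exact Subtype.irreducibleSpace isIrreducible_singleton.closure

theorem pdim_le_of_mem_closure (X : Obj V) {x y : X.scheme} (hy : y ∈ closure ({x} : Set X.scheme)) :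
    WeilCoh.pdim X.scheme y ≤ WeilCoh.pdim X.scheme x := by
  have hsub : closure ({y} : Set X.scheme) ⊆ closure {x} :=
    closure_minimal (singleton_subset_iff.mpr hy) isClosed_closure
  have hfin : topologicalKrullDim ↥(closure ({x} : Set X.scheme)) < ⊤ :=
    lt_of_le_of_lt (topologicalKrullDim_subspace_le _ _) (finite_dim X)
  exact natDim_le_of_isInducing (f := Set.inclusion hsub)
    (IsEmbedding.inclusion hsub).isInducing hfin

theorem pdim_lt_of_mem_closure (X : Obj V) {x y : X.scheme} (hy : y ∈ closure ({x} : Set X.scheme))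
    (hne : y ≠ x) : WeilCoh.pdim X.scheme y < WeilCoh.pdim X.scheme x :=
  natDim_closure_lt (finite_dim X) hy hne

theorem codim_le_of_mem_closure (X : Obj V) {x y : X.scheme}
    (hy : y ∈ closure ({x} : Set X.scheme)) :
    WeilCoh.codim X.scheme x ≤ WeilCoh.codim X.scheme y := by
  have := pdim_le_of_mem_closure X hy
  unfold WeilCoh.codim; omega

theorem codim_lt_of_mem_closure (X : Obj V) {x y : X.scheme}
    (hy : y ∈ closure ({x} : Set X.scheme)) (hne : y ≠ x) :
    WeilCoh.codim X.scheme x < WeilCoh.codim X.scheme y := by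
  have h1 := pdim_lt_of_mem_closure X hy hne
  have h2 := pdim_le_dim X x
  unfold WeilCoh.codim; omega

theorem codim_int (X : Obj V) (x : X.scheme) :
    ((WeilCoh.codim X.scheme x : ℕ) : ℤ)
      = (WeilCoh.dim X.scheme : ℤ) - (WeilCoh.pdim X.scheme x : ℤ) := by
  have h2 := pdim_le_dim X x
  unfold WeilCoh.codim; omega

theorem exists_codim_zero (X : Obj V) [Nonempty X.scheme] :
    ∃ ξ : X.scheme, WeilCoh.codim X.scheme ξ = 0 := by
  obtain ⟨p, hp⟩ := exists_ltSeries_length_eq_natDim (finite_dim X)
  have hirr : IsIrreducible (p.last : Set X.scheme) := p.last.isIrreducible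
  have hcl : IsClosed (p.last : Set X.scheme) := p.last.isClosed
  have hgen := hirr.isGenericPoint_genericPoint hcl
  refine ⟨hirr.genericPoint, ?_⟩
  have hfin : topologicalKrullDim ↥(closure ({hirr.genericPoint} : Set X.scheme)) < ⊤ :=
    lt_of_le_of_lt (topologicalKrullDim_subspace_le _ _) (finite_dim X)
  have h1 := length_le_dim_of_subset p (closure {hirr.genericPoint}) (by rw [hgen.def])
  have h2 := le_natDim_of_le_dim _ h1 hfin
  have h3 : WeilCoh.dim X.scheme ≤ WeilCoh.pdim X.scheme hirr.genericPoint := by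
    unfold WeilCoh.dim WeilCoh.pdim; rw [← hp]; exact h2
  unfold WeilCoh.codim; omega

theorem dim_opens_le (X : Obj V) (U : X.scheme.Opens) :
    WeilCoh.dim (U : Scheme.{u}) ≤ WeilCoh.dim X.scheme :=
  natDim_le_of_isInducing U.ι.isOpenEmbedding.isInducing (finite_dim X)

theorem finite_dim_opens (X : Obj V) (U : X.scheme.Opens) :
    topologicalKrullDim (U : Scheme.{u}) < ⊤ :=
  lt_of_le_of_lt U.ι.isOpenEmbedding.isInducing.topologicalKrullDim_le (finite_dim X)

theorem dim_opens_mono (X : Obj V) {U U' : X.scheme.Opens} (h : U ≤ U') :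
    WeilCoh.dim (U : Scheme.{u}) ≤ WeilCoh.dim (U' : Scheme.{u}) :=
  natDim_le_of_isInducing (X.scheme.homOfLE h).isOpenEmbedding.isInducing (finite_dim_opens X U')

/-- Nonempty opens of the reduced closure of a point have its dimension. -/
theorem dim_opens_ptSub (X : Obj V) (x : X.scheme) (W : (X.ptSub x).scheme.Opens)
    (hW : (W : Set (X.ptSub x).scheme).Nonempty) :
    WeilCoh.dim (W : Scheme.{u}) = WeilCoh.dim (X.ptSub x).scheme :=
  IsConstructible.dim_open (X.ptSub x).mem (irreducibleSpace_ptSub X x) W hW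

/-- An open containing all points of codimension 0 has the dimension of the whole object. -/
theorem dim_opens_of_codim_zero (X : Obj V) (U : X.scheme.Opens)
    (hU : ∀ y : X.scheme, WeilCoh.codim X.scheme y = 0 → y ∈ U) :
    WeilCoh.dim (U : Scheme.{u}) = WeilCoh.dim X.scheme := by
  refine le_antisymm (dim_opens_le X U) ?_
  rcases isEmpty_or_nonempty X.scheme with hX | hX
  · have : WeilCoh.dim X.scheme = 0 := by
      unfold WeilCoh.dim WeilCoh.natDim
      have : topologicalKrullDim X.scheme = ⊥ := by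
        unfold topologicalKrullDim
        have : IsEmpty (IrreducibleCloseds X.scheme) :=
          ⟨fun s => hX.elim s.isIrreducible.nonempty.some⟩
        exact Order.krullDim_eq_bot
      rw [this]; simp
    omega
  · obtain ⟨ξ, hξ⟩ := exists_codim_zero X
    have hξU : ξ ∈ U := hU ξ hξ
    -- the open of the closure of ξ
    let W : (X.ptSub ξ).scheme.Opens := X.ptSubι ξ ⁻¹ᵁ U
    have hWne : (W : Set (X.ptSub ξ).scheme).Nonempty := by
      have : ξ ∈ Set.range (X.ptSubι ξ) := by rw [range_ptSubι]; exact subset_closure rfl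
      obtain ⟨z, hz⟩ := this
      exact ⟨z, by show (X.ptSubι ξ) z ∈ U; rw [hz]; exact hξU⟩
    have h1 := dim_opens_ptSub X ξ W hWne
    have h2 := dim_ptSub X ξ
    have h3 : WeilCoh.dim (W : Scheme.{u}) ≤ WeilCoh.dim (U : Scheme.{u}) :=
      natDim_le_of_isInducing (f := (X.ptSubι ξ ∣_ U))
        (X.ptSubι ξ ∣_ U).isClosedEmbedding.isInducing (finite_dim_opens X U)
    have h4 : WeilCoh.pdim X.scheme ξ = WeilCoh.dim X.scheme := by
      have := pdim_le_dim X ξ
      unfold WeilCoh.codim at hξ; omega
    omega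

end Groth.Agent.H90
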