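import Mathlib
import Groth.Prelude.Def_BMCoh3
import Groth.Agent.H90.BMGeom
import Groth.Agent.H90.BMColim

/-!
# Closures of points restricted to opens; directedness of the index families (helper90)
-/

set_option autoImplicit false
universe u

namespace Groth.Agent.H90

open TopologicalSpace Topology Set AlgebraicGeometry CategoryTheory BMCoh Opposite

variable {V : ObjectProperty Scheme.{u}} [IsConstructible V]

/-- The trace on the reduced closure of `x` of an open `U` of `X`. -/
noncomputable abbrev Wof (X : Obj V) (x : X.scheme) (U : X.scheme.Opens) :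
    (X.ptSub x).scheme.Opens := X.ptSubι x ⁻¹ᵁ U

/-- The closed immersion of the trace `Wof X x U` into `U`. -/
noncomputable def fOf (X : Obj V) (x : X.scheme) (U : X.scheme.Opens) :
    ((X.ptSub x).res (Wof X x U)).scheme ⟶ (X.res U).scheme := X.ptSubι x ∣_ U

instance (X : Obj V) (x : X.scheme) (U : X.scheme.Opens) : IsClosedImmersion (fOf X x U) := by
  unfold fOf; infer_instance

theorem fOf_ι (X : Obj V) (x : X.scheme) (U : X.scheme.Opens) :
    fOf X x U ≫ U.ι = (Wof X x U).ι ≫ X.ptSubι x := morphismRestrict_ι _ _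

theorem fOf_coe (X : Obj V) (x : X.scheme) (U : X.scheme.Opens)
    (z : ((X.ptSub x).res (Wof X x U)).scheme) :
    ((fOf X x U) z).1 = (X.ptSubι x) z.1 := morphismRestrict_base_coe _ _ z

theorem range_fOf (X : Obj V) (x : X.scheme) (U : X.scheme.Opens) :
    Set.range (fOf X x U) = {p : (X.res U).scheme | p.1 ∈ closure ({x} : Set X.scheme)} := by
  ext p
  constructor
  · rintro ⟨z, rfl⟩
    show ((fOf X x U) z).1 ∈ closure ({x} : Set X.scheme)
    rw [fOf_coe, ← range_ptSubι]
    exact ⟨_, rfl⟩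
  · intro hp
    have hp' : p.1 ∈ Set.range (X.ptSubι x) := by rw [range_ptSubι]; exact hp
    obtain ⟨z, hz⟩ := hp'
    have hzU : z ∈ Wof X x U := by
      show (X.ptSubι x) z ∈ U
      rw [hz]; exact p.2
    refine ⟨⟨z, hzU⟩, ?_⟩
    apply Subtype.ext
    rw [fOf_coe]; exact hz

/-- The point of the reduced closure lying over `x`. -/
theorem exists_ptSubι_eq (X : Obj V) (x : X.scheme) : ∃ z : (X.ptSub x).scheme, (X.ptSubι x) z = x := by
  have : x ∈ Set.range (X.ptSubι x) := by rw [range_ptSubι]; exact subset_closure rfl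
  exact this

theorem ptSubι_injective (X : Obj V) (x : X.scheme) : Function.Injective (X.ptSubι x) :=
  (X.ptSubι x).isClosedEmbedding.injective

/-- Every nonempty open of the reduced closure of `x` contains the point over `x`. -/
theorem mem_of_nonempty_opens (X : Obj V) (x : X.scheme) (W : (X.ptSub x).scheme.Opens)
    (hW : (W : Set (X.ptSub x).scheme).Nonempty) (z0 : (X.ptSub x).scheme)
    (hz0 : (X.ptSubι x) z0 = x) : z0 ∈ W := by
  by_contra hz
  have hcl : IsClosed (X.ptSubι x '' ((W : Set (X.ptSub x).scheme)ᶜ)) :=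
    (X.ptSubι x).isClosedEmbedding.isClosedMap _ W.2.isClosed_compl
  have hx : x ∈ X.ptSubι x '' ((W : Set (X.ptSub x).scheme)ᶜ) := ⟨z0, hz, hz0⟩
  have hsub : closure ({x} : Set X.scheme) ⊆ X.ptSubι x '' ((W : Set (X.ptSub x).scheme)ᶜ) :=
    closure_minimal (singleton_subset_iff.mpr hx) hcl
  obtain ⟨z, hzW⟩ := hW
  have : (X.ptSubι x) z ∈ closure ({x} : Set X.scheme) := by
    rw [← range_ptSubι]; exact ⟨z, rfl⟩
  obtain ⟨z', hz', hzz'⟩ := hsub this
  rw [ptSubι_injective X x hzz'] at hz'
  exact hz' hzW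

/-- The largest open of `X` whose trace on the closure of `x` is `W`. -/
noncomputable def Uof (X : Obj V) (x : X.scheme) (W : (X.ptSub x).scheme.Opens) : X.scheme.Opens :=
  ⟨(X.ptSubι x '' ((W : Set (X.ptSub x).scheme)ᶜ))ᶜ,
    ((X.ptSubι x).isClosedEmbedding.isClosedMap _ W.2.isClosed_compl).isOpen_compl⟩

theorem mem_Uof (X : Obj V) (x : X.scheme) (W : (X.ptSub x).scheme.Opens) (y : X.scheme) :
    y ∈ Uof X x W ↔ ∀ z, (X.ptSubι x) z = y → z ∈ W := by
  show y ∈ (X.ptSubι x '' ((W : Set (X.ptSub x).scheme)ᶜ))ᶜ ↔ _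
  simp only [mem_compl_iff, mem_image, not_exists, not_and]
  constructor
  · intro h z hz
    by_contra hzW
    exact h z hzW hz
  · intro h z hzW hz
    exact hzW (h z hz)

theorem Wof_Uof (X : Obj V) (x : X.scheme) (W : (X.ptSub x).scheme.Opens) :
    Wof X x (Uof X x W) = W := by
  ext z
  show (X.ptSubι x) z ∈ Uof X x W ↔ z ∈ W
  rw [mem_Uof]
  constructor
  · intro h; exact h z rfl
  · intro hz z' hz'
    rw [ptSubι_injective X x hz']; exact hz

theorem mem_Uof_of_codim_le (X : Obj V) (x : X.scheme) (W : (X.ptSub x).scheme.Opens)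
    (hW : (W : Set (X.ptSub x).scheme).Nonempty) (y : X.scheme)
    (hy : WeilCoh.codim X.scheme y ≤ WeilCoh.codim X.scheme x) : y ∈ Uof X x W := by
  rw [mem_Uof]
  intro z hz
  obtain ⟨z0, hz0⟩ := exists_ptSubι_eq X x
  have hz0W := mem_of_nonempty_opens X x W hW z0 hz0
  by_cases hyx : y = x
  · have : z = z0 := ptSubι_injective X x (by rw [hz, hz0, hyx])
    rw [this]; exact hz0W
  · have hycl : y ∈ closure ({x} : Set X.scheme) := by
      rw [← range_ptSubι]; exact ⟨z, hz⟩
    have := codim_lt_of_mem_closure X hycl hyx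
    omega

/-- Directedness of the opens containing `F_j X`. -/
theorem idxDirected_containsFj (X : Obj V) (j : ℕ) : IdxDirected X (ContainsFj X j) where
  nonempty := ⟨⟨⊤, fun _ _ => trivial, dim_top X.scheme⟩⟩
  inter U U' := by
    have h : ContainsFj X j (U.1 ⊓ U'.1) := fun y hy => ⟨U.2.1 y hy, U'.2.1 y hy⟩
    exact ⟨h, dim_opens_of_codim_zero X _ fun y hy => h y (by omega)⟩

/-- Directedness of the nonempty opens of the reduced closure of a point. -/
theorem idxDirected_pt (X : Obj V) (x : X.scheme) :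
    IdxDirected (X.ptSub x) (fun U => (U : Set (X.ptSub x).scheme).Nonempty) where
  nonempty := by
    have := irreducibleSpace_ptSub X x
    exact ⟨⟨⊤, Set.univ_nonempty, dim_top _⟩⟩
  inter U U' := by
    have := irreducibleSpace_ptSub X x
    have h : ((U.1 ⊓ U'.1 : (X.ptSub x).scheme.Opens) : Set (X.ptSub x).scheme).Nonempty :=
      nonempty_preirreducible_inter U.1.2 U'.1.2 U.2.1 U'.2.1
    exact ⟨h, dim_opens_ptSub X x _ h⟩

/-- The index of the point family given by the trace of an open containing `x`. -/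
theorem Wof_nonempty (X : Obj V) (x : X.scheme) (U : X.scheme.Opens) (hx : x ∈ U) :
    ((Wof X x U : (X.ptSub x).scheme.Opens) : Set (X.ptSub x).scheme).Nonempty := by
  obtain ⟨z0, hz0⟩ := exists_ptSubι_eq X x
  exact ⟨z0, by show (X.ptSubι x) z0 ∈ U; rw [hz0]; exact hx⟩

/-- The relative codimension of the trace of the closure of `x` in an open of full dimension. -/
theorem relCodim_fOf (X : Obj V) (x : X.scheme) (U : X.scheme.Opens)
    (hU : WeilCoh.dim (U : Scheme.{u}) = WeilCoh.dim X.scheme)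
    (hW : ((Wof X x U : (X.ptSub x).scheme.Opens) : Set (X.ptSub x).scheme).Nonempty) :
    relCodim ((X.ptSub x).res (Wof X x U)).scheme (X.res U).scheme
      = (WeilCoh.codim X.scheme x : ℤ) := by
  unfold relCodim
  rw [codim_int]
  have h1 : WeilCoh.dim ((X.ptSub x).res (Wof X x U)).scheme = WeilCoh.pdim X.scheme x := by
    rw [← dim_ptSub]; exact dim_opens_ptSub X x _ hW
  have h2 : WeilCoh.dim (X.res U).scheme = WeilCoh.dim X.scheme := hU
  rw [h1, h2]

end Groth.Agent.H90
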