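import Mathlib
import Groth.Prelude.Def_BMCoh3
import Groth.Agent.H90.BMGeom2

/-!
# Decompositions cut out by the closure of a point; functoriality helpers (helper90)
-/

set_option autoImplicit false
universe u

namespace Groth.Agent.H90

open TopologicalSpace Topology Set AlgebraicGeometry CategoryTheory BMCoh Opposite

variable {V : ObjectProperty Scheme.{u}} [IsConstructible V]

theorem resLE_hom_coe (X : Obj V) {U U' : X.scheme.Opens} (h : U' ≤ U)
    (hd : WeilCoh.dim (U' : Scheme.{u}) = WeilCoh.dim (U : Scheme.{u}))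
    (q : (X.res U').scheme) : ((X.resLE h hd).hom q).1 = q.1 :=
  Scheme.homOfLE_apply h q

theorem range_resLE (X : Obj V) {U U' : X.scheme.Opens} (h : U' ≤ U)
    (hd : WeilCoh.dim (U' : Scheme.{u}) = WeilCoh.dim (U : Scheme.{u})) :
    Set.range (X.resLE h hd).hom = {p : (X.res U).scheme | p.1 ∈ U'} := by
  ext p
  constructor
  · rintro ⟨q, rfl⟩
    show ((X.resLE h hd).hom q).1 ∈ U'
    rw [resLE_hom_coe]; exact q.2
  · intro hp
    exact ⟨⟨p.1, hp⟩, Subtype.ext (resLE_hom_coe X h hd _)⟩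

/-- The decomposition of an open `U` of `X` into the trace of the closure of `x` and its
complement `U'`. -/
noncomputable def decompOf (X : Obj V) (x : X.scheme) (U U' : X.scheme.Opens) (h : U' ≤ U)
    (hd : WeilCoh.dim (U' : Scheme.{u}) = WeilCoh.dim (U : Scheme.{u}))
    (hset : ∀ p ∈ U, (p ∈ U' ↔ p ∉ closure ({x} : Set X.scheme))) : Decomp (X.res U) where
  Z := (X.ptSub x).res (Wof X x U)
  U := X.res U'
  i := fOf X x U
  closedImm := inferInstance
  j := X.resLE h hd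
  range_eq := by
    rw [range_fOf, range_resLE]
    ext p
    simp only [Set.mem_ofPred_eq, Set.mem_compl_iff]
    exact hset p.1 p.2

section Functoriality

variable {R : Type u} [CommRing R] {A : Coefs R} (T : PreTheory V R A)

theorem pull_comp {X Y Z : Obj V} (a : X ⟶ Y) (b : Y ⟶ Z) (M : A.Cat) (i n : ℤ) :
    T.pull b M i n ≫ T.pull a M i n = T.pull (a ≫ b) M i n := by
  show ((T.H i n).map b.op).app M ≫ ((T.H i n).map a.op).app M = ((T.H i n).map (a ≫ b).op).app M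
  rw [← NatTrans.comp_app, ← CategoryTheory.Functor.map_comp, ← op_comp]

theorem pull_id (X : Obj V) (M : A.Cat) (i n : ℤ) : T.pull (𝟙 X) M i n = 𝟙 _ := by
  show ((T.H i n).map (𝟙 X).op).app M = 𝟙 _
  rw [op_id, CategoryTheory.Functor.map_id, NatTrans.id_app]

theorem pull_comp_apply {X Y Z : Obj V} (a : X ⟶ Y) (b : Y ⟶ Z) (M : A.Cat) (i n : ℤ)
    (c : T.gp Z M i n) :
    (T.pull a M i n).hom ((T.pull b M i n).hom c) = (T.pull (a ≫ b) M i n).hom c := by
  rw [← pull_comp]; rfl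

theorem resLE_comp (X : Obj V) {U₁ U₂ U₃ : X.scheme.Opens} (h₁ : U₁ ≤ U₂) (h₂ : U₂ ≤ U₃)
    (hd₁ : WeilCoh.dim (U₁ : Scheme.{u}) = WeilCoh.dim (U₂ : Scheme.{u}))
    (hd₂ : WeilCoh.dim (U₂ : Scheme.{u}) = WeilCoh.dim (U₃ : Scheme.{u})) :
    X.resLE h₁ hd₁ ≫ X.resLE h₂ hd₂ = X.resLE (h₁.trans h₂) (hd₁.trans hd₂) :=
  Hom.ext (Scheme.homOfLE_homOfLE X.scheme h₁ h₂)

theorem resLE_refl (X : Obj V) (U : X.scheme.Opens)
    (hd : WeilCoh.dim (U : Scheme.{u}) = WeilCoh.dim (U : Scheme.{u})) :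
    X.resLE (le_refl U) hd = 𝟙 _ :=
  Hom.ext (Scheme.homOfLE_rfl _ _)

/-- Restriction in two steps. -/
theorem pull_resLE_resLE (X : Obj V) {U₁ U₂ U₃ : X.scheme.Opens} (h₁ : U₁ ≤ U₂) (h₂ : U₂ ≤ U₃)
    (hd₁ : WeilCoh.dim (U₁ : Scheme.{u}) = WeilCoh.dim (U₂ : Scheme.{u}))
    (hd₂ : WeilCoh.dim (U₂ : Scheme.{u}) = WeilCoh.dim (U₃ : Scheme.{u}))
    (M : A.Cat) (i n : ℤ) (c : T.gp (X.res U₃) M i n) :
    (T.pull (X.resLE h₁ hd₁) M i n).hom ((T.pull (X.resLE h₂ hd₂) M i n).hom c)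
      = (T.pull (X.resLE (h₁.trans h₂) (hd₁.trans hd₂)) M i n).hom c := by
  rw [pull_comp_apply, resLE_comp]

/-- Restriction to the same open is the identity. -/
theorem pull_resLE_refl (X : Obj V) (U : X.scheme.Opens)
    (hd : WeilCoh.dim (U : Scheme.{u}) = WeilCoh.dim (U : Scheme.{u}))
    (M : A.Cat) (i n : ℤ) (c : T.gp (X.res U) M i n) :
    (T.pull (X.resLE (le_refl U) hd) M i n).hom c = c := by
  rw [resLE_refl, pull_id]; rfl

/-- Element form of the compatibility of colimit injections with restriction. -/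
theorem ocolimι_res (X : Obj V) (P : X.scheme.Opens → Prop) (i n : ℤ) (M : A.Cat)
    {U U' : Idx X P} (h : U ≤ U') (c : T.gp (X.res U'.1) M i n) :
    ((T.ocolimι X P i n U').app M).hom c
      = ((T.ocolimι X P i n U).app M).hom
          ((T.pull (X.resLE h (U.2.2.trans U'.2.2.symm)) M i n).hom c) := by
  rw [← ocolimι_w_app T X P i n M h (U.2.2.trans U'.2.2.symm)]; rfl

end Functoriality

section Pullback

/-- The traces of the closure of `x` on nested opens form a cartesian square. -/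
theorem isPullback_fOf (X : Obj V) (x : X.scheme) {U₁ U₂ : X.scheme.Opens} (h : U₁ ≤ U₂)
    (hW : Wof X x U₁ ≤ Wof X x U₂) :
    IsPullback ((X.ptSub x).scheme.homOfLE hW) (fOf X x U₁) (fOf X x U₂) (X.scheme.homOfLE h) := by
  have hright : IsPullback (Wof X x U₂).ι (fOf X x U₂) (X.ptSubι x) U₂.ι :=
    (isPullback_morphismRestrict (X.ptSubι x) U₂).flip
  have houter : IsPullback ((X.ptSub x).scheme.homOfLE hW ≫ (Wof X x U₂).ι) (fOf X x U₁)
      (X.ptSubι x) (X.scheme.homOfLE h ≫ U₂.ι) := by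
    rw [Scheme.homOfLE_ι, Scheme.homOfLE_ι]
    exact (isPullback_morphismRestrict (X.ptSubι x) U₁).flip
  refine IsPullback.of_right houter ?_ hright
  rw [← cancel_mono U₂.ι, Category.assoc, Category.assoc, fOf_ι, Scheme.homOfLE_ι,
    Scheme.homOfLE_ι_assoc, fOf_ι]

theorem Wof_mono (X : Obj V) (x : X.scheme) {U₁ U₂ : X.scheme.Opens} (h : U₁ ≤ U₂) :
    Wof X x U₁ ≤ Wof X x U₂ := fun _ hz => h hz

end Pullback

end Groth.Agent.H90
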