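import Mathlib
import Groth.Prelude.Def_BMCoh3
import Groth.Agent.H90.BMGeom3

/-!
# Exactness of `⊕ H(x) → H(F_{j+1}X) → H(F_jX)` (helper90)
-/

set_option autoImplicit false
universe u

namespace Groth.Agent.H90

open TopologicalSpace Topology Set AlgebraicGeometry CategoryTheory BMCoh Opposite

variable {V : ObjectProperty Scheme.{u}} [IsConstructible V]

theorem mem_finset_sup_closeds {α : Type*} [TopologicalSpace α] (S : Finset (Closeds α)) (p : α) :
    p ∈ ((S.sup id : Closeds α) : Set α) ↔ ∃ t ∈ S, p ∈ (t : Set α) := by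
  classical
  induction S using Finset.induction_on with
  | empty => simp
  | insert t S ht ih =>
    rw [Finset.sup_insert, id, Closeds.coe_sup, Set.mem_union, ih]
    constructor
    · rintro (h | ⟨s, hs, h⟩)
      · exact ⟨t, Finset.mem_insert_self _ _, h⟩
      · exact ⟨s, Finset.mem_insert_of_mem hs, h⟩
    · rintro ⟨s, hs, h⟩
      rcases Finset.mem_insert.mp hs with rfl | hs'
      · exact Or.inl h
      · exact Or.inr ⟨s, hs', h⟩

/-- The open complement of a closed set. -/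
def complOpens {α : Type*} [TopologicalSpace α] (t : Closeds α) : Opens α :=
  ⟨(t : Set α)ᶜ, t.isClosed.isOpen_compl⟩

theorem mem_complOpens {α : Type*} [TopologicalSpace α] (t : Closeds α) (p : α) :
    p ∈ complOpens t ↔ p ∉ (t : Set α) := Iff.rfl

variable {R : Type u} [CommRing R] {A : Coefs R} (T : PreTheory V R A)

/-- Push-forward from a point of codimension `j+1` dies in `H(F_j X)`. -/
theorem cpt_comp_fjRes_eq_zero (X : Obj V) (j : ℕ) (P : T.PushData X (j + 1)) (M : A.Cat)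
    (i n k n' : ℤ) (hi : k + 1 = i + 2 * ((j + 1 : ℕ) : ℤ)) (hn : n' = n + ((j + 1 : ℕ) : ℤ))
    (x : X.cdPt (j + 1)) :
    P.cpt x M i n (k + 1) n' hi hn ≫ (T.fjRes X (Nat.le_succ j) (k + 1) n').app M = 0 := by
  refine ocolim_hom_ext T (X.ptSub x.1) _ i n M _ _ (fun W => ?_)
  rw [Limits.comp_zero]
  have hcont : ContainsFj X (j + 1) (Uof X x.1 W.1) := fun y hy =>
    mem_Uof_of_codim_le X x.1 W.1 W.2.1 y (by rw [x.2]; exact hy)
  have hdim : WeilCoh.dim ((Uof X x.1 W.1 : X.scheme.Opens) : Scheme.{u}) = WeilCoh.dim X.scheme :=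
    dim_opens_of_codim_zero X _ fun y hy => hcont y (by omega)
  let U : Idx X (ContainsFj X (j + 1)) := ⟨Uof X x.1 W.1, hcont, hdim⟩
  have hWW : Wof X x.1 U.1 = W.1 := Wof_Uof X x.1 W.1
  have hW'ne : ((Wof X x.1 U.1 : (X.ptSub x.1).scheme.Opens) :
      Set (X.ptSub x.1).scheme).Nonempty := by rw [hWW]; exact W.2.1
  let W' : ptIdx X x.1 := ⟨Wof X x.1 U.1, hW'ne, by rw [hWW]; exact W.2.2⟩
  have hW'W : W' = W := Subtype.ext hWW
  have hrel := relCodim_fOf X x.1 U.1 hdim hW'ne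
  have hi' : k + 1 = i + 2 * relCodim ((X.ptSub x.1).res W'.1).scheme (X.res U.1).scheme := by
    rw [hrel, x.2]; exact hi
  have hn' : n' = n + relCodim ((X.ptSub x.1).res W'.1).scheme (X.res U.1).scheme := by
    rw [hrel, x.2]; exact hn
  have h1 := P.cpt_spec x M i n (k + 1) n' hi hn U W' (fOf X x.1 U.1) (fOf_ι X x.1 U.1) hi' hn'
  -- the complement of the closure of x in U
  let cl : Closeds X.scheme := ⟨closure {x.1}, isClosed_closure⟩
  have hU''c : ContainsFj X j (U.1 ⊓ complOpens cl) := fun y hy =>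
    ⟨hcont y (by omega), fun hycl => by
      have := codim_le_of_mem_closure X (x := x.1) (y := y) hycl
      rw [x.2] at this; omega⟩
  have hU''d : WeilCoh.dim ((U.1 ⊓ complOpens cl : X.scheme.Opens) : Scheme.{u})
      = WeilCoh.dim X.scheme :=
    dim_opens_of_codim_zero X _ fun y hy => hU''c y (by omega)
  let Uj : Idx X (ContainsFj X j) := ⟨U.1, containsFj_mono X (Nat.le_succ j) _ hcont, hdim⟩
  let U'' : Idx X (ContainsFj X j) := ⟨U.1 ⊓ complOpens cl, hU''c, hU''d⟩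
  have hU''U : U''.1 ≤ U.1 := inf_le_left
  have hset : ∀ p ∈ U.1, (p ∈ U''.1 ↔ p ∉ closure ({x.1} : Set X.scheme)) := fun p hp =>
    ⟨fun h => h.2, fun h => ⟨hp, h⟩⟩
  let D := decompOf X x.1 U.1 U''.1 hU''U (hU''d.trans hdim.symm) hset
  have hex : Function.Exact (T.push (fOf X x.1 U.1) M i n (k + 1) n' hi' hn').hom
      (T.pull (X.resLE hU''U (hU''d.trans hdim.symm)) M (k + 1) n').hom :=
    T.exact_push_pull D M k n' i n hi' hn'
  have h3 : T.push (fOf X x.1 U.1) M i n (k + 1) n' hi' hn' ≫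
      T.pull (X.resLE hU''U (hU''d.trans hdim.symm)) M (k + 1) n' = 0 := by
    apply ModuleCat.hom_ext
    apply LinearMap.ext
    intro b
    exact hex.apply_apply_eq_zero b
  have h2 := ocolimMap_ι_app T X (containsFj_mono X (Nat.le_succ j)) (k + 1) n' M U
  have h4 := ocolimι_w_app T X (ContainsFj X j) (k + 1) n' M (U := U'') (U' := Uj) hU''U
    (hU''d.trans hdim.symm)
  have h5 : (T.ptι X x.1 i n W').app M ≫ P.cpt x M i n (k + 1) n' hi hn ≫
      (T.fjRes X (Nat.le_succ j) (k + 1) n').app M = 0 := by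
    rw [← Category.assoc, h1, Category.assoc]
    erw [h2, ← h4, ← Category.assoc, h3, Limits.zero_comp]
  rw [hW'W] at h5
  exact h5


/-- The inductive step: a class on an open containing `F_{j+1}X` dying on a smaller open containing
`F_jX`, whose complement is covered by finitely many irreducible closed sets, comes from the points
of codimension `j+1`. -/
theorem exact_aux (X : Obj V) (j : ℕ) (P : T.PushData X (j + 1)) (M : A.Cat)
    (i n k n' : ℤ) (hi : k + 1 = i + 2 * ((j + 1 : ℕ) : ℤ)) (hn : n' = n + ((j + 1 : ℕ) : ℤ))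
    (S : Finset (Closeds X.scheme)) (hS : ∀ t ∈ S, IsIrreducible (t : Set X.scheme)) :
    ∀ (U : Idx X (ContainsFj X (j + 1))) (U' : Idx X (ContainsFj X j)) (hle : U'.1 ≤ U.1)
      (_ : ∀ p ∈ U.1, p ∉ U'.1 → ∃ t ∈ S, p ∈ (t : Set X.scheme))
      (_ : ∀ t ∈ S, ∀ p ∈ (t : Set X.scheme), p ∉ U'.1)
      (α : T.gp (X.res U.1) M (k + 1) n')
      (_ : (T.pull (X.resLE hle (U'.2.2.trans U.2.2.symm)) M (k + 1) n').hom α = 0),
      ((T.fjι X (j + 1) (k + 1) n' U).app M).hom α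
        ∈ LinearMap.range (P.tot M i n (k + 1) n' hi hn).hom := by
  classical
  induction S using Finset.induction_on with
  | empty =>
    intro U U' hle I1 I2 α hα
    have hUU' : U.1 ≤ U'.1 := fun p hp => by
      by_contra hpU'
      obtain ⟨t, ht, _⟩ := I1 p hp hpU'
      exact absurd ht (Finset.notMem_empty t)
    let U'' : Idx X (ContainsFj X (j + 1)) := ⟨U'.1, fun y hy => hUU' (U.2.1 y hy), U'.2.2⟩
    have hU''U : U'' ≤ U := hle
    rw [ocolimι_res T X _ (k + 1) n' M hU''U α]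
    have : (T.pull (X.resLE hU''U (U''.2.2.trans U.2.2.symm)) M (k + 1) n').hom α = 0 := hα
    rw [this, map_zero]
    exact Submodule.zero_mem _
  | insert t S₀ ht ih =>
    intro U U' hle I1 I2 α hα
    have hS₀ : ∀ s ∈ S₀, IsIrreducible (s : Set X.scheme) :=
      fun s hs => hS s (Finset.mem_insert_of_mem hs)
    have ih' := ih hS₀
    have hirr := hS t (Finset.mem_insert_self t S₀)
    have hgen := hirr.isGenericPoint_genericPoint t.isClosed
    obtain ⟨ξ, hξ⟩ : ∃ ξ : X.scheme, (t : Set X.scheme) = closure {ξ} :=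
      ⟨hirr.genericPoint, hgen.def.symm⟩
    have I2₀ : ∀ s ∈ S₀, ∀ p ∈ (s : Set X.scheme), p ∉ U'.1 :=
      fun s hs => I2 s (Finset.mem_insert_of_mem hs)
    have I2t : ∀ p ∈ (t : Set X.scheme), p ∉ U'.1 := I2 t (Finset.mem_insert_self _ _)
    by_cases hξU : ξ ∈ U.1
    swap
    · -- the piece does not meet U
      refine ih' U U' hle (fun p hp hpU' => ?_) I2₀ α hα
      obtain ⟨s, hs, hps⟩ := I1 p hp hpU'
      rcases Finset.mem_insert.mp hs with rfl | hs'
      · exfalso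
        apply hξU
        have hsp : ξ ⤳ p := by
          rw [specializes_iff_mem_closure, ← hξ]; exact hps
        exact hsp.mem_open U.1.2 hp
      · exact ⟨s, hs', hps⟩
    by_cases hξK : ∃ s ∈ S₀, ξ ∈ (s : Set X.scheme)
    · -- the piece is contained in another one
      obtain ⟨s₁, hs₁, hξs₁⟩ := hξK
      refine ih' U U' hle (fun p hp hpU' => ?_) I2₀ α hα
      obtain ⟨s, hs, hps⟩ := I1 p hp hpU'
      rcases Finset.mem_insert.mp hs with rfl | hs'
      · refine ⟨s₁, hs₁, ?_⟩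
        have hsub : closure ({ξ} : Set X.scheme) ⊆ (s₁ : Set X.scheme) :=
          closure_minimal (singleton_subset_iff.mpr hξs₁) s₁.isClosed
        exact hsub (hξ ▸ hps)
      · exact ⟨s, hs', hps⟩
    push Not at hξK
    have hξt : ξ ∈ (t : Set X.scheme) := by rw [hξ]; exact subset_closure rfl
    have hξU' : ξ ∉ U'.1 := I2t ξ hξt
    have hcodim : j + 1 ≤ WeilCoh.codim X.scheme ξ := by
      by_contra hlt
      exact hξU' (U'.2.1 ξ (by omega))
    by_cases hc2 : j + 2 ≤ WeilCoh.codim X.scheme ξ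
    · -- remove the piece
      have hU₂c : ContainsFj X (j + 1) (U.1 ⊓ complOpens t) := fun y hy =>
        ⟨U.2.1 y hy, fun hyt => by
          have hycl : y ∈ closure ({ξ} : Set X.scheme) := hξ ▸ hyt
          have := codim_le_of_mem_closure X hycl
          omega⟩
      have hU₂d : WeilCoh.dim ((U.1 ⊓ complOpens t : X.scheme.Opens) : Scheme.{u})
          = WeilCoh.dim X.scheme :=
        dim_opens_of_codim_zero X _ fun y hy => hU₂c y (by omega)
      let U₂ : Idx X (ContainsFj X (j + 1)) := ⟨U.1 ⊓ complOpens t, hU₂c, hU₂d⟩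
      have hU₂U : U₂ ≤ U := (inf_le_left : U.1 ⊓ complOpens t ≤ U.1)
      have hle₂ : U'.1 ≤ U₂.1 := fun p hp => ⟨hle hp, fun hpt => I2t p hpt hp⟩
      have key := ih' U₂ U' hle₂
        (fun p hp hpU' => by
          obtain ⟨s, hs, hps⟩ := I1 p hp.1 hpU'
          rcases Finset.mem_insert.mp hs with rfl | hs'
          · exact absurd hps hp.2
          · exact ⟨s, hs', hps⟩)
        I2₀ ((T.pull (X.resLE hU₂U (U₂.2.2.trans U.2.2.symm)) M (k + 1) n').hom α)
        (by rw [pull_resLE_resLE]; exact hα)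
      rw [ocolimι_res T X _ (k + 1) n' M hU₂U α]
      exact key
    · -- the piece has codimension exactly j+1
      have hceq : WeilCoh.codim X.scheme ξ = j + 1 := by omega
      let K₂ : Closeds X.scheme := S₀.sup id
      have hK₂ : ∀ p, p ∈ (K₂ : Set X.scheme) ↔ ∃ s ∈ S₀, p ∈ (s : Set X.scheme) :=
        fun p => mem_finset_sup_closeds S₀ p
      have hξU₁ : ξ ∈ U.1 ⊓ complOpens K₂ := ⟨hξU, fun h => by
        obtain ⟨s, hs, h'⟩ := (hK₂ ξ).mp h
        exact hξK s hs h'⟩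
      have hU'U₁ : U'.1 ≤ U.1 ⊓ complOpens K₂ := fun p hp => ⟨hle hp, fun h => by
        obtain ⟨s, hs, h'⟩ := (hK₂ p).mp h
        exact I2₀ s hs p h' hp⟩
      have hU₁d : WeilCoh.dim ((U.1 ⊓ complOpens K₂ : X.scheme.Opens) : Scheme.{u})
          = WeilCoh.dim X.scheme :=
        le_antisymm (dim_opens_le X _) (U'.2.2.symm.le.trans (dim_opens_mono X hU'U₁))
      have hU₁c : ContainsFj X j (U.1 ⊓ complOpens K₂) := fun y hy => hU'U₁ (U'.2.1 y hy)
      let U₁ : Idx X (ContainsFj X j) := ⟨U.1 ⊓ complOpens K₂, hU₁c, hU₁d⟩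
      have hset : ∀ p ∈ U₁.1, (p ∈ U'.1 ↔ p ∉ closure ({ξ} : Set X.scheme)) := fun p hp =>
        ⟨fun hpU' hpt => I2t p (hξ ▸ hpt) hpU', fun hpt => by
          by_contra hpU'
          obtain ⟨s, hs, hps⟩ := I1 p hp.1 hpU'
          rcases Finset.mem_insert.mp hs with rfl | hs'
          · exact hpt (hξ ▸ hps)
          · exact hp.2 ((hK₂ p).mpr ⟨s, hs', hps⟩)⟩
      have hdU'U₁ : WeilCoh.dim (U'.1 : Scheme.{u}) = WeilCoh.dim (U₁.1 : Scheme.{u}) :=
        U'.2.2.trans hU₁d.symm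
      let D₁ := decompOf X ξ U₁.1 U'.1 hU'U₁ hdU'U₁ hset
      have hW₁ne := Wof_nonempty X ξ U₁.1 hξU₁
      have hrel₁ := relCodim_fOf X ξ U₁.1 hU₁d hW₁ne
      have hi₁ : k + 1 = i + 2 * relCodim ((X.ptSub ξ).res (Wof X ξ U₁.1)).scheme
          (X.res U₁.1).scheme := by rw [hrel₁, hceq]; exact hi
      have hn₁ : n' = n + relCodim ((X.ptSub ξ).res (Wof X ξ U₁.1)).scheme
          (X.res U₁.1).scheme := by rw [hrel₁, hceq]; exact hn
      have hex : Function.Exact (T.push (fOf X ξ U₁.1) M i n (k + 1) n' hi₁ hn₁).hom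
          (T.pull (X.resLE hU'U₁ hdU'U₁) M (k + 1) n').hom :=
        T.exact_push_pull D₁ M k n' i n hi₁ hn₁
      have hU₁U : U₁.1 ≤ U.1 := inf_le_left
      have hdU₁U : WeilCoh.dim (U₁.1 : Scheme.{u}) = WeilCoh.dim (U.1 : Scheme.{u}) :=
        hU₁d.trans U.2.2.symm
      obtain ⟨β, hβ⟩ := (hex ((T.pull (X.resLE hU₁U hdU₁U) M (k + 1) n').hom α)).mp
        (by rw [pull_resLE_resLE]; exact hα)
      -- the larger open in which the same trace is closed
      have hŨc : ContainsFj X (j + 1) (U.1 ⊓ Uof X ξ (Wof X ξ U₁.1)) := fun y hy =>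
        ⟨U.2.1 y hy, mem_Uof_of_codim_le X ξ _ hW₁ne y (by omega)⟩
      have hŨd : WeilCoh.dim ((U.1 ⊓ Uof X ξ (Wof X ξ U₁.1) : X.scheme.Opens) : Scheme.{u})
          = WeilCoh.dim X.scheme :=
        dim_opens_of_codim_zero X _ fun y hy => hŨc y (by omega)
      let Ũ : Idx X (ContainsFj X (j + 1)) := ⟨U.1 ⊓ Uof X ξ (Wof X ξ U₁.1), hŨc, hŨd⟩
      have hŨU : Ũ ≤ U := (inf_le_left : U.1 ⊓ Uof X ξ (Wof X ξ U₁.1) ≤ U.1)
      have hU₁Ũ : U₁.1 ≤ Ũ.1 := fun p hp =>
        ⟨hp.1, (mem_Uof X ξ _ p).mpr fun z hz => by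
          show (X.ptSubι ξ) z ∈ U₁.1
          rw [hz]; exact hp⟩
      have hWtW₁ : Wof X ξ Ũ.1 ≤ Wof X ξ U₁.1 := fun z hz =>
        ((mem_Uof X ξ _ _).mp hz.2) z rfl
      have hW₁Wt : Wof X ξ U₁.1 ≤ Wof X ξ Ũ.1 := Wof_mono X ξ hU₁Ũ
      have hWtne := Wof_nonempty X ξ Ũ.1 (hU₁Ũ hξU₁)
      have hrelŨ := relCodim_fOf X ξ Ũ.1 hŨd hWtne
      have hĩ : k + 1 = i + 2 * relCodim ((X.ptSub ξ).res (Wof X ξ Ũ.1)).scheme
          (X.res Ũ.1).scheme := by rw [hrelŨ, hceq]; exact hi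
      have hñ : n' = n + relCodim ((X.ptSub ξ).res (Wof X ξ Ũ.1)).scheme
          (X.res Ũ.1).scheme := by rw [hrelŨ, hceq]; exact hn
      have hdWt : WeilCoh.dim ((Wof X ξ Ũ.1 : (X.ptSub ξ).scheme.Opens) : Scheme.{u})
          = WeilCoh.dim (X.ptSub ξ).scheme := dim_opens_ptSub X ξ _ hWtne
      have hdW₁ : WeilCoh.dim ((Wof X ξ U₁.1 : (X.ptSub ξ).scheme.Opens) : Scheme.{u})
          = WeilCoh.dim (X.ptSub ξ).scheme := dim_opens_ptSub X ξ _ hW₁ne
      let Wt : ptIdx X ξ := ⟨Wof X ξ Ũ.1, hWtne, hdWt⟩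
      let βt := (T.pull ((X.ptSub ξ).resLE hWtW₁ (hdWt.trans hdW₁.symm)) M i n).hom β
      have hspec := P.cpt_spec ⟨ξ, hceq⟩ M i n (k + 1) n' hi hn Ũ Wt (fOf X ξ Ũ.1)
        (fOf_ι X ξ Ũ.1) hĩ hñ
      let γ := (T.pull (X.resLE hŨU (Ũ.2.2.trans U.2.2.symm)) M (k + 1) n').hom α
        - (T.push (fOf X ξ Ũ.1) M i n (k + 1) n' hĩ hñ).hom βt
      have hdU₁Ũ : WeilCoh.dim (U₁.1 : Scheme.{u}) = WeilCoh.dim (Ũ.1 : Scheme.{u}) :=
        hU₁d.trans hŨd.symm
      have hγ0 : (T.pull (X.resLE hU₁Ũ hdU₁Ũ) M (k + 1) n').hom γ = 0 := by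
        show (T.pull (X.resLE hU₁Ũ hdU₁Ũ) M (k + 1) n').hom
          ((T.pull (X.resLE hŨU (Ũ.2.2.trans U.2.2.symm)) M (k + 1) n').hom α
            - (T.push (fOf X ξ Ũ.1) M i n (k + 1) n' hĩ hñ).hom βt) = 0
        rw [map_sub, pull_resLE_resLE, sub_eq_zero]
        have hbc := T.push_pull (fOf X ξ Ũ.1) (fOf X ξ U₁.1) (X.resLE hU₁Ũ hdU₁Ũ)
          ((X.ptSub ξ).resLE hW₁Wt (hdW₁.trans hdWt.symm)) (isPullback_fOf X ξ hU₁Ũ hW₁Wt)
          M i n (k + 1) n' hĩ hñ hi₁ hn₁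
        have hbc' := congrArg (fun φ => φ.hom βt) hbc
        simp only [ModuleCat.hom_comp, LinearMap.comp_apply] at hbc'
        rw [hbc']
        have hββ : (T.pull ((X.ptSub ξ).resLE hW₁Wt (hdW₁.trans hdWt.symm)) M i n).hom βt = β := by
          show (T.pull ((X.ptSub ξ).resLE hW₁Wt (hdW₁.trans hdWt.symm)) M i n).hom
            ((T.pull ((X.ptSub ξ).resLE hWtW₁ (hdWt.trans hdW₁.symm)) M i n).hom β) = β
          rw [pull_resLE_resLE]
          exact pull_resLE_refl T (X.ptSub ξ) _ _ M i n β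
        rw [hββ]
        exact hβ.symm
      have key := ih' Ũ U₁ hU₁Ũ
        (fun p hp hpU₁ => by
          have hpK : p ∈ (K₂ : Set X.scheme) := by
            by_contra hpK
            exact hpU₁ ⟨hp.1, hpK⟩
          exact (hK₂ p).mp hpK)
        (fun s hs p hps hpU₁ => hpU₁.2 ((hK₂ p).mpr ⟨s, hs, hps⟩))
        γ hγ0
      rw [ocolimι_res T X _ (k + 1) n' M hŨU α]
      have hsplit : (T.pull (X.resLE hŨU (Ũ.2.2.trans U.2.2.symm)) M (k + 1) n').hom α
          = γ + (T.push (fOf X ξ Ũ.1) M i n (k + 1) n' hĩ hñ).hom βt := by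
        show _ = ((T.pull (X.resLE hŨU (Ũ.2.2.trans U.2.2.symm)) M (k + 1) n').hom α
          - (T.push (fOf X ξ Ũ.1) M i n (k + 1) n' hĩ hñ).hom βt)
          + (T.push (fOf X ξ Ũ.1) M i n (k + 1) n' hĩ hñ).hom βt
        rw [sub_add_cancel]
      rw [hsplit, map_add]
      refine Submodule.add_mem _ key ?_
      have hspec' := congrArg (fun φ => φ.hom βt) hspec
      simp only [ModuleCat.hom_comp, LinearMap.comp_apply] at hspec'
      rw [← hspec']
      refine ⟨DirectSum.lof R (X.cdPt (j + 1)) (fun y : X.cdPt (j + 1) => T.ptGp X y.1 M i n)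
        ⟨ξ, hceq⟩ (((T.ptι X ξ i n Wt).app M).hom βt), ?_⟩
      exact PreTheory.PushData.tot_lof P M i n (k + 1) n' hi hn ⟨ξ, hceq⟩ _

/-- Exactness of `⊕_x H(x) → H(F_{j+1}X) → H(F_jX)`. -/
theorem exact_pushTot_fjRes (X : Obj V) (j : ℕ) (P : T.PushData X (j + 1)) (M : A.Cat)
    (i n i' n' : ℤ) (hi : i' = i + 2 * ((j + 1 : ℕ) : ℤ)) (hn : n' = n + ((j + 1 : ℕ) : ℤ)) :
    Function.Exact (P.tot M i n i' n' hi hn).hom
      ((T.fjRes X (Nat.le_succ j) i' n').app M).hom := by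
  classical
  obtain ⟨k, rfl⟩ : ∃ k, i' = k + 1 := ⟨i' - 1, by ring⟩
  intro y
  constructor
  · intro hy
    obtain ⟨U, α, rfl⟩ := ocolim_exists_rep T (idxDirected_containsFj X (j + 1)) (k + 1) n' M y
    have h1 := congrArg (fun φ => φ.hom α)
      (ocolimMap_ι_app T X (containsFj_mono X (Nat.le_succ j)) (k + 1) n' M U)
    simp only [ModuleCat.hom_comp, LinearMap.comp_apply] at h1
    rw [h1] at hy
    obtain ⟨U', hU'le, hU'0⟩ :=
      ocolim_eq_zero T (idxDirected_containsFj X j) (k + 1) n' M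
        (⟨U.1, containsFj_mono X (Nat.le_succ j) _ U.2.1, U.2.2⟩ : Idx X (ContainsFj X j)) α hy
    have : IsNoetherian X.scheme := IsConstructible.isNoetherian X.mem
    obtain ⟨S, hSirr, hSsup⟩ := NoetherianSpace.exists_finset_irreducible
      (⟨(U'.1 : Set X.scheme)ᶜ, U'.1.2.isClosed_compl⟩ : Closeds X.scheme)
    have hmem : ∀ p : X.scheme, p ∉ U'.1 ↔ ∃ t ∈ S, p ∈ (t : Set X.scheme) := fun p => by
      rw [← mem_finset_sup_closeds, ← hSsup]; rfl
    exact exact_aux T X j P M i n k n' hi hn S (fun t ht => hSirr ⟨t, ht⟩) U U' hU'le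
      (fun p _ hpU' => (hmem p).mp hpU') (fun t ht p hpt => (hmem p).mpr ⟨t, ht, hpt⟩) α hU'0
  · rintro ⟨ξ, rfl⟩
    induction ξ using DirectSum.induction_on with
    | zero => simp
    | of x a =>
      have h1 := PreTheory.PushData.tot_lof P M i n (k + 1) n' hi hn x a
      have h2 := congrArg (fun φ => φ.hom a) (cpt_comp_fjRes_eq_zero T X j P M i n k n' hi hn x)
      simp only [ModuleCat.hom_comp, LinearMap.comp_apply] at h2
      rw [show (DirectSum.of (fun y : X.cdPt (j + 1) => T.ptGp X y.1 M i n) x) a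
        = DirectSum.lof R (X.cdPt (j + 1)) (fun y : X.cdPt (j + 1) => T.ptGp X y.1 M i n) x a
        from rfl, h1]
      exact h2
    | add a b ha hb => rw [map_add, map_add, ha, hb, add_zero]

end Groth.Agent.H90
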