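import Mathlib
import Groth.Prelude.Def_BMCoh3
import Groth.Agent.H90.BMExact1

/-!
# Exactness of `H(F_{j+1}X) → H(F_jX) → ⊕ H(x)` (helper90)
-/

set_option autoImplicit false
universe u

namespace Groth.Agent.H90

open TopologicalSpace Topology Set AlgebraicGeometry CategoryTheory BMCoh Opposite

variable {V : ObjectProperty Scheme.{u}} [IsConstructible V]
variable {R : Type u} [CommRing R] {A : Coefs R} (T : PreTheory V R A)

theorem codim_eq_int (j : ℕ) : (((j + 1 : ℕ) : ℤ)) = (j : ℤ) + 1 := by push_cast; ring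

/-- The residue datum at a point `x` of codimension `j+1`, computed on an open `U₁ ∋ x` in which
the complement of the closure of `x` is an open `U ⊇ F_jX`. -/
theorem resData_cpt_eq (X : Obj V) (j : ℕ) (Q : T.ResData X j) (M : A.Cat) (i n i' n' : ℤ)
    (hi : i' = i + 1 - 2 * ((j : ℤ) + 1)) (hn : n' = n - ((j : ℤ) + 1))
    (x : X.cdPt (j + 1)) (U₁ : X.scheme.Opens) (U : Idx X (ContainsFj X j)) (hle : U.1 ≤ U₁)
    (hd₁ : WeilCoh.dim (U₁ : Scheme.{u}) = WeilCoh.dim X.scheme)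
    (hx : x.1 ∈ U₁) (hset : ∀ p ∈ U₁, (p ∈ U.1 ↔ p ∉ closure ({x.1} : Set X.scheme)))
    (hiD : i' = i + 1 - 2 * relCodim ((X.ptSub x.1).res (Wof X x.1 U₁)).scheme (X.res U₁).scheme)
    (hnD : n' = n - relCodim ((X.ptSub x.1).res (Wof X x.1 U₁)).scheme (X.res U₁).scheme)
    (α : T.gp (X.res U.1) M i n) :
    (Q.cpt x M i n i' n' hi hn).hom (((T.fjι X j i n U).app M).hom α)
      = ((T.ptι X x.1 i' n' ⟨Wof X x.1 U₁, Wof_nonempty X x.1 U₁ hx,
            dim_opens_ptSub X x.1 _ (Wof_nonempty X x.1 U₁ hx)⟩).app M).hom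
          ((T.res (decompOf X x.1 U₁ U.1 hle (U.2.2.trans hd₁.symm) hset) M i n i' n' hiD hnD).hom
            α) := by
  let D := decompOf X x.1 U₁ U.1 hle (U.2.2.trans hd₁.symm) hset
  let W : ptIdx X x.1 := ⟨Wof X x.1 U₁, Wof_nonempty X x.1 U₁ hx,
    dim_opens_ptSub X x.1 _ (Wof_nonempty X x.1 U₁ hx)⟩
  let e : X.res U₁ ⟶ X := X.resι U₁ hd₁
  have hg : (𝟙 ((X.ptSub x.1).res W.1) : (X.ptSub x.1).res W.1 ⟶ D.Z).hom ≫ D.i ≫ e.hom
      = W.1.ι ≫ X.ptSubι x.1 := by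
    show 𝟙 _ ≫ fOf X x.1 U₁ ≫ U₁.ι = _
    rw [Category.id_comp]; exact fOf_ι X x.1 U₁
  have hh : (𝟙 (X.res U.1) : X.res U.1 ⟶ D.U).hom ≫ D.j.hom ≫ e.hom = U.1.ι := by
    show 𝟙 _ ≫ X.scheme.homOfLE hle ≫ U₁.ι = _
    rw [Category.id_comp, Scheme.homOfLE_ι]
  have spec := Q.cpt_spec x M i n i' n' hi hn e D W (𝟙 _) hg U (𝟙 _) hh hiD hnD
  have spec' := congrArg (fun φ => φ.hom α) spec
  simp only [ModuleCat.hom_comp, LinearMap.comp_apply] at spec'
  have h1 : (T.pull (𝟙 (X.res U.1) : X.res U.1 ⟶ D.U) M i n).hom α = α := by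
    have := pull_id T (X.res U.1) M i n
    exact congrArg (fun φ => φ.hom α) this
  have h2 : ∀ c, (T.pull (𝟙 ((X.ptSub x.1).res W.1) : (X.ptSub x.1).res W.1 ⟶ D.Z) M i' n').hom c
      = c := fun c => by
    have := pull_id T ((X.ptSub x.1).res W.1) M i' n'
    exact congrArg (fun φ => φ.hom c) this
  have key1 : (Q.cpt x M i n i' n' hi hn).hom (((T.fjι X j i n U).app M).hom α)
      = (Q.cpt x M i n i' n' hi hn).hom (((T.fjι X j i n U).app M).hom
          ((T.pull (𝟙 (X.res U.1) : X.res U.1 ⟶ D.U) M i n).hom α)) :=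
    congrArg (fun c => (Q.cpt x M i n i' n' hi hn).hom (((T.fjι X j i n U).app M).hom c)) h1.symm
  have key2 := congrArg (fun c => ((T.ptι X x.1 i' n' W).app M).hom c)
    (h2 ((T.res D M i n i' n' hiD hnD).hom α))
  exact key1.trans (spec'.trans key2)

/-- The residue at a point of codimension `j+1` of a class defined near that point vanishes. -/
theorem fjRes_comp_cpt_eq_zero (X : Obj V) (j : ℕ) (Q : T.ResData X j) (M : A.Cat)
    (i n i' n' : ℤ) (hi : i' = i + 1 - 2 * ((j : ℤ) + 1)) (hn : n' = n - ((j : ℤ) + 1))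
    (x : X.cdPt (j + 1)) :
    (T.fjRes X (Nat.le_succ j) i n).app M ≫ Q.cpt x M i n i' n' hi hn = 0 := by
  refine ocolim_hom_ext T X _ i n M _ _ (fun U => ?_)
  rw [Limits.comp_zero]
  apply ModuleCat.hom_ext
  apply LinearMap.ext
  intro α
  have h1 := congrArg (fun φ => φ.hom α)
    (ocolimMap_ι_app T X (containsFj_mono X (Nat.le_succ j)) i n M U)
  simp only [ModuleCat.hom_comp, LinearMap.comp_apply] at h1 ⊢
  erw [h1]
  -- the complement of the closure of x in U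
  have hxU : x.1 ∈ U.1 := U.2.1 x.1 (by rw [x.2])
  let cl : Closeds X.scheme := ⟨closure {x.1}, isClosed_closure⟩
  have hU''c : ContainsFj X j (U.1 ⊓ complOpens cl) := fun y hy =>
    ⟨U.2.1 y (by omega), fun hycl => by
      have := codim_le_of_mem_closure X (x := x.1) (y := y) hycl
      rw [x.2] at this; omega⟩
  have hU''d : WeilCoh.dim ((U.1 ⊓ complOpens cl : X.scheme.Opens) : Scheme.{u})
      = WeilCoh.dim X.scheme :=
    dim_opens_of_codim_zero X _ fun y hy => hU''c y (by omega)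
  let Uj : Idx X (ContainsFj X j) := ⟨U.1, containsFj_mono X (Nat.le_succ j) _ U.2.1, U.2.2⟩
  let U'' : Idx X (ContainsFj X j) := ⟨U.1 ⊓ complOpens cl, hU''c, hU''d⟩
  have hU''U : U'' ≤ Uj := (inf_le_left : U.1 ⊓ complOpens cl ≤ U.1)
  have hset : ∀ p ∈ U.1, (p ∈ U''.1 ↔ p ∉ closure ({x.1} : Set X.scheme)) := fun p hp =>
    ⟨fun h => h.2, fun h => ⟨hp, h⟩⟩
  have hrel := relCodim_fOf X x.1 U.1 U.2.2 (Wof_nonempty X x.1 U.1 hxU)
  have hiD : i' = i + 1 - 2 * relCodim ((X.ptSub x.1).res (Wof X x.1 U.1)).scheme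
      (X.res U.1).scheme := by rw [hrel, x.2, codim_eq_int]; exact hi
  have hnD : n' = n - relCodim ((X.ptSub x.1).res (Wof X x.1 U.1)).scheme
      (X.res U.1).scheme := by rw [hrel, x.2, codim_eq_int]; exact hn
  rw [ocolimι_res T X _ i n M hU''U α]
  rw [resData_cpt_eq T X j Q M i n i' n' hi hn x U.1 U'' hU''U U.2.2 hxU hset hiD hnD]
  have hex := T.exact_pull_res (decompOf X x.1 U.1 U''.1 hU''U (U''.2.2.trans U.2.2.symm) hset)
    M i n i' n' hiD hnD
  have h0 : (T.res (decompOf X x.1 U.1 U''.1 hU''U (U''.2.2.trans U.2.2.symm) hset)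
      M i n i' n' hiD hnD).hom
      ((T.pull (X.resLE hU''U (U''.2.2.trans Uj.2.2.symm)) M i n).hom α) = 0 :=
    hex.apply_apply_eq_zero α
  rw [h0]
  exact (map_zero _).trans rfl

/-- The inductive step for exactness at `H(F_jX)`: a class all of whose residues vanish, represented
on an open `U ⊇ F_jX` whose complement is covered by finitely many irreducible closed sets and a
closed set of codimension at least `j+2`, extends over `F_{j+1}X`. -/
theorem exact2_aux (X : Obj V) (j : ℕ) (Q : T.ResData X j) (M : A.Cat) (i n i' n' : ℤ)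
    (hi : i' = i + 1 - 2 * ((j : ℤ) + 1)) (hn : n' = n - ((j : ℤ) + 1))
    (αt : T.fjGp X j M i n)
    (hαt : ∀ x : X.cdPt (j + 1), (Q.cpt x M i n i' n' hi hn).hom αt = 0)
    (S : Finset (Closeds X.scheme)) (hS : ∀ t ∈ S, IsIrreducible (t : Set X.scheme)) :
    ∀ (U : Idx X (ContainsFj X j)) (α : T.gp (X.res U.1) M i n)
      (_ : ((T.fjι X j i n U).app M).hom α = αt)
      (B : Closeds X.scheme) (_ : ∀ p ∈ (B : Set X.scheme), j + 2 ≤ WeilCoh.codim X.scheme p)
      (_ : ∀ p, p ∉ U.1 → (∃ t ∈ S, p ∈ (t : Set X.scheme)) ∨ p ∈ (B : Set X.scheme))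
      (_ : ∀ t ∈ S, ∀ p ∈ (t : Set X.scheme), p ∉ U.1),
      αt ∈ Set.range ((T.fjRes X (Nat.le_succ j) i n).app M).hom := by
  classical
  induction S using Finset.induction_on with
  | empty =>
    intro U α hα B hB I1 I2
    have hc : ContainsFj X (j + 1) U.1 := fun y hy => by
      by_contra hyU
      rcases I1 y hyU with ⟨t, ht, _⟩ | hyB
      · exact absurd ht (Finset.notMem_empty t)
      · have := hB y hyB; omega
    let U' : Idx X (ContainsFj X (j + 1)) := ⟨U.1, hc, U.2.2⟩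
    refine ⟨((T.fjι X (j + 1) i n U').app M).hom α, ?_⟩
    have h1 := congrArg (fun φ => φ.hom α)
      (ocolimMap_ι_app T X (containsFj_mono X (Nat.le_succ j)) i n M U')
    simp only [ModuleCat.hom_comp, LinearMap.comp_apply] at h1
    exact h1.trans hα
  | insert t S₀ ht ih =>
    intro U α hα B hB I1 I2
    have hS₀ : ∀ s ∈ S₀, IsIrreducible (s : Set X.scheme) :=
      fun s hs => hS s (Finset.mem_insert_of_mem hs)
    have ih' := ih hS₀
    have hirr := hS t (Finset.mem_insert_self t S₀)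
    have hgen := hirr.isGenericPoint_genericPoint t.isClosed
    obtain ⟨ξ, hξ⟩ : ∃ ξ : X.scheme, (t : Set X.scheme) = closure {ξ} :=
      ⟨hirr.genericPoint, hgen.def.symm⟩
    have I2₀ : ∀ s ∈ S₀, ∀ p ∈ (s : Set X.scheme), p ∉ U.1 :=
      fun s hs => I2 s (Finset.mem_insert_of_mem hs)
    have I2t : ∀ p ∈ (t : Set X.scheme), p ∉ U.1 := I2 t (Finset.mem_insert_self _ _)
    have hξt : ξ ∈ (t : Set X.scheme) := by rw [hξ]; exact subset_closure rfl
    have hξU : ξ ∉ U.1 := I2t ξ hξt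
    have hcodim : j + 1 ≤ WeilCoh.codim X.scheme ξ := by
      by_contra hlt
      exact hξU (U.2.1 ξ (by omega))
    by_cases hξK : ∃ s ∈ S₀, ξ ∈ (s : Set X.scheme)
    · -- the piece is contained in another one
      obtain ⟨s₁, hs₁, hξs₁⟩ := hξK
      refine ih' U α hα B hB (fun p hp => ?_) I2₀
      rcases I1 p hp with ⟨s, hs, hps⟩ | hpB
      · rcases Finset.mem_insert.mp hs with rfl | hs'
        · left
          refine ⟨s₁, hs₁, ?_⟩
          have hsub : closure ({ξ} : Set X.scheme) ⊆ (s₁ : Set X.scheme) :=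
            closure_minimal (singleton_subset_iff.mpr hξs₁) s₁.isClosed
          exact hsub (hξ ▸ hps)
        · exact Or.inl ⟨s, hs', hps⟩
      · exact Or.inr hpB
    push Not at hξK
    by_cases hc2 : j + 2 ≤ WeilCoh.codim X.scheme ξ
    · -- absorb the piece into the small closed set
      refine ih' U α hα (B ⊔ t) (fun p hp => ?_) (fun p hp => ?_) I2₀
      · rw [Closeds.coe_sup] at hp
        rcases hp with hp | hp
        · exact hB p hp
        · have hpcl : p ∈ closure ({ξ} : Set X.scheme) := hξ ▸ hp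
          have := codim_le_of_mem_closure X hpcl
          omega
      · rw [Closeds.coe_sup]
        rcases I1 p hp with ⟨s, hs, hps⟩ | hpB
        · rcases Finset.mem_insert.mp hs with rfl | hs'
          · exact Or.inr (Or.inr hps)
          · exact Or.inl ⟨s, hs', hps⟩
        · exact Or.inr (Or.inl hpB)
    · -- the piece has codimension exactly j+1
      have hceq : WeilCoh.codim X.scheme ξ = j + 1 := by omega
      let K₂ : Closeds X.scheme := S₀.sup id
      have hK₂ : ∀ p, p ∈ (K₂ : Set X.scheme) ↔ ∃ s ∈ S₀, p ∈ (s : Set X.scheme) :=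
        fun p => mem_finset_sup_closeds S₀ p
      let N : X.scheme.Opens := complOpens (K₂ ⊔ B)
      have hN : ∀ p, p ∈ N ↔ (p ∉ (K₂ : Set X.scheme) ∧ p ∉ (B : Set X.scheme)) := fun p => by
        show p ∉ ((K₂ ⊔ B : Closeds X.scheme) : Set X.scheme) ↔ _
        rw [Closeds.coe_sup, Set.mem_union, not_or]
      have hξB : ξ ∉ (B : Set X.scheme) := fun h => by have := hB ξ h; omega
      have hξN : ξ ∈ N := (hN ξ).mpr ⟨fun h => by
        obtain ⟨s, hs, h'⟩ := (hK₂ ξ).mp h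
        exact hξK s hs h', hξB⟩
      let U₁ : X.scheme.Opens := U.1 ⊔ N
      have hUU₁ : U.1 ≤ U₁ := le_sup_left
      have hξU₁ : ξ ∈ U₁ := (le_sup_right : N ≤ U₁) hξN
      have hU₁d : WeilCoh.dim (U₁ : Scheme.{u}) = WeilCoh.dim X.scheme :=
        le_antisymm (dim_opens_le X _) (U.2.2.symm.le.trans (dim_opens_mono X hUU₁))
      have hmemU₁ : ∀ p, p ∈ U₁ ↔ (p ∈ U.1 ∨ p ∈ N) := fun p => by
        show p ∈ ((U.1 ⊔ N : X.scheme.Opens) : Set X.scheme) ↔ _
        rw [Opens.coe_sup]; rfl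
      have hset : ∀ p ∈ U₁, (p ∈ U.1 ↔ p ∉ closure ({ξ} : Set X.scheme)) := fun p hp =>
        ⟨fun hpU hpt => I2t p (hξ ▸ hpt) hpU, fun hpt => by
          by_contra hpU
          rcases (hmemU₁ p).mp hp with h | h
          · exact hpU h
          · obtain ⟨hK, hBn⟩ := (hN p).mp h
            rcases I1 p hpU with ⟨s, hs, hps⟩ | hpB
            · rcases Finset.mem_insert.mp hs with rfl | hs'
              · exact hpt (hξ ▸ hps)
              · exact hK ((hK₂ p).mpr ⟨s, hs', hps⟩)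
            · exact hBn hpB⟩
      have hdUU₁ : WeilCoh.dim (U.1 : Scheme.{u}) = WeilCoh.dim (U₁ : Scheme.{u}) :=
        U.2.2.trans hU₁d.symm
      have hW₁ne := Wof_nonempty X ξ U₁ hξU₁
      have hrel₁ := relCodim_fOf X ξ U₁ hU₁d hW₁ne
      have hiD₁ : i' = i + 1 - 2 * relCodim ((X.ptSub ξ).res (Wof X ξ U₁)).scheme
          (X.res U₁).scheme := by rw [hrel₁, hceq, codim_eq_int]; exact hi
      have hnD₁ : n' = n - relCodim ((X.ptSub ξ).res (Wof X ξ U₁)).scheme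
          (X.res U₁).scheme := by rw [hrel₁, hceq, codim_eq_int]; exact hn
      have hdW₁ : WeilCoh.dim ((Wof X ξ U₁ : (X.ptSub ξ).scheme.Opens) : Scheme.{u})
          = WeilCoh.dim (X.ptSub ξ).scheme := dim_opens_ptSub X ξ _ hW₁ne
      let W₁ : ptIdx X ξ := ⟨Wof X ξ U₁, hW₁ne, hdW₁⟩
      let D₁ := decompOf X ξ U₁ U.1 hUU₁ hdUU₁ hset
      have hres := resData_cpt_eq T X j Q M i n i' n' hi hn ⟨ξ, hceq⟩ U₁ U hUU₁ hU₁d hξU₁ hset
        hiD₁ hnD₁ α
      have hzero : ((T.ptι X ξ i' n' W₁).app M).hom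
          ((T.res D₁ M i n i' n' hiD₁ hnD₁).hom α) = 0 :=
        hres.symm.trans ((congrArg (fun c => (Q.cpt ⟨ξ, hceq⟩ M i n i' n' hi hn).hom c) hα).trans
          (hαt ⟨ξ, hceq⟩))
      obtain ⟨Wp, hWple, hWp0⟩ := ocolim_eq_zero T (idxDirected_pt X ξ) i' n' M W₁ _ hzero
      -- the larger open
      let U₂ : X.scheme.Opens := U₁ ⊓ Uof X ξ Wp.1
      have hUU₂ : U.1 ≤ U₂ := fun p hp => ⟨hUU₁ hp, (mem_Uof X ξ _ p).mpr fun z hz => by
        exfalso
        have hpcl : p ∈ closure ({ξ} : Set X.scheme) := by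
          rw [← range_ptSubι]; exact ⟨z, hz⟩
        exact I2t p (hξ ▸ hpcl) hp⟩
      have hU₂U₁ : U₂ ≤ U₁ := inf_le_left
      have hU₂c : ContainsFj X j U₂ := fun y hy => hUU₂ (U.2.1 y hy)
      have hU₂d : WeilCoh.dim (U₂ : Scheme.{u}) = WeilCoh.dim X.scheme :=
        le_antisymm (dim_opens_le X _) (U.2.2.symm.le.trans (dim_opens_mono X hUU₂))
      let U₂i : Idx X (ContainsFj X j) := ⟨U₂, hU₂c, hU₂d⟩
      have hξU₂ : ξ ∈ U₂ := ⟨hξU₁, mem_Uof_of_codim_le X ξ Wp.1 Wp.2.1 ξ le_rfl⟩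
      have hset₂ : ∀ p ∈ U₂, (p ∈ U.1 ↔ p ∉ closure ({ξ} : Set X.scheme)) :=
        fun p hp => hset p (hU₂U₁ hp)
      have hdUU₂ : WeilCoh.dim (U.1 : Scheme.{u}) = WeilCoh.dim (U₂ : Scheme.{u}) :=
        U.2.2.trans hU₂d.symm
      have hW₂ne := Wof_nonempty X ξ U₂ hξU₂
      have hrel₂ := relCodim_fOf X ξ U₂ hU₂d hW₂ne
      have hiD₂ : i' = i + 1 - 2 * relCodim ((X.ptSub ξ).res (Wof X ξ U₂)).scheme
          (X.res U₂).scheme := by rw [hrel₂, hceq, codim_eq_int]; exact hi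
      have hnD₂ : n' = n - relCodim ((X.ptSub ξ).res (Wof X ξ U₂)).scheme
          (X.res U₂).scheme := by rw [hrel₂, hceq, codim_eq_int]; exact hn
      have hdW₂ : WeilCoh.dim ((Wof X ξ U₂ : (X.ptSub ξ).scheme.Opens) : Scheme.{u})
          = WeilCoh.dim (X.ptSub ξ).scheme := dim_opens_ptSub X ξ _ hW₂ne
      have hW₂W₁ : Wof X ξ U₂ ≤ Wof X ξ U₁ := Wof_mono X ξ hU₂U₁
      have hW₂Wp : Wof X ξ U₂ ≤ Wp.1 := fun z hz => ((mem_Uof X ξ _ _).mp hz.2) z rfl
      let D₂ := decompOf X ξ U₂ U.1 hUU₂ hdUU₂ hset₂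
      let g : X.res U₂ ⟶ X.res U₁ := X.resLE hU₂U₁ (hU₂d.trans hU₁d.symm)
      let gZ : D₂.Z ⟶ D₁.Z := (X.ptSub ξ).resLE hW₂W₁ (hdW₂.trans hdW₁.symm)
      have hc1 : gZ.hom ≫ D₁.i = D₂.i ≫ g.hom := (isPullback_fOf X ξ hU₂U₁ hW₂W₁).w
      have hc2 : (𝟙 (X.res U.1) : D₂.U ⟶ D₁.U) ≫ D₁.j = D₂.j ≫ g :=
        (Category.id_comp _).trans (resLE_comp X hUU₂ hU₂U₁ hdUU₂ (hU₂d.trans hU₁d.symm)).symm
      have hrp := T.res_pull D₁ D₂ g gZ (𝟙 (X.res U.1)) hc1 hc2 M i n i' n' hiD₁ hnD₁ hiD₂ hnD₂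
      have hrp' := congrArg (fun φ => φ.hom α) hrp
      simp only [ModuleCat.hom_comp, LinearMap.comp_apply] at hrp'
      have hzero₂ : (T.res D₂ M i n i' n' hiD₂ hnD₂).hom α = 0 := by
        have e1 : (T.pull (𝟙 (X.res U.1) : D₂.U ⟶ D₁.U) M i n).hom α = α :=
          congrArg (fun φ => φ.hom α) (pull_id T (X.res U.1) M i n)
        have e2 := pull_resLE_resLE T (X.ptSub ξ) hW₂Wp hWple (hdW₂.trans Wp.2.2.symm)
          (Wp.2.2.trans W₁.2.2.symm) M i' n' ((T.res D₁ M i n i' n' hiD₁ hnD₁).hom α)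
        have e3 : (T.pull gZ M i' n').hom ((T.res D₁ M i n i' n' hiD₁ hnD₁).hom α) = 0 :=
          e2.symm.trans ((congrArg (fun c => (T.pull ((X.ptSub ξ).resLE hW₂Wp
            (hdW₂.trans Wp.2.2.symm)) M i' n').hom c) hWp0).trans (map_zero _))
        exact ((congrArg (fun c => (T.res D₂ M i n i' n' hiD₂ hnD₂).hom c) e1).symm.trans
          hrp'.symm).trans e3
      have hex := T.exact_pull_res D₂ M i n i' n' hiD₂ hnD₂
      obtain ⟨α₂, hα₂⟩ := (hex α).mp hzero₂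
      have hα₂' : ((T.fjι X j i n U₂i).app M).hom α₂ = αt :=
        (ocolimι_res T X _ i n M (U := U) (U' := U₂i) hUU₂ α₂).trans
          ((congrArg (fun c => ((T.fjι X j i n U).app M).hom c) hα₂).trans hα)
      let C : Closeds X.scheme :=
        ⟨((Uof X ξ Wp.1 : X.scheme.Opens) : Set X.scheme)ᶜ, (Uof X ξ Wp.1).2.isClosed_compl⟩
      refine ih' U₂i α₂ hα₂' (B ⊔ C) (fun p hp => ?_) (fun p hp => ?_)
        (fun s hs p hps hpU₂ => ?_)
      · rw [Closeds.coe_sup] at hp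
        rcases hp with hp | hp
        · exact hB p hp
        · by_contra hlt
          exact hp (mem_Uof_of_codim_le X ξ Wp.1 Wp.2.1 p (by omega))
      · rw [Closeds.coe_sup]
        by_cases hpUof : p ∈ Uof X ξ Wp.1
        · have hpU₁ : p ∉ U₁ := fun h => hp ⟨h, hpUof⟩
          have hpN : p ∉ N := fun h => hpU₁ ((hmemU₁ p).mpr (Or.inr h))
          by_cases hpB : p ∈ (B : Set X.scheme)
          · exact Or.inr (Or.inl hpB)
          · have hpK : p ∈ (K₂ : Set X.scheme) := by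
              by_contra hpK; exact hpN ((hN p).mpr ⟨hpK, hpB⟩)
            exact Or.inl ((hK₂ p).mp hpK)
        · exact Or.inr (Or.inr hpUof)
      · have hpK : p ∈ (K₂ : Set X.scheme) := (hK₂ p).mpr ⟨s, hs, hps⟩
        have hpU₁ : p ∈ U₁ := hU₂U₁ hpU₂
        rcases (hmemU₁ p).mp hpU₁ with h | h
        · exact I2₀ s hs p hps h
        · exact ((hN p).mp h).1 hpK

/-- Exactness of `H(F_{j+1}X) → H(F_jX) → ⊕_x H(x)`. -/
theorem exact_fjRes_resTot (X : Obj V) (j : ℕ) (Q : T.ResData X j) (M : A.Cat) (i n i' n' : ℤ)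
    (hi : i' = i + 1 - 2 * ((j : ℤ) + 1)) (hn : n' = n - ((j : ℤ) + 1)) :
    Function.Exact ((T.fjRes X (Nat.le_succ j) i n).app M).hom
      (Q.tot M i n i' n' hi hn).hom := by
  classical
  intro y
  constructor
  · intro hy
    have hcpt : ∀ x : X.cdPt (j + 1), (Q.cpt x M i n i' n' hi hn).hom y = 0 := fun x => by
      have := congrArg
        (fun f : (DirectSum (X.cdPt (j + 1)) fun x => T.ptGp X x.1 M i' n') => f x) hy
      exact this
    obtain ⟨U, α, hα⟩ := ocolim_exists_rep T (idxDirected_containsFj X j) i n M y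
    have : IsNoetherian X.scheme := IsConstructible.isNoetherian X.mem
    obtain ⟨S, hSirr, hSsup⟩ := NoetherianSpace.exists_finset_irreducible
      (⟨(U.1 : Set X.scheme)ᶜ, U.1.2.isClosed_compl⟩ : Closeds X.scheme)
    have hmem : ∀ p : X.scheme, p ∉ U.1 ↔ ∃ t ∈ S, p ∈ (t : Set X.scheme) := fun p => by
      rw [← mem_finset_sup_closeds, ← hSsup]; rfl
    exact exact2_aux T X j Q M i n i' n' hi hn y hcpt S (fun t ht => hSirr ⟨t, ht⟩) U α hα ⊥
      (fun p hp => absurd hp (Set.notMem_empty p))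
      (fun p hp => Or.inl ((hmem p).mp hp)) (fun t ht p hpt => (hmem p).mpr ⟨t, ht, hpt⟩)
  · rintro ⟨z, rfl⟩
    refine DFinsupp.ext (fun x => ?_)
    have h2 := congrArg (fun φ => φ.hom z) (fjRes_comp_cpt_eq_zero T X j Q M i n i' n' hi hn x)
    simp only [ModuleCat.hom_comp, LinearMap.comp_apply] at h2
    exact h2

end Groth.Agent.H90
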