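import Mathlib
import Groth.Prelude.Def_BMCoh3
import Groth.Agent.H90.BMExact2
import Groth.Agent.H79.BMCore

/-!
# Additivity of a pre-theory over finitely many disjoint clopen pieces (helper90)
-/

set_option autoImplicit false
universe u

namespace Groth.Agent.H90

open TopologicalSpace Topology Set AlgebraicGeometry CategoryTheory BMCoh Opposite

variable {V : ObjectProperty Scheme.{u}} [IsConstructible V]

section Lift

theorem vanishingIdeal_le_ker {W Y : Scheme.{u}} [IsReduced W] (g : W ⟶ Y) (C : Closeds Y)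
    (h : Set.range g ⊆ (C : Set Y)) : Scheme.IdealSheafData.vanishingIdeal C ≤ g.ker := by
  have h1 : g.ker = Scheme.IdealSheafData.vanishingIdeal
      (.closure (g '' ((⊤ : Closeds W) : Set W))) := by
    rw [← Scheme.IdealSheafData.map_vanishingIdeal, Scheme.IdealSheafData.vanishingIdeal_top,
      Scheme.nilradical_eq_bot, Scheme.IdealSheafData.map_bot]
  rw [h1]
  apply Scheme.IdealSheafData.vanishingIdeal_antimono
  rw [Closeds.closure_le]
  rintro _ ⟨w, -, rfl⟩
  exact h ⟨w, rfl⟩

/-- A preimmersion from a reduced object into `Z` with image inside the closed set `C` and open in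
`C` lifts to a morphism of objects into the reduced subscheme on `C`. -/
theorem exists_lift_redSub (Z : Obj V) (C : Closeds Z.scheme) (W : Obj V) [IsReduced W.scheme]
    (f : W.scheme ⟶ Z.scheme) [IsPreimmersion f] (hf : Set.range f ⊆ (C : Set Z.scheme))
    (hopen : IsOpen (H79.BMGeom.redSubι Z C ⁻¹' Set.range f))
    (hdim : WeilCoh.dim (H79.BMGeom.redSub Z C).scheme ≤ WeilCoh.dim W.scheme) :
    ∃ g : W ⟶ H79.BMGeom.redSub Z C, g.hom ≫ H79.BMGeom.redSubι Z C = f := by
  have hker : (H79.BMGeom.redSubι Z C).ker ≤ f.ker := by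
    rw [show (H79.BMGeom.redSubι Z C).ker = Scheme.IdealSheafData.vanishingIdeal C from
      Scheme.IdealSheafData.ker_subschemeι _]
    exact vanishingIdeal_le_ker f C hf
  let g₀ : W.scheme ⟶ (H79.BMGeom.redSub Z C).scheme :=
    IsClosedImmersion.lift (H79.BMGeom.redSubι Z C) f hker
  have hfac : g₀ ≫ H79.BMGeom.redSubι Z C = f := IsClosedImmersion.lift_fac _ _ _
  have hpt : ∀ w, H79.BMGeom.redSubι Z C (g₀ w) = f w := fun w => by
    have := congrArg (fun h : W.scheme ⟶ Z.scheme => h w) hfac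
    simpa only [Scheme.Hom.comp_apply] using this
  have : IsPreimmersion (g₀ ≫ H79.BMGeom.redSubι Z C) := by rw [hfac]; infer_instance
  have hpre : IsPreimmersion g₀ := IsPreimmersion.of_comp g₀ (H79.BMGeom.redSubι Z C)
  have hinj : Function.Injective (H79.BMGeom.redSubι Z C) :=
    (H79.BMGeom.redSubι Z C).isClosedEmbedding.injective
  have hrange : Set.range g₀ = H79.BMGeom.redSubι Z C ⁻¹' Set.range f := by
    ext z
    constructor
    · rintro ⟨w, rfl⟩
      exact ⟨w, (hpt w).symm⟩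
    · rintro ⟨w, hw⟩
      exact ⟨w, hinj ((hpt w).trans hw)⟩
  have hop : IsOpenImmersion g₀ :=
    H79.BMGeom.isOpenImmersion_of_isOpen_range g₀ (by rw [hrange]; exact hopen)
  have hle : WeilCoh.dim W.scheme ≤ WeilCoh.dim (H79.BMGeom.redSub Z C).scheme :=
    H79.BMGeom.dim_le_of_isPreimmersion g₀ (H79.BMGeom.finiteDim _)
  exact ⟨⟨g₀, hop, le_antisymm hle hdim⟩, hfac⟩

theorem exists_lift_redSub_hom (Z : Obj V) (C : Closeds Z.scheme) (W : Obj V)
    [IsReduced W.scheme] (g : W ⟶ Z) (hg : Set.range g.hom ⊆ (C : Set Z.scheme)) :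
    ∃ g' : W ⟶ H79.BMGeom.redSub Z C, g'.hom ≫ H79.BMGeom.redSubι Z C = g.hom := by
  refine exists_lift_redSub Z C W g.hom hg ?_ ?_
  · exact g.hom.isOpenEmbedding.isOpen_range.preimage (H79.BMGeom.redSubι Z C).continuous
  · rw [g.dim_eq]
    exact H79.BMGeom.dim_le_of_isPreimmersion (H79.BMGeom.redSubι Z C) (H79.BMGeom.finiteDim Z)

end Lift

variable {R : Type u} [CommRing R] {A : Coefs R} (T : PreTheory V R A)

theorem push_congr {X Y : Obj V} {f f' : X.scheme ⟶ Y.scheme} [IsProper f] [IsProper f']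
    (h : f = f') (M : A.Cat) (i n i' n' : ℤ)
    (hi : i' = i + 2 * relCodim X.scheme Y.scheme) (hn : n' = n + relCodim X.scheme Y.scheme) :
    T.push f M i n i' n' hi hn = T.push f' M i n i' n' hi hn := by
  subst h; rfl

/-- Restriction after push-forward along a clopen piece is the identity. -/
theorem pull_push_self {W Z : Obj V} (g : W ⟶ Z) [IsProper g.hom] (M : A.Cat) (a n : ℤ)
    (h1 : a = a + 2 * relCodim W.scheme Z.scheme) (h2 : n = n + relCodim W.scheme Z.scheme)
    (b : T.gp W M a n) :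
    (T.pull g M a n).hom ((T.push g.hom M a n a n h1 h2).hom b) = b := by
  have hr : relCodim W.scheme W.scheme = 0 := by unfold relCodim; ring
  have h1' : a = a + 2 * relCodim W.scheme W.scheme := by rw [hr]; ring
  have h2' : n = n + relCodim W.scheme W.scheme := by rw [hr]; ring
  have hpb : IsPullback (𝟙 W : W ⟶ W).hom (𝟙 W.scheme) g.hom g.hom :=
    IsKernelPair.id_of_mono g.hom
  have := T.push_pull g.hom (𝟙 W.scheme) g (𝟙 W) hpb M a n a n h1 h2 h1' h2'
  rw [T.push_id W M a n h1' h2'] at this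
  have h3 := congrArg (fun φ => φ.hom b) this
  simpa using h3

section Additivity

variable {κ : Type*} (Amb : Obj V) (Wk : κ → Obj V) (f : ∀ x, (Wk x).scheme ⟶ Amb.scheme)
  [∀ x, IsClosedImmersion (f x)] [∀ x, IsReduced (Wk x).scheme]

/-- Additivity: a reduced closed subscheme `Z` of `Amb` which is the disjoint union of finitely
many clopen pieces `Wk x`. -/
theorem additivity (F : Finset κ) (d : ℕ) (hdW : ∀ x, WeilCoh.dim (Wk x).scheme = d)
    (hdisj : ∀ x ∈ F, ∀ x' ∈ F, x ≠ x' → Disjoint (Set.range (f x)) (Set.range (f x')))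
    (M : A.Cat) (a n a' n' : ℤ)
    (hiW : ∀ x, a' = a + 2 * relCodim (Wk x).scheme Amb.scheme)
    (hnW : ∀ x, n' = n + relCodim (Wk x).scheme Amb.scheme) :
    ∀ (Z : Obj V) [IsReduced Z.scheme] (ιZ : Z.scheme ⟶ Amb.scheme) [IsClosedImmersion ιZ]
      (_ : Set.range ιZ ⊆ ⋃ x ∈ F, Set.range (f x))
      (_ : ∀ x ∈ F, ∃ g : Wk x ⟶ Z, g.hom ≫ ιZ = f x)
      (hiZ : a' = a + 2 * relCodim Z.scheme Amb.scheme)
      (hnZ : n' = n + relCodim Z.scheme Amb.scheme),
      (∀ (c : T.gp Z M a n) (b : ∀ x, T.gp (Wk x) M a n),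
        (∀ x ∈ F, ∀ g : Wk x ⟶ Z, g.hom ≫ ιZ = f x → (T.pull g M a n).hom c = b x) →
        (T.push ιZ M a n a' n' hiZ hnZ).hom c
          = ∑ x ∈ F, (T.push (f x) M a n a' n' (hiW x) (hnW x)).hom (b x))
      ∧ (∀ (b : ∀ x, T.gp (Wk x) M a n), ∃ c : T.gp Z M a n,
        ∀ x ∈ F, ∀ g : Wk x ⟶ Z, g.hom ≫ ιZ = f x → (T.pull g M a n).hom c = b x) := by
  classical
  obtain ⟨k, rfl⟩ : ∃ k, a = k + 1 := ⟨a - 1, by ring⟩
  induction F using Finset.induction_on with
  | empty =>
    intro Z _ ιZ _ hrange _ hiZ hnZ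
    have hemp : IsEmpty Z.scheme := ⟨fun z => by
      have := hrange ⟨z, rfl⟩
      simp at this⟩
    refine ⟨fun c b _ => ?_, fun b => ⟨0, fun x hx => absurd hx (Finset.notMem_empty x)⟩⟩
    rw [H79.BMCore.eq_zero_of_isEmpty T Z M (k + 1) n c, map_zero, Finset.sum_empty]
  | insert x₀ F₀ hx₀ ih =>
    intro Z _ ιZ _ hrange hg hiZ hnZ
    have ih' := ih (fun x hx x' hx' hne =>
      hdisj x (Finset.mem_insert_of_mem hx) x' (Finset.mem_insert_of_mem hx') hne)
    have hinjZ : Function.Injective ιZ := ιZ.isClosedEmbedding.injective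
    obtain ⟨g₀, hg₀⟩ := hg x₀ (Finset.mem_insert_self x₀ F₀)
    have hg₀pt : ∀ w, ιZ (g₀.hom w) = f x₀ w := fun w => by
      have := congrArg (fun h : (Wk x₀).scheme ⟶ Amb.scheme => h w) hg₀
      simpa only [Scheme.Hom.comp_apply] using this
    have : IsClosedImmersion (g₀.hom ≫ ιZ) := by rw [hg₀]; infer_instance
    have hg₀cl : IsClosedImmersion g₀.hom :=
      IsClosedImmersion.of_comp_isClosedImmersion g₀.hom ιZ
    let C₀ : Closeds Z.scheme :=
      ⟨(Set.range g₀.hom)ᶜ, g₀.hom.isOpenEmbedding.isOpen_range.isClosed_compl⟩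
    let Z' : Obj V := H79.BMGeom.redSub Z C₀
    let ι' : Z'.scheme ⟶ Z.scheme := H79.BMGeom.redSubι Z C₀
    have hι'cl : IsClosedImmersion ι' :=
      inferInstanceAs (IsClosedImmersion (H79.BMGeom.redSubι Z C₀))
    have hZ'red : IsReduced Z'.scheme :=
      inferInstanceAs (IsReduced (H79.BMGeom.redSub Z C₀).scheme)
    have hrι' : Set.range ι' = (Set.range g₀.hom)ᶜ := H79.BMGeom.range_redSubι Z C₀
    let D₀ : Decomp Z := ⟨Z', Wk x₀, ι', hι'cl, g₀, by rw [hrι', compl_compl]⟩
    have hr₀ : relCodim (Wk x₀).scheme Z.scheme = 0 := H79.BMCore.relCodim_of_hom g₀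
    have h1₀ : k + 1 = k + 1 + 2 * relCodim (Wk x₀).scheme Z.scheme := by rw [hr₀]; ring
    have h2₀ : n = n + relCodim (Wk x₀).scheme Z.scheme := by rw [hr₀]; ring
    have hrange' : Set.range (ι' ≫ ιZ) ⊆ ⋃ x ∈ F₀, Set.range (f x) := by
      rintro _ ⟨z', rfl⟩
      rw [Scheme.Hom.comp_apply]
      have hz' : ι' z' ∉ Set.range g₀.hom := by
        have : ι' z' ∈ Set.range ι' := ⟨z', rfl⟩
        rw [hrι'] at this; exact this
      have h1 := hrange ⟨ι' z', rfl⟩
      simp only [Set.mem_iUnion] at h1 ⊢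
      obtain ⟨x, hx, w, hw⟩ := h1
      rcases Finset.mem_insert.mp hx with hxx | hx'
      · exfalso
        subst hxx
        exact hz' ⟨w, hinjZ ((hg₀pt w).trans hw)⟩
      · exact ⟨x, hx', w, hw⟩
    have hg' : ∀ x ∈ F₀, ∃ g' : Wk x ⟶ Z', g'.hom ≫ (ι' ≫ ιZ) = f x := by
      intro x hx
      obtain ⟨gx, hgx⟩ := hg x (Finset.mem_insert_of_mem hx)
      have hgxpt : ∀ w, ιZ (gx.hom w) = f x w := fun w => by
        have := congrArg (fun h : (Wk x).scheme ⟶ Amb.scheme => h w) hgx
        simpa only [Scheme.Hom.comp_apply] using this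
      have hne : x ≠ x₀ := fun h => hx₀ (h ▸ hx)
      have hsub : Set.range gx.hom ⊆ (C₀ : Set Z.scheme) := by
        rintro _ ⟨w, rfl⟩
        show gx.hom w ∉ Set.range g₀.hom
        rintro ⟨w₀, hw₀⟩
        have hd := hdisj x (Finset.mem_insert_of_mem hx) x₀ (Finset.mem_insert_self _ _) hne
        exact Set.disjoint_left.mp hd ⟨w, rfl⟩
          ⟨w₀, (hg₀pt w₀).symm.trans ((congrArg (fun z => ιZ z) hw₀).trans (hgxpt w))⟩
      obtain ⟨g', hg'⟩ := exists_lift_redSub_hom Z C₀ (Wk x) gx hsub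
      have hg'' : g'.hom ≫ ι' = gx.hom := hg'
      exact ⟨g', by rw [← Category.assoc, hg'', hgx]⟩
    rcases Finset.eq_empty_or_nonempty F₀ with hF₀ | ⟨x₁, hx₁⟩
    · -- only one piece
      subst hF₀
      have hempZ' : IsEmpty Z'.scheme := ⟨fun z' => by
        have := hrange' ⟨z', rfl⟩
        simp at this⟩
      have hi₁ : k + 1 = (k + 1 - 2 * relCodim Z'.scheme Z.scheme)
          + 2 * relCodim Z'.scheme Z.scheme := by ring
      have hn₁ : n = (n - relCodim Z'.scheme Z.scheme) + relCodim Z'.scheme Z.scheme := by ring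
      have hex : Function.Exact
          (T.push ι' M (k + 1 - 2 * relCodim Z'.scheme Z.scheme)
            (n - relCodim Z'.scheme Z.scheme) (k + 1) n hi₁ hn₁).hom
          (T.pull g₀ M (k + 1) n).hom :=
        T.exact_push_pull D₀ M k n _ _ hi₁ hn₁
      have hcomplete : ∀ c : T.gp Z M (k + 1) n,
          c = (T.push g₀.hom M (k + 1) n (k + 1) n h1₀ h2₀).hom
            ((T.pull g₀ M (k + 1) n).hom c) := by
        intro c
        have h0 : (T.pull g₀ M (k + 1) n).hom
            (c - (T.push g₀.hom M (k + 1) n (k + 1) n h1₀ h2₀).hom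
              ((T.pull g₀ M (k + 1) n).hom c)) = 0 := by
          rw [map_sub, pull_push_self T g₀ M (k + 1) n h1₀ h2₀, sub_self]
        obtain ⟨d', hd'⟩ := (hex _).mp h0
        have hd0 : d' = 0 := H79.BMCore.eq_zero_of_isEmpty T Z' M _ _ d'
        rw [hd0, map_zero] at hd'
        exact sub_eq_zero.mp hd'.symm
      refine ⟨fun c b hb => ?_, fun b =>
        ⟨(T.push g₀.hom M (k + 1) n (k + 1) n h1₀ h2₀).hom (b x₀), fun x hx g hgx => ?_⟩⟩
      · have hb₀ := hb x₀ (Finset.mem_insert_self _ _) g₀ hg₀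
        rw [Finset.sum_insert hx₀, Finset.sum_empty, add_zero]
        have hc := hcomplete c
        rw [hb₀] at hc
        have hpc := T.push_comp g₀.hom ιZ M (k + 1) n (k + 1) n a' n' h1₀ h2₀ hiZ hnZ
          (hiW x₀) (hnW x₀)
        have e₀ := congrArg (fun φ => φ.hom (b x₀))
          (hpc.trans (push_congr T hg₀ M (k + 1) n a' n' (hiW x₀) (hnW x₀)))
        simp only [ModuleCat.hom_comp, LinearMap.comp_apply] at e₀
        exact (congrArg (fun y => (T.push ιZ M (k + 1) n a' n' hiZ hnZ).hom y) hc).trans e₀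
      · have hxx : x = x₀ := by simpa using hx
        subst hxx
        have hgg : g = g₀ := Hom.ext ((cancel_mono ιZ).mp (hgx.trans hg₀.symm))
        rw [hgg]
        exact pull_push_self T g₀ M (k + 1) n h1₀ h2₀ _
    · -- several pieces: split off the first
      obtain ⟨g₁', hg₁'⟩ := hg' x₁ hx₁
      have hdZ' : WeilCoh.dim Z'.scheme = WeilCoh.dim Z.scheme := by
        rw [← g₁'.dim_eq, ← g₀.dim_eq, hdW, hdW]
      have hopen' : IsOpen (Set.range ι') := by
        rw [hrι']; exact g₀.hom.isClosedEmbedding.isClosed_range.isOpen_compl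
      have hι'op : IsOpenImmersion ι' := H79.BMGeom.isOpenImmersion_of_isOpen_range ι' hopen'
      let jZ' : Z' ⟶ Z := ⟨ι', hι'op, hdZ'⟩
      have : IsProper jZ'.hom := (inferInstance : IsProper ι')
      let D₁ : Decomp Z := ⟨Wk x₀, Z', g₀.hom, hg₀cl, jZ', hrι'⟩
      have hr' : relCodim Z'.scheme Z.scheme = 0 := H79.BMCore.relCodim_of_hom jZ'
      have h1' : k + 1 = k + 1 + 2 * relCodim Z'.scheme Z.scheme := by rw [hr']; ring
      have h2' : n = n + relCodim Z'.scheme Z.scheme := by rw [hr']; ring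
      have hex₀ : Function.Exact (T.push ι' M (k + 1) n (k + 1) n h1' h2').hom
          (T.pull g₀ M (k + 1) n).hom := T.exact_push_pull D₀ M k n (k + 1) n h1' h2'
      have hex₁ : Function.Exact (T.push g₀.hom M (k + 1) n (k + 1) n h1₀ h2₀).hom
          (T.pull jZ' M (k + 1) n).hom := T.exact_push_pull D₁ M k n (k + 1) n h1₀ h2₀
      have hTP : ∀ c : T.gp Z M (k + 1) n,
          c = (T.push g₀.hom M (k + 1) n (k + 1) n h1₀ h2₀).hom ((T.pull g₀ M (k + 1) n).hom c)
            + (T.push ι' M (k + 1) n (k + 1) n h1' h2').hom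
              ((T.pull jZ' M (k + 1) n).hom c) := by
        intro c
        have h0 : (T.pull g₀ M (k + 1) n).hom
            (c - (T.push g₀.hom M (k + 1) n (k + 1) n h1₀ h2₀).hom
              ((T.pull g₀ M (k + 1) n).hom c)) = 0 := by
          rw [map_sub, pull_push_self T g₀ M (k + 1) n h1₀ h2₀, sub_self]
        obtain ⟨d', hd'⟩ := (hex₀ _).mp h0
        have hd'' : d' = (T.pull jZ' M (k + 1) n).hom c := by
          have e1 := pull_push_self T jZ' M (k + 1) n h1' h2' d'
          have e2 : (T.pull jZ' M (k + 1) n).hom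
              ((T.push ι' M (k + 1) n (k + 1) n h1' h2').hom d')
              = (T.pull jZ' M (k + 1) n).hom c := by
            rw [hd', map_sub, hex₁.apply_apply_eq_zero, sub_zero]
          exact e1.symm.trans e2
        rw [← hd'', hd']
        abel
      have hiZ' : a' = k + 1 + 2 * relCodim Z'.scheme Amb.scheme := by
        have := hiZ
        unfold relCodim at this ⊢
        rw [hdZ']; exact this
      have hnZ' : n' = n + relCodim Z'.scheme Amb.scheme := by
        have := hnZ
        unfold relCodim at this ⊢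
        rw [hdZ']; exact this
      obtain ⟨ih1, ih2⟩ := ih' Z' (ι' ≫ ιZ) hrange' hg' hiZ' hnZ'
      refine ⟨fun c b hb => ?_, fun b => ?_⟩
      · have hb₀ := hb x₀ (Finset.mem_insert_self _ _) g₀ hg₀
        have hc' := ih1 ((T.pull jZ' M (k + 1) n).hom c) b (fun x hx g' hgx' =>
          (pull_comp_apply T g' jZ' M (k + 1) n c).trans
            (hb x (Finset.mem_insert_of_mem hx) (g' ≫ jZ') (by
              show (g'.hom ≫ ι') ≫ ιZ = f x
              rw [Category.assoc]; exact hgx')))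
        rw [Finset.sum_insert hx₀, ← hc']
        have hpc₀ := T.push_comp g₀.hom ιZ M (k + 1) n (k + 1) n a' n' h1₀ h2₀ hiZ hnZ
          (hiW x₀) (hnW x₀)
        have hpc' := T.push_comp ι' ιZ M (k + 1) n (k + 1) n a' n' h1' h2' hiZ hnZ hiZ' hnZ'
        have e₀ := congrArg (fun φ => φ.hom (b x₀))
          (hpc₀.trans (push_congr T hg₀ M (k + 1) n a' n' (hiW x₀) (hnW x₀)))
        have e' := congrArg (fun φ => φ.hom ((T.pull jZ' M (k + 1) n).hom c)) hpc'
        simp only [ModuleCat.hom_comp, LinearMap.comp_apply] at e₀ e'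
        have hTPc := hTP c
        rw [hb₀] at hTPc
        have hL : (T.push ιZ M (k + 1) n a' n' hiZ hnZ).hom c
            = (T.push ιZ M (k + 1) n a' n' hiZ hnZ).hom
                ((T.push g₀.hom M (k + 1) n (k + 1) n h1₀ h2₀).hom (b x₀))
              + (T.push ιZ M (k + 1) n a' n' hiZ hnZ).hom
                ((T.push ι' M (k + 1) n (k + 1) n h1' h2').hom
                  ((T.pull jZ' M (k + 1) n).hom c)) := by
          conv_lhs => rw [hTPc]
          rw [map_add]
        exact hL.trans (congrArg₂ (· + ·) e₀ e')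
      · obtain ⟨c', hc'⟩ := ih2 b
        refine ⟨(T.push g₀.hom M (k + 1) n (k + 1) n h1₀ h2₀).hom (b x₀)
          + (T.push ι' M (k + 1) n (k + 1) n h1' h2').hom c', fun x hx g hgx => ?_⟩
        rcases Finset.mem_insert.mp hx with hxx | hx'
        · subst hxx
          have hgg : g = g₀ := Hom.ext ((cancel_mono ιZ).mp (hgx.trans hg₀.symm))
          rw [hgg, map_add, pull_push_self T g₀ M (k + 1) n h1₀ h2₀,
            hex₀.apply_apply_eq_zero, add_zero]
        · obtain ⟨g', hg'x⟩ := hg' x hx'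
          have hgg : g = g' ≫ jZ' := Hom.ext ((cancel_mono ιZ).mp (hgx.trans (by
            show f x = (g'.hom ≫ ι') ≫ ιZ
            rw [Category.assoc]; exact hg'x.symm)))
          rw [hgg, ← pull_comp_apply T, map_add, hex₁.apply_apply_eq_zero, zero_add]
          have e1 := pull_push_self T jZ' M (k + 1) n h1' h2' c'
          exact (congrArg (fun y => (T.pull g' M (k + 1) n).hom y) e1).trans (hc' x hx' g' hg'x)

end Additivity

end Groth.Agent.H90
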