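import Mathlib
import Groth.Prelude.Def_BMCoh3
import Groth.Agent.H90.BMAdd

/-!
# Finitely many points of codimension `j+1` with disjoint closures in an open (helper90)
-/

set_option autoImplicit false
universe u

namespace Groth.Agent.H90

open TopologicalSpace Topology Set AlgebraicGeometry CategoryTheory BMCoh Opposite

variable {V : ObjectProperty Scheme.{u}} [IsConstructible V]

theorem mem_finset_sup_closeds' {α β : Type*} [TopologicalSpace α] (S : Finset β)
    (f : β → Closeds α) (p : α) :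
    p ∈ ((S.sup f : Closeds α) : Set α) ↔ ∃ t ∈ S, p ∈ (f t : Set α) := by
  classical
  induction S using Finset.induction_on with
  | empty => simp
  | insert t S ht ih =>
    rw [Finset.sup_insert, Closeds.coe_sup, Set.mem_union, ih]
    constructor
    · rintro (h | ⟨s, hs, h⟩)
      · exact ⟨t, Finset.mem_insert_self _ _, h⟩
      · exact ⟨s, Finset.mem_insert_of_mem hs, h⟩
    · rintro ⟨s, hs, h⟩
      rcases Finset.mem_insert.mp hs with rfl | hs'
      · exact Or.inl h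
      · exact Or.inr ⟨s, hs', h⟩

/-- The closure of a point, as a closed set. -/
def ptCl (X : Obj V) (x : X.scheme) : Closeds X.scheme := ⟨closure {x}, isClosed_closure⟩

/-- The union of the closures of the points of a finite set. -/
noncomputable def clF (X : Obj V) {j : ℕ} (F : Finset (X.cdPt j)) : Closeds X.scheme :=
  F.sup (fun x => ptCl X x.1)

theorem mem_clF (X : Obj V) {j : ℕ} (F : Finset (X.cdPt j)) (p : X.scheme) :
    p ∈ (clF X F : Set X.scheme) ↔ ∃ x ∈ F, p ∈ closure ({x.1} : Set X.scheme) :=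
  mem_finset_sup_closeds' F _ p

open Classical in
/-- The union of the pairwise intersections of the closures of distinct points of a finite set. -/
noncomputable def pairK (X : Obj V) {j : ℕ} (F : Finset (X.cdPt j)) : Closeds X.scheme :=
  F.sup (fun x => F.sup (fun x' => if x = x' then ⊥ else ptCl X x.1 ⊓ ptCl X x'.1))

theorem mem_pairK (X : Obj V) {j : ℕ} (F : Finset (X.cdPt j)) (p : X.scheme) :
    p ∈ (pairK X F : Set X.scheme) ↔ ∃ x ∈ F, ∃ x' ∈ F, x ≠ x' ∧
      p ∈ closure ({x.1} : Set X.scheme) ∧ p ∈ closure ({x'.1} : Set X.scheme) := by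
  classical
  unfold pairK
  rw [mem_finset_sup_closeds']
  constructor
  · rintro ⟨x, hx, h⟩
    rw [mem_finset_sup_closeds'] at h
    obtain ⟨x', hx', h'⟩ := h
    by_cases hxx : x = x'
    · rw [if_pos hxx, Closeds.coe_bot] at h'
      exact absurd h' (Set.notMem_empty p)
    · rw [if_neg hxx, Closeds.coe_inf] at h'
      exact ⟨x, hx, x', hx', hxx, h'.1, h'.2⟩
  · rintro ⟨x, hx, x', hx', hxx, h1, h2⟩
    refine ⟨x, hx, ?_⟩
    rw [mem_finset_sup_closeds']
    refine ⟨x', hx', ?_⟩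
    rw [if_neg hxx, Closeds.coe_inf]
    exact ⟨h1, h2⟩

theorem codim_of_mem_pairK (X : Obj V) (j : ℕ) (F : Finset (X.cdPt (j + 1))) (p : X.scheme)
    (hp : p ∈ (pairK X F : Set X.scheme)) : j + 2 ≤ WeilCoh.codim X.scheme p := by
  obtain ⟨x, hx, x', hx', hxx, h1, h2⟩ := (mem_pairK X F p).mp hp
  by_cases hpx : p = x.1
  · have hpx' : p ≠ x'.1 := fun h => hxx (Subtype.ext (hpx.symm.trans h))
    have := codim_lt_of_mem_closure X h2 hpx'
    rw [x'.2] at this; omega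
  · have := codim_lt_of_mem_closure X h1 hpx
    rw [x.2] at this; omega

theorem pdim_eq_of_cdPt (X : Obj V) (k : ℕ) (x : X.cdPt (k + 1)) :
    WeilCoh.pdim X.scheme x.1 = WeilCoh.dim X.scheme - (k + 1) := by
  have h1 := x.2
  have h2 := pdim_le_dim X x.1
  unfold WeilCoh.codim at h1
  omega

/-- Given finitely many points of codimension `j+1` and a nonempty open in each closure, there is
an open containing `F_{j+1}X` in which the closures are pairwise disjoint and have traces inside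
the given opens. -/
theorem exists_good_open (X : Obj V) (j : ℕ) (F : Finset (X.cdPt (j + 1)))
    (W' : ∀ x : X.cdPt (j + 1), ptIdx X x.1) :
    ∃ Y : Idx X (ContainsFj X (j + 1)),
      (∀ x ∈ F, Y.1 ≤ Uof X x.1 (W' x).1) ∧
      (∀ x ∈ F, ∀ x' ∈ F, x ≠ x' → ∀ p ∈ Y.1, p ∈ closure ({x.1} : Set X.scheme) →
        p ∉ closure ({x'.1} : Set X.scheme)) := by
  let K₁ : Closeds X.scheme := F.sup (fun x =>
    (⟨((Uof X x.1 (W' x).1 : X.scheme.Opens) : Set X.scheme)ᶜ,
      (Uof X x.1 (W' x).1).2.isClosed_compl⟩ : Closeds X.scheme))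
  have hK₁ : ∀ p, p ∈ (K₁ : Set X.scheme) ↔ ∃ x ∈ F, p ∉ Uof X x.1 (W' x).1 :=
    fun p => mem_finset_sup_closeds' F _ p
  let Yo : X.scheme.Opens := complOpens (K₁ ⊔ pairK X F)
  have hYo : ∀ p, p ∈ Yo ↔ (p ∉ (K₁ : Set X.scheme) ∧ p ∉ (pairK X F : Set X.scheme)) :=
    fun p => by
      show p ∉ ((K₁ ⊔ pairK X F : Closeds X.scheme) : Set X.scheme) ↔ _
      rw [Closeds.coe_sup, Set.mem_union, not_or]
  have hc : ContainsFj X (j + 1) Yo := fun y hy => (hYo y).mpr ⟨fun h => by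
      obtain ⟨x, hx, hyx⟩ := (hK₁ y).mp h
      exact hyx (mem_Uof_of_codim_le X x.1 (W' x).1 (W' x).2.1 y (by rw [x.2]; exact hy)),
    fun h => by have := codim_of_mem_pairK X j F y h; omega⟩
  have hd : WeilCoh.dim (Yo : Scheme.{u}) = WeilCoh.dim X.scheme :=
    dim_opens_of_codim_zero X _ fun y hy => hc y (by omega)
  refine ⟨⟨Yo, hc, hd⟩, fun x hx p hp => ?_, fun x hx x' hx' hxx p hp h1 h2 => ?_⟩
  · by_contra hpU
    exact ((hYo p).mp hp).1 ((hK₁ p).mpr ⟨x, hx, hpU⟩)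
  · exact ((hYo p).mp hp).2 ((mem_pairK X F p).mpr ⟨x, hx, x', hx', hxx, h1, h2⟩)

/-- Given an open `U ⊇ F_jX` there are finitely many points of codimension `j+1` and an open
`Y ⊇ F_{j+1}X` in which their closures are pairwise disjoint and cover `Y ∖ U`. -/
theorem exists_config_of_open (X : Obj V) (j : ℕ) (U : Idx X (ContainsFj X j)) :
    ∃ (F : Finset (X.cdPt (j + 1))) (Y : Idx X (ContainsFj X (j + 1))),
      (∀ x ∈ F, ∀ x' ∈ F, x ≠ x' → ∀ p ∈ Y.1, p ∈ closure ({x.1} : Set X.scheme) →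
        p ∉ closure ({x'.1} : Set X.scheme)) ∧
      (∀ p ∈ Y.1, p ∉ U.1 → ∃ x ∈ F, p ∈ closure ({x.1} : Set X.scheme)) := by
  classical
  have : IsNoetherian X.scheme := IsConstructible.isNoetherian X.mem
  obtain ⟨S, hSirr, hSsup⟩ := NoetherianSpace.exists_finset_irreducible
    (⟨(U.1 : Set X.scheme)ᶜ, U.1.2.isClosed_compl⟩ : Closeds X.scheme)
  have hmem : ∀ p : X.scheme, p ∉ U.1 ↔ ∃ t ∈ S, p ∈ (t : Set X.scheme) := fun p => by
    rw [← mem_finset_sup_closeds, ← hSsup]; rfl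
  have hkey : ∀ t ∈ S, ∀ y ∈ (t : Set X.scheme), WeilCoh.codim X.scheme y ≤ j + 1 →
      (t : Set X.scheme) = closure {y} ∧ WeilCoh.codim X.scheme y = j + 1 := by
    intro t ht y hyt hy
    have hirr := hSirr ⟨t, ht⟩
    have hgen := hirr.isGenericPoint_genericPoint t.isClosed
    obtain ⟨ξ, hξ⟩ : ∃ ξ : X.scheme, (t : Set X.scheme) = closure {ξ} :=
      ⟨hirr.genericPoint, hgen.def.symm⟩
    have hξt : ξ ∈ (t : Set X.scheme) := by rw [hξ]; exact subset_closure rfl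
    have hξU : ξ ∉ U.1 := (hmem ξ).mpr ⟨t, ht, hξt⟩
    have hyU : y ∉ U.1 := (hmem y).mpr ⟨t, ht, hyt⟩
    have hcξ : j + 1 ≤ WeilCoh.codim X.scheme ξ := by
      by_contra hlt; exact hξU (U.2.1 ξ (by omega))
    have hcy : j + 1 ≤ WeilCoh.codim X.scheme y := by
      by_contra hlt; exact hyU (U.2.1 y (by omega))
    have hycl : y ∈ closure ({ξ} : Set X.scheme) := hξ ▸ hyt
    have hyξ : y = ξ := by
      by_contra hne
      have := codim_lt_of_mem_closure X hycl hne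
      omega
    exact ⟨by rw [hyξ]; exact hξ, by omega⟩
  let Fs : Set (X.cdPt (j + 1)) := {x | x.1 ∉ U.1}
  have hFs : Fs.Finite := by
    have hinj : Function.Injective (fun x : X.cdPt (j + 1) => ptCl X x.1) := by
      intro x x' hxx'
      have h1 : closure ({x.1} : Set X.scheme) = closure {x'.1} :=
        congrArg (fun c : Closeds X.scheme => (c : Set X.scheme)) hxx'
      by_contra hne
      have hne' : x.1 ≠ x'.1 := fun h => hne (Subtype.ext h)
      have hx : x.1 ∈ closure ({x'.1} : Set X.scheme) := h1 ▸ subset_closure rfl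
      have := codim_lt_of_mem_closure X hx hne'
      rw [x.2, x'.2] at this; omega
    refine Set.Finite.subset (Set.Finite.preimage (hinj.injOn) S.finite_toSet) ?_
    intro x hx
    obtain ⟨t, ht, hxt⟩ := (hmem x.1).mp hx
    have h1 := (hkey t ht x.1 hxt (by rw [x.2])).1
    show ptCl X x.1 ∈ (S : Set (Closeds X.scheme))
    have hteq : t = ptCl X x.1 := Closeds.ext h1
    rw [← hteq]; exact ht
  let F : Finset (X.cdPt (j + 1)) := hFs.toFinset
  have hF : ∀ x, x ∈ F ↔ x.1 ∉ U.1 := fun x => hFs.mem_toFinset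
  let K₁ : Closeds X.scheme := (S.filter (fun t : Closeds X.scheme =>
    ¬ ∃ x : X.cdPt (j + 1), (t : Set X.scheme) = closure {x.1})).sup id
  have hK₁ : ∀ p, p ∈ (K₁ : Set X.scheme) ↔ ∃ t ∈ S,
      (¬ ∃ x : X.cdPt (j + 1), (t : Set X.scheme) = closure {x.1}) ∧ p ∈ (t : Set X.scheme) :=
    fun p => (mem_finset_sup_closeds _ p).trans
      ⟨fun ⟨t, ht, hp⟩ => ⟨t, (Finset.mem_filter.mp ht).1, (Finset.mem_filter.mp ht).2, hp⟩,
        fun ⟨t, ht1, ht2, hp⟩ => ⟨t, Finset.mem_filter.mpr ⟨ht1, ht2⟩, hp⟩⟩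
  let Yo : X.scheme.Opens := complOpens (K₁ ⊔ pairK X F)
  have hYo : ∀ p, p ∈ Yo ↔ (p ∉ (K₁ : Set X.scheme) ∧ p ∉ (pairK X F : Set X.scheme)) :=
    fun p => by
      show p ∉ ((K₁ ⊔ pairK X F : Closeds X.scheme) : Set X.scheme) ↔ _
      rw [Closeds.coe_sup, Set.mem_union, not_or]
  have hc : ContainsFj X (j + 1) Yo := fun y hy => (hYo y).mpr ⟨fun h => by
      obtain ⟨t, ht, hbad, hyt⟩ := (hK₁ y).mp h
      have h2 := hkey t ht y hyt hy
      exact hbad ⟨⟨y, h2.2⟩, h2.1⟩,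
    fun h => by have := codim_of_mem_pairK X j F y h; omega⟩
  have hd : WeilCoh.dim (Yo : Scheme.{u}) = WeilCoh.dim X.scheme :=
    dim_opens_of_codim_zero X _ fun y hy => hc y (by omega)
  refine ⟨F, ⟨Yo, hc, hd⟩, fun x hx x' hx' hxx p hp h1 h2 => ?_, fun p hp hpU => ?_⟩
  · exact ((hYo p).mp hp).2 ((mem_pairK X F p).mpr ⟨x, hx, x', hx', hxx, h1, h2⟩)
  · obtain ⟨t, ht, hpt⟩ := (hmem p).mp hpU
    by_cases hgood : ∃ x : X.cdPt (j + 1), (t : Set X.scheme) = closure {x.1}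
    · obtain ⟨x, hx⟩ := hgood
      have hxt : x.1 ∈ (t : Set X.scheme) := by rw [hx]; exact subset_closure rfl
      exact ⟨x, (hF x).mpr ((hmem x.1).mpr ⟨t, ht, hxt⟩), hx ▸ hpt⟩
    · exact absurd ((hK₁ p).mpr ⟨t, ht, hgood, hpt⟩) ((hYo p).mp hp).1

/-- The dimension of the closure of a point of an open, computed in the open, is at most the one
computed in the ambient object. -/
theorem pdim_res_le (X : Obj V) (U : X.scheme.Opens) (y : (X.res U).scheme) :
    WeilCoh.pdim (X.res U).scheme y ≤ WeilCoh.pdim X.scheme y.1 := by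
  unfold WeilCoh.pdim
  have hmap : ∀ z : ↥(closure ({y} : Set (X.res U).scheme)),
      U.ι z.1 ∈ closure ({y.1} : Set X.scheme) := fun z =>
    map_mem_closure U.ι.continuous z.2 (fun a ha => by
      rw [Set.mem_singleton_iff] at ha
      rw [ha]; exact rfl)
  have h1 : IsInducing (fun z : ↥(closure ({y} : Set (X.res U).scheme)) => U.ι z.1) :=
    U.ι.isOpenEmbedding.isInducing.comp IsInducing.subtypeVal
  have hfin : topologicalKrullDim ↥(closure ({y.1} : Set X.scheme)) < ⊤ :=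
    lt_of_le_of_lt (topologicalKrullDim_subspace_le _ _) (finite_dim X)
  exact natDim_le_of_isInducing (f := Set.codRestrict _ _ hmap) (h1.codRestrict hmap) hfin

section Config

variable (X : Obj V) {j : ℕ} (F : Finset (X.cdPt j)) (Yo : X.scheme.Opens)

/-- The complement in `Yo` of the closures of the points of `F`. -/
noncomputable def cfgU : X.scheme.Opens := Yo ⊓ complOpens (clF X F)

/-- The trace on `Yo` of the union of the closures of the points of `F`. -/
noncomputable def cfgC : Closeds (X.res Yo).scheme :=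
  ⟨Yo.ι ⁻¹' (clF X F : Set X.scheme), (clF X F).isClosed.preimage Yo.ι.continuous⟩

theorem mem_cfgC (p : (X.res Yo).scheme) :
    p ∈ (cfgC X F Yo : Set (X.res Yo).scheme) ↔ p.1 ∈ (clF X F : Set X.scheme) := Iff.rfl

/-- The reduced closed subscheme of `Yo` on the closures of the points of `F`. -/
noncomputable def cfgZ : Obj V := H79.BMGeom.redSub (X.res Yo) (cfgC X F Yo)

/-- Its closed immersion into `Yo`. -/
noncomputable abbrev cfgι : (cfgZ X F Yo).scheme ⟶ (X.res Yo).scheme :=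
  H79.BMGeom.redSubι (X.res Yo) (cfgC X F Yo)

instance : IsReduced (cfgZ X F Yo).scheme :=
  inferInstanceAs (IsReduced (H79.BMGeom.redSub (X.res Yo) (cfgC X F Yo)).scheme)

instance : IsClosedImmersion (cfgι X F Yo) :=
  inferInstanceAs (IsClosedImmersion (H79.BMGeom.redSubι (X.res Yo) (cfgC X F Yo)))

theorem range_cfgι : Set.range (cfgι X F Yo) = {p | p.1 ∈ (clF X F : Set X.scheme)} :=
  H79.BMGeom.range_redSubι (X.res Yo) (cfgC X F Yo)

theorem cfgι_mem (z : (cfgZ X F Yo).scheme) :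
    (cfgι X F Yo z).1 ∈ (clF X F : Set X.scheme) := by
  have hz : (cfgι X F Yo z) ∈ Set.range (cfgι X F Yo) := ⟨z, rfl⟩
  rw [range_cfgι] at hz
  exact hz

/-- The decomposition of `Yo` into the closures of the points of `F` and the complement. -/
noncomputable def cfgD
    (hd : WeilCoh.dim (cfgU X F Yo : Scheme.{u}) = WeilCoh.dim (Yo : Scheme.{u})) :
    Decomp (X.res Yo) where
  Z := cfgZ X F Yo
  U := X.res (cfgU X F Yo)
  i := cfgι X F Yo
  closedImm := inferInstance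
  j := X.resLE (inf_le_left : cfgU X F Yo ≤ Yo) hd
  range_eq := by
    rw [range_resLE, range_cfgι]
    ext p
    simp only [Set.mem_ofPred_eq, Set.mem_compl_iff]
    exact ⟨fun h => h.2, fun h => ⟨p.2, h⟩⟩

end Config

section Config2

variable (X : Obj V) (j : ℕ) (F : Finset (X.cdPt (j + 1))) (Y : Idx X (ContainsFj X (j + 1)))

theorem cfgU_containsFj : ContainsFj X j (cfgU X F Y.1) := fun y hy =>
  ⟨Y.2.1 y (by omega), fun hycl => by
    obtain ⟨x, _, hyx⟩ := (mem_clF X F y).mp hycl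
    have := codim_le_of_mem_closure X hyx
    rw [x.2] at this; omega⟩

theorem dim_cfgU : WeilCoh.dim (cfgU X F Y.1 : Scheme.{u}) = WeilCoh.dim X.scheme :=
  dim_opens_of_codim_zero X _ fun y hy => cfgU_containsFj X j F Y y (by omega)

theorem mem_cfgU_of_notMem (x : X.cdPt (j + 1)) (hx : x ∉ F) : x.1 ∈ cfgU X F Y.1 :=
  ⟨Y.2.1 x.1 (by rw [x.2]), fun hcl => by
    obtain ⟨x', hx', hxx'⟩ := (mem_clF X F x.1).mp hcl
    by_cases hne : x.1 = x'.1
    · exact hx ((Subtype.ext hne : x = x') ▸ hx')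
    · have := codim_lt_of_mem_closure X hxx' hne
      rw [x.2, x'.2] at this; omega⟩

theorem mem_Y_of_cdPt (x : X.cdPt (j + 1)) : x.1 ∈ Y.1 := Y.2.1 x.1 (by rw [x.2])

theorem cfg_disjoint
    (hdisj : ∀ x ∈ F, ∀ x' ∈ F, x ≠ x' → ∀ p ∈ Y.1, p ∈ closure ({x.1} : Set X.scheme) →
      p ∉ closure ({x'.1} : Set X.scheme))
    (x x' : X.cdPt (j + 1)) (hx : x ∈ F) (hx' : x' ∈ F) (hne : x ≠ x') :
    Disjoint (Set.range (fOf X x.1 Y.1)) (Set.range (fOf X x'.1 Y.1)) := by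
  rw [range_fOf, range_fOf, Set.disjoint_left]
  intro p hp hp'
  exact hdisj x hx x' hx' hne p.1 p.2 hp hp'

theorem cfg_range_subset (z : (cfgZ X F Y.1).scheme) :
    ∃ x ∈ F, cfgι X F Y.1 z ∈ Set.range (fOf X x.1 Y.1) := by
  obtain ⟨x, hx, hzx⟩ := (mem_clF X F _).mp (cfgι_mem X F Y.1 z)
  refine ⟨x, hx, ?_⟩
  rw [range_fOf]; exact hzx

theorem cfg_exists_lift
    (hdisj : ∀ x ∈ F, ∀ x' ∈ F, x ≠ x' → ∀ p ∈ Y.1, p ∈ closure ({x.1} : Set X.scheme) →
      p ∉ closure ({x'.1} : Set X.scheme))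
    (x : X.cdPt (j + 1)) (hx : x ∈ F) :
    ∃ g : (X.ptSub x.1).res (Wof X x.1 Y.1) ⟶ cfgZ X F Y.1,
      g.hom ≫ cfgι X F Y.1 = fOf X x.1 Y.1 := by
  classical
  have hWne := Wof_nonempty X x.1 Y.1 (mem_Y_of_cdPt X j Y x)
  refine exists_lift_redSub (X.res Y.1) (cfgC X F Y.1) ((X.ptSub x.1).res (Wof X x.1 Y.1))
    (fOf X x.1 Y.1) ?_ ?_ ?_
  · rw [range_fOf]
    intro p hp
    exact (mem_clF X F p.1).mpr ⟨x, hx, hp⟩
  · have hcl : IsClosed (cfgι X F Y.1 ⁻¹' (Y.1.ι ⁻¹' (clF X (F.erase x) : Set X.scheme))) :=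
      ((clF X (F.erase x)).isClosed.preimage Y.1.ι.continuous).preimage
        (cfgι X F Y.1).continuous
    have heq : cfgι X F Y.1 ⁻¹' Set.range (fOf X x.1 Y.1)
        = (cfgι X F Y.1 ⁻¹' (Y.1.ι ⁻¹' (clF X (F.erase x) : Set X.scheme)))ᶜ := by
      ext z
      rw [range_fOf]
      constructor
      · intro h hc
        have h' : (cfgι X F Y.1 z).1 ∈ closure ({x.1} : Set X.scheme) := h
        have hc' : (cfgι X F Y.1 z).1 ∈ (clF X (F.erase x) : Set X.scheme) := hc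
        obtain ⟨x', hx', hzx'⟩ := (mem_clF X (F.erase x) _).mp hc'
        exact hdisj x hx x' (Finset.mem_of_mem_erase hx') (Finset.ne_of_mem_erase hx').symm _
          (cfgι X F Y.1 z).2 h' hzx'
      · intro h
        show (cfgι X F Y.1 z).1 ∈ closure ({x.1} : Set X.scheme)
        obtain ⟨x'', hx'', hzx''⟩ := (mem_clF X F _).mp (cfgι_mem X F Y.1 z)
        by_cases hxx : x'' = x
        · exact hxx ▸ hzx''
        · exact absurd (show (cfgι X F Y.1 z).1 ∈ (clF X (F.erase x) : Set X.scheme) from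
            (mem_clF X (F.erase x) _).mpr ⟨x'', Finset.mem_erase.mpr ⟨hxx, hx''⟩, hzx''⟩) h
    show IsOpen (cfgι X F Y.1 ⁻¹' Set.range (fOf X x.1 Y.1))
    rw [heq]; exact hcl.isOpen_compl
  · have h1 : WeilCoh.dim ((X.ptSub x.1).res (Wof X x.1 Y.1)).scheme
        = WeilCoh.pdim X.scheme x.1 :=
      (dim_opens_ptSub X x.1 _ hWne).trans (dim_ptSub X x.1)
    rw [h1]
    refine H79.BMGeom.dim_redSub_le (X.res Y.1) (cfgC X F Y.1) (fun y hy => ?_)
    obtain ⟨x', _, hyx'⟩ := (mem_clF X F y.1).mp hy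
    have e1 := pdim_res_le X Y.1 y
    have e2 := pdim_le_of_mem_closure X hyx'
    rw [pdim_eq_of_cdPt X j x'] at e2
    rw [pdim_eq_of_cdPt X j x]
    omega

theorem cfg_relCodim (x : X.cdPt (j + 1))
    (g : (X.ptSub x.1).res (Wof X x.1 Y.1) ⟶ cfgZ X F Y.1) :
    relCodim (cfgZ X F Y.1).scheme (X.res Y.1).scheme = (j : ℤ) + 1 := by
  have h := relCodim_fOf X x.1 Y.1 Y.2.2 (Wof_nonempty X x.1 Y.1 (mem_Y_of_cdPt X j Y x))
  rw [x.2, codim_eq_int] at h
  unfold relCodim at h ⊢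
  rw [← g.dim_eq]; exact h

end Config2

section Residues

variable {R : Type u} [CommRing R] {A : Coefs R} (T : PreTheory V R A)

/-- The residue at a point of codimension `j+1` of a class defined on an open containing that
point vanishes. -/
theorem cpt_fjι_eq_zero_of_mem (X : Obj V) (j : ℕ) (Q : T.ResData X j) (M : A.Cat)
    (i n i' n' : ℤ) (hi : i' = i + 1 - 2 * ((j : ℤ) + 1)) (hn : n' = n - ((j : ℤ) + 1))
    (x : X.cdPt (j + 1)) (U : Idx X (ContainsFj X j)) (hxU : x.1 ∈ U.1)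
    (α : T.gp (X.res U.1) M i n) :
    (Q.cpt x M i n i' n' hi hn).hom (((T.fjι X j i n U).app M).hom α) = 0 := by
  let cl : Closeds X.scheme := ⟨closure {x.1}, isClosed_closure⟩
  have hU''c : ContainsFj X j (U.1 ⊓ complOpens cl) := fun y hy =>
    ⟨U.2.1 y hy, fun hycl => by
      have := codim_le_of_mem_closure X (x := x.1) (y := y) hycl
      rw [x.2] at this; omega⟩
  have hU''d : WeilCoh.dim ((U.1 ⊓ complOpens cl : X.scheme.Opens) : Scheme.{u})
      = WeilCoh.dim X.scheme :=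
    dim_opens_of_codim_zero X _ fun y hy => hU''c y (by omega)
  let U'' : Idx X (ContainsFj X j) := ⟨U.1 ⊓ complOpens cl, hU''c, hU''d⟩
  have hU''U : U'' ≤ U := (inf_le_left : U.1 ⊓ complOpens cl ≤ U.1)
  have hset : ∀ p ∈ U.1, (p ∈ U''.1 ↔ p ∉ closure ({x.1} : Set X.scheme)) := fun p hp =>
    ⟨fun h => h.2, fun h => ⟨hp, h⟩⟩
  have hrel := relCodim_fOf X x.1 U.1 U.2.2 (Wof_nonempty X x.1 U.1 hxU)
  have hiD : i' = i + 1 - 2 * relCodim ((X.ptSub x.1).res (Wof X x.1 U.1)).scheme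
      (X.res U.1).scheme := by rw [hrel, x.2, codim_eq_int]; exact hi
  have hnD : n' = n - relCodim ((X.ptSub x.1).res (Wof X x.1 U.1)).scheme
      (X.res U.1).scheme := by rw [hrel, x.2, codim_eq_int]; exact hn
  rw [ocolimι_res T X _ i n M hU''U α]
  rw [resData_cpt_eq T X j Q M i n i' n' hi hn x U.1 U'' hU''U U.2.2 hxU hset hiD hnD]
  have hex := T.exact_pull_res (decompOf X x.1 U.1 U''.1 hU''U (U''.2.2.trans U.2.2.symm) hset)
    M i n i' n' hiD hnD
  have h0 : (T.res (decompOf X x.1 U.1 U''.1 hU''U (U''.2.2.trans U.2.2.symm) hset)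
      M i n i' n' hiD hnD).hom
      ((T.pull (X.resLE hU''U (U''.2.2.trans U.2.2.symm)) M i n).hom α) = 0 :=
    hex.apply_apply_eq_zero α
  rw [h0]
  exact (map_zero _).trans rfl

/-- The residue at a point `x ∈ F` computed through the decomposition `cfgD`. -/
theorem resData_cpt_cfg (X : Obj V) (j : ℕ) (Q : T.ResData X j) (M : A.Cat) (i n i' n' : ℤ)
    (hi : i' = i + 1 - 2 * ((j : ℤ) + 1)) (hn : n' = n - ((j : ℤ) + 1))
    (F : Finset (X.cdPt (j + 1))) (Y : Idx X (ContainsFj X (j + 1)))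
    (x : X.cdPt (j + 1)) (g : (X.ptSub x.1).res (Wof X x.1 Y.1) ⟶ cfgZ X F Y.1)
    (hg : g.hom ≫ cfgι X F Y.1 = fOf X x.1 Y.1)
    (hiD : i' = i + 1 - 2 * relCodim (cfgZ X F Y.1).scheme (X.res Y.1).scheme)
    (hnD : n' = n - relCodim (cfgZ X F Y.1).scheme (X.res Y.1).scheme)
    (α : T.gp (X.res (cfgU X F Y.1)) M i n) :
    (Q.cpt x M i n i' n' hi hn).hom
        (((T.fjι X j i n ⟨cfgU X F Y.1, cfgU_containsFj X j F Y, dim_cfgU X j F Y⟩).app M).hom α)
      = ((T.ptι X x.1 i' n' ⟨Wof X x.1 Y.1, Wof_nonempty X x.1 Y.1 (mem_Y_of_cdPt X j Y x),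
            dim_opens_ptSub X x.1 _ (Wof_nonempty X x.1 Y.1 (mem_Y_of_cdPt X j Y x))⟩).app M).hom
          ((T.pull g M i' n').hom
            ((T.res (cfgD X F Y.1 ((dim_cfgU X j F Y).trans Y.2.2.symm)) M i n i' n' hiD hnD).hom
              α)) := by
  let D := cfgD X F Y.1 ((dim_cfgU X j F Y).trans Y.2.2.symm)
  let W : ptIdx X x.1 := ⟨Wof X x.1 Y.1, Wof_nonempty X x.1 Y.1 (mem_Y_of_cdPt X j Y x),
    dim_opens_ptSub X x.1 _ (Wof_nonempty X x.1 Y.1 (mem_Y_of_cdPt X j Y x))⟩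
  let Ui : Idx X (ContainsFj X j) := ⟨cfgU X F Y.1, cfgU_containsFj X j F Y, dim_cfgU X j F Y⟩
  let e : X.res Y.1 ⟶ X := X.resι Y.1 Y.2.2
  have hg1 : g.hom ≫ D.i ≫ e.hom = W.1.ι ≫ X.ptSubι x.1 := by
    show g.hom ≫ cfgι X F Y.1 ≫ Y.1.ι = _
    rw [← Category.assoc, hg]; exact fOf_ι X x.1 Y.1
  have hh : (𝟙 (X.res Ui.1) : X.res Ui.1 ⟶ D.U).hom ≫ D.j.hom ≫ e.hom = Ui.1.ι := by
    show 𝟙 _ ≫ X.scheme.homOfLE (inf_le_left : cfgU X F Y.1 ≤ Y.1) ≫ Y.1.ι = _
    rw [Category.id_comp, Scheme.homOfLE_ι]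
    rfl
  have spec := Q.cpt_spec x M i n i' n' hi hn e D W g hg1 Ui (𝟙 _) hh hiD hnD
  have spec' := congrArg (fun φ => φ.hom α) spec
  simp only [ModuleCat.hom_comp, LinearMap.comp_apply] at spec'
  have h1 : (T.pull (𝟙 (X.res Ui.1) : X.res Ui.1 ⟶ D.U) M i n).hom α = α :=
    congrArg (fun φ => φ.hom α) (pull_id T (X.res Ui.1) M i n)
  exact (congrArg (fun c => (Q.cpt x M i n i' n' hi hn).hom
    (((T.fjι X j i n Ui).app M).hom c)) h1.symm).trans spec'

/-- The total push-forward of a finitely supported family as a finite sum. -/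
theorem pushTot_eq_sum (X : Obj V) (j : ℕ) (P : T.PushData X j) (M : A.Cat) (i n i' n' : ℤ)
    (hi : i' = i + 2 * (j : ℤ)) (hn : n' = n + (j : ℤ))
    (ξ : DirectSum (X.cdPt j) fun x => T.ptGp X x.1 M i n) (F : Finset (X.cdPt j))
    (hF : ∀ x, x ∉ F → ξ x = 0) :
    (P.tot M i n i' n' hi hn).hom ξ = ∑ x ∈ F, (P.cpt x M i n i' n' hi hn).hom (ξ x) := by
  classical
  have hsup : DFinsupp.support ξ ⊆ F := fun x hx => by
    by_contra hxF
    exact (DFinsupp.mem_support_iff.mp hx) (hF x hxF)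
  have hξ := DirectSum.sum_support_of (β := fun y : X.cdPt j => T.ptGp X y.1 M i n) ξ
  have h1 : (P.tot M i n i' n' hi hn).hom ξ
      = ∑ x ∈ DFinsupp.support ξ, (P.cpt x M i n i' n' hi hn).hom (ξ x) := by
    conv_lhs => rw [← hξ]
    rw [map_sum]
    refine Finset.sum_congr rfl (fun x _ => ?_)
    exact PreTheory.PushData.tot_lof P M i n i' n' hi hn x (ξ x)
  rw [h1]
  refine Finset.sum_subset hsup (fun x _ hx => ?_)
  rw [DFinsupp.notMem_support_iff.mp hx, map_zero]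

end Residues

end Groth.Agent.H90
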