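import Mathlib
import Groth.Prelude.Def_BMCoh3
import Groth.Agent.H90.BMConfig

/-!
# Exactness of `H(F_jX) → ⊕ H(x) → H(F_{j+1}X)` (helper90)
-/

set_option autoImplicit false
universe u

namespace Groth.Agent.H90

open TopologicalSpace Topology Set AlgebraicGeometry CategoryTheory BMCoh Opposite

variable {V : ObjectProperty Scheme.{u}} [IsConstructible V]
variable {R : Type u} [CommRing R] {A : Coefs R} (T : PreTheory V R A)

theorem Wof_le_of_le_Uof (X : Obj V) (x : X.scheme) (Yo : X.scheme.Opens)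
    (W : (X.ptSub x).scheme.Opens) (h : Yo ≤ Uof X x W) : Wof X x Yo ≤ W :=
  fun z hz => ((mem_Uof X x W _).mp (h hz)) z rfl

/-- Additivity for the configuration of `BMConfig`, indexed by the points of `F`. -/
theorem cfg_additivity (X : Obj V) (j : ℕ) (F : Finset (X.cdPt (j + 1)))
    (Y : Idx X (ContainsFj X (j + 1)))
    (hdisj : ∀ x ∈ F, ∀ x' ∈ F, x ≠ x' → ∀ p ∈ Y.1, p ∈ closure ({x.1} : Set X.scheme) →
      p ∉ closure ({x'.1} : Set X.scheme))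
    (M : A.Cat) (a n a' n' : ℤ)
    (hiW : ∀ x : ↥F, a' = a + 2 * relCodim ((X.ptSub x.1.1).res (Wof X x.1.1 Y.1)).scheme
      (X.res Y.1).scheme)
    (hnW : ∀ x : ↥F, n' = n + relCodim ((X.ptSub x.1.1).res (Wof X x.1.1 Y.1)).scheme
      (X.res Y.1).scheme)
    (hiZ : a' = a + 2 * relCodim (cfgZ X F Y.1).scheme (X.res Y.1).scheme)
    (hnZ : n' = n + relCodim (cfgZ X F Y.1).scheme (X.res Y.1).scheme) :
    (∀ (c : T.gp (cfgZ X F Y.1) M a n)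
        (b : ∀ x : ↥F, T.gp ((X.ptSub x.1.1).res (Wof X x.1.1 Y.1)) M a n),
        (∀ (x : ↥F) (g : (X.ptSub x.1.1).res (Wof X x.1.1 Y.1) ⟶ cfgZ X F Y.1),
          g.hom ≫ cfgι X F Y.1 = fOf X x.1.1 Y.1 → (T.pull g M a n).hom c = b x) →
        (T.push (cfgι X F Y.1) M a n a' n' hiZ hnZ).hom c
          = ∑ x : ↥F, (T.push (fOf X x.1.1 Y.1) M a n a' n' (hiW x) (hnW x)).hom (b x))
    ∧ (∀ (b : ∀ x : ↥F, T.gp ((X.ptSub x.1.1).res (Wof X x.1.1 Y.1)) M a n),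
        ∃ c : T.gp (cfgZ X F Y.1) M a n,
          ∀ (x : ↥F) (g : (X.ptSub x.1.1).res (Wof X x.1.1 Y.1) ⟶ cfgZ X F Y.1),
            g.hom ≫ cfgι X F Y.1 = fOf X x.1.1 Y.1 → (T.pull g M a n).hom c = b x) := by
  classical
  have hdW : ∀ x : ↥F, WeilCoh.dim ((X.ptSub x.1.1).res (Wof X x.1.1 Y.1)).scheme
      = WeilCoh.dim X.scheme - (j + 1) := fun x =>
    (dim_opens_ptSub X x.1.1 _ (Wof_nonempty X x.1.1 Y.1 (mem_Y_of_cdPt X j Y x.1))).trans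
      ((dim_ptSub X x.1.1).trans (pdim_eq_of_cdPt X j x.1))
  have hdisj' : ∀ x ∈ (Finset.univ : Finset ↥F), ∀ x' ∈ (Finset.univ : Finset ↥F), x ≠ x' →
      Disjoint (Set.range (fOf X x.1.1 Y.1)) (Set.range (fOf X x'.1.1 Y.1)) :=
    fun x _ x' _ hne => cfg_disjoint X j F Y hdisj x.1 x'.1 x.2 x'.2
      (fun h => hne (Subtype.ext h))
  have hrange : Set.range (cfgι X F Y.1)
      ⊆ ⋃ x ∈ (Finset.univ : Finset ↥F), Set.range (fOf X x.1.1 Y.1) := by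
    rintro _ ⟨z, rfl⟩
    obtain ⟨x, hx, hz⟩ := cfg_range_subset X j F Y z
    simp only [Set.mem_iUnion]
    exact ⟨⟨x, hx⟩, Finset.mem_univ _, hz⟩
  have hg : ∀ x ∈ (Finset.univ : Finset ↥F),
      ∃ g : (X.ptSub x.1.1).res (Wof X x.1.1 Y.1) ⟶ cfgZ X F Y.1,
        g.hom ≫ cfgι X F Y.1 = fOf X x.1.1 Y.1 :=
    fun x _ => cfg_exists_lift X j F Y hdisj x.1 x.2
  obtain ⟨h1, h2⟩ := additivity T (X.res Y.1)
    (fun x : ↥F => (X.ptSub x.1.1).res (Wof X x.1.1 Y.1)) (fun x => fOf X x.1.1 Y.1)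
    Finset.univ (WeilCoh.dim X.scheme - (j + 1)) hdW hdisj' M a n a' n' hiW hnW
    (cfgZ X F Y.1) (cfgι X F Y.1) hrange hg hiZ hnZ
  refine ⟨fun c b hb => ?_, fun b => ?_⟩
  · exact h1 c b (fun x _ g hgx => hb x g hgx)
  · obtain ⟨c, hc⟩ := h2 b
    exact ⟨c, fun x g hgx => hc x (Finset.mem_univ x) g hgx⟩

section Main

variable (X : Obj V) (j : ℕ) (Q : T.ResData X j) (P : T.PushData X (j + 1)) (M : A.Cat)
  (i n i' n' : ℤ) (hi : i' = i + 1 - 2 * ((j : ℤ) + 1)) (hn : n' = n - ((j : ℤ) + 1))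
  (hi2 : i + 1 = i' + 2 * ((j + 1 : ℕ) : ℤ)) (hn2 : n = n' + ((j + 1 : ℕ) : ℤ))

include hi hn in
/-- The composite of the total residue and the total push-forward vanishes. -/
theorem pushTot_resTot_eq_zero (αt : T.fjGp X j M i n) :
    (P.tot M i' n' (i + 1) n hi2 hn2).hom ((Q.tot M i n i' n' hi hn).hom αt) = 0 := by
  classical
  obtain ⟨U₀, α₀, rfl⟩ := ocolim_exists_rep T (idxDirected_containsFj X j) i n M αt
  obtain ⟨F, Y, hdisj, hcover⟩ := exists_config_of_open X j U₀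
  let Ui : Idx X (ContainsFj X j) := ⟨cfgU X F Y.1, cfgU_containsFj X j F Y, dim_cfgU X j F Y⟩
  have hUiU₀ : Ui ≤ U₀ := fun p hp => by
    by_contra hpU
    obtain ⟨x, hx, hpx⟩ := hcover p hp.1 hpU
    exact hp.2 ((mem_clF X F p).mpr ⟨x, hx, hpx⟩)
  rw [ocolimι_res T X _ i n M hUiU₀ α₀]
  generalize (T.pull (X.resLE hUiU₀ (Ui.2.2.trans U₀.2.2.symm)) M i n).hom α₀ = α
  have hout : ∀ x : X.cdPt (j + 1), x ∉ F →
      ((Q.tot M i n i' n' hi hn).hom (((T.fjι X j i n Ui).app M).hom α)) x = 0 := fun x hx =>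
    cpt_fjι_eq_zero_of_mem T X j Q M i n i' n' hi hn x Ui (mem_cfgU_of_notMem X j F Y x hx) α
  rw [pushTot_eq_sum T X (j + 1) P M i' n' (i + 1) n hi2 hn2 _ F hout]
  rcases Finset.eq_empty_or_nonempty F with hF0 | ⟨x₁, hx₁⟩
  · rw [hF0, Finset.sum_empty]
  obtain ⟨g₁, hg₁⟩ := cfg_exists_lift X j F Y hdisj x₁ hx₁
  have hrelZ := cfg_relCodim X j F Y x₁ g₁
  have hiD : i' = i + 1 - 2 * relCodim (cfgZ X F Y.1).scheme (X.res Y.1).scheme := by
    rw [hrelZ]; exact hi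
  have hnD : n' = n - relCodim (cfgZ X F Y.1).scheme (X.res Y.1).scheme := by
    rw [hrelZ]; exact hn
  have hiZ : i + 1 = i' + 2 * relCodim (cfgZ X F Y.1).scheme (X.res Y.1).scheme := by
    rw [hrelZ, ← codim_eq_int j]; exact hi2
  have hnZ : n = n' + relCodim (cfgZ X F Y.1).scheme (X.res Y.1).scheme := by
    rw [hrelZ, ← codim_eq_int j]; exact hn2
  have hiW : ∀ x : ↥F, i + 1 = i' + 2 * relCodim
      ((X.ptSub x.1.1).res (Wof X x.1.1 Y.1)).scheme (X.res Y.1).scheme := fun x => by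
    rw [relCodim_fOf X x.1.1 Y.1 Y.2.2 (Wof_nonempty X x.1.1 Y.1 (mem_Y_of_cdPt X j Y x.1)),
      x.1.2]; exact hi2
  have hnW : ∀ x : ↥F, n = n' + relCodim
      ((X.ptSub x.1.1).res (Wof X x.1.1 Y.1)).scheme (X.res Y.1).scheme := fun x => by
    rw [relCodim_fOf X x.1.1 Y.1 Y.2.2 (Wof_nonempty X x.1.1 Y.1 (mem_Y_of_cdPt X j Y x.1)),
      x.1.2]; exact hn2
  let D := cfgD X F Y.1 ((dim_cfgU X j F Y).trans Y.2.2.symm)
  let c := (T.res D M i n i' n' hiD hnD).hom α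
  obtain ⟨hadd1, -⟩ := cfg_additivity T X j F Y hdisj M i' n' (i + 1) n hiW hnW hiZ hnZ
  choose gs hgs' using fun x : ↥F => cfg_exists_lift X j F Y hdisj x.1 x.2
  have hsum := hadd1 c (fun x => (T.pull (gs x) M i' n').hom c) (fun x g hg => by
    have hgg : g = gs x :=
      Hom.ext ((cancel_mono (cfgι X F Y.1)).mp (hg.trans (hgs' x).symm))
    rw [hgg])
  have hex := T.exact_res_push D M i n i' n' hiD hnD hiZ hnZ
  have hzero : (T.push (cfgι X F Y.1) M i' n' (i + 1) n hiZ hnZ).hom c = 0 :=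
    hex.apply_apply_eq_zero α
  have hterm : ∀ x : ↥F, (P.cpt x.1 M i' n' (i + 1) n hi2 hn2).hom
      (((Q.tot M i n i' n' hi hn).hom (((T.fjι X j i n Ui).app M).hom α)) x.1)
      = ((T.fjι X (j + 1) (i + 1) n Y).app M).hom
          ((T.push (fOf X x.1.1 Y.1) M i' n' (i + 1) n (hiW x) (hnW x)).hom
            ((T.pull (gs x) M i' n').hom c)) := by
    intro x
    have h1 := resData_cpt_cfg T X j Q M i n i' n' hi hn F Y x.1 (gs x) (hgs' x) hiD hnD α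
    have h2 := P.cpt_spec x.1 M i' n' (i + 1) n hi2 hn2 Y
      ⟨Wof X x.1.1 Y.1, Wof_nonempty X x.1.1 Y.1 (mem_Y_of_cdPt X j Y x.1),
        dim_opens_ptSub X x.1.1 _ (Wof_nonempty X x.1.1 Y.1 (mem_Y_of_cdPt X j Y x.1))⟩
      (fOf X x.1.1 Y.1) (fOf_ι X x.1.1 Y.1) (hiW x) (hnW x)
    have h3 := congrArg (fun φ => φ.hom ((T.pull (gs x) M i' n').hom c)) h2
    simp only [ModuleCat.hom_comp, LinearMap.comp_apply] at h3
    exact (congrArg (fun y => (P.cpt x.1 M i' n' (i + 1) n hi2 hn2).hom y) h1).trans h3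
  rw [← Finset.sum_coe_sort F]
  refine (Finset.sum_congr rfl (fun x _ => hterm x)).trans ?_
  rw [← map_sum, ← hsum, hzero, map_zero]

/-- Restriction of chosen representatives to the trace of a smaller open. -/
noncomputable def bOf (F : Finset (X.cdPt (j + 1))) (W' : ∀ x : X.cdPt (j + 1), ptIdx X x.1)
    (b' : ∀ x : X.cdPt (j + 1), T.gp ((X.ptSub x.1).res (W' x).1) M i' n')
    (Y : Idx X (ContainsFj X (j + 1))) (hY : ∀ x ∈ F, Y.1 ≤ Uof X x.1 (W' x).1) (x : ↥F) :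
    T.gp ((X.ptSub x.1.1).res (Wof X x.1.1 Y.1)) M i' n' :=
  (T.pull ((X.ptSub x.1.1).resLE (Wof_le_of_le_Uof X x.1.1 Y.1 (W' x.1).1 (hY x.1 x.2))
    ((dim_opens_ptSub X x.1.1 _ (Wof_nonempty X x.1.1 Y.1 (mem_Y_of_cdPt X j Y x.1))).trans
      (W' x.1).2.2.symm)) M i' n').hom (b' x.1)

include hi hn in
/-- A family killed by the total push-forward is a total residue. -/
theorem exists_resTot_eq (ξ : DirectSum (X.cdPt (j + 1)) fun x => T.ptGp X x.1 M i' n')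
    (hξ : (P.tot M i' n' (i + 1) n hi2 hn2).hom ξ = 0) :
    ∃ αt : T.fjGp X j M i n, (Q.tot M i n i' n' hi hn).hom αt = ξ := by
  classical
  let F : Finset (X.cdPt (j + 1)) := DFinsupp.support ξ
  have hFmem : ∀ x, x ∉ F → ξ x = 0 := fun x hx => DFinsupp.notMem_support_iff.mp hx
  rcases Finset.eq_empty_or_nonempty F with hF0 | ⟨x₁, hx₁⟩
  · refine ⟨0, ?_⟩
    rw [map_zero]
    refine (DFinsupp.ext (fun x => ?_)).symm
    exact hFmem x (by rw [hF0]; exact Finset.notMem_empty x)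
  choose W' b' hb' using fun x : X.cdPt (j + 1) =>
    ocolim_exists_rep T (idxDirected_pt X x.1) i' n' M (ξ x)
  obtain ⟨Y₁, hY₁U, hdisj₁⟩ := exists_good_open X j F W'
  have hiW : ∀ (Y : Idx X (ContainsFj X (j + 1))) (x : ↥F), i + 1 = i' + 2 * relCodim
      ((X.ptSub x.1.1).res (Wof X x.1.1 Y.1)).scheme (X.res Y.1).scheme := fun Y x => by
    rw [relCodim_fOf X x.1.1 Y.1 Y.2.2 (Wof_nonempty X x.1.1 Y.1 (mem_Y_of_cdPt X j Y x.1)),
      x.1.2]; exact hi2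
  have hnW : ∀ (Y : Idx X (ContainsFj X (j + 1))) (x : ↥F), n = n' + relCodim
      ((X.ptSub x.1.1).res (Wof X x.1.1 Y.1)).scheme (X.res Y.1).scheme := fun Y x => by
    rw [relCodim_fOf X x.1.1 Y.1 Y.2.2 (Wof_nonempty X x.1.1 Y.1 (mem_Y_of_cdPt X j Y x.1)),
      x.1.2]; exact hn2
  -- the representatives on the traces
  have hB1 : ∀ (Y : Idx X (ContainsFj X (j + 1))) (hY : ∀ x ∈ F, Y.1 ≤ Uof X x.1 (W' x).1)
      (x : ↥F),
      ((T.ptι X x.1.1 i' n' ⟨Wof X x.1.1 Y.1,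
          Wof_nonempty X x.1.1 Y.1 (mem_Y_of_cdPt X j Y x.1),
          dim_opens_ptSub X x.1.1 _ (Wof_nonempty X x.1.1 Y.1 (mem_Y_of_cdPt X j Y x.1))⟩).app
        M).hom (bOf T X j M i' n' F W' b' Y hY x) = ξ x.1 := fun Y hY x =>
    (ocolimι_res T (X.ptSub x.1.1) _ i' n' M
      (U := ⟨Wof X x.1.1 Y.1, Wof_nonempty X x.1.1 Y.1 (mem_Y_of_cdPt X j Y x.1),
          dim_opens_ptSub X x.1.1 _ (Wof_nonempty X x.1.1 Y.1 (mem_Y_of_cdPt X j Y x.1))⟩)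
      (U' := W' x.1) (Wof_le_of_le_Uof X x.1.1 Y.1 (W' x.1).1 (hY x.1 x.2)) (b' x.1)).symm.trans
      (hb' x.1)
  have hP : ∀ (Y : Idx X (ContainsFj X (j + 1))) (hY : ∀ x ∈ F, Y.1 ≤ Uof X x.1 (W' x).1),
      ((T.fjι X (j + 1) (i + 1) n Y).app M).hom
        (∑ x : ↥F, (T.push (fOf X x.1.1 Y.1) M i' n' (i + 1) n (hiW Y x) (hnW Y x)).hom
          (bOf T X j M i' n' F W' b' Y hY x)) = 0 := by
    intro Y hY
    have hterm : ∀ x : ↥F, ((T.fjι X (j + 1) (i + 1) n Y).app M).hom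
        ((T.push (fOf X x.1.1 Y.1) M i' n' (i + 1) n (hiW Y x) (hnW Y x)).hom
          (bOf T X j M i' n' F W' b' Y hY x))
        = (P.cpt x.1 M i' n' (i + 1) n hi2 hn2).hom (ξ x.1) := by
      intro x
      have h2 := P.cpt_spec x.1 M i' n' (i + 1) n hi2 hn2 Y
        ⟨Wof X x.1.1 Y.1, Wof_nonempty X x.1.1 Y.1 (mem_Y_of_cdPt X j Y x.1),
          dim_opens_ptSub X x.1.1 _ (Wof_nonempty X x.1.1 Y.1 (mem_Y_of_cdPt X j Y x.1))⟩
        (fOf X x.1.1 Y.1) (fOf_ι X x.1.1 Y.1) (hiW Y x) (hnW Y x)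
      have h3 := congrArg (fun φ => φ.hom (bOf T X j M i' n' F W' b' Y hY x)) h2
      simp only [ModuleCat.hom_comp, LinearMap.comp_apply] at h3
      exact h3.symm.trans
        (congrArg (fun y => (P.cpt x.1 M i' n' (i + 1) n hi2 hn2).hom y) (hB1 Y hY x))
    rw [map_sum, Finset.sum_congr rfl (fun x _ => hterm x),
      Finset.sum_coe_sort F (fun x => (P.cpt x M i' n' (i + 1) n hi2 hn2).hom (ξ x)),
      ← pushTot_eq_sum T X (j + 1) P M i' n' (i + 1) n hi2 hn2 ξ F hFmem, hξ]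
  -- shrink the open so that the push-forward vanishes
  obtain ⟨Y, hYY₁, hY0⟩ := ocolim_eq_zero T (idxDirected_containsFj X (j + 1)) (i + 1) n M Y₁ _
    (hP Y₁ hY₁U)
  have hY : ∀ x ∈ F, Y.1 ≤ Uof X x.1 (W' x).1 := fun x hx => le_trans hYY₁ (hY₁U x hx)
  have hdisj : ∀ x ∈ F, ∀ x' ∈ F, x ≠ x' → ∀ p ∈ Y.1, p ∈ closure ({x.1} : Set X.scheme) →
      p ∉ closure ({x'.1} : Set X.scheme) :=
    fun x hx x' hx' hne p hp => hdisj₁ x hx x' hx' hne p (hYY₁ hp)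
  have hpushY : (∑ x : ↥F, (T.push (fOf X x.1.1 Y.1) M i' n' (i + 1) n (hiW Y x) (hnW Y x)).hom
      (bOf T X j M i' n' F W' b' Y hY x)) = 0 := by
    rw [← hY0, map_sum]
    refine Finset.sum_congr rfl (fun x _ => ?_)
    have hWW : Wof X x.1.1 Y.1 ≤ Wof X x.1.1 Y₁.1 := Wof_mono X x.1.1 hYY₁
    have hdW : WeilCoh.dim ((Wof X x.1.1 Y.1 : (X.ptSub x.1.1).scheme.Opens) : Scheme.{u})
        = WeilCoh.dim ((Wof X x.1.1 Y₁.1 : (X.ptSub x.1.1).scheme.Opens) : Scheme.{u}) :=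
      (dim_opens_ptSub X x.1.1 _ (Wof_nonempty X x.1.1 Y.1 (mem_Y_of_cdPt X j Y x.1))).trans
        (dim_opens_ptSub X x.1.1 _
          (Wof_nonempty X x.1.1 Y₁.1 (mem_Y_of_cdPt X j Y₁ x.1))).symm
    have hbc := T.push_pull (fOf X x.1.1 Y₁.1) (fOf X x.1.1 Y.1)
      (X.resLE hYY₁ (Y.2.2.trans Y₁.2.2.symm)) ((X.ptSub x.1.1).resLE hWW hdW)
      (isPullback_fOf X x.1.1 hYY₁ hWW) M i' n' (i + 1) n (hiW Y₁ x) (hnW Y₁ x) (hiW Y x)
      (hnW Y x)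
    have hbc' := congrArg (fun φ => φ.hom (bOf T X j M i' n' F W' b' Y₁ hY₁U x)) hbc
    simp only [ModuleCat.hom_comp, LinearMap.comp_apply] at hbc'
    refine Eq.trans ?_ hbc'.symm
    have hB2 : (T.pull ((X.ptSub x.1.1).resLE hWW hdW) M i' n').hom
        (bOf T X j M i' n' F W' b' Y₁ hY₁U x) = bOf T X j M i' n' F W' b' Y hY x :=
      pull_resLE_resLE T (X.ptSub x.1.1) hWW
        (Wof_le_of_le_Uof X x.1.1 Y₁.1 (W' x.1).1 (hY₁U x.1 x.2)) hdW _ M i' n' (b' x.1)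
    rw [hB2]
  -- the configuration at Y
  obtain ⟨g₁, hg₁⟩ := cfg_exists_lift X j F Y hdisj x₁ hx₁
  have hrelZ := cfg_relCodim X j F Y x₁ g₁
  have hiD : i' = i + 1 - 2 * relCodim (cfgZ X F Y.1).scheme (X.res Y.1).scheme := by
    rw [hrelZ]; exact hi
  have hnD : n' = n - relCodim (cfgZ X F Y.1).scheme (X.res Y.1).scheme := by
    rw [hrelZ]; exact hn
  have hiZ : i + 1 = i' + 2 * relCodim (cfgZ X F Y.1).scheme (X.res Y.1).scheme := by
    rw [hrelZ, ← codim_eq_int j]; exact hi2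
  have hnZ : n = n' + relCodim (cfgZ X F Y.1).scheme (X.res Y.1).scheme := by
    rw [hrelZ, ← codim_eq_int j]; exact hn2
  let D := cfgD X F Y.1 ((dim_cfgU X j F Y).trans Y.2.2.symm)
  let Ui : Idx X (ContainsFj X j) := ⟨cfgU X F Y.1, cfgU_containsFj X j F Y, dim_cfgU X j F Y⟩
  obtain ⟨hadd1, hadd2⟩ := cfg_additivity T X j F Y hdisj M i' n' (i + 1) n (hiW Y) (hnW Y)
    hiZ hnZ
  obtain ⟨c, hc⟩ := hadd2 (bOf T X j M i' n' F W' b' Y hY)
  have hpc : (T.push (cfgι X F Y.1) M i' n' (i + 1) n hiZ hnZ).hom c = 0 :=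
    (hadd1 c (bOf T X j M i' n' F W' b' Y hY) hc).trans hpushY
  have hex := T.exact_res_push D M i n i' n' hiD hnD hiZ hnZ
  obtain ⟨α, hα⟩ := (hex c).mp hpc
  refine ⟨((T.fjι X j i n Ui).app M).hom α, ?_⟩
  refine DFinsupp.ext (fun x => ?_)
  show (Q.cpt x M i n i' n' hi hn).hom (((T.fjι X j i n Ui).app M).hom α) = ξ x
  by_cases hx : x ∈ F
  · obtain ⟨g, hg⟩ := cfg_exists_lift X j F Y hdisj x hx
    have h1 := resData_cpt_cfg T X j Q M i n i' n' hi hn F Y x g hg hiD hnD α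
    have h2 : (T.pull g M i' n').hom ((T.res D M i n i' n' hiD hnD).hom α)
        = bOf T X j M i' n' F W' b' Y hY ⟨x, hx⟩ :=
      (congrArg (fun y => (T.pull g M i' n').hom y) hα).trans (hc ⟨x, hx⟩ g hg)
    exact h1.trans ((congrArg (fun y => ((T.ptι X x.1 i' n' ⟨Wof X x.1 Y.1,
      Wof_nonempty X x.1 Y.1 (mem_Y_of_cdPt X j Y x),
      dim_opens_ptSub X x.1 _ (Wof_nonempty X x.1 Y.1 (mem_Y_of_cdPt X j Y x))⟩).app M).hom y)
      h2).trans (hB1 Y hY ⟨x, hx⟩))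
  · rw [hFmem x hx]
    exact cpt_fjι_eq_zero_of_mem T X j Q M i n i' n' hi hn x Ui
      (mem_cfgU_of_notMem X j F Y x hx) α

include hi hn in
/-- Exactness of `H(F_jX) → ⊕_x H(x) → H(F_{j+1}X)`. -/
theorem exact_resTot_pushTot :
    Function.Exact (Q.tot M i n i' n' hi hn).hom (P.tot M i' n' (i + 1) n hi2 hn2).hom := by
  intro ξ
  constructor
  · intro h
    obtain ⟨αt, hαt⟩ := exists_resTot_eq T X j Q P M i n i' n' hi hn hi2 hn2 ξ h
    exact ⟨αt, hαt⟩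
  · rintro ⟨αt, rfl⟩
    exact pushTot_resTot_eq_zero T X j Q P M i n i' n' hi hn hi2 hn2 αt

end Main

end Groth.Agent.H90
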