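import Mathlib
import Groth.Prelude.Def_CE

/-!
# Cartan–Eilenberg resolutions

For a cochain complex `K` in an abelian category with enough injectives we construct a
monomorphism `K ⟶ J` into a complex with injective terms, cycles and homology, which is
injective on homology.  Iterating on the cokernel gives a Cartan–Eilenberg resolution.
-/

universe v u

open CategoryTheory CategoryTheory.Limits HomologicalComplex

namespace Groth.Agent.H90
namespace CELib

set_option linter.unusedSectionVars false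

variable {A : Type u} [Category.{v} A] [Abelian A]

/-! ### Embeddings into injectives preserving zero objects -/

/-- an embedding into an injective object, which is zero when the source is. -/
structure InjEmb (X : A) where
  Y : A
  ι : X ⟶ Y
  inj : Injective Y
  mono : Mono ι
  zero : IsZero X → IsZero Y

lemma nonempty_injEmb [EnoughInjectives A] (X : A) : Nonempty (InjEmb X) := by
  classical
  by_cases h : IsZero X
  · exact ⟨⟨X, 𝟙 X, h.injective, inferInstance, fun _ => h⟩⟩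
  · exact ⟨⟨Injective.under X, Injective.ι X, inferInstance, inferInstance,
      fun h' => absurd h' h⟩⟩

/-- a chosen embedding. -/
noncomputable def E [EnoughInjectives A] (X : A) : InjEmb X := (nonempty_injEmb X).some

instance [EnoughInjectives A] (X : A) : Injective (E X).Y := (E X).inj

instance [EnoughInjectives A] (X : A) : Mono (E X).ι := (E X).mono

lemma isZero_biprod {X Y : A} (hX : IsZero X) (hY : IsZero Y) : IsZero (X ⊞ Y) := by
  rw [IsZero.iff_id_eq_zero]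
  apply biprod.hom_ext
  · exact hX.eq_of_tgt _ _
  · exact hY.eq_of_tgt _ _

/-! ### Splicing short exact sequences -/

section Splice

open ZeroObject

variable {C₀ : Type*} [Category C₀] [Abelian C₀]
variable (Q J : ℕ → C₀) (i : ∀ k, Q k ⟶ J k) (π : ∀ k, J k ⟶ Q (k + 1))
  (w : ∀ k, i k ≫ π k = 0)

/-- the terms of the spliced complex. -/
noncomputable def spX : ℤ → C₀
  | Int.ofNat k => J k
  | Int.negSucc _ => 0

/-- the differentials of the spliced complex. -/
noncomputable def spd : ∀ q : ℤ, spX J q ⟶ spX J (q + 1)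
  | Int.ofNat k => (show J k ⟶ J (k + 1) from π k ≫ i (k + 1))
  | Int.negSucc _ => 0

include w in
lemma spd_sq : ∀ q : ℤ, spd Q J i π q ≫ spd Q J i π (q + 1) = 0
  | Int.ofNat k => (show (π k ≫ i (k + 1)) ≫ (π (k + 1) ≫ i (k + 1 + 1)) = 0 by
      rw [Category.assoc, ← Category.assoc (i (k + 1)), w, zero_comp, comp_zero])
  | Int.negSucc _ => zero_comp

/-- the spliced complex. -/
noncomputable def spCx : CochainComplex C₀ ℤ :=
  CochainComplex.of (spX J) (spd Q J i π) (spd_sq Q J i π w)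

lemma spCx_d (q : ℤ) : (spCx Q J i π w).d q (q + 1) = spd Q J i π q :=
  CochainComplex.of_d _ _ q

lemma spCx_d0 : (spCx Q J i π w).d 0 1 = π 0 ≫ i 1 := spCx_d Q J i π w 0

lemma prev_ofNat_succ (m : ℕ) :
    (ComplexShape.up ℤ).prev (Int.ofNat (m + 1)) = Int.ofNat m := by
  rw [CochainComplex.prev]
  show ((m + 1 : ℕ) : ℤ) - 1 = (m : ℤ)
  push_cast
  ring

variable {A₀ : Type*} [Category A₀] [Abelian A₀] (G : C₀ ⥤ A₀) [G.PreservesZeroMorphisms]

lemma map_spCx_d (k : ℕ) :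
    G.map ((spCx Q J i π w).d (Int.ofNat k) (Int.ofNat k + 1)) =
      G.map (π k) ≫ G.map (i (k + 1)) :=
  (congrArg (fun f => G.map f) (spCx_d Q J i π w (Int.ofNat k))).trans (G.map_comp _ _)

section

variable (hG : ∀ k, ((ShortComplex.mk (i k) (π k) (w k)).map G).ShortExact)

include hG

lemma splice_exact0 (k : ℕ) ⦃T : A₀⦄ (y : T ⟶ G.obj (J k))
    (hy : y ≫ G.map (π k) ≫ G.map (i (k + 1)) = 0) :
    ∃ (T' : A₀) (π' : T' ⟶ T) (_ : Epi π') (x : T' ⟶ G.obj (Q k)),
      π' ≫ y = x ≫ G.map (i k) := by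
  have hm : Mono (G.map (i (k + 1))) := (hG (k + 1)).mono_f
  have h1 : y ≫ G.map (π k) = 0 := by
    rw [← cancel_mono (G.map (i (k + 1))), zero_comp, Category.assoc]
    exact hy
  exact (hG k).exact.exact_up_to_refinements y h1

lemma splice_exact (k : ℕ) ⦃T : A₀⦄ (y : T ⟶ G.obj (J (k + 1)))
    (hy : y ≫ G.map (π (k + 1)) ≫ G.map (i (k + 1 + 1)) = 0) :
    ∃ (T' : A₀) (π' : T' ⟶ T) (_ : Epi π') (z : T' ⟶ G.obj (J k)),
      π' ≫ y = z ≫ G.map (π k) ≫ G.map (i (k + 1)) := by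
  obtain ⟨T', π', hπ', x, hx⟩ := splice_exact0 Q J i π w G hG (k + 1) y hy
  have he : Epi (G.map (π k)) := (hG k).epi_g
  obtain ⟨T'', π'', hπ'', z, hz⟩ := surjective_up_to_refinements_of_epi (G.map (π k)) x
  refine ⟨T'', π'' ≫ π', epi_comp _ _, z, ?_⟩
  rw [Category.assoc, hx, ← Category.assoc, hz, Category.assoc]

lemma splice_isInjRes (hinj : ∀ k, Injective (G.obj (J k))) :
    CE.IsInjResolutionVia
      ((G.mapHomologicalComplex (ComplexShape.up ℤ)).obj (spCx Q J i π w))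
      (G.obj (Q 0)) (G.map (i 0)) := by
  have hd0 : G.map ((spCx Q J i π w).d 0 1) = G.map (π 0) ≫ G.map (i 1) :=
    map_spCx_d Q J i π w G 0
  have h0 : G.map (i 0) ≫ G.map ((spCx Q J i π w).d 0 1) = 0 := by
    have e1 : G.map (i 0) ≫ G.map (π 0) ≫ G.map (i 1) = 0 := by
      rw [← Category.assoc, ← G.map_comp, w, G.map_zero, zero_comp]
    exact (congrArg (fun t : G.obj (J 0) ⟶ G.obj (J 1) => G.map (i 0) ≫ t) hd0).trans e1
  refine ⟨h0, ?_, ?_, ?_, (hG 0).mono_f, ?_⟩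
  · rw [CochainComplex.isStrictlyGE_iff]
    intro q hq
    match q, hq with
    | Int.negSucc k, _ => exact G.map_isZero (Limits.isZero_zero C₀)
    | Int.ofNat m, hq => exact absurd hq (not_lt.2 (Int.natCast_nonneg m))
  · intro q
    match q with
    | Int.ofNat k => exact hinj k
    | Int.negSucc _ => exact (G.map_isZero (Limits.isZero_zero C₀)).injective
  · intro q hq
    match q, hq with
    | Int.negSucc k, _ =>
      apply ShortComplex.exact_of_isZero_X₂
      exact G.map_isZero (Limits.isZero_zero C₀)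
    | Int.ofNat 0, hq => exact absurd rfl hq
    | Int.ofNat (k + 1), _ =>
      rw [HomologicalComplex.exactAt_iff' _ (Int.ofNat k) (Int.ofNat (k + 1))
        (Int.ofNat (k + 1) + 1) (prev_ofNat_succ k) (CochainComplex.next ℤ _),
        ShortComplex.exact_iff_exact_up_to_refinements]
      intro T y hy
      have hd := map_spCx_d Q J i π w G (k + 1)
      have hd' := map_spCx_d Q J i π w G k
      obtain ⟨T', π', hπ', z, hz⟩ := splice_exact Q J i π w G hG k y
        ((congrArg (fun t : G.obj (J (k + 1)) ⟶ G.obj (J (k + 1 + 1)) => y ≫ t) hd.symm).trans hy)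
      exact ⟨T', π', hπ', z,
        hz.trans (congrArg (fun t : G.obj (J k) ⟶ G.obj (J (k + 1)) => z ≫ t) hd'.symm)⟩
  · rw [ShortComplex.exact_iff_exact_up_to_refinements]
    intro T y hy
    exact splice_exact0 Q J i π w G hG 0 y
      ((congrArg (fun t : G.obj (J 0) ⟶ G.obj (J 1) => y ≫ t) hd0.symm).trans hy)

end

end Splice

/-! ### Short exact sequences of complexes which are injective on homology -/

section L1

variable (S : ShortComplex (CochainComplex A ℤ)) (hS : S.ShortExact)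

include hS

lemma lev_shortExact (p : ℤ) :
    (S.map (HomologicalComplex.eval A (ComplexShape.up ℤ) p)).ShortExact :=
  hS.map_of_exact _

lemma H_shortExact (hH : ∀ p, Mono (homologyMap S.f p)) (p : ℤ) :
    (S.map (homologyFunctor A (ComplexShape.up ℤ) p)).ShortExact := by
  have hδ : hS.δ p (p + 1) rfl = 0 := by
    have := hH (p + 1)
    rw [← cancel_mono (homologyMap S.f (p + 1)), zero_comp]
    exact hS.δ_comp p (p + 1) rfl
  have hepi : Epi (homologyMap S.g p) :=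
    (ShortComplex.exact_iff_epi _ hδ).1 (hS.homology_exact₃ p (p + 1) rfl)
  exact ShortComplex.ShortExact.mk' (hS.homology_exact₂ p) (hH p) hepi

lemma Z_exact_aux (p : ℤ) ⦃T : A⦄ (z : T ⟶ S.X₂.cycles p) (hz : z ≫ cyclesMap S.g p = 0) :
    ∃ (T' : A) (π : T' ⟶ T) (_ : Epi π) (x : T' ⟶ S.X₁.cycles p),
      π ≫ z = x ≫ cyclesMap S.f p := by
  have hlev := fun q => lev_shortExact S hS q
  have hmono : ∀ q, Mono (S.f.f q) := fun q => (hlev q).mono_f
  have h1 : (z ≫ S.X₂.iCycles p) ≫ S.g.f p = 0 := by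
    rw [Category.assoc, ← cyclesMap_i, ← Category.assoc, hz, zero_comp]
  obtain ⟨T', π, hπ, x₁, hx₁⟩ : ∃ (T' : A) (π : T' ⟶ T) (_ : Epi π) (x₁ : T' ⟶ S.X₁.X p),
      π ≫ z ≫ S.X₂.iCycles p = x₁ ≫ S.f.f p :=
    (hlev p).exact.exact_up_to_refinements (z ≫ S.X₂.iCycles p) h1
  have hc : x₁ ≫ S.X₁.d p (p + 1) = 0 := by
    have := hmono (p + 1)
    rw [← cancel_mono (S.f.f (p + 1)), zero_comp, Category.assoc, ← S.f.comm,
      ← Category.assoc, ← hx₁, Category.assoc, Category.assoc, iCycles_d, comp_zero,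
      comp_zero]
  refine ⟨T', π, hπ, S.X₁.liftCycles x₁ (p + 1) (by simp) hc, ?_⟩
  rw [← cancel_mono (S.X₂.iCycles p), Category.assoc, Category.assoc, cyclesMap_i,
    liftCycles_i_assoc]
  exact hx₁

lemma Z_mono (p : ℤ) : Mono (cyclesMap S.f p) := by
  have hmono : Mono (S.f.f p) := (lev_shortExact S hS p).mono_f
  have : Mono (cyclesMap S.f p ≫ S.X₂.iCycles p) := by
    rw [cyclesMap_i]
    infer_instance
  exact mono_of_mono _ (S.X₂.iCycles p)

lemma Z_epi (hH : ∀ p, Mono (homologyMap S.f p)) (p : ℤ) : Epi (cyclesMap S.g p) := by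
  have hHepi : Epi (homologyMap S.g p) := (H_shortExact S hS hH p).epi_g
  have hepi : Epi (S.g.f ((ComplexShape.up ℤ).prev p)) := (lev_shortExact S hS _).epi_g
  rw [epi_iff_surjective_up_to_refinements]
  intro T y
  obtain ⟨T₁, π₁, hπ₁, x₂, hx₂, y₁, h⟩ :=
    (epi_homologyMap_iff_up_to_refinements S.g ((ComplexShape.up ℤ).prev p) p (p + 1) rfl
      (by simp)).1 hHepi (y ≫ S.X₃.iCycles p) (by simp)
  obtain ⟨T₂, π₂, hπ₂, u, hu⟩ :=
    surjective_up_to_refinements_of_epi (S.g.f ((ComplexShape.up ℤ).prev p)) y₁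
  have hc : (π₂ ≫ x₂ + u ≫ S.X₂.d _ p) ≫ S.X₂.d p (p + 1) = 0 := by
    rw [Preadditive.add_comp, Category.assoc, hx₂, comp_zero, Category.assoc, d_comp_d,
      comp_zero, add_zero]
  refine ⟨T₂, π₂ ≫ π₁, epi_comp _ _, S.X₂.liftCycles _ (p + 1) (by simp) hc, ?_⟩
  rw [← cancel_mono (S.X₃.iCycles p), Category.assoc, Category.assoc, Category.assoc,
    cyclesMap_i, liftCycles_i_assoc, h, Preadditive.comp_add, Preadditive.add_comp,
    Category.assoc, Category.assoc, ← S.g.comm, ← Category.assoc u, ← hu, Category.assoc]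

lemma Z_shortExact (hH : ∀ p, Mono (homologyMap S.f p)) (p : ℤ) :
    (S.map (cyclesFunctor A (ComplexShape.up ℤ) p)).ShortExact := by
  refine ShortComplex.ShortExact.mk' ?_ (Z_mono S hS p) (Z_epi S hS hH p)
  rw [ShortComplex.exact_iff_exact_up_to_refinements]
  exact fun T z hz => Z_exact_aux S hS p z hz

end L1

/-! ### The embedding of a complex -/

section Emb

variable [EnoughInjectives A] (K : CochainComplex A ℤ)

/-- the boundaries, as a subobject of `K.X p`. -/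
noncomputable abbrev Bs (p : ℤ) : A := kernel (K.pOpcycles p)

/-- the injective receiving the boundaries. -/
noncomputable abbrev E1 (p : ℤ) : A := (E (Bs K p)).Y

/-- the injective receiving the homology. -/
noncomputable abbrev E2 (p : ℤ) : A := (E (K.homology p)).Y

/-- the terms of the target complex. -/
noncomputable abbrev JX (p : ℤ) : A := E1 K p ⊞ (E2 K p ⊞ E1 K (p + 1))

/-- the differential of the target complex. -/
noncomputable def Jd (p : ℤ) : JX K p ⟶ JX K (p + 1) :=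
  (biprod.snd ≫ biprod.snd) ≫ biprod.inl

lemma Jd_sq (p : ℤ) : Jd K p ≫ Jd K (p + 1) = 0 := by
  simp [Jd]

/-- the target complex. -/
noncomputable def Jc : CochainComplex A ℤ := CochainComplex.of (JX K) (Jd K) (Jd_sq K)

lemma Jc_d (p : ℤ) : (Jc K).d p (p + 1) = Jd K p := CochainComplex.of_d _ _ p

/-- first component. -/
noncomputable def α (p : ℤ) : K.X p ⟶ E1 K p :=
  Injective.factorThru (E (Bs K p)).ι (kernel.ι (K.pOpcycles p))

lemma ι_α (p : ℤ) : kernel.ι (K.pOpcycles p) ≫ α K p = (E (Bs K p)).ι :=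
  Injective.comp_factorThru _ _

/-- second component. -/
noncomputable def β (p : ℤ) : K.X p ⟶ E2 K p :=
  Injective.factorThru (K.homologyπ p ≫ (E (K.homology p)).ι) (K.iCycles p)

lemma i_β (p : ℤ) : K.iCycles p ≫ β K p = K.homologyπ p ≫ (E (K.homology p)).ι :=
  Injective.comp_factorThru _ _

/-- the differential, corestricted to the boundaries. -/
noncomputable def toBs (i j : ℤ) : K.X i ⟶ Bs K j :=
  kernel.lift _ (K.d i j) (K.d_pOpcycles i j)

lemma toBs_ι (i j : ℤ) : toBs K i j ≫ kernel.ι (K.pOpcycles j) = K.d i j :=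
  kernel.lift_ι _ _ _

/-- third component. -/
noncomputable def γ (p : ℤ) : K.X p ⟶ E1 K (p + 1) :=
  toBs K p (p + 1) ≫ (E (Bs K (p + 1))).ι

lemma c1 (p : ℤ) : γ K p = K.d p (p + 1) ≫ α K (p + 1) := by
  rw [← toBs_ι K p (p + 1), Category.assoc, ι_α]
  rfl

lemma c2 (i j : ℤ) : K.d i j ≫ β K j = 0 := by
  rw [← K.toCycles_i i j, Category.assoc, i_β, ← Category.assoc, K.toCycles_comp_homologyπ,
    zero_comp]

lemma c3 (i j : ℤ) : K.d i j ≫ γ K j = 0 := by
  have h : K.d i j ≫ toBs K j (j + 1) = 0 := by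
    rw [← cancel_mono (kernel.ι (K.pOpcycles (j + 1))), Category.assoc, toBs_ι, K.d_comp_d,
      zero_comp]
  unfold γ
  rw [← Category.assoc, h, zero_comp]

/-! the target complex as an abstract triple biproduct -/

/-- first projection. -/
noncomputable def π₁ (p : ℤ) : (Jc K).X p ⟶ E1 K p := (biprod.fst : JX K p ⟶ E1 K p)

/-- second projection. -/
noncomputable def π₂ (p : ℤ) : (Jc K).X p ⟶ E2 K p :=
  (biprod.snd ≫ biprod.fst : JX K p ⟶ E2 K p)

/-- third projection. -/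
noncomputable def π₃ (p : ℤ) : (Jc K).X p ⟶ E1 K (p + 1) :=
  (biprod.snd ≫ biprod.snd : JX K p ⟶ E1 K (p + 1))

/-- first inclusion. -/
noncomputable def ι₁ (p : ℤ) : E1 K p ⟶ (Jc K).X p := (biprod.inl : E1 K p ⟶ JX K p)

/-- second inclusion. -/
noncomputable def ι₂ (p : ℤ) : E2 K p ⟶ (Jc K).X p :=
  (biprod.inl ≫ biprod.inr : E2 K p ⟶ JX K p)

/-- third inclusion. -/
noncomputable def ι₃ (p : ℤ) : E1 K (p + 1) ⟶ (Jc K).X p :=
  (biprod.inr ≫ biprod.inr : E1 K (p + 1) ⟶ JX K p)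

@[reassoc (attr := simp)]
lemma ι₁_π₁ (p : ℤ) : ι₁ K p ≫ π₁ K p = 𝟙 _ := by
  show (biprod.inl : E1 K p ⟶ JX K p) ≫ (biprod.fst : JX K p ⟶ E1 K p) = 𝟙 _
  simp

@[reassoc (attr := simp)]
lemma ι₁_π₂ (p : ℤ) : ι₁ K p ≫ π₂ K p = 0 := by
  show (biprod.inl : E1 K p ⟶ JX K p) ≫ (biprod.snd ≫ biprod.fst : JX K p ⟶ E2 K p) = 0
  simp

@[reassoc (attr := simp)]
lemma ι₁_π₃ (p : ℤ) : ι₁ K p ≫ π₃ K p = 0 := by
  show (biprod.inl : E1 K p ⟶ JX K p) ≫
    (biprod.snd ≫ biprod.snd : JX K p ⟶ E1 K (p + 1)) = 0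
  simp

@[reassoc (attr := simp)]
lemma ι₂_π₁ (p : ℤ) : ι₂ K p ≫ π₁ K p = 0 := by
  show (biprod.inl ≫ biprod.inr : E2 K p ⟶ JX K p) ≫ (biprod.fst : JX K p ⟶ E1 K p) = 0
  simp

@[reassoc (attr := simp)]
lemma ι₂_π₂ (p : ℤ) : ι₂ K p ≫ π₂ K p = 𝟙 _ := by
  show (biprod.inl ≫ biprod.inr : E2 K p ⟶ JX K p) ≫
    (biprod.snd ≫ biprod.fst : JX K p ⟶ E2 K p) = 𝟙 _
  simp

@[reassoc (attr := simp)]
lemma ι₂_π₃ (p : ℤ) : ι₂ K p ≫ π₃ K p = 0 := by
  show (biprod.inl ≫ biprod.inr : E2 K p ⟶ JX K p) ≫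
    (biprod.snd ≫ biprod.snd : JX K p ⟶ E1 K (p + 1)) = 0
  simp

@[reassoc (attr := simp)]
lemma ι₃_π₁ (p : ℤ) : ι₃ K p ≫ π₁ K p = 0 := by
  show (biprod.inr ≫ biprod.inr : E1 K (p + 1) ⟶ JX K p) ≫
    (biprod.fst : JX K p ⟶ E1 K p) = 0
  simp

@[reassoc (attr := simp)]
lemma ι₃_π₂ (p : ℤ) : ι₃ K p ≫ π₂ K p = 0 := by
  show (biprod.inr ≫ biprod.inr : E1 K (p + 1) ⟶ JX K p) ≫
    (biprod.snd ≫ biprod.fst : JX K p ⟶ E2 K p) = 0
  simp

@[reassoc (attr := simp)]
lemma ι₃_π₃ (p : ℤ) : ι₃ K p ≫ π₃ K p = 𝟙 _ := by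
  show (biprod.inr ≫ biprod.inr : E1 K (p + 1) ⟶ JX K p) ≫
    (biprod.snd ≫ biprod.snd : JX K p ⟶ E1 K (p + 1)) = 𝟙 _
  simp

lemma J_total (p : ℤ) :
    π₁ K p ≫ ι₁ K p + π₂ K p ≫ ι₂ K p + π₃ K p ≫ ι₃ K p = 𝟙 ((Jc K).X p) := by
  show (biprod.fst : JX K p ⟶ E1 K p) ≫ (biprod.inl : E1 K p ⟶ JX K p) +
    (biprod.snd ≫ biprod.fst : JX K p ⟶ E2 K p) ≫ (biprod.inl ≫ biprod.inr : E2 K p ⟶ JX K p) +
    (biprod.snd ≫ biprod.snd : JX K p ⟶ E1 K (p + 1)) ≫
      (biprod.inr ≫ biprod.inr : E1 K (p + 1) ⟶ JX K p) = 𝟙 (JX K p)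
  ext <;> simp

lemma J_hom_ext (p : ℤ) {T : A} (f g : T ⟶ (Jc K).X p) (h₁ : f ≫ π₁ K p = g ≫ π₁ K p)
    (h₂ : f ≫ π₂ K p = g ≫ π₂ K p) (h₃ : f ≫ π₃ K p = g ≫ π₃ K p) : f = g := by
  have hf : f = (f ≫ π₁ K p) ≫ ι₁ K p + (f ≫ π₂ K p) ≫ ι₂ K p + (f ≫ π₃ K p) ≫ ι₃ K p := by
    simp only [Category.assoc]
    rw [← Preadditive.comp_add, ← Preadditive.comp_add, J_total, Category.comp_id]
  have hg : g = (g ≫ π₁ K p) ≫ ι₁ K p + (g ≫ π₂ K p) ≫ ι₂ K p + (g ≫ π₃ K p) ≫ ι₃ K p := by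
    simp only [Category.assoc]
    rw [← Preadditive.comp_add, ← Preadditive.comp_add, J_total, Category.comp_id]
  rw [hf, hg, h₁, h₂, h₃]

lemma Jc_d' (p : ℤ) : (Jc K).d p (p + 1) = π₃ K p ≫ ι₁ K (p + 1) := Jc_d K p

instance (p : ℤ) : Mono (ι₁ K p) := mono_of_mono_fac (ι₁_π₁ K p)

/-- the components of the embedding. -/
noncomputable def embf (p : ℤ) : K.X p ⟶ (Jc K).X p :=
  (biprod.lift (α K p) (biprod.lift (β K p) (γ K p)) : K.X p ⟶ JX K p)

@[reassoc (attr := simp)]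
lemma embf_π₁ (p : ℤ) : embf K p ≫ π₁ K p = α K p := by
  show (biprod.lift (α K p) (biprod.lift (β K p) (γ K p)) : K.X p ⟶ JX K p) ≫
    (biprod.fst : JX K p ⟶ E1 K p) = _
  simp

@[reassoc (attr := simp)]
lemma embf_π₂ (p : ℤ) : embf K p ≫ π₂ K p = β K p := by
  show (biprod.lift (α K p) (biprod.lift (β K p) (γ K p)) : K.X p ⟶ JX K p) ≫
    (biprod.snd ≫ biprod.fst : JX K p ⟶ E2 K p) = _
  simp

@[reassoc (attr := simp)]
lemma embf_π₃ (p : ℤ) : embf K p ≫ π₃ K p = γ K p := by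
  show (biprod.lift (α K p) (biprod.lift (β K p) (γ K p)) : K.X p ⟶ JX K p) ≫
    (biprod.snd ≫ biprod.snd : JX K p ⟶ E1 K (p + 1)) = _
  simp

lemma embf_comm (i : ℤ) : embf K i ≫ (Jc K).d i (i + 1) = K.d i (i + 1) ≫ embf K (i + 1) := by
  rw [Jc_d']
  apply J_hom_ext
  · rw [Category.assoc, Category.assoc, ι₁_π₁, Category.comp_id, embf_π₃, Category.assoc,
      embf_π₁, c1]
  · rw [Category.assoc, Category.assoc, ι₁_π₂, comp_zero, comp_zero, Category.assoc, embf_π₂,
      c2]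
  · rw [Category.assoc, Category.assoc, ι₁_π₃, comp_zero, comp_zero, Category.assoc, embf_π₃,
      c3]

/-- the embedding. -/
noncomputable def emb : K ⟶ Jc K where
  f := embf K
  comm' i j hij := by
    have hij' : i + 1 = j := hij
    subst hij'
    exact embf_comm K i

lemma emb_f (p : ℤ) : (emb K).f p = embf K p := rfl

lemma Jc_d_π₂ (i j : ℤ) : (Jc K).d i j ≫ π₂ K j = 0 := by
  by_cases h : i + 1 = j
  · subst h
    rw [Jc_d', Category.assoc, ι₁_π₂, comp_zero]
  · rw [(Jc K).shape i j h, zero_comp]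

lemma emb_homology_mono (p : ℤ) : Mono (homologyMap (emb K) p) := by
  rw [mono_homologyMap_iff_up_to_refinements _ ((ComplexShape.up ℤ).prev p) p
    ((ComplexShape.up ℤ).next p) rfl rfl]
  intro T x₂ hx₂ y₁ e
  have h1 : x₂ ≫ β K p = 0 := by
    have e' := congrArg (fun t => t ≫ π₂ K p) e
    simp only [Category.assoc] at e'
    rw [Jc_d_π₂, comp_zero, emb_f, embf_π₂] at e'
    exact e'
  have h2 : K.liftCycles x₂ _ rfl hx₂ ≫ K.homologyπ p = 0 := by
    rw [← cancel_mono (E (K.homology p)).ι, zero_comp, Category.assoc, ← i_β, ← Category.assoc,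
      K.liftCycles_i]
    exact h1
  obtain ⟨T', π, hπ, x₁, hx₁⟩ :=
    (K.comp_homologyπ_eq_zero_iff_up_to_refinements _ p rfl _).1 h2
  refine ⟨T', π, hπ, x₁, ?_⟩
  have := congrArg (fun t => t ≫ K.iCycles p) hx₁
  simpa using this

lemma embf_mono (p : ℤ) : Mono (embf K p) := by
  apply Preadditive.mono_of_cancel_zero
  intro T x hx
  have hα : x ≫ α K p = 0 := by
    rw [← embf_π₁, ← Category.assoc, hx, zero_comp]
  have hβ : x ≫ β K p = 0 := by
    rw [← embf_π₂, ← Category.assoc, hx, zero_comp]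
  have hγ : x ≫ γ K p = 0 := by
    rw [← embf_π₃, ← Category.assoc, hx, zero_comp]
  have hd : x ≫ K.d p (p + 1) = 0 := by
    have h1 : x ≫ toBs K p (p + 1) = 0 := by
      rw [← cancel_mono (E (Bs K (p + 1))).ι, zero_comp, Category.assoc]
      exact hγ
    rw [← toBs_ι K p (p + 1), ← Category.assoc, h1, zero_comp]
  have h2 : K.liftCycles x (p + 1) (by simp) hd ≫ K.homologyπ p = 0 := by
    rw [← cancel_mono (E (K.homology p)).ι, zero_comp, Category.assoc, ← i_β, ← Category.assoc,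
      K.liftCycles_i]
    exact hβ
  obtain ⟨T', π, hπ, x₁, hx₁⟩ :=
    (K.comp_homologyπ_eq_zero_iff_up_to_refinements _ p rfl _).1 h2
  have h3 : π ≫ x = x₁ ≫ K.d _ p := by
    have := congrArg (fun t => t ≫ K.iCycles p) hx₁
    simpa using this
  have h4 : x₁ ≫ toBs K _ p = 0 := by
    rw [← cancel_mono (E (Bs K p)).ι, zero_comp, Category.assoc, ← ι_α,
      ← Category.assoc (toBs K _ p), toBs_ι, ← Category.assoc, ← h3, Category.assoc, hα,
      comp_zero]
  rw [← cancel_epi π, comp_zero, h3, ← toBs_ι K _ p, ← Category.assoc, h4, zero_comp]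

lemma emb_mono : Mono (emb K) :=
  HomologicalComplex.mono_of_mono_f _ (embf_mono K)

instance (p : ℤ) : Injective ((Jc K).X p) :=
  show Injective (E1 K p ⊞ (E2 K p ⊞ E1 K (p + 1))) from inferInstance

lemma iCycles_π₃ (p : ℤ) : (Jc K).iCycles p ≫ π₃ K p = 0 := by
  have h := (Jc K).iCycles_d p (p + 1)
  rw [Jc_d', ← Category.assoc] at h
  exact (cancel_mono (ι₁ K (p + 1))).1 (h.trans zero_comp.symm)

lemma cycles_injective (p : ℤ) : Injective ((Jc K).cycles p) := by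
  have he : (𝟙 _ - π₃ K p ≫ ι₃ K p) ≫ (Jc K).d p (p + 1) = 0 := by
    rw [Jc_d', Preadditive.sub_comp, Category.id_comp, Category.assoc, ι₃_π₃_assoc, sub_self]
  refine Retract.injective (Y := (Jc K).X p)
    ⟨(Jc K).iCycles p, (Jc K).liftCycles _ (p + 1) (by simp) he, ?_⟩
  rw [← cancel_mono ((Jc K).iCycles p), Category.assoc, liftCycles_i, Category.id_comp,
    Preadditive.comp_sub, Category.comp_id, ← Category.assoc, iCycles_π₃, zero_comp, sub_zero]

lemma homology_injective (p : ℤ) : Injective ((Jc K).homology p) := by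
  obtain ⟨i, rfl⟩ : ∃ i, p = i + 1 := ⟨p - 1, by omega⟩
  have h₁ : (π₂ K (i + 1) ≫ ι₂ K (i + 1)) ≫ (Jc K).d (i + 1) (i + 1 + 1) = 0 := by
    rw [Jc_d', Category.assoc, ι₂_π₃_assoc, zero_comp, comp_zero]
  have h₂ : (Jc K).d i (i + 1) ≫ (π₂ K (i + 1) ≫ ι₂ K (i + 1)) = 0 := by
    rw [Jc_d', Category.assoc, ι₁_π₂_assoc, zero_comp, comp_zero]
  have hprev : (ComplexShape.up ℤ).prev (i + 1) = i := by simp
  have hidem : (π₂ K (i + 1) ≫ ι₂ K (i + 1)) ≫ (π₂ K (i + 1) ≫ ι₂ K (i + 1)) =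
      π₂ K (i + 1) ≫ ι₂ K (i + 1) := by
    rw [Category.assoc, ι₂_π₂_assoc]
  have hinl : ι₁ K (i + 1) ≫ (Jc K).pOpcycles (i + 1) = 0 := by
    have : ι₁ K (i + 1) = ι₃ K i ≫ (Jc K).d i (i + 1) := by
      rw [Jc_d', ι₃_π₃_assoc]
    rw [this, Category.assoc, d_pOpcycles, comp_zero]
  have key : (Jc K).iCycles (i + 1) ≫ (π₂ K (i + 1) ≫ ι₂ K (i + 1)) ≫
      (Jc K).pOpcycles (i + 1) = (Jc K).iCycles (i + 1) ≫ (Jc K).pOpcycles (i + 1) := by
    have h5 : (Jc K).iCycles (i + 1) ≫ (Jc K).pOpcycles (i + 1) =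
        (Jc K).iCycles (i + 1) ≫ 𝟙 ((Jc K).X (i + 1)) ≫ (Jc K).pOpcycles (i + 1) := by
      rw [Category.id_comp]
    rw [h5, ← J_total]
    simp only [Preadditive.add_comp, Preadditive.comp_add, Category.assoc]
    rw [hinl, comp_zero, comp_zero, zero_add, reassoc_of% (iCycles_π₃ K (i + 1)), zero_comp,
      add_zero]
  refine Retract.injective (Y := (Jc K).X (i + 1))
    ⟨(Jc K).homologyι (i + 1) ≫ (Jc K).descOpcycles _ i hprev h₂,
     (Jc K).liftCycles _ (i + 1 + 1) (by simp) h₁ ≫ (Jc K).homologyπ (i + 1), ?_⟩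
  rw [← cancel_epi ((Jc K).homologyπ (i + 1)), ← cancel_mono ((Jc K).homologyι (i + 1))]
  simp only [Category.assoc, Category.comp_id, homology_π_ι, homology_π_ι_assoc,
    p_descOpcycles_assoc, liftCycles_i_assoc]
  rw [reassoc_of% hidem]
  simpa only [Category.assoc] using key

/-- vanishing below a bound. -/
def ZeroBelow (n : ℤ) (L : CochainComplex A ℤ) : Prop := ∀ p : ℤ, p < n → IsZero (L.X p)

lemma zeroBelow_Jc (n : ℤ) (hK : ZeroBelow n K) : ZeroBelow n (Jc K) := by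
  intro p hp
  have h1 : IsZero (Bs K p) := IsZero.of_mono (kernel.ι (K.pOpcycles p)) (hK p hp)
  have h2 : IsZero (K.homology p) := ShortComplex.isZero_homology_of_isZero_X₂ _ (hK p hp)
  have h3 : IsZero (Bs K (p + 1)) := by
    have hd : K.d p (p + 1) = 0 := (hK p hp).eq_of_src _ _
    have := K.isIso_pOpcycles p (p + 1) (by simp) hd
    exact isZero_kernel_of_mono _
  exact isZero_biprod ((E _).zero h1) (isZero_biprod ((E _).zero h2) ((E _).zero h3))

lemma zeroBelow_cokernel (n : ℤ) (hK : ZeroBelow n K) : ZeroBelow n (cokernel (emb K)) := by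
  intro p hp
  have h : Epi ((cokernel.π (emb K)).f p) :=
    (HomologicalComplex.eval A (ComplexShape.up ℤ) p).map_epi (cokernel.π (emb K))
  exact IsZero.of_epi ((cokernel.π (emb K)).f p) (zeroBelow_Jc K n hK p hp)

lemma emb_shortExact :
    (ShortComplex.mk (emb K) (cokernel.π (emb K)) (cokernel.condition _)).ShortExact :=
  have := emb_mono K
  ShortComplex.ShortExact.mk' (ShortComplex.exact_cokernel (emb K)) inferInstance inferInstance

/-- the iterated cokernels. -/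
noncomputable def Qs : ℕ → CochainComplex A ℤ
  | 0 => K
  | k + 1 => cokernel (emb (Qs k))

lemma zeroBelow_Qs (n : ℤ) (hK : ZeroBelow n K) : ∀ k, ZeroBelow n (Qs K k)
  | 0 => hK
  | k + 1 => zeroBelow_cokernel (Qs K k) n (zeroBelow_Qs n hK k)

/-- the Cartan–Eilenberg resolution. -/
noncomputable def CEcx : CochainComplex (CochainComplex A ℤ) ℤ :=
  spCx (Qs K) (fun k => Jc (Qs K k)) (fun k => emb (Qs K k))
    (fun k => cokernel.π (emb (Qs K k))) (fun _ => cokernel.condition _)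

theorem exists_CE (n : ℤ) [K.IsStrictlyGE n] :
    ∃ (I : CochainComplex (CochainComplex A ℤ) ℤ) (ε : K ⟶ I.X 0) (hε : ε ≫ I.d 0 1 = 0),
      (∃ i : ℤ, ∀ p q : ℤ, p < i → IsZero ((I.X q).X p)) ∧
      (∀ p : ℤ, CE.IsInjResolutionVia (((HomologicalComplex.eval A (ComplexShape.up ℤ) p).mapHomologicalComplex (ComplexShape.up ℤ)).obj I) (K.X p) (ε.f p)) ∧
      (∀ p : ℤ, CE.IsInjResolutionVia (((HomologicalComplex.cyclesFunctor A (ComplexShape.up ℤ) p).mapHomologicalComplex (ComplexShape.up ℤ)).obj I) (K.cycles p) (HomologicalComplex.cyclesMap ε p)) ∧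
      (∀ p : ℤ, CE.IsInjResolutionVia (((HomologicalComplex.homologyFunctor A (ComplexShape.up ℤ) p).mapHomologicalComplex (ComplexShape.up ℤ)).obj I) (K.homology p) (HomologicalComplex.homologyMap ε p)) := by
  have hK : ZeroBelow n K := fun p hp => K.isZero_of_isStrictlyGE n p hp
  have hε : emb K ≫ (CEcx K).d 0 1 = 0 := by
    have h : (CEcx K).d 0 1 = cokernel.π (emb (Qs K 0)) ≫ emb (Qs K 1) := spCx_d0 _ _ _ _ _
    rw [h]
    exact (cokernel.condition_assoc (emb K) _).trans zero_comp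
  refine ⟨CEcx K, emb K, hε, ⟨n, ?_⟩, ?_, ?_, ?_⟩
  · intro p q hp
    match q with
    | Int.ofNat k => exact zeroBelow_Jc (Qs K k) n (zeroBelow_Qs K n hK k) p hp
    | Int.negSucc _ =>
      exact (HomologicalComplex.eval A (ComplexShape.up ℤ) p).map_isZero
        (Limits.isZero_zero (CochainComplex A ℤ))
  · intro p
    exact splice_isInjRes _ _ _ _ _ (HomologicalComplex.eval A (ComplexShape.up ℤ) p)
      (fun k => lev_shortExact _ (emb_shortExact (Qs K k)) p)
      (fun k => (inferInstance : Injective ((Jc (Qs K k)).X p)))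
  · intro p
    exact splice_isInjRes _ _ _ _ _ (HomologicalComplex.cyclesFunctor A (ComplexShape.up ℤ) p)
      (fun k => Z_shortExact _ (emb_shortExact (Qs K k)) (emb_homology_mono (Qs K k)) p)
      (fun k => cycles_injective (Qs K k) p)
  · intro p
    exact splice_isInjRes _ _ _ _ _ (HomologicalComplex.homologyFunctor A (ComplexShape.up ℤ) p)
      (fun k => H_shortExact _ (emb_shortExact (Qs K k)) (emb_homology_mono (Qs K k)) p)
      (fun k => homology_injective (Qs K k) p)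

end Emb

end CELib
end Groth.Agent.H90
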