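import Groth.Agent.H90.ClosedPerf
import Groth.Agent.H56.RelPC
import Groth.Prelude.Def_DerSch2

/-!
# Charts: closed immersions of affine opens into affine spaces (helper90)

* `imm U θ : U ⟶ Spec P` for `θ : P →+* Γ(X, U)` (`DerSch.chartImm U φ = imm U φ` by `rfl`).
* `restrictQIso`, `pushQIso`: termwise restriction to an open / direct image along a closed
  immersion of complexes only depend on the class in the derived category.
* `isPC_Q_pushCx_iff`: complex-level form of S1102.
* `pushCxCompIso`: `s_* i_* C ≅ (i ≫ s)_* C` for complexes.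
* `isPC_push_structure_iff`, `isPC_push_Spec_iff`, `isPC_push_imm_iff`: pseudo-coherence of
  `i_* O_Z` on `Spec R` in ring terms.
* `isPC_pushCx_imm_comp_iff`: changing the chart along a pseudo-coherent surjection.
* `imm_iff_imm`: independence of the chart (= S7207).
* `forall_rep_iff`, `chartPC_unit_iff`: the chart test for `O_X`.
-/

set_option autoImplicit false
set_option linter.style.haveILetI false
set_option maxHeartbeats 400000
universe u
open CategoryTheory CategoryTheory.Limits AlgebraicGeometry TopologicalSpace Opposite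
open AlgebraicGeometry.Scheme.Modules

attribute [local instance] HasDerivedCategory.standard

namespace Groth.Agent.H90.Chart

open Groth.Agent.H90.SPerf Groth.Agent.H90.LR Groth.Agent.H90.QH Groth.Agent.H28.PCohD
open Groth.Agent.H90.CPC Groth.Agent.H90.TPC Groth.Agent.H90.TPerf Groth.Agent.H90.CPerf

section QIso

variable {X : Scheme.{u}}

/-- Termwise restriction to an open respects isomorphisms in the derived category. -/
noncomputable def restrictQIso (W : X.Opens) {G₁ G₂ : CochainComplex X.Modules ℤ}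
    (e : DerivedCategory.Q.obj G₁ ≅ DerivedCategory.Q.obj G₂) :
    DerivedCategory.Q.obj ((DCoh.restrictCx W).obj G₁) ≅
      DerivedCategory.Q.obj ((DCoh.restrictCx W).obj G₂) :=
  ((restrictFunctor W.ι).mapDerivedCategoryFactors.app G₁).symm ≪≫
    (restrictFunctor W.ι).mapDerivedCategory.mapIso e ≪≫
    (restrictFunctor W.ι).mapDerivedCategoryFactors.app G₂

variable {Z : Scheme.{u}} (i : Z ⟶ X) [IsClosedImmersion i]

/-- Termwise direct image along a closed immersion respects isomorphisms in the derived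
category. -/
noncomputable def pushQIso {C₁ C₂ : CochainComplex Z.Modules ℤ}
    (e : DerivedCategory.Q.obj C₁ ≅ DerivedCategory.Q.obj C₂) :
    DerivedCategory.Q.obj ((DerSch.pushCx i).obj C₁) ≅
      DerivedCategory.Q.obj ((DerSch.pushCx i).obj C₂) :=
  ((pushforward i).mapDerivedCategoryFactors.app C₁).symm ≪≫
    (pushforward i).mapDerivedCategory.mapIso e ≪≫
    (pushforward i).mapDerivedCategoryFactors.app C₂

/-- Complex-level form of S1102. -/
theorem isPC_Q_pushCx_iff
    (hO : ∀ m : ℤ, DCoh.IsPseudoCoherentD m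
      (DCoh.inD X ((pushforward i).obj (Coh.structureModule Z))))
    (F : CochainComplex Z.Modules ℤ) (m : ℤ) :
    DCoh.IsPseudoCoherentD m (DerivedCategory.Q.obj F) ↔
      DCoh.IsPseudoCoherentD m (DerivedCategory.Q.obj ((DerSch.pushCx i).obj F)) := by
  have hO' : ∀ (m : ℤ) (x : X),
      LocPC m (DCoh.inD X ((pushforward i).obj (Coh.structureModule Z))) x :=
    fun m => (isPC_iff m _).1 (hO m)
  rw [isPC_iff, isPC_iff]
  constructor
  · intro h x
    by_cases hx : x ∈ Set.range i.base
    · obtain ⟨z, rfl⟩ := hx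
      exact (claim' i hO' F m z).1 (h z)
    · exact locPC_outside i F m x hx
  · intro h z
    exact (claim' i hO' F m z).2 (h (i z))

end QIso

section Comp

variable {Z Y X : Scheme.{u}} (i : Z ⟶ Y) (s : Y ⟶ X)

/-- `s_* i_* C ≅ (i ≫ s)_* C` for complexes. -/
noncomputable def pushCxCompIso (C : CochainComplex Z.Modules ℤ) :
    (DerSch.pushCx s).obj ((DerSch.pushCx i).obj C) ≅ (DerSch.pushCx (i ≫ s)).obj C :=
  HomologicalComplex.Hom.isoOfComponents
    (fun j => (pushforwardComp i s).app (C.X j))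
    (fun j k _ => ((pushforwardComp i s).hom.naturality (C.d j k)).symm)

end Comp

section Ring

/-- `A` as a module over `R` along `θ` is `B` as a module along `ψ = ε ∘ θ` if `ε` is bijective. -/
noncomputable def restrictScalarsIsoOfBijective {R A B : Type u} [CommRing R] [CommRing A]
    [CommRing B] (θ : R →+* A) (ε : A →+* B) (hε : Function.Bijective ε) (ψ : R →+* B)
    (h : ψ = ε.comp θ) :
    (ModuleCat.restrictScalars.{u} θ).obj (ModuleCat.of A A) ≅
      (ModuleCat.restrictScalars.{u} ψ).obj (ModuleCat.of B B) := by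
  subst h
  let l : ((ModuleCat.restrictScalars.{u} θ).obj (ModuleCat.of A A) : ModuleCat.{u} R) →ₗ[R]
      ((ModuleCat.restrictScalars.{u} (ε.comp θ)).obj (ModuleCat.of B B) : ModuleCat.{u} R) :=
    { toFun := fun a => ε a
      map_add' := map_add ε
      map_smul' := fun r a => map_mul ε (θ r) a }
  exact (LinearEquiv.ofBijective l hε).toModuleIso

/-- `A = R / ker θ` is a finitely presented `R`-module iff `ker θ` is finitely generated. -/
lemma fp_restrictScalars_iff {R A : Type u} [CommRing R] [CommRing A] (θ : R →+* A)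
    (hθ : Function.Surjective θ) :
    Module.FinitePresentation R ((ModuleCat.restrictScalars.{u} θ).obj (ModuleCat.of A A)) ↔
      (RingHom.ker θ).FG := by
  let l : R →ₗ[R] ((ModuleCat.restrictScalars.{u} θ).obj (ModuleCat.of A A) : ModuleCat.{u} R) :=
    { toFun := fun r => θ r
      map_add' := map_add θ
      map_smul' := fun r s => map_mul θ r s }
  have hl : Function.Surjective l := hθ
  have hk : LinearMap.ker l = RingHom.ker θ := by
    ext r
    exact Iff.rfl
  rw [← Module.FinitePresentation.fg_ker_iff l hl, hk]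
  exact Iff.rfl

/-- A ring map with a chart `φ` is of finite presentation iff `ker φ` is finitely generated. -/
lemma fp_iff_of_chart {R A : Type u} [CommRing R] [CommRing A] (g : R →+* A) {n : ℕ}
    (φ : MvPolynomial (Fin n) R →+* A) (hφ : Function.Surjective φ)
    (hφC : φ.comp MvPolynomial.C = g) :
    g.FinitePresentation ↔ (RingHom.ker φ).FG := by
  letI : Algebra R A := g.toAlgebra
  let α : MvPolynomial (Fin n) R →ₐ[R] A :=
    AlgHom.mk φ (fun r => (RingHom.congr_fun hφC r : φ (MvPolynomial.C r) = g r))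
  have hα : (α.toRingHom : MvPolynomial (Fin n) R →+* A) = φ := rfl
  constructor
  · intro h
    haveI : Algebra.FinitePresentation R A := h
    have h2 := Algebra.FinitePresentation.ker_fg_of_mvPolynomial α hφ
    rwa [hα] at h2
  · intro h
    exact ⟨⟨n, α, hφ, by rw [hα]; exact h⟩⟩

end Ring

section Spec

variable (R : CommRingCat.{u}) {Z : Scheme.{u}} (i : Z ⟶ Spec (CommRingCat.of R))

/-- The ring map `R ⟶ Γ(Z, ⊤)` attached to `i : Z ⟶ Spec R`. -/
noncomputable def gammaMap : R ⟶ Γ(Z, ⊤) := (Scheme.ΓSpecIso R).inv ≫ i.appTop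

/-- Global sections of `i_* O_Z` are `Γ(Z, ⊤)`, linearly over `R`. -/
noncomputable def sectionsEquiv :
    ((modulesSpecToSheaf.obj ((pushforward i).obj (Coh.structureModule Z))).presheaf.obj
      (.op ⊤)) ≃ₗ[R]
      ((ModuleCat.restrictScalars.{u} (gammaMap R i).hom).obj (ModuleCat.of Γ(Z, ⊤) Γ(Z, ⊤)) :
        ModuleCat.{u} R) :=
  { toFun := fun s => s
    invFun := fun s => s
    map_add' := fun _ _ => rfl
    map_smul' := fun _ _ => rfl
    left_inv := fun _ => rfl
    right_inv := fun _ => rfl }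

variable [IsClosedImmersion i] [PreservesFiniteLimits (tilde.functor R)]

set_option backward.isDefEq.respectTransparency false in
/-- Pseudo-coherence of `i_* O_Z` on `Spec R`, in ring terms. -/
theorem isPC_push_structure_iff (m : ℤ) :
    DCoh.IsPseudoCoherentD m (DCoh.inD (Spec (CommRingCat.of R))
      ((pushforward i).obj (Coh.structureModule Z))) ↔
      DRing.IsPseudoCoherent R m ((DerivedCategory.singleFunctor (ModuleCat.{u} R) 0).obj
        ((ModuleCat.restrictScalars.{u} (gammaMap R i).hom).obj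
          (ModuleCat.of Γ(Z, ⊤) Γ(Z, ⊤)))) := by
  haveI : ((pushforward i).obj (Coh.structureModule Z)).IsQuasicoherent :=
    isQuasicoherent_push_structure i
  haveI : IsIso ((pushforward i).obj (Coh.structureModule Z)).fromTildeΓ :=
    Scheme.Modules.isIso_fromTildeΓ_of_isQuasicoherent _
  have e₁ : (tilde.functor R).obj ((ModuleCat.restrictScalars.{u} (gammaMap R i).hom).obj
      (ModuleCat.of Γ(Z, ⊤) Γ(Z, ⊤))) ≅ (pushforward i).obj (Coh.structureModule Z) :=
    ((tilde.functor R).mapIso (sectionsEquiv R i).toModuleIso).symm ≪≫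
      asIso ((pushforward i).obj (Coh.structureModule Z)).fromTildeΓ
  have e₂ : (DCoh.tildeD R).obj ((DerivedCategory.singleFunctor (ModuleCat.{u} R) 0).obj
      ((ModuleCat.restrictScalars.{u} (gammaMap R i).hom).obj (ModuleCat.of Γ(Z, ⊤) Γ(Z, ⊤)))) ≅
      DCoh.inD (Spec (CommRingCat.of R)) ((pushforward i).obj (Coh.structureModule Z)) :=
    ((tilde.functor R).mapDerivedCategorySingleFunctor 0).app _ ≪≫
      (DerivedCategory.singleFunctor _ 0).mapIso e₁
  rw [← isPC_tildeD_iff R _ m]
  exact ⟨isPC_of_iso e₂.symm, isPC_of_iso e₂⟩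

/-- Variant of `isPC_push_structure_iff` with `Γ(Z, ⊤)` replaced by an isomorphic ring. -/
theorem isPC_push_structure_iff' {A : Type u} [CommRing A] (θ : R →+* A)
    (ε : A →+* Γ(Z, ⊤)) (hε : Function.Bijective ε) (h : (gammaMap R i).hom = ε.comp θ) (m : ℤ) :
    DCoh.IsPseudoCoherentD m (DCoh.inD (Spec (CommRingCat.of R))
      ((pushforward i).obj (Coh.structureModule Z))) ↔
      DRing.IsPseudoCoherent R m ((DerivedCategory.singleFunctor (ModuleCat.{u} R) 0).obj
        ((ModuleCat.restrictScalars.{u} θ).obj (ModuleCat.of A A))) := by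
  rw [isPC_push_structure_iff R i m]
  have e := (DerivedCategory.singleFunctor (ModuleCat.{u} R) 0).mapIso
    (restrictScalarsIsoOfBijective θ ε hε _ h)
  exact ⟨Groth.Agent.H56.isPseudoCoherent_of_iso e.symm m,
    Groth.Agent.H56.isPseudoCoherent_of_iso e m⟩

end Spec

section Imm

variable {X : Scheme.{u}} {U : X.Opens}

/-- The morphism `U ⟶ Spec P` attached to `θ : P →+* Γ(X, U)`. -/
noncomputable def imm (U : X.Opens) {P : Type u} [CommRing P] (θ : P →+* Γ(X, U)) :
    (U : Scheme.{u}) ⟶ Spec (CommRingCat.of P) :=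
  U.toSpecΓ ≫ Spec.map (CommRingCat.ofHom θ)

lemma chartImm_eq {R : Type u} [CommRing R] {n : ℕ}
    (φ : MvPolynomial (Fin n) R →+* Γ(X, U)) : DerSch.chartImm U φ = imm U φ := rfl

lemma isClosedImmersion_spec {P'' P' : Type u} [CommRing P''] [CommRing P'] (ρ : P'' →+* P')
    (hρ : Function.Surjective ρ) : IsClosedImmersion (Spec.map (CommRingCat.ofHom ρ)) :=
  IsClosedImmersion.spec_of_surjective _ hρ

lemma isClosedImmersion_imm (hU : IsAffineOpen U) {P : Type u} [CommRing P]
    (θ : P →+* Γ(X, U)) (hθ : Function.Surjective θ) : IsClosedImmersion (imm U θ) := by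
  haveI : IsIso U.toSpecΓ := by
    rw [← hU.isoSpec_hom]
    infer_instance
  haveI : IsClosedImmersion (Spec.map (CommRingCat.ofHom θ)) := isClosedImmersion_spec θ hθ
  unfold imm
  infer_instance

lemma imm_comp {P'' P' : Type u} [CommRing P''] [CommRing P'] (ρ : P'' →+* P')
    (θ : P' →+* Γ(X, U)) : imm U (θ.comp ρ) = imm U θ ≫ Spec.map (CommRingCat.ofHom ρ) := by
  unfold imm
  rw [Category.assoc, ← Spec.map_comp]
  rfl

lemma gammaMap_spec {P'' P' : Type u} [CommRing P''] [CommRing P'] (ρ : P'' →+* P') :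
    (gammaMap (CommRingCat.of P'') (Spec.map (CommRingCat.ofHom ρ))).hom =
      ((Scheme.ΓSpecIso (CommRingCat.of P')).inv.hom).comp ρ := by
  have h : gammaMap (CommRingCat.of P'') (Spec.map (CommRingCat.ofHom ρ)) =
      CommRingCat.ofHom ρ ≫ (Scheme.ΓSpecIso (CommRingCat.of P')).inv := by
    unfold gammaMap
    exact (Scheme.ΓSpecIso_inv_naturality (CommRingCat.ofHom ρ)).symm
  rw [h]
  rfl

lemma gammaMap_imm {P : Type u} [CommRing P] (θ : P →+* Γ(X, U)) :
    (gammaMap (CommRingCat.of P) (imm U θ)).hom = (U.topIso.inv.hom).comp θ := by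
  have h : gammaMap (CommRingCat.of P) (imm U θ) = CommRingCat.ofHom θ ≫ U.topIso.inv := by
    unfold gammaMap imm
    rw [Scheme.Hom.comp_appTop, ← Category.assoc, ← Scheme.ΓSpecIso_inv_naturality,
      Category.assoc, Scheme.Opens.toSpecΓ_appTop, Iso.inv_hom_id_assoc]
  rw [h]
  rfl

/-- Pseudo-coherence of `(Spec ρ)_* O` in ring terms. -/
theorem isPC_push_Spec_iff {P'' P' : Type u} [CommRing P''] [CommRing P'] (ρ : P'' →+* P')
    (hρ : Function.Surjective ρ) (m : ℤ) :
    DCoh.IsPseudoCoherentD m (DCoh.inD (Spec (CommRingCat.of P''))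
      ((pushforward (Spec.map (CommRingCat.ofHom ρ))).obj
        (Coh.structureModule (Spec (CommRingCat.of P'))))) ↔
      DRing.IsPseudoCoherent P'' m ((DerivedCategory.singleFunctor (ModuleCat.{u} P'') 0).obj
        ((ModuleCat.restrictScalars.{u} ρ).obj (ModuleCat.of P' P'))) := by
  haveI := isClosedImmersion_spec ρ hρ
  haveI := (Groth.Agent.S9498.key (CommRingCat.of P'')).1
  exact isPC_push_structure_iff' (CommRingCat.of P'') (Spec.map (CommRingCat.ofHom ρ)) ρ
    (Scheme.ΓSpecIso (CommRingCat.of P')).inv.hom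
    (ConcreteCategory.bijective_of_isIso (Scheme.ΓSpecIso (CommRingCat.of P')).inv)
    (gammaMap_spec ρ) m

/-- Pseudo-coherence of `(imm U θ)_* O_U` in ring terms. -/
theorem isPC_push_imm_iff (hU : IsAffineOpen U) {P : Type u} [CommRing P]
    (θ : P →+* Γ(X, U)) (hθ : Function.Surjective θ) (m : ℤ) :
    DCoh.IsPseudoCoherentD m (DCoh.inD (Spec (CommRingCat.of P))
      ((pushforward (imm U θ)).obj (Coh.structureModule (U : Scheme.{u})))) ↔
      DRing.IsPseudoCoherent P m ((DerivedCategory.singleFunctor (ModuleCat.{u} P) 0).obj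
        ((ModuleCat.restrictScalars.{u} θ).obj (ModuleCat.of Γ(X, U) Γ(X, U)))) := by
  haveI := isClosedImmersion_imm hU θ hθ
  haveI := (Groth.Agent.S9498.key (CommRingCat.of P)).1
  exact isPC_push_structure_iff' (CommRingCat.of P) (imm U θ) θ U.topIso.inv.hom
    (ConcreteCategory.bijective_of_isIso U.topIso.inv) (gammaMap_imm θ) m

/-- Changing the chart along a pseudo-coherent surjection of rings. -/
theorem isPC_pushCx_imm_comp_iff {P'' P' : Type u} [CommRing P''] [CommRing P']
    (ρ : P'' →+* P') (hρs : Function.Surjective ρ) (hρ : Groth.Agent.H56.PcHom ρ)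
    (θ : P' →+* Γ(X, U)) (C : CochainComplex (U : Scheme.{u}).Modules ℤ) (m : ℤ) :
    DCoh.IsPseudoCoherentD m (DerivedCategory.Q.obj ((DerSch.pushCx (imm U θ)).obj C)) ↔
      DCoh.IsPseudoCoherentD m
        (DerivedCategory.Q.obj ((DerSch.pushCx (imm U (θ.comp ρ))).obj C)) := by
  haveI := isClosedImmersion_spec ρ hρs
  have hO : ∀ m : ℤ, DCoh.IsPseudoCoherentD m (DCoh.inD (Spec (CommRingCat.of P''))
      ((pushforward (Spec.map (CommRingCat.ofHom ρ))).obj
        (Coh.structureModule (Spec (CommRingCat.of P'))))) :=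
    fun m => (isPC_push_Spec_iff ρ hρs m).2 (hρ m)
  rw [imm_comp ρ θ]
  refine (isPC_Q_pushCx_iff (Spec.map (CommRingCat.ofHom ρ)) hO _ m).trans ?_
  exact ⟨isPC_of_iso (DerivedCategory.Q.mapIso (pushCxCompIso _ _ C)),
    isPC_of_iso (DerivedCategory.Q.mapIso (pushCxCompIso _ _ C)).symm⟩

end Imm

section Indep

open Groth.Agent.H56

variable {X : Scheme.{u}} {U : X.Opens} {R : Type u} [CommRing R] [Algebra R Γ(X, U)]

lemma imm_iff_sum {n k : ℕ} (α : MvPolynomial (Fin n) R →ₐ[R] Γ(X, U)) (w : Fin k → Γ(X, U))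
    (hw : ∀ j, w j ∈ Set.range α) (C : CochainComplex (U : Scheme.{u}).Modules ℤ) (m : ℤ) :
    DCoh.IsPseudoCoherentD m (DerivedCategory.Q.obj
      ((DerSch.pushCx (imm U (α : MvPolynomial (Fin n) R →+* Γ(X, U)))).obj C)) ↔
    DCoh.IsPseudoCoherentD m (DerivedCategory.Q.obj
      ((DerSch.pushCx (imm U ((MvPolynomial.aeval (Sum.elim w (fun i => α (MvPolynomial.X i))) :
        MvPolynomial (Fin k ⊕ Fin n) R →ₐ[R] Γ(X, U)) :
        MvPolynomial (Fin k ⊕ Fin n) R →+* Γ(X, U)))).obj C)) := by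
  choose f hf using hw
  have h1 : PcHom ((MvPolynomial.sumAlgEquiv R (Fin k) (Fin n) :
      MvPolynomial (Fin k ⊕ Fin n) R ≃ₐ[R] MvPolynomial (Fin k) (MvPolynomial (Fin n) R)) :
      MvPolynomial (Fin k ⊕ Fin n) R →+* MvPolynomial (Fin k) (MvPolynomial (Fin n) R)) :=
    pcHom_of_bijective _ (MvPolynomial.sumAlgEquiv R (Fin k) (Fin n)).bijective
  have h2 := pcHom_aeval k (MvPolynomial (Fin n) R) f
  have hs1 : Function.Surjective ((MvPolynomial.sumAlgEquiv R (Fin k) (Fin n) :
      MvPolynomial (Fin k ⊕ Fin n) R ≃ₐ[R] MvPolynomial (Fin k) (MvPolynomial (Fin n) R)) :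
      MvPolynomial (Fin k ⊕ Fin n) R →+* MvPolynomial (Fin k) (MvPolynomial (Fin n) R)) :=
    (MvPolynomial.sumAlgEquiv R (Fin k) (Fin n)).surjective
  have hs2 : Function.Surjective ((MvPolynomial.aeval f :
      MvPolynomial (Fin k) (MvPolynomial (Fin n) R) →ₐ[MvPolynomial (Fin n) R]
        MvPolynomial (Fin n) R) :
      MvPolynomial (Fin k) (MvPolynomial (Fin n) R) →+* MvPolynomial (Fin n) R) := fun q =>
    ⟨MvPolynomial.C q, by simp⟩
  have heq : ((MvPolynomial.aeval (Sum.elim w (fun i => α (MvPolynomial.X i))) :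
      MvPolynomial (Fin k ⊕ Fin n) R →ₐ[R] Γ(X, U)) : MvPolynomial (Fin k ⊕ Fin n) R →+* Γ(X, U)) =
      RingHom.comp (α : MvPolynomial (Fin n) R →+* Γ(X, U))
        (RingHom.comp ((MvPolynomial.aeval f : MvPolynomial (Fin k) (MvPolynomial (Fin n) R) →ₐ[
          MvPolynomial (Fin n) R] MvPolynomial (Fin n) R) :
          MvPolynomial (Fin k) (MvPolynomial (Fin n) R) →+* MvPolynomial (Fin n) R)
          ((MvPolynomial.sumAlgEquiv R (Fin k) (Fin n) :
            MvPolynomial (Fin k ⊕ Fin n) R ≃ₐ[R] MvPolynomial (Fin k) (MvPolynomial (Fin n) R)) :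
            MvPolynomial (Fin k ⊕ Fin n) R →+* MvPolynomial (Fin k) (MvPolynomial (Fin n) R))) := by
    apply MvPolynomial.ringHom_ext
    · intro r
      simp
    · intro i
      rcases i with j | i
      · simp [hf]
      · simp
  rw [heq]
  refine isPC_pushCx_imm_comp_iff _ ?_ (h1.comp h2) _ C m
  rw [RingHom.coe_comp]
  exact hs2.comp hs1

/-- Independence of the chart (ring-hom form of S7207). -/
theorem imm_iff_imm {n k : ℕ} (α : MvPolynomial (Fin n) R →ₐ[R] Γ(X, U))
    (hα : Function.Surjective α) (β : MvPolynomial (Fin k) R →ₐ[R] Γ(X, U))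
    (hβ : Function.Surjective β) (C : CochainComplex (U : Scheme.{u}).Modules ℤ) (m : ℤ) :
    DCoh.IsPseudoCoherentD m (DerivedCategory.Q.obj
      ((DerSch.pushCx (imm U (α : MvPolynomial (Fin n) R →+* Γ(X, U)))).obj C)) ↔
    DCoh.IsPseudoCoherentD m (DerivedCategory.Q.obj
      ((DerSch.pushCx (imm U (β : MvPolynomial (Fin k) R →+* Γ(X, U)))).obj C)) := by
  rw [imm_iff_sum α (fun j => β (MvPolynomial.X j)) (fun j => hα _) C m,
    imm_iff_sum β (fun i => α (MvPolynomial.X i)) (fun i => hβ _) C m]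
  have h1 : PcHom ((MvPolynomial.renameEquiv R (Equiv.sumComm (Fin n) (Fin k)) :
      MvPolynomial (Fin n ⊕ Fin k) R ≃ₐ[R] MvPolynomial (Fin k ⊕ Fin n) R) :
      MvPolynomial (Fin n ⊕ Fin k) R →+* MvPolynomial (Fin k ⊕ Fin n) R) :=
    pcHom_of_bijective _ (MvPolynomial.renameEquiv R (Equiv.sumComm (Fin n) (Fin k))).bijective
  have hs : Function.Surjective ((MvPolynomial.renameEquiv R (Equiv.sumComm (Fin n) (Fin k)) :
      MvPolynomial (Fin n ⊕ Fin k) R ≃ₐ[R] MvPolynomial (Fin k ⊕ Fin n) R) :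
      MvPolynomial (Fin n ⊕ Fin k) R →+* MvPolynomial (Fin k ⊕ Fin n) R) :=
    (MvPolynomial.renameEquiv R (Equiv.sumComm (Fin n) (Fin k))).surjective
  have heq : ((MvPolynomial.aeval (Sum.elim (fun i => α (MvPolynomial.X i))
      (fun j => β (MvPolynomial.X j))) : MvPolynomial (Fin n ⊕ Fin k) R →ₐ[R] Γ(X, U)) :
      MvPolynomial (Fin n ⊕ Fin k) R →+* Γ(X, U)) =
      RingHom.comp ((MvPolynomial.aeval (Sum.elim (fun j => β (MvPolynomial.X j))
        (fun i => α (MvPolynomial.X i))) : MvPolynomial (Fin k ⊕ Fin n) R →ₐ[R] Γ(X, U)) :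
        MvPolynomial (Fin k ⊕ Fin n) R →+* Γ(X, U))
        ((MvPolynomial.renameEquiv R (Equiv.sumComm (Fin n) (Fin k)) :
          MvPolynomial (Fin n ⊕ Fin k) R ≃ₐ[R] MvPolynomial (Fin k ⊕ Fin n) R) :
          MvPolynomial (Fin n ⊕ Fin k) R →+* MvPolynomial (Fin k ⊕ Fin n) R) := by
    apply MvPolynomial.ringHom_ext
    · intro r
      simp
    · intro i
      rcases i with i | j
      · simp
      · simp
  rw [heq]
  exact isPC_pushCx_imm_comp_iff _ hs h1 _ C m

end Indep

section ChartTest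

variable {X : Scheme.{u}} {U : X.Opens}

/-- Independence of the chart, for ring maps compatible with a fixed `g : R →+* Γ(X, U)`. -/
theorem chart_iff_chart {R : Type u} [CommRing R] (g : R →+* Γ(X, U)) {n k : ℕ}
    (φ : MvPolynomial (Fin n) R →+* Γ(X, U)) (hφ : Function.Surjective φ)
    (hφC : φ.comp MvPolynomial.C = g)
    (ψ : MvPolynomial (Fin k) R →+* Γ(X, U)) (hψ : Function.Surjective ψ)
    (hψC : ψ.comp MvPolynomial.C = g)
    (C : CochainComplex (U : Scheme.{u}).Modules ℤ) (m : ℤ) :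
    DCoh.IsPseudoCoherentD m (DerivedCategory.Q.obj ((DerSch.pushCx (imm U φ)).obj C)) ↔
      DCoh.IsPseudoCoherentD m (DerivedCategory.Q.obj ((DerSch.pushCx (imm U ψ)).obj C)) := by
  letI : Algebra R Γ(X, U) := g.toAlgebra
  exact imm_iff_imm
    (AlgHom.mk φ (fun r => (RingHom.congr_fun hφC r : φ (MvPolynomial.C r) = g r))) hφ
    (AlgHom.mk ψ (fun r => (RingHom.congr_fun hψC r : ψ (MvPolynomial.C r) = g r))) hψ C m

/-- The chart test may be checked on one representing complex. -/
theorem forall_rep_iff (hU : IsAffineOpen U) {P : Type u} [CommRing P] (θ : P →+* Γ(X, U))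
    (hθ : Function.Surjective θ) (m : ℤ) (K : DCoh.D X) (G₀ : CochainComplex X.Modules ℤ)
    (e : DCoh.toD X G₀ ≅ K) :
    (∀ G : CochainComplex X.Modules ℤ, Nonempty (DCoh.toD X G ≅ K) →
      DCoh.IsPseudoCoherentD m (DCoh.toD (Spec (CommRingCat.of P))
        ((DerSch.pushCx (imm U θ)).obj ((DCoh.restrictCx U).obj G)))) ↔
      DCoh.IsPseudoCoherentD m (DCoh.toD (Spec (CommRingCat.of P))
        ((DerSch.pushCx (imm U θ)).obj ((DCoh.restrictCx U).obj G₀))) := by
  haveI := isClosedImmersion_imm hU θ hθ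
  constructor
  · intro h
    exact h G₀ ⟨e⟩
  · rintro h G ⟨e'⟩
    exact isPC_of_iso (pushQIso (imm U θ) (restrictQIso U (e ≪≫ e'.symm))) h

/-- `i_* (O_X|_U)[0]` as a complex concentrated in degree `0`. -/
noncomputable def pushRestrictUnitCxIso (U : X.Opens) {W : Scheme.{u}}
    (i : (U : Scheme.{u}) ⟶ W) :
    (DerSch.pushCx i).obj ((DCoh.restrictCx U).obj (DerSch.unitCx X)) ≅
      (HomologicalComplex.single W.Modules (ComplexShape.up ℤ) 0).obj
        ((pushforward i).obj (Coh.structureModule (U : Scheme.{u}))) :=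
  (DerSch.pushCx i).mapIso
      ((HomologicalComplex.singleMapHomologicalComplex (restrictFunctor U.ι)
        (ComplexShape.up ℤ) 0).app (Coh.structureModule X) ≪≫
        (HomologicalComplex.single _ _ 0).mapIso (restrictUnitIso U.ι)) ≪≫
    (HomologicalComplex.singleMapHomologicalComplex (pushforward i) (ComplexShape.up ℤ) 0).app _

/-- The chart test for `O_X` in ring terms. -/
theorem chartPC_unit_iff {Y : Scheme.{u}} (hU : IsAffineOpen U) (V : Y.Opens) {n : ℕ}
    (φ : MvPolynomial (Fin n) Γ(Y, V) →+* Γ(X, U)) (hφ : Function.Surjective φ) (m : ℤ) :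
    DerSch.ChartPC m (DCoh.toD X (DerSch.unitCx X)) U V φ ↔
      DRing.IsPseudoCoherent (MvPolynomial (Fin n) Γ(Y, V)) m
        ((DerivedCategory.singleFunctor (ModuleCat.{u} (MvPolynomial (Fin n) Γ(Y, V))) 0).obj
          ((ModuleCat.restrictScalars.{u} φ).obj (ModuleCat.of Γ(X, U) Γ(X, U)))) := by
  refine (forall_rep_iff hU φ hφ m _ (DerSch.unitCx X) (Iso.refl _)).trans ?_
  rw [← isPC_push_imm_iff hU φ hφ m]
  have e : DCoh.toD (Spec (CommRingCat.of (MvPolynomial (Fin n) Γ(Y, V))))
      ((DerSch.pushCx (imm U φ)).obj ((DCoh.restrictCx U).obj (DerSch.unitCx X))) ≅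
      DCoh.inD (Spec (CommRingCat.of (MvPolynomial (Fin n) Γ(Y, V))))
        ((pushforward (imm U φ)).obj (Coh.structureModule (U : Scheme.{u}))) :=
    DerivedCategory.Q.mapIso (pushRestrictUnitCxIso U (imm U φ)) ≪≫
      ((DerivedCategory.singleFunctorIsoCompQ _ 0).app _).symm
  exact ⟨isPC_of_iso e, isPC_of_iso e.symm⟩

end ChartTest

end Groth.Agent.H90.Chart
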