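import Groth.Agent.H90.ChartFin
import Groth.Agent.H56.PcMor3

/-!
# Flat base change of `n`-pseudo-coherent morphisms (helper90)

* `QAt s f`: the ring map `f` admits a chart which is pseudo-coherent at level `s`.
* `qAt_flat_baseChange`, `qAt_of_isPushout`: flat base change (after helper56's
  `q_flat_baseChange`).
* `good_unit_iff_qAt`: bridge to good pairs for the structure sheaf.
* `isNPseudoCoherent_flat_baseChange` (= S6226).
-/

set_option autoImplicit false
set_option linter.style.haveILetI false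
set_option maxHeartbeats 400000
universe u
open CategoryTheory CategoryTheory.Limits AlgebraicGeometry TopologicalSpace Opposite
open AlgebraicGeometry.Scheme.Modules

attribute [local instance] HasDerivedCategory.standard

namespace Groth.Agent.H90.Chart

open Groth.Agent.H56

section QAt

/-- The ring map `f` admits a chart which is pseudo-coherent at level `s`. -/
def QAt {R S : Type u} [CommRing R] [CommRing S] (s : ℤ) (f : R →+* S) : Prop :=
  ∃ (n : ℕ) (δ : MvPolynomial (Fin n) R →+* S), Function.Surjective δ ∧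
    (∀ r, δ (MvPolynomial.C r) = f r) ∧ PcHomAt s δ

attribute [local instance] MvPolynomial.algebraMvPolynomial in
/-- `QAt s` is stable under flat base change. -/
theorem qAt_flat_baseChange (R S R' S' : Type u) [CommRing R] [CommRing S] [CommRing R']
    [CommRing S'] [Algebra R S] [Algebra R R'] [Algebra R S'] [Algebra S S'] [Algebra R' S']
    [IsScalarTower R S S'] [IsScalarTower R R' S'] [Algebra.IsPushout R S R' S']
    [Module.Flat R R'] (s : ℤ) (h : QAt s (algebraMap R S)) : QAt s (algebraMap R' S') := by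
  obtain ⟨n, δ, hδs, hδC, hδ⟩ := h
  let δ' : MvPolynomial (Fin n) R' →+* S' :=
    MvPolynomial.eval₂Hom (algebraMap R' S') (fun i => algebraMap S S' (δ (MvPolynomial.X i)))
  have hδ'C : ∀ r, δ' (MvPolynomial.C r) = algebraMap R' S' r :=
    fun r => MvPolynomial.eval₂_C _ _ r
  have hcomm : ∀ p, δ' (MvPolynomial.map (algebraMap R R') p) = algebraMap S S' (δ p) := by
    intro p
    have h0 : δ'.comp (MvPolynomial.map (algebraMap R R')) = (algebraMap S S').comp δ := by
      apply MvPolynomial.ringHom_ext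
      · intro r
        show δ' (MvPolynomial.map (algebraMap R R') (MvPolynomial.C r)) =
          algebraMap S S' (δ (MvPolynomial.C r))
        rw [MvPolynomial.map_C, hδ'C, hδC, ← IsScalarTower.algebraMap_apply,
          ← IsScalarTower.algebraMap_apply]
      · intro i
        show δ' (MvPolynomial.map (algebraMap R R') (MvPolynomial.X i)) =
          algebraMap S S' (δ (MvPolynomial.X i))
        rw [MvPolynomial.map_X]
        exact MvPolynomial.eval₂_X _ _ i
    exact RingHom.congr_fun h0 p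
  have hδ's : Function.Surjective δ' := by
    intro y
    have hbc : IsBaseChange S (IsScalarTower.toAlgHom R R' S').toLinearMap :=
      Algebra.IsPushout.out
    refine hbc.inductionOn y (fun y => ∃ p, δ' p = y) ⟨0, map_zero _⟩ ?_ ?_ ?_
    · intro r'
      exact ⟨MvPolynomial.C r', hδ'C r'⟩
    · rintro s y ⟨p, rfl⟩
      obtain ⟨q, rfl⟩ := hδs s
      refine ⟨MvPolynomial.map (algebraMap R R') q * p, ?_⟩
      rw [map_mul, hcomm, Algebra.smul_def]
    · rintro _ _ ⟨p, rfl⟩ ⟨q, rfl⟩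
      exact ⟨p + q, map_add _ _ _⟩
  refine ⟨n, δ', hδ's, hδ'C, ?_⟩
  letI iA1 : Algebra (MvPolynomial (Fin n) R) S := δ.toAlgebra
  letI iA2 : Algebra (MvPolynomial (Fin n) R') S' := δ'.toAlgebra
  letI iA3 : Algebra (MvPolynomial (Fin n) R) S' := ((algebraMap S S').comp δ).toAlgebra
  haveI t1 : IsScalarTower R (MvPolynomial (Fin n) R) S :=
    IsScalarTower.of_algebraMap_eq (fun r => by
      rw [MvPolynomial.algebraMap_eq]
      exact (hδC r).symm)
  haveI t2 : IsScalarTower (MvPolynomial (Fin n) R) S S' :=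
    IsScalarTower.of_algebraMap_eq (fun _ => rfl)
  haveI t3 : IsScalarTower (MvPolynomial (Fin n) R) (MvPolynomial (Fin n) R') S' :=
    IsScalarTower.of_algebraMap_eq (fun p => (hcomm p).symm)
  haveI t4 : IsScalarTower R (MvPolynomial (Fin n) R') S' :=
    IsScalarTower.of_algebraMap_eq (fun r => by
      rw [MvPolynomial.algebraMap_apply]
      show algebraMap R S' r = δ' (MvPolynomial.C (algebraMap R R' r))
      rw [hδ'C, ← IsScalarTower.algebraMap_apply])
  haveI t5 : IsScalarTower R' (MvPolynomial (Fin n) R') S' :=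
    IsScalarTower.of_algebraMap_eq (fun r => by
      rw [MvPolynomial.algebraMap_eq]
      exact (hδ'C r).symm)
  have hpo : Algebra.IsPushout (MvPolynomial (Fin n) R) S (MvPolynomial (Fin n) R') S' :=
    (Algebra.IsPushout.comp_iff R (MvPolynomial (Fin n) R) R' (MvPolynomial (Fin n) R')
      (T := S) (T' := S')).1 inferInstance
  haveI hpo' : Algebra.IsPushout (MvPolynomial (Fin n) R) (MvPolynomial (Fin n) R') S S' :=
    hpo.symm
  haveI hfl : Module.Flat (MvPolynomial (Fin n) R) (MvPolynomial (Fin n) R') :=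
    Module.Flat.isBaseChange R (MvPolynomial (Fin n) R) R' (MvPolynomial (Fin n) R')
      (Algebra.IsPushout.out : IsBaseChange (MvPolynomial (Fin n) R)
        (IsScalarTower.toAlgHom R R' (MvPolynomial (Fin n) R')).toLinearMap)
  exact pcHomAt_of_isPushout (MvPolynomial (Fin n) R) (MvPolynomial (Fin n) R') S S' s hδ

/-- Categorical form of `qAt_flat_baseChange`. -/
lemma qAt_of_isPushout {A B A' B' : CommRingCat.{u}} {φ : A ⟶ B} {γ : A ⟶ A'} {β : B ⟶ B'}
    {φ' : A' ⟶ B'} (h : IsPushout φ γ β φ') (hγ : γ.hom.Flat) (s : ℤ) (hφ : QAt s φ.hom) :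
    QAt s φ'.hom := by
  letI : Algebra A B := φ.hom.toAlgebra
  letI : Algebra A A' := γ.hom.toAlgebra
  letI : Algebra B B' := β.hom.toAlgebra
  letI : Algebra A' B' := φ'.hom.toAlgebra
  letI : Algebra A B' := (β.hom.comp φ.hom).toAlgebra
  haveI : IsScalarTower A B B' := IsScalarTower.of_algebraMap_eq (fun _ => rfl)
  haveI : IsScalarTower A A' B' := IsScalarTower.of_algebraMap_eq (fun x => by
    show β.hom (φ.hom x) = φ'.hom (γ.hom x)
    have := congr(($h.w).hom x)
    exact this)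
  haveI : Algebra.IsPushout A B A' B' :=
    (CommRingCat.isPushout_iff_isPushout (R := A) (R' := B) (S := A') (S' := B')).1 h
  haveI : Module.Flat A A' := hγ
  exact qAt_flat_baseChange A B A' B' s hφ

end QAt

section Scheme

/-- Good pairs for the structure sheaf in ring terms. -/
lemma good_unit_iff_qAt {X Y : Scheme.{u}} (f : X ⟶ Y) {U : X.Opens} {V : Y.Opens}
    (hU : IsAffineOpen U) (h : U ≤ f ⁻¹ᵁ V) (s : ℤ) :
    Good f s (DCoh.toD X (DerSch.unitCx X)) U V h ↔ QAt s (f.appLE V U h).hom := by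
  constructor
  · rintro ⟨n, φ, hφ, hPC⟩
    exact ⟨n, φ, hφ.1, fun r => RingHom.congr_fun hφ.2 r,
      (chartPC_unit_iff hU V φ hφ.1 s).1 hPC⟩
  · rintro ⟨n, δ, hδs, hδC, hδ⟩
    exact ⟨n, δ, ⟨hδs, RingHom.ext hδC⟩, (chartPC_unit_iff hU V δ hδs s).2 hδ⟩

/-- `n`-pseudo-coherent morphisms are stable under flat base change (= S6226). -/
theorem isNPseudoCoherent_flat_baseChange {X S X' S' : Scheme.{u}} (f : X ⟶ S) (f' : X' ⟶ S')
    (g' : X' ⟶ X) (g : S' ⟶ S) [Flat g] (hc : IsPullback g' f' f g) (n : ℤ)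
    (hf : DerSch.IsNPseudoCoherent f n) : DerSch.IsNPseudoCoherent f' n := by
  have hf' : LocallyOfFiniteType f' :=
    MorphismProperty.of_isPullback (P := @LocallyOfFiniteType) hc hf.1
  have hw : ∀ x' : X', f (g' x') = g (f' x') := by
    intro x'
    have := congr(($hc.w) x')
    simpa using this
  refine ⟨hf', {V' : S'.affineOpens | ∃ V : S.affineOpens,
    (V' : S'.Opens) ≤ g ⁻¹ᵁ (V : S.Opens)}, ?_, ?_⟩
  · apply le_antisymm le_top
    intro y _
    obtain ⟨V, hV, hyV, -⟩ :=
      exists_isAffineOpen_mem_and_subset (x := g.base y) (U := (⊤ : S.Opens)) trivial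
    obtain ⟨V', hV', hyV', hV'V⟩ :=
      exists_isAffineOpen_mem_and_subset (x := y) (U := g ⁻¹ᵁ V) hyV
    rw [TopologicalSpace.Opens.mem_iSup]
    refine ⟨⟨V', hV'⟩, ?_⟩
    rw [TopologicalSpace.Opens.mem_iSup]
    exact ⟨⟨⟨V, hV⟩, fun z hz => hV'V hz⟩, hyV'⟩
  · rintro V' ⟨V, hV'V⟩
    refine ⟨{U' : X'.affineOpens | ∃ U : X.affineOpens,
      (U : X.Opens) ≤ f ⁻¹ᵁ (V : S.Opens) ∧
        (U' : X'.Opens) = g' ⁻¹ᵁ (U : X.Opens) ⊓ f' ⁻¹ᵁ (V' : S'.Opens)}, ?_, ?_⟩
    · apply le_antisymm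
      · refine iSup₂_le (fun U' hU' => ?_)
        obtain ⟨U, -, hU'eq⟩ := hU'
        rw [hU'eq]
        exact inf_le_right
      · intro x' hx'
        have hx1 : g' x' ∈ f ⁻¹ᵁ (V : S.Opens) := by
          show f (g' x') ∈ (V : S.Opens)
          rw [hw]
          exact hV'V hx'
        obtain ⟨U, hU, hxU, hUV⟩ :=
          exists_isAffineOpen_mem_and_subset (x := g' x') (U := f ⁻¹ᵁ (V : S.Opens)) hx1
        have hUV' : U ≤ f ⁻¹ᵁ (V : S.Opens) := fun y hy => hUV hy
        have hU' : IsAffineOpen (g' ⁻¹ᵁ U ⊓ f' ⁻¹ᵁ (V' : S'.Opens)) := by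
          have : IsAffine _ := V.2
          have : IsAffine _ := V'.2
          have : IsAffine _ := hU
          exact .of_isIso (Scheme.Hom.isPullback_resLE hc hV'V hUV' rfl).isoPullback.hom
        rw [TopologicalSpace.Opens.mem_iSup]
        refine ⟨⟨_, hU'⟩, ?_⟩
        rw [TopologicalSpace.Opens.mem_iSup]
        exact ⟨⟨⟨U, hU⟩, hUV', rfl⟩, ⟨hxU, hx'⟩⟩
    · rintro U' ⟨U, hUV, hU'eq⟩ hle
      have hle0 : g' ⁻¹ᵁ (U : X.Opens) ⊓ f' ⁻¹ᵁ (V' : S'.Opens) ≤ f' ⁻¹ᵁ (V' : S'.Opens) :=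
        inf_le_right
      have hU'0 : IsAffineOpen (g' ⁻¹ᵁ (U : X.Opens) ⊓ f' ⁻¹ᵁ (V' : S'.Opens)) :=
        hU'eq ▸ U'.2
      have hpo := (isIso_pushoutSection_iff hc hV'V hUV rfl).1
        (isIso_pushoutSection_of_isAffineOpen hc hV'V hUV rfl V.2 V'.2 U.2)
      have hq : QAt n (f.appLE V U hUV).hom :=
        (good_unit_iff_qAt f U.2 hUV n).1 (good_of_isPseudoCoherentRel hf U.2 V.2 hUV)
      have hq' : QAt n (f'.appLE V' _ hle0).hom :=
        qAt_of_isPushout hpo (g.flat_appLE V.2 V'.2 hV'V) n hq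
      exact good_congr f' hU'eq.symm rfl hle0 hle ((good_unit_iff_qAt f' hU'0 hle0 n).2 hq')

end Scheme

end Groth.Agent.H90.Chart
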