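import Groth.Agent.H90.ChartGood

/-!
# Good pairs and localization of the base (helper90)

* `good_base_enlarge`: a good pair `(U, D(r))` with `D(r) ⊆ V` gives a good pair `(U, V)`.
* `good_base_basicOpen`: a good pair `(U, V)` with `f(U) ⊆ D(r)` gives a good pair `(U, D(r))`.
* `good_of_isPseudoCoherentRel`: if `E` is `m`-pseudo-coherent relative to `f`, every pair of affine
  opens is good (= S7208, hard direction).
-/

set_option autoImplicit false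
set_option linter.style.haveILetI false
set_option maxHeartbeats 400000
universe u
open CategoryTheory CategoryTheory.Limits AlgebraicGeometry TopologicalSpace Opposite
open AlgebraicGeometry.Scheme.Modules

attribute [local instance] HasDerivedCategory.standard

namespace Groth.Agent.H90.Chart

open Groth.Agent.H56

variable {X S : Scheme.{u}} {f : X ⟶ S} {U : X.Opens} {V : S.Opens}

/-- Enlarging the base: from `D(r)` to `V`. -/
theorem good_base_enlarge (hV : IsAffineOpen V) (r : Γ(S, V)) (hU' : U ≤ f ⁻¹ᵁ S.basicOpen r)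
    (h : U ≤ f ⁻¹ᵁ V) {m : ℤ} {E : DCoh.D X} (H : Good f m E U (S.basicOpen r) hU') :
    Good f m E U V h := by
  obtain ⟨n, φ, hφ, hPC⟩ := H
  haveI : IsLocalization.Away r Γ(S, S.basicOpen r) := hV.isLocalization_basicOpen r
  have hγ₀ := polyLike_base_away (R := Γ(S, V)) (R' := Γ(S, S.basicOpen r)) r n
  obtain ⟨k, ψ, hψs, hψC, hψT⟩ := exists_chart_of_polyLike _ hγ₀ φ hφ.1
  refine ⟨k, ψ, ⟨hψs, ?_⟩, fun G₀ hG₀ => (hψT m G₀).1 (hPC G₀ hG₀)⟩
  rw [hψC]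
  have h0 : φ.comp (MvPolynomial.C.comp (algebraMap Γ(S, V) Γ(S, S.basicOpen r))) =
      (φ.comp MvPolynomial.C).comp (algebraMap Γ(S, V) Γ(S, S.basicOpen r)) :=
    (RingHom.comp_assoc _ _ _).symm
  rw [h0, hφ.2]
  have h1 : S.presheaf.map (homOfLE (S.basicOpen_le r)).op ≫ f.appLE (S.basicOpen r) U hU' =
      f.appLE V U h := by
    rw [Scheme.Hom.map_appLE]
  exact congrArg (fun t => t.hom) h1

/-- Shrinking the base: from `V` to `D(r)`. -/
theorem good_base_basicOpen (hV : IsAffineOpen V) (r : Γ(S, V)) (hU' : U ≤ f ⁻¹ᵁ S.basicOpen r)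
    (h : U ≤ f ⁻¹ᵁ V) {m : ℤ} {E : DCoh.D X} (H : Good f m E U V h) :
    Good f m E U (S.basicOpen r) hU' := by
  obtain ⟨n, φ, hφ, hPC⟩ := H
  haveI : IsLocalization.Away r Γ(S, S.basicOpen r) := hV.isLocalization_basicOpen r
  have hγ₀ := polyLike_base_away (R := Γ(S, V)) (R' := Γ(S, S.basicOpen r)) r n
  have h1 : (f.appLE (S.basicOpen r) U hU').hom.comp
      (algebraMap Γ(S, V) Γ(S, S.basicOpen r)) = (f.appLE V U h).hom := by
    have h1' : S.presheaf.map (homOfLE (S.basicOpen_le r)).op ≫ f.appLE (S.basicOpen r) U hU' =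
        f.appLE V U h := by
      rw [Scheme.Hom.map_appLE]
    exact congrArg (fun t => t.hom) h1'
  -- the extended chart
  let ψ' : MvPolynomial (Fin n) Γ(S, S.basicOpen r) →+* Γ(X, U) :=
    MvPolynomial.eval₂Hom (f.appLE (S.basicOpen r) U hU').hom (fun i => φ (MvPolynomial.X i))
  have hψ'C : ψ'.comp MvPolynomial.C = (f.appLE (S.basicOpen r) U hU').hom := by
    refine RingHom.ext (fun t => ?_)
    simp [ψ']
  have hψ'φ : ψ'.comp (MvPolynomial.map (algebraMap Γ(S, V) Γ(S, S.basicOpen r))) = φ := by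
    apply MvPolynomial.ringHom_ext
    · intro t
      have h2 : φ (MvPolynomial.C t) = (f.appLE V U h).hom t := RingHom.congr_fun hφ.2 t
      have h3 := RingHom.congr_fun h1 t
      simp only [RingHom.comp_apply] at h3
      simp [ψ', h2, ← h3]
    · intro i
      simp [ψ']
  have hψ's : Function.Surjective ψ' := by
    intro a
    obtain ⟨p, rfl⟩ := hφ.1 a
    exact ⟨MvPolynomial.map (algebraMap Γ(S, V) Γ(S, S.basicOpen r)) p,
      RingHom.congr_fun hψ'φ p⟩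
  refine ⟨n, ψ', ⟨hψ's, hψ'C⟩, fun G₀ hG₀ => ?_⟩
  refine (test_iff_of_polyLike _ hγ₀ ψ' hψ's φ hφ.1 ?_ m G₀).2 (hPC G₀ hG₀)
  rw [hφ.2, ← RingHom.comp_assoc, hψ'C, h1]


/-- The local step of `good_of_isPseudoCoherentRel`. -/
theorem exists_good_basicOpen {m : ℤ} {E : DCoh.D X} (hU : IsAffineOpen U) (hV : IsAffineOpen V)
    (h : U ≤ f ⁻¹ᵁ V) (U₁ : X.Opens) (hU₁ : IsAffineOpen U₁) (V₁ : S.Opens)
    (hV₁ : IsAffineOpen V₁) (h₁ : U₁ ≤ f ⁻¹ᵁ V₁) (H : Good f m E U₁ V₁ h₁) (x : X) (hxU : x ∈ U)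
    (hxU₁ : x ∈ U₁) :
    ∃ g : Γ(X, U), x ∈ X.basicOpen g ∧
      Good f m E (X.basicOpen g) V ((X.basicOpen_le g).trans h) := by
  have hyV : f.base x ∈ V := h hxU
  have hyV₁ : f.base x ∈ V₁ := h₁ hxU₁
  obtain ⟨r, r', hrr', hyr⟩ := exists_basicOpen_le_affine_inter hV hV₁ (f.base x) ⟨hyV, hyV₁⟩
  obtain ⟨g₁, g₂, hgg, hxg⟩ := exists_basicOpen_le_affine_inter hU hU₁ x ⟨hxU, hxU₁⟩
  -- shrink into the preimage of `D(r)`
  let a : Γ(X, U) := (f.appLE V U h).hom r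
  let a' : Γ(X, U₁) := (f.appLE V₁ U₁ h₁).hom r'
  have ha : X.basicOpen a = U ⊓ f ⁻¹ᵁ (S.basicOpen r) := Scheme.basicOpen_appLE f U V h r
  have ha' : X.basicOpen a' = U₁ ⊓ f ⁻¹ᵁ (S.basicOpen r') := Scheme.basicOpen_appLE f U₁ V₁ h₁ r'
  have e1 : X.basicOpen (g₁ * a) = X.basicOpen g₁ ⊓ f ⁻¹ᵁ (S.basicOpen r) := by
    rw [Scheme.basicOpen_mul, ha, ← inf_assoc, inf_eq_left.mpr (X.basicOpen_le g₁)]
  have e2 : X.basicOpen (g₂ * a') = X.basicOpen g₂ ⊓ f ⁻¹ᵁ (S.basicOpen r') := by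
    rw [Scheme.basicOpen_mul, ha', ← inf_assoc, inf_eq_left.mpr (X.basicOpen_le g₂)]
  have e12 : X.basicOpen (g₂ * a') = X.basicOpen (g₁ * a) := by
    rw [e1, e2, hgg, hrr']
  have hle2 : X.basicOpen (g₂ * a') ≤ f ⁻¹ᵁ S.basicOpen r' := by
    rw [e2]
    exact inf_le_right
  have hle1 : X.basicOpen (g₁ * a) ≤ f ⁻¹ᵁ S.basicOpen r := by
    rw [e1]
    exact inf_le_right
  have hx1 : x ∈ X.basicOpen (g₁ * a) := by
    rw [e1]
    exact ⟨hxg, hyr⟩
  refine ⟨g₁ * a, hx1, ?_⟩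
  -- localize on the source
  have H1 : Good f m E (X.basicOpen (g₂ * a')) V₁ ((X.basicOpen_le _).trans h₁) :=
    good_basicOpen' hU₁ H (g₂ * a')
  -- shrink the base
  have H2 : Good f m E (X.basicOpen (g₂ * a')) (S.basicOpen r') hle2 :=
    good_base_basicOpen hV₁ r' hle2 _ H1
  -- transport
  have H3 : Good f m E (X.basicOpen (g₁ * a)) (S.basicOpen r) hle1 :=
    good_congr f e12 hrr'.symm _ _ H2
  -- enlarge the base
  exact good_base_enlarge hV r hle1 _ H3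

/-- If `E` is `m`-pseudo-coherent relative to `f`, every pair of affine opens is good. -/
theorem good_of_isPseudoCoherentRel {m : ℤ} {E : DCoh.D X}
    (hE : DerSch.IsPseudoCoherentRel f m E) (hU : IsAffineOpen U) (hV : IsAffineOpen V)
    (h : U ≤ f ⁻¹ᵁ V) : Good f m E U V h := by
  obtain ⟨hf, 𝒱, h𝒱, H⟩ := hE
  haveI := hf
  -- a chart for `(U, V)`
  have hft : (f.appLE V U h).hom.FiniteType :=
    HasRingHomProperty.appLE (P := @LocallyOfFiniteType) f hf ⟨V, hV⟩ ⟨U, hU⟩ h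
  letI : Algebra Γ(S, V) Γ(X, U) := (f.appLE V U h).hom.toAlgebra
  have hft' : Algebra.FiniteType Γ(S, V) Γ(X, U) := hft
  obtain ⟨n, α, hα⟩ := Algebra.FiniteType.iff_quotient_mvPolynomial''.1 hft'
  have hφ : DerSch.IsChart f U V h α.toRingHom := ⟨hα, RingHom.ext (fun r => α.commutes r)⟩
  -- the local step
  have key : ∀ x : U, ∃ g : Γ(X, U), x.1 ∈ X.basicOpen g ∧
      Good f m E (X.basicOpen g) V ((X.basicOpen_le g).trans h) := by
    intro x
    have hy : f.base x.1 ∈ (⨆ V' ∈ 𝒱, (V' : S.Opens)) := by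
      rw [h𝒱]
      trivial
    rw [Opens.mem_iSup] at hy
    obtain ⟨V₁, hy⟩ := hy
    rw [Opens.mem_iSup] at hy
    obtain ⟨hV₁, hyV₁⟩ := hy
    obtain ⟨𝒰, h𝒰, H'⟩ := H V₁ hV₁
    have hx' : x.1 ∈ (⨆ U' ∈ 𝒰, (U' : X.Opens)) := by
      rw [h𝒰]
      exact hyV₁
    rw [Opens.mem_iSup] at hx'
    obtain ⟨U₁, hx'⟩ := hx'
    rw [Opens.mem_iSup] at hx'
    obtain ⟨hU₁, hxU₁⟩ := hx'
    have hUV₁ : (U₁ : X.Opens) ≤ f ⁻¹ᵁ (V₁ : S.Opens) := by
      rw [← h𝒰]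
      exact le_iSup₂ (f := fun (U' : X.affineOpens) (_ : U' ∈ 𝒰) => (U' : X.Opens)) U₁ hU₁
    exact exists_good_basicOpen hU hV h U₁ U₁.2 V₁ V₁.2 hUV₁ (H' U₁ hU₁ hUV₁) x.1 x.2 hxU₁
  choose g hgx hgood using key
  have hspan : Ideal.span (Set.range g) = ⊤ := by
    rw [← hU.iSup_basicOpen_eq_self_iff]
    apply le_antisymm
    · exact iSup_le (fun s => X.basicOpen_le _)
    · intro x hx
      rw [Opens.mem_iSup]
      exact ⟨⟨g ⟨x, hx⟩, ⟨x, hx⟩, rfl⟩, hgx ⟨x, hx⟩⟩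
  exact ⟨n, α.toRingHom, hφ, chartPC_of_good_cover hU α.toRingHom hφ g hspan hgood⟩

end Groth.Agent.H90.Chart
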