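import Groth.Agent.H90.ChartRel

/-!
# Relative pseudo-coherence and open subschemes of the source (helper90)

* `chart_compat_iff`: the compatibility of a chart with `f` in terms of morphisms of schemes.
* `good_open_iff`: for `U₀ ⊆ U'` opens of `X`, the pair `(U'.ι⁻¹U₀, V)` is good for
  `(U'.ι ≫ f, E|_{U'})` iff `(U₀, V)` is good for `(f, E)`.
* `isPseudoCoherentRel_restrict` (= S6202), `isPseudoCoherentRel_of_openCover` (= S6203).
-/

set_option autoImplicit false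
set_option linter.style.haveILetI false
set_option maxHeartbeats 400000
universe u
open CategoryTheory CategoryTheory.Limits AlgebraicGeometry TopologicalSpace Opposite
open AlgebraicGeometry.Scheme.Modules

attribute [local instance] HasDerivedCategory.standard

namespace Groth.Agent.H90.Chart

open Groth.Agent.H56
open Groth.Agent.H90.SPerf Groth.Agent.H90.LR Groth.Agent.H90.QH Groth.Agent.H28.PCohD
open Groth.Agent.H90.CPC Groth.Agent.H90.TPC Groth.Agent.H90.TPerf Groth.Agent.H90.CPerf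

section Gamma

variable {Z : Scheme.{u}}

lemma eq_of_gammaMap_eq (R : CommRingCat.{u}) {i i' : Z ⟶ Spec (CommRingCat.of R)}
    (h : gammaMap R i = gammaMap R i') : i = i' := by
  apply ext_of_isAffine
  unfold gammaMap at h
  exact (Iso.cancel_iso_inv_left _ _ _).1 h

lemma gammaMap_comp_spec {R R' : CommRingCat.{u}} (ρ : R ⟶ R')
    (i : Z ⟶ Spec (CommRingCat.of R')) :
    gammaMap R (i ≫ Spec.map ρ) = ρ ≫ gammaMap R' i := by
  unfold gammaMap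
  rw [Scheme.Hom.comp_appTop, ← Category.assoc, ← Scheme.ΓSpecIso_inv_naturality,
    Category.assoc]
  rfl

lemma gammaMap_comp_toSpecΓ {Y : Scheme.{u}} (V : Y.Opens) (g : Z ⟶ (V : Scheme.{u})) :
    gammaMap Γ(Y, V) (g ≫ V.toSpecΓ) = V.topIso.inv ≫ g.appTop := by
  unfold gammaMap
  rw [Scheme.Hom.comp_appTop, Scheme.Opens.toSpecΓ_appTop_assoc, Iso.inv_hom_id_assoc]

/-- A closed immersion `U ⟶ Spec P` is `imm U θ` for a surjective `θ`. -/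
lemma exists_theta_of_mor {X : Scheme.{u}} (U : X.Opens) {P : Type u} [CommRing P]
    (F : (U : Scheme.{u}) ⟶ Spec (CommRingCat.of P)) [IsClosedImmersion F] :
    ∃ θ : P →+* Γ(X, U), Function.Surjective θ ∧ imm U θ = F :=
  ⟨thetaOf U F, thetaOf_surjective U F, imm_thetaOf U F⟩

end Gamma

section Compat

variable {X Y : Scheme.{u}} (f : X ⟶ Y) {U : X.Opens} {V : Y.Opens}

/-- Compatibility of a chart with `f`, in terms of morphisms of schemes. -/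
lemma chart_compat_iff (h : U ≤ f ⁻¹ᵁ V) {n : ℕ}
    (θ : MvPolynomial (Fin n) Γ(Y, V) →+* Γ(X, U)) :
    θ.comp MvPolynomial.C = (f.appLE V U h).hom ↔
      imm U θ ≫ Spec.map (CommRingCat.ofHom
        (MvPolynomial.C : Γ(Y, V) →+* MvPolynomial (Fin n) Γ(Y, V))) =
        f.resLE V U h ≫ V.toSpecΓ := by
  have h1 : gammaMap Γ(Y, V) (imm U θ ≫ Spec.map (CommRingCat.ofHom
      (MvPolynomial.C : Γ(Y, V) →+* MvPolynomial (Fin n) Γ(Y, V)))) =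
      CommRingCat.ofHom (θ.comp MvPolynomial.C) ≫ U.topIso.inv := by
    refine (gammaMap_comp_spec (CommRingCat.ofHom
      (MvPolynomial.C : Γ(Y, V) →+* MvPolynomial (Fin n) Γ(Y, V))) (imm U θ)).trans ?_
    rw [gammaMap_imm', ← Category.assoc]
    rfl
  have h2 : gammaMap Γ(Y, V) (f.resLE V U h ≫ V.toSpecΓ) = f.appLE V U h ≫ U.topIso.inv := by
    rw [gammaMap_comp_toSpecΓ]
    change V.topIso.inv ≫ (f.resLE V U h).app ⊤ = _
    rw [Scheme.Hom.resLE_app_top]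
    exact Iso.inv_hom_id_assoc _ _
  constructor
  · intro hc
    apply eq_of_gammaMap_eq
    rw [h1, h2, hc]
    rfl
  · intro hm
    have h3 : CommRingCat.ofHom (θ.comp MvPolynomial.C) ≫ U.topIso.inv =
        f.appLE V U h ≫ U.topIso.inv := by
      rw [← h1, ← h2, hm]
    have h4 := (cancel_mono _).1 h3
    exact congrArg (fun t => t.hom) h4

end Compat

section OpenTransport

variable {X Y : Scheme.{u}} (f : X ⟶ Y) (U' : X.Opens) {U₀ : X.Opens} (hle : U₀ ≤ U')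

/-- The isomorphism between `U₀` seen inside `U'` and `U₀`. -/
noncomputable abbrev kap :
    ((U'.ι ⁻¹ᵁ U₀ : (U' : Scheme.{u}).Opens) : Scheme.{u}) ≅ (U₀ : Scheme.{u}) :=
  kappa U' (U'.ι ⁻¹ᵁ U₀) U₀ (range_eq_of_le hle _ rfl)

lemma kap_inv_resLE {V : Y.Opens} (h : U'.ι ⁻¹ᵁ U₀ ≤ (U'.ι ≫ f) ⁻¹ᵁ V) (h₀ : U₀ ≤ f ⁻¹ᵁ V) :
    (kap U' hle).inv ≫ (U'.ι ≫ f).resLE V (U'.ι ⁻¹ᵁ U₀) h = f.resLE V U₀ h₀ := by
  rw [← cancel_mono V.ι, Category.assoc, Scheme.Hom.resLE_comp_ι, Scheme.Hom.resLE_comp_ι]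
  conv_rhs => rw [← kappa_inv_ι U' (U'.ι ⁻¹ᵁ U₀) U₀ (range_eq_of_le hle _ rfl)]
  simp only [Category.assoc]

/-- Transport of the chart test. -/
theorem test_open_iff {P : Type u} [CommRing P]
    (φ : P →+* Γ((U' : Scheme.{u}), U'.ι ⁻¹ᵁ U₀)) (θ : P →+* Γ(X, U₀))
    (hF : (kap U' hle).inv ≫ imm (U'.ι ⁻¹ᵁ U₀) φ = imm U₀ θ) (m : ℤ)
    (E : CochainComplex X.Modules ℤ) :
    Test m ((DCoh.restrictCx U').obj E) (U'.ι ⁻¹ᵁ U₀) φ ↔ Test m E U₀ θ := by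
  have e2 : (DerSch.pushCx (imm (U'.ι ⁻¹ᵁ U₀) φ)).obj
      ((DCoh.restrictCx (U'.ι ⁻¹ᵁ U₀)).obj ((DCoh.restrictCx U').obj E)) ≅
      (DerSch.pushCx (imm U₀ θ)).obj ((DCoh.restrictCx U₀).obj E) := by
    rw [← hF]
    exact (DerSch.pushCx (imm (U'.ι ⁻¹ᵁ U₀) φ)).mapIso
      (restrictRestrictCxIso U' (U'.ι ⁻¹ᵁ U₀) U₀ (range_eq_of_le hle _ rfl) E) ≪≫
      pushCxCompIso (kap U' hle).inv (imm (U'.ι ⁻¹ᵁ U₀) φ) _
  unfold Test
  exact ⟨isPC_of_iso (DerivedCategory.Q.mapIso e2),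
    isPC_of_iso (DerivedCategory.Q.mapIso e2).symm⟩

/-- Transport of the compatibility of charts. -/
theorem compat_open_iff {V : Y.Opens} (h : U'.ι ⁻¹ᵁ U₀ ≤ (U'.ι ≫ f) ⁻¹ᵁ V)
    (h₀ : U₀ ≤ f ⁻¹ᵁ V) {n : ℕ}
    (φ : MvPolynomial (Fin n) Γ(Y, V) →+* Γ((U' : Scheme.{u}), U'.ι ⁻¹ᵁ U₀))
    (θ : MvPolynomial (Fin n) Γ(Y, V) →+* Γ(X, U₀))
    (hF : (kap U' hle).inv ≫ imm (U'.ι ⁻¹ᵁ U₀) φ = imm U₀ θ) :
    φ.comp MvPolynomial.C = ((U'.ι ≫ f).appLE V (U'.ι ⁻¹ᵁ U₀) h).hom ↔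
      θ.comp MvPolynomial.C = (f.appLE V U₀ h₀).hom := by
  rw [chart_compat_iff (U'.ι ≫ f) h φ, chart_compat_iff f h₀ θ, ← hF,
    ← kap_inv_resLE f U' hle h h₀, Category.assoc, Category.assoc]
  exact (Iso.cancel_iso_inv_left _ _ _).symm

/-- Good pairs on an open subscheme of the source. -/
theorem good_open_iff (hle : U₀ ≤ U') (hU₀ : IsAffineOpen U₀) {V : Y.Opens}
    (h : U'.ι ⁻¹ᵁ U₀ ≤ (U'.ι ≫ f) ⁻¹ᵁ V) (h₀ : U₀ ≤ f ⁻¹ᵁ V) (m : ℤ)
    (E : CochainComplex X.Modules ℤ) :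
    Good (U'.ι ≫ f) m (DCoh.toD (U' : Scheme.{u}) ((DCoh.restrictCx U').obj E))
      (U'.ι ⁻¹ᵁ U₀) V h ↔ Good f m (DCoh.toD X E) U₀ V h₀ := by
  have hW : IsAffineOpen (U'.ι ⁻¹ᵁ U₀) :=
    hU₀.preimage_of_isOpenImmersion U'.ι (by rw [Scheme.Opens.opensRange_ι]; exact hle)
  constructor
  · rintro ⟨n, φ, hφ, hPC⟩
    haveI := isClosedImmersion_imm hW φ hφ.1
    obtain ⟨θ, hθs, hθF⟩ :=
      exists_theta_of_mor U₀ ((kap U' hle).inv ≫ imm (U'.ι ⁻¹ᵁ U₀) φ)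
    refine ⟨n, θ, ⟨hθs, (compat_open_iff f U' hle h h₀ φ θ hθF.symm).1 hφ.2⟩, ?_⟩
    refine (forall_rep_iff hU₀ θ hθs m _ E (Iso.refl _)).2 ?_
    exact (test_open_iff U' hle φ θ hθF.symm m E).1
      (hPC ((DCoh.restrictCx U').obj E) ⟨Iso.refl _⟩)
  · rintro ⟨n, θ, hθ, hPC⟩
    haveI := isClosedImmersion_imm hU₀ θ hθ.1
    obtain ⟨φ, hφs, hφF⟩ :=
      exists_theta_of_mor (U'.ι ⁻¹ᵁ U₀) ((kap U' hle).hom ≫ imm U₀ θ)
    have hF : (kap U' hle).inv ≫ imm (U'.ι ⁻¹ᵁ U₀) φ = imm U₀ θ := by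
      rw [hφF]
      exact Iso.inv_hom_id_assoc _ _
    refine ⟨n, φ, ⟨hφs, (compat_open_iff f U' hle h h₀ φ θ hF).2 hθ.2⟩, ?_⟩
    refine (forall_rep_iff hW φ hφs m _ ((DCoh.restrictCx U').obj E) (Iso.refl _)).2 ?_
    exact (test_open_iff U' hle φ θ hF m E).2 (hPC E ⟨Iso.refl _⟩)

end OpenTransport

section Main

variable {X Y : Scheme.{u}} (f : X ⟶ Y)

/-- Relative pseudo-coherence restricts to opens of the source (= S6202). -/
theorem isPseudoCoherentRel_restrict (n : ℤ) (E : CochainComplex X.Modules ℤ)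
    (hE : DerSch.IsPseudoCoherentRel f n (DCoh.toD X E)) (U : X.Opens) :
    DerSch.IsPseudoCoherentRel (U.ι ≫ f) n
      (DCoh.toD (U : Scheme.{u}) ((DCoh.restrictCx U).obj E)) := by
  have hf : LocallyOfFiniteType f := hE.1
  have hUf : LocallyOfFiniteType (U.ι ≫ f) := by
    haveI := hf
    infer_instance
  refine isPseudoCoherentRel_of_forall_good hUf (fun W V h => ?_)
  have hW₀ : IsAffineOpen (U.ι ''ᵁ (W : (U : Scheme.{u}).Opens)) :=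
    W.2.image_of_isOpenImmersion U.ι
  have hle : U.ι ''ᵁ (W : (U : Scheme.{u}).Opens) ≤ U := U.ι_image_le _
  have hWeq : U.ι ⁻¹ᵁ (U.ι ''ᵁ (W : (U : Scheme.{u}).Opens)) = (W : (U : Scheme.{u}).Opens) :=
    U.ι.preimage_image_eq _
  have h₀ : U.ι ''ᵁ (W : (U : Scheme.{u}).Opens) ≤ f ⁻¹ᵁ (V : Y.Opens) := by
    rintro _ ⟨y, hy, rfl⟩
    exact h hy
  have h' : U.ι ⁻¹ᵁ (U.ι ''ᵁ (W : (U : Scheme.{u}).Opens)) ≤ (U.ι ≫ f) ⁻¹ᵁ (V : Y.Opens) := by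
    rw [hWeq]
    exact h
  have H := (good_open_iff f U hle hW₀ h' h₀ n E).2
    (good_of_isPseudoCoherentRel hE hW₀ V.2 h₀)
  exact good_congr (U.ι ≫ f) hWeq rfl h' h H

/-- Relative pseudo-coherence is local on the source (= S6203). -/
theorem isPseudoCoherentRel_of_openCover (hf : LocallyOfFiniteType f) (n : ℤ)
    (E : CochainComplex X.Modules ℤ) {ι : Type u} (U : ι → X.Opens) (hU : ⨆ i, U i = ⊤)
    (h : ∀ i : ι, DerSch.IsPseudoCoherentRel ((U i).ι ≫ f) n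
      (DCoh.toD (U i : Scheme.{u}) ((DCoh.restrictCx (U i)).obj E))) :
    DerSch.IsPseudoCoherentRel f n (DCoh.toD X E) := by
  refine ⟨hf, Set.univ, ?_, ?_⟩
  · simp only [Set.mem_univ, iSup_pos]
    exact iSup_affineOpens_eq_top Y
  · intro V _
    refine ⟨{U₀ : X.affineOpens | (U₀ : X.Opens) ≤ f ⁻¹ᵁ (V : Y.Opens) ∧
      ∃ i, (U₀ : X.Opens) ≤ U i}, ?_, ?_⟩
    · apply le_antisymm
      · exact iSup₂_le (fun U₀ hU₀ => hU₀.1)
      · intro x hx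
        have hx' : x ∈ (⨆ i, U i) := by
          rw [hU]
          trivial
        rw [TopologicalSpace.Opens.mem_iSup] at hx'
        obtain ⟨i, hxi⟩ := hx'
        obtain ⟨W, hW, hxW, hWV⟩ := exists_isAffineOpen_mem_and_subset (x := x)
          (U := f ⁻¹ᵁ (V : Y.Opens) ⊓ U i) ⟨hx, hxi⟩
        rw [TopologicalSpace.Opens.mem_iSup]
        refine ⟨⟨W, hW⟩, ?_⟩
        rw [TopologicalSpace.Opens.mem_iSup]
        exact ⟨⟨fun y hy => (hWV hy).1, i, fun y hy => (hWV hy).2⟩, hxW⟩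
    · rintro U₀ ⟨-, i, hle⟩ h₀
      have h' : (U i).ι ⁻¹ᵁ (U₀ : X.Opens) ≤ ((U i).ι ≫ f) ⁻¹ᵁ (V : Y.Opens) :=
        fun y hy => h₀ hy
      have hW : IsAffineOpen ((U i).ι ⁻¹ᵁ (U₀ : X.Opens)) :=
        U₀.2.preimage_of_isOpenImmersion (U i).ι
          (by rw [Scheme.Opens.opensRange_ι]; exact hle)
      exact (good_open_iff f (U i) hle U₀.2 h' h₀ n E).1
        (good_of_isPseudoCoherentRel (h i) hW V.2 h')

end Main

end Groth.Agent.H90.Chart
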