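import Groth.Agent.H90.ChartFlat
import Groth.Agent.H90.ChartOpen

/-!
# Relative pseudo-coherence with respect to a closed immersion (helper90)

* `imm_appLE`: `imm U (f.appLE V U h) = f.resLE V U h ≫ V.toSpecΓ`.
* `test_appLE_iff`: the test along `Γ(P, V) → Γ(X, U)` is the absolute test for
  `(f|_U)_* (F|_U)` on `V`.
* `good_closedImm_iff`, `isPseudoCoherentRel_closedImm_iff`: for a closed immersion `i`,
  `F` is `m`-pseudo-coherent relative to `i` iff `i_* F` is `m`-pseudo-coherent.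
* `isPseudoCoherentRel_closedImm_comp_iff` (= S7211 first part, S6201).
-/

set_option autoImplicit false
set_option linter.style.haveILetI false
set_option maxHeartbeats 400000
universe u
open CategoryTheory CategoryTheory.Limits AlgebraicGeometry TopologicalSpace Opposite
open AlgebraicGeometry.Scheme.Modules

attribute [local instance] HasDerivedCategory.standard

namespace Groth.Agent.H90.Chart

open Groth.Agent.H56
open Groth.Agent.H90.SPerf Groth.Agent.H90.LR Groth.Agent.H90.QH Groth.Agent.H28.PCohD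
open Groth.Agent.H90.CPC Groth.Agent.H90.TPC Groth.Agent.H90.TPerf Groth.Agent.H90.CPerf

section General

variable {X P : Scheme.{u}}

lemma imm_id (V : P.Opens) : imm V (RingHom.id Γ(P, V)) = V.toSpecΓ := by
  unfold imm
  have h : CommRingCat.ofHom (RingHom.id Γ(P, V)) = 𝟙 _ := rfl
  rw [h, Spec.map_id]
  exact Category.comp_id _

lemma imm_appLE (f : X ⟶ P) {U : X.Opens} {V : P.Opens} (h : U ≤ f ⁻¹ᵁ V) :
    imm U (f.appLE V U h).hom = f.resLE V U h ≫ imm V (RingHom.id Γ(P, V)) := by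
  rw [imm_id]
  apply eq_of_gammaMap_eq Γ(P, V)
  have h1 : gammaMap Γ(P, V) (imm U (f.appLE V U h).hom) = f.appLE V U h ≫ U.topIso.inv :=
    gammaMap_imm' U (f.appLE V U h).hom
  have h2 : gammaMap Γ(P, V) (f.resLE V U h ≫ V.toSpecΓ) = f.appLE V U h ≫ U.topIso.inv := by
    rw [gammaMap_comp_toSpecΓ]
    change V.topIso.inv ≫ (f.resLE V U h).app ⊤ = _
    rw [Scheme.Hom.resLE_app_top]
    exact Iso.inv_hom_id_assoc _ _
  rw [h1, h2]

/-- The test along `Γ(P, V) → Γ(X, U)` is the absolute test on `V`. -/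
theorem test_appLE_iff (f : X ⟶ P) {U : X.Opens} {V : P.Opens} (hV : IsAffineOpen V)
    (h : U ≤ f ⁻¹ᵁ V) (m : ℤ) (F : CochainComplex X.Modules ℤ) :
    Test m F U (f.appLE V U h).hom ↔
      DCoh.IsPseudoCoherentD m (DerivedCategory.Q.obj
        ((DerSch.pushCx (f.resLE V U h)).obj ((DCoh.restrictCx U).obj F))) := by
  haveI := isClosedImmersion_imm hV (RingHom.id Γ(P, V)) Function.surjective_id
  have hO : ∀ k : ℤ, DCoh.IsPseudoCoherentD k (DCoh.inD (Spec (CommRingCat.of Γ(P, V)))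
      ((pushforward (imm V (RingHom.id Γ(P, V)))).obj
        (Coh.structureModule (V : Scheme.{u})))) :=
    fun k => (isPC_push_imm_iff hV (RingHom.id Γ(P, V)) Function.surjective_id k).2
      (pcHom_of_bijective _ Function.bijective_id k)
  unfold Test
  rw [imm_appLE f h]
  refine Iff.trans ?_ (isPC_Q_pushCx_iff (imm V (RingHom.id Γ(P, V))) hO _ m).symm
  exact ⟨isPC_of_iso (DerivedCategory.Q.mapIso (pushCxCompIso _ _ _)).symm,
    isPC_of_iso (DerivedCategory.Q.mapIso (pushCxCompIso _ _ _))⟩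

end General

section Closed

variable {X P : Scheme.{u}} (i : X ⟶ P) [IsClosedImmersion i]

lemma polyLike_id (A : Type u) [CommRing A] : PolyLike (RingHom.id A) :=
  ⟨0, ((MvPolynomial.isEmptyAlgEquiv A (Fin 0) : MvPolynomial (Fin 0) A ≃ₐ[A] A) :
      MvPolynomial (Fin 0) A →+* A),
    (MvPolynomial.isEmptyAlgEquiv A (Fin 0)).surjective,
    pcHom_of_bijective _ (MvPolynomial.isEmptyAlgEquiv A (Fin 0)).bijective,
    RingHom.ext (fun r => (MvPolynomial.isEmptyAlgEquiv A (Fin 0)).commutes r)⟩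

/-- For a closed immersion, the pair `(i⁻¹V, V)` is good iff `(i_* F)|_V` is pseudo-coherent. -/
theorem good_closedImm_iff {V : P.Opens} (hV : IsAffineOpen V) (m : ℤ)
    (F : CochainComplex X.Modules ℤ) :
    Good i m (DCoh.toD X F) (i ⁻¹ᵁ V) V le_rfl ↔
      DCoh.IsPseudoCoherentD m (DerivedCategory.Q.obj
        ((DCoh.restrictCx V).obj ((DerSch.pushCx i).obj F))) := by
  have hU : IsAffineOpen (i ⁻¹ᵁ V) := hV.preimage i
  have hθ : Function.Surjective (i.appLE V (i ⁻¹ᵁ V) le_rfl).hom := by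
    rw [← Scheme.Hom.app_eq_appLE]
    exact i.app_surjective V hV
  have hγ := polyLike_id Γ(P, V)
  have e1 : DerivedCategory.Q.obj ((DCoh.restrictCx V).obj ((DerSch.pushCx i).obj F)) ≅
      DerivedCategory.Q.obj ((DerSch.pushCx (i.resLE V (i ⁻¹ᵁ V) le_rfl)).obj
        ((DCoh.restrictCx (i ⁻¹ᵁ V)).obj F)) := by
    rw [Scheme.Hom.resLE_eq_morphismRestrict]
    exact DerivedCategory.Q.mapIso (pushRestrictCxIso i V F)
  have key : Test m F (i ⁻¹ᵁ V) (i.appLE V (i ⁻¹ᵁ V) le_rfl).hom ↔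
      DCoh.IsPseudoCoherentD m (DerivedCategory.Q.obj
        ((DCoh.restrictCx V).obj ((DerSch.pushCx i).obj F))) :=
    (test_appLE_iff i hV le_rfl m F).trans ⟨isPC_of_iso e1.symm, isPC_of_iso e1⟩
  rw [← key]
  constructor
  · rintro ⟨n, φ, hφ, hPC⟩
    exact (test_iff_of_polyLike (RingHom.id Γ(P, V)) hγ _ hθ φ hφ.1
      (by rw [hφ.2, RingHom.comp_id]) m F).2 (hPC F ⟨Iso.refl _⟩)
  · intro hT
    obtain ⟨n, φ, hφ⟩ := exists_isChart (inferInstance : LocallyOfFiniteType i) hU hV le_rfl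
    refine ⟨n, φ, hφ, ?_⟩
    refine (forall_rep_iff hU φ hφ.1 m _ F (Iso.refl _)).2 ?_
    exact (test_iff_of_polyLike (RingHom.id Γ(P, V)) hγ _ hθ φ hφ.1
      (by rw [hφ.2, RingHom.comp_id]) m F).1 hT

/-- For a closed immersion `i`, relative pseudo-coherence of `F` with respect to `i` is
pseudo-coherence of `i_* F`. -/
theorem isPseudoCoherentRel_closedImm_iff (m : ℤ) (F : CochainComplex X.Modules ℤ) :
    DerSch.IsPseudoCoherentRel i m (DCoh.toD X F) ↔
      DCoh.IsPseudoCoherentD m (DCoh.toD P ((DerSch.pushCx i).obj F)) := by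
  constructor
  · intro hE
    rw [isPC_iff]
    intro y
    obtain ⟨V, hV, hyV, -⟩ :=
      exists_isAffineOpen_mem_and_subset (x := y) (U := (⊤ : P.Opens)) trivial
    have hU : IsAffineOpen (i ⁻¹ᵁ V) := hV.preimage i
    have h1 := (good_closedImm_iff i hV m F).1
      (good_of_isPseudoCoherentRel hE hU hV le_rfl)
    rw [isPC_iff] at h1
    exact (locPC_Q_restrictCx_iff V _ m ⟨y, hyV⟩).1 (h1 ⟨y, hyV⟩)
  · intro hPC
    refine ⟨inferInstance, Set.univ, ?_, ?_⟩
    · simp only [Set.mem_univ, iSup_pos]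
      exact iSup_affineOpens_eq_top P
    · intro V _
      refine ⟨{⟨i ⁻¹ᵁ (V : P.Opens), V.2.preimage i⟩}, ?_, ?_⟩
      · exact iSup_singleton
      · rintro U (rfl : U = _) h
        exact (good_closedImm_iff i V.2 m F).2 (isPC_restrictCx (V : P.Opens) _ m hPC)

/-- Closed immersion followed by a flat morphism locally of finite presentation
(= S7211 first part, S6201). -/
theorem isPseudoCoherentRel_closedImm_comp_iff {S : Scheme.{u}} (g : P ⟶ S) [Flat g]
    [LocallyOfFinitePresentation g] (m : ℤ) (F : CochainComplex X.Modules ℤ) :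
    DerSch.IsPseudoCoherentRel (i ≫ g) m (DCoh.toD X F) ↔
      DCoh.IsPseudoCoherentD m (DCoh.toD P ((DerSch.pushCx i).obj F)) :=
  (isPseudoCoherentRel_comp_flat_iff g i m _).trans (isPseudoCoherentRel_closedImm_iff i m F)

end Closed

end Groth.Agent.H90.Chart
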