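import Groth.Agent.H90.ChartRel
import Groth.Agent.H56.StupidInd

/-!
# Relative pseudo-coherence: isomorphisms, shifts, vanishing, termwise criterion (helper90)

* `chartPC_of_iso`, `rel_of_iso`: invariance under isomorphisms.
* `isPC_of_isZero_homology`, `chartPC_of_isZero_homology`, `rel_of_isZero_homology`:
  objects of `D^{<m}` are `m`-pseudo-coherent.
* `isPC_shift`, `chartPC_shift`, `rel_shift`, `rel_single`: shifts.
* `rel_Q_of_termwise` (= S7215): a bounded above complex whose terms `F^i` are
  `(m - i)`-pseudo-coherent relative to `f` is `m`-pseudo-coherent relative to `f`.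
-/

set_option autoImplicit false
set_option linter.style.haveILetI false
set_option maxHeartbeats 400000
universe u
open CategoryTheory CategoryTheory.Limits AlgebraicGeometry TopologicalSpace Opposite
open AlgebraicGeometry.Scheme.Modules

attribute [local instance] HasDerivedCategory.standard

namespace Groth.Agent.H90.Chart

open Groth.Agent.H56
open Groth.Agent.H90.SPerf Groth.Agent.H90.LR Groth.Agent.H90.QH Groth.Agent.H28.PCohD
open Groth.Agent.H90.CPC Groth.Agent.H90.TPC Groth.Agent.H90.TPerf Groth.Agent.H90.CPerf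

section Abs

variable {W : Scheme.{u}}

lemma isPC_of_isZero_homology (L : DCoh.D W) (m : ℤ)
    (h : ∀ j : ℤ, m ≤ j → IsZero (DCoh.HD L j)) : DCoh.IsPseudoCoherentD m L := by
  rw [isPC_iff]
  intro x
  refine locPC_of_bounded (V := ⊤) trivial m (fun j hj => ?_)
  have e1 : (DerivedCategory.homologyFunctor _ j).obj
      ((DCoh.restrictD (⊤ : W.Opens).ι).obj L) ≅
      (restrictFunctor (⊤ : W.Opens).ι).obj (DCoh.HD L j) :=
    (homologyCommIso (restrictFunctor (⊤ : W.Opens).ι) j).app _
  exact IsZero.of_iso (Functor.map_isZero _ (h j hj)) e1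

lemma isPC_shift {L : DCoh.D W} {m : ℤ} (k : ℤ) (h : DCoh.IsPseudoCoherentD m L) :
    DCoh.IsPseudoCoherentD (m - k) (L⟦k⟧) := by
  rw [isPC_iff] at h ⊢
  exact fun x => locPC_shift k (h x)

end Abs

section Rel

variable {X S : Scheme.{u}} {f : X ⟶ S}

lemma chartPC_of_iso {m : ℤ} {K K' : DCoh.D X} (e : K ≅ K') {U : X.Opens} {V : S.Opens}
    {n : ℕ} {φ : MvPolynomial (Fin n) Γ(S, V) →+* Γ(X, U)}
    (h : DerSch.ChartPC m K U V φ) : DerSch.ChartPC m K' U V φ := by
  rintro G ⟨e'⟩
  exact h G ⟨e' ≪≫ e.symm⟩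

theorem rel_of_iso {m : ℤ} {K K' : DCoh.D X} (e : K ≅ K')
    (h : DerSch.IsPseudoCoherentRel f m K) : DerSch.IsPseudoCoherentRel f m K' :=
  rel_of_one h (fun _ _ _ _ _ _ a => chartPC_of_iso e a)

theorem chartPC_of_isZero_homology {U : X.Opens} (hU : IsAffineOpen U) (V : S.Opens) {n : ℕ}
    (φ : MvPolynomial (Fin n) Γ(S, V) →+* Γ(X, U)) (hφ : Function.Surjective φ) (m : ℤ)
    (E : DCoh.D X) (h : ∀ j : ℤ, m ≤ j → IsZero (DCoh.HD E j)) :
    DerSch.ChartPC m E U V φ := by
  haveI := isClosedImmersion_imm hU φ hφ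
  refine (chartPC_iff_chartD hU φ hφ m E).2 (isPC_of_isZero_homology _ m (fun j hj => ?_))
  have e1 : DCoh.HD ((pushforward (imm U φ)).mapDerivedCategory.obj
      ((restrictFunctor U.ι).mapDerivedCategory.obj E)) j ≅
      (pushforward (imm U φ)).obj
        (DCoh.HD ((restrictFunctor U.ι).mapDerivedCategory.obj E) j) :=
    (homologyCommIso (pushforward (imm U φ)) j).app
      ((restrictFunctor U.ι).mapDerivedCategory.obj E)
  have e2 : DCoh.HD ((restrictFunctor U.ι).mapDerivedCategory.obj E) j ≅
      (restrictFunctor U.ι).obj (DCoh.HD E j) :=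
    (homologyCommIso (restrictFunctor U.ι) j).app E
  have z2 : IsZero (DCoh.HD ((restrictFunctor U.ι).mapDerivedCategory.obj E) j) :=
    IsZero.of_iso (Functor.map_isZero (restrictFunctor U.ι) (h j hj)) e2
  exact IsZero.of_iso (Functor.map_isZero (pushforward (imm U φ)) z2) e1

theorem rel_of_isZero_homology (hf : LocallyOfFiniteType f) (m : ℤ) (E : DCoh.D X)
    (h : ∀ j : ℤ, m ≤ j → IsZero (DCoh.HD E j)) : DerSch.IsPseudoCoherentRel f m E := by
  refine isPseudoCoherentRel_of_forall_good hf (fun U V hUV => ?_)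
  obtain ⟨n, φ, hφ⟩ := exists_isChart hf U.2 V.2 hUV
  exact ⟨n, φ, hφ, chartPC_of_isZero_homology U.2 _ φ hφ.1 m E h⟩

theorem chartPC_shift {U : X.Opens} (hU : IsAffineOpen U) (V : S.Opens) {n : ℕ}
    (φ : MvPolynomial (Fin n) Γ(S, V) →+* Γ(X, U)) (hφ : Function.Surjective φ) (m k : ℤ)
    (E : DCoh.D X) (h : DerSch.ChartPC m E U V φ) : DerSch.ChartPC (m - k) (E⟦k⟧) U V φ := by
  haveI := isClosedImmersion_imm hU φ hφ
  have h' := (chartPC_iff_chartD hU φ hφ m E).1 h
  refine (chartPC_iff_chartD hU φ hφ (m - k) (E⟦k⟧)).2 ?_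
  have e : (pushforward (imm U φ)).mapDerivedCategory.obj
      ((restrictFunctor U.ι).mapDerivedCategory.obj (E⟦k⟧)) ≅
      ((pushforward (imm U φ)).mapDerivedCategory.obj
        ((restrictFunctor U.ι).mapDerivedCategory.obj E))⟦k⟧ :=
    (pushforward (imm U φ)).mapDerivedCategory.mapIso
      (((restrictFunctor U.ι).mapDerivedCategory.commShiftIso k).app E) ≪≫
      ((pushforward (imm U φ)).mapDerivedCategory.commShiftIso k).app _
  exact isPC_of_iso e.symm (isPC_shift k h')

theorem rel_shift {m : ℤ} (k : ℤ) {E : DCoh.D X} (h : DerSch.IsPseudoCoherentRel f m E) :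
    DerSch.IsPseudoCoherentRel f (m - k) (E⟦k⟧) :=
  rel_of_one h (fun _ V hU _ φ hφ a => chartPC_shift hU V φ hφ m k E a)

theorem rel_single {m i : ℤ} {M : X.Modules}
    (h : DerSch.IsPseudoCoherentRel f (m - i) (DCoh.inD X M)) :
    DerSch.IsPseudoCoherentRel f m ((DerivedCategory.singleFunctor X.Modules i).obj M) := by
  have h1 := rel_shift (-i) h
  have hm : m - i - (-i) = m := by ring
  rw [hm] at h1
  exact rel_of_iso (((DerivedCategory.singleFunctors X.Modules).shiftIso (-i) i 0
    (by omega)).app M) h1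

open DerivedCategory in
/-- Termwise criterion (= S7215). -/
theorem rel_Q_of_termwise (hf : LocallyOfFiniteType f) (m : ℤ) :
    ∀ (n : ℕ) (E : CochainComplex X.Modules ℤ) (b : ℤ), b < m + n →
      (∀ i, b < i → IsZero (E.X i)) →
      (∀ i, DerSch.IsPseudoCoherentRel f m
        ((DerivedCategory.singleFunctor X.Modules i).obj (E.X i))) →
      DerSch.IsPseudoCoherentRel f m (DerivedCategory.Q.obj E) := by
  intro n
  induction n with
  | zero =>
    intro E b hb hvan _
    refine rel_of_isZero_homology hf m _ (fun j hj => ?_)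
    have e2 : DCoh.HD (DerivedCategory.Q.obj E) j ≅ E.homology j :=
      (DerivedCategory.homologyFunctorFactors _ j).app E
    refine IsZero.of_iso ?_ e2
    exact ShortComplex.isZero_homology_of_isZero_X₂ _
      (hvan j (by simp only [Nat.cast_zero, add_zero] at hb; omega))
  | succ n ih =>
    intro E b hb hvan hterm
    obtain ⟨E', g, p, w, hT, hb', hiso⟩ :=
      Groth.Agent.H56.exists_top_cell_ses E b (hvan (b + 1) (by omega))
    have hdist := triangleOfSES_distinguished hT
    have h1 : DerSch.IsPseudoCoherentRel f m (triangleOfSES hT).obj₁ := hterm b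
    have h3 : DerSch.IsPseudoCoherentRel f m (triangleOfSES hT).obj₃ := by
      apply ih E' (b - 1) (by push_cast at hb ⊢; omega)
      · intro i hi
        by_cases hib : i = b
        · subst hib
          exact hb'
        · obtain ⟨e⟩ := hiso i hib
          exact (hvan i (by omega)).of_iso e.symm
      · intro i
        by_cases hib : i = b
        · subst hib
          exact rel_of_isZero_homology hf m _
            (fun j _ => Functor.map_isZero _ (Functor.map_isZero _ hb'))
        · obtain ⟨e⟩ := hiso i hib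
          exact rel_of_iso ((DerivedCategory.singleFunctor X.Modules i).mapIso e) (hterm i)
    exact (isPseudoCoherentRel_triangle f m _ hdist).2.1 h1 h3

/-- Termwise criterion, statement form of S7215. -/
theorem rel_toD_of_termwise (m : ℤ) (F : CochainComplex X.Modules ℤ) (b : ℤ)
    (hb : ∀ i : ℤ, b < i → IsZero (F.X i))
    (h : ∀ i : ℤ, DerSch.IsPseudoCoherentRel f (m - i) (DCoh.inD X (F.X i))) :
    DerSch.IsPseudoCoherentRel f m (DCoh.toD X F) := by
  have hn := Int.self_le_toNat (b - m + 1)
  exact rel_Q_of_termwise (h 0).1 m (b - m + 1).toNat F b (by omega) hb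
    (fun i => rel_single (h i))

end Rel

end Groth.Agent.H90.Chart
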