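import Groth.Agent.H90.ChartBC
import Groth.Agent.H56.PcMor4
import Groth.Agent.H35.PCDescent

/-!
# fpqc descent of `n`-pseudo-coherent morphisms (helper90)

* `pcHomAt_iff_rel`, `qAt_iff_pcHomAt`: levelwise independence of the chart (ring level).
* `pcHomAt_of_isPO_family`: descent of `PcHomAt` along a finite jointly faithfully flat family
  (on top of helper35's `isPseudoCoherent_toD_of_forall_ext`).
* `FamHyp`: the two ring-level inputs (`JointlyReflects`, `FiniteDescends`) for finite flat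
  families that are jointly surjective on spectra, after adjoining variables.
* `qAt_of_family`, `qAt_of_isPushout_family`: descent of `QAt`.
* `isNPseudoCoherent_of_flat_surjective_baseChange` (= S6227, given `FamHyp`).
-/

set_option autoImplicit false
set_option linter.style.haveILetI false
set_option maxHeartbeats 400000
universe u
open CategoryTheory CategoryTheory.Limits AlgebraicGeometry TopologicalSpace Opposite

attribute [local instance] HasDerivedCategory.standard

namespace Groth.Agent.H90.Chart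

open Groth.Agent.H56 Groth.Agent.H56.PcMor Groth.Agent.H56.FlatPc DRing DerivedCategory

section Ring

/-- Levelwise: pseudo-coherence of a chart is relative pseudo-coherence of the target. -/
lemma pcHomAt_iff_rel {R B : Type u} [CommRing R] [CommRing B] [Algebra R B] {n : ℕ}
    (δ : MvPolynomial (Fin n) R →+* B) (hδs : Function.Surjective δ)
    (hδC : ∀ r, δ (MvPolynomial.C r) = algebraMap R B r) (s : ℤ) :
    PcHomAt s δ ↔ DerCA.IsRelPseudoCoherent R B s
      ((singleFunctor (ModuleCat.{u} B) 0).obj (ModuleCat.of B B)) := by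
  have h1 := isRelPseudoCoherent_iff_of_ringHom δ hδs hδC
    ((singleFunctor (ModuleCat.{u} B) 0).obj (ModuleCat.of B B)) s
  have h2 := isPseudoCoherent_restrictD_single_iff δ (ModuleCat.of B B) s
  exact (h1.trans h2).symm

/-- `QAt` may be tested on any chart. -/
lemma qAt_iff_pcHomAt {R S : Type u} [CommRing R] [CommRing S] (f : R →+* S) {n : ℕ}
    (δ : MvPolynomial (Fin n) R →+* S) (hδs : Function.Surjective δ)
    (hδC : ∀ r, δ (MvPolynomial.C r) = f r) (s : ℤ) : QAt s f ↔ PcHomAt s δ := by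
  letI : Algebra R S := f.toAlgebra
  constructor
  · rintro ⟨k, δ₀, h₀s, h₀C, h₀⟩
    exact (pcHomAt_iff_rel δ hδs hδC s).2 ((pcHomAt_iff_rel δ₀ h₀s h₀C s).1 h₀)
  · intro h
    exact ⟨n, δ, hδs, hδC, h⟩

section Family

variable {P A : Type u} [CommRing P] [CommRing A] {α : P →+* A} {J : Type} [Finite J]
  {P' A' : J → Type u} [∀ j, CommRing (P' j)] [∀ j, CommRing (A' j)]
  {φ : ∀ j, P →+* P' j} {ψ : ∀ j, A →+* A' j} {α' : ∀ j, P' j →+* A' j}

/-- Descent of `PcHomAt` along a finite jointly faithfully flat family of pushout squares. -/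
theorem pcHomAt_of_isPO_family (h : ∀ j, IsPO (φ j) α (ψ j) (α' j)) (hflat : ∀ j, (φ j).Flat)
    (hJR : Groth.Agent.H35.TorDescent.JointlyReflects φ)
    (hFD : Groth.Agent.H35.TorDescent.FiniteDescends φ) (s : ℤ)
    (hα' : ∀ j, PcHomAt s (α' j)) : PcHomAt s α := by
  haveI : ∀ j, PreservesFiniteLimits (ext (φ j)) := fun j =>
    ModuleCat.preservesFiniteLimits_extendScalars_of_flat (hflat j)
  have e0 : toD ((HomologicalComplex.single (ModuleCat.{u} P) (ComplexShape.up ℤ) 0).obj
      ((ModuleCat.restrictScalars.{u} α).obj (ModuleCat.of A A))) ≅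
      (singleFunctor (ModuleCat.{u} P) 0).obj
        ((ModuleCat.restrictScalars.{u} α).obj (ModuleCat.of A A)) :=
    ((singleFunctorIsoCompQ (ModuleCat.{u} P) 0).app _).symm
  have h1 : ∀ j, IsPseudoCoherent (P' j) s (toD ((extCx (φ j)).obj
      ((HomologicalComplex.single (ModuleCat.{u} P) (ComplexShape.up ℤ) 0).obj
      ((ModuleCat.restrictScalars.{u} α).obj (ModuleCat.of A A))))) := by
    intro j
    obtain ⟨e1⟩ := exists_iso (φ j) (hflat j) _ _ e0
    have e2 : (ext (φ j)).obj ((ModuleCat.restrictScalars.{u} α).obj (ModuleCat.of A A)) ≅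
        (ModuleCat.restrictScalars.{u} (α' j)).obj (ModuleCat.of (A' j) (A' j)) :=
      bcIso (h j) (ModuleCat.of A A) ≪≫
        (ModuleCat.restrictScalars.{u} (α' j)).mapIso (extSelfIso (ψ j))
    exact isPseudoCoherent_of_iso
      (e1 ≪≫ (singleFunctor (ModuleCat.{u} (P' j)) 0).mapIso e2).symm s (hα' j)
  have h2 := Groth.Agent.H35.TorDescent.isPseudoCoherent_toD_of_forall_ext φ hJR hFD
    ((HomologicalComplex.single (ModuleCat.{u} P) (ComplexShape.up ℤ) 0).obj
      ((ModuleCat.restrictScalars.{u} α).obj (ModuleCat.of A A))) s h1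
  exact isPseudoCoherent_of_iso e0 s h2

end Family

/-- The ring-level input for finite flat families jointly surjective on spectra. -/
def FamHyp : Prop :=
  ∀ (R : Type u) [CommRing R] (J : Type) [Finite J] (R' : J → Type u) [∀ j, CommRing (R' j)]
    [∀ j, Algebra R (R' j)] [∀ j, Module.Flat R (R' j)]
    (_ : ∀ p : PrimeSpectrum R, ∃ j, ∃ q : PrimeSpectrum (R' j),
      q.comap (algebraMap R (R' j)) = p) (n : ℕ),
    Groth.Agent.H35.TorDescent.JointlyReflects
      (fun j => (MvPolynomial.map (algebraMap R (R' j)) :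
        MvPolynomial (Fin n) R →+* MvPolynomial (Fin n) (R' j))) ∧
    Groth.Agent.H35.TorDescent.FiniteDescends
      (fun j => (MvPolynomial.map (algebraMap R (R' j)) :
        MvPolynomial (Fin n) R →+* MvPolynomial (Fin n) (R' j)))

attribute [local instance] MvPolynomial.algebraMvPolynomial in
/-- Descent of `QAt` along a finite jointly faithfully flat family (algebra form). -/
theorem qAt_of_family (H : FamHyp.{u}) (R S : Type u) [CommRing R] [CommRing S] [Algebra R S]
    [Algebra.FiniteType R S] {J : Type} [Finite J] (R' S' : J → Type u)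
    [∀ j, CommRing (R' j)] [∀ j, CommRing (S' j)] [∀ j, Algebra R (R' j)]
    [∀ j, Algebra R (S' j)] [∀ j, Algebra S (S' j)] [∀ j, Algebra (R' j) (S' j)]
    [∀ j, IsScalarTower R S (S' j)] [∀ j, IsScalarTower R (R' j) (S' j)]
    [∀ j, Algebra.IsPushout R S (R' j) (S' j)] [∀ j, Module.Flat R (R' j)]
    (hcov : ∀ p : PrimeSpectrum R, ∃ j, ∃ q : PrimeSpectrum (R' j),
      q.comap (algebraMap R (R' j)) = p)
    (s : ℤ) (h : ∀ j, QAt s (algebraMap (R' j) (S' j))) : QAt s (algebraMap R S) := by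
  obtain ⟨n, α, hα⟩ := Algebra.FiniteType.iff_quotient_mvPolynomial''.1
    (inferInstance : Algebra.FiniteType R S)
  have hαC : ∀ r, (α : MvPolynomial (Fin n) R →+* S) (MvPolynomial.C r) = algebraMap R S r :=
    fun r => MvPolynomial.algHom_C α r
  choose δ' hδ's hδ'C hPO using fun j => exists_bc_presentation R S (R' j) (S' j)
    (α : MvPolynomial (Fin n) R →+* S) hα hαC
  have hfl : ∀ j, (MvPolynomial.map (algebraMap R (R' j)) :
      MvPolynomial (Fin n) R →+* MvPolynomial (Fin n) (R' j)).Flat := fun j =>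
    RingHom.Flat.isStableUnderBaseChange R (R' j) (MvPolynomial (Fin n) R)
      (MvPolynomial (Fin n) (R' j)) (RingHom.flat_algebraMap_iff.2 inferInstance)
  obtain ⟨hJR, hFD⟩ := H R J R' hcov n
  refine ⟨n, α, hα, hαC, ?_⟩
  exact pcHomAt_of_isPO_family hPO hfl hJR hFD s (fun j =>
    (qAt_iff_pcHomAt (algebraMap (R' j) (S' j)) (δ' j) (hδ's j) (hδ'C j) s).1 (h j))

/-- Categorical form of `qAt_of_family`. -/
lemma qAt_of_isPushout_family (H : FamHyp.{u}) {A B : CommRingCat.{u}} (φ : A ⟶ B)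
    (hft : φ.hom.FiniteType) {J : Type} [Finite J] (A' B' : J → CommRingCat.{u})
    {γ : ∀ j, A ⟶ A' j} {β : ∀ j, B ⟶ B' j} {φ' : ∀ j, A' j ⟶ B' j}
    (hpo : ∀ j, IsPushout φ (γ j) (β j) (φ' j)) (hflat : ∀ j, (γ j).hom.Flat)
    (hcov : ∀ p : PrimeSpectrum A, ∃ j, ∃ q : PrimeSpectrum (A' j), q.comap (γ j).hom = p)
    (s : ℤ) (h : ∀ j, QAt s (φ' j).hom) : QAt s φ.hom := by
  letI : Algebra A B := φ.hom.toAlgebra
  letI : ∀ j, Algebra A (A' j) := fun j => (γ j).hom.toAlgebra
  letI : ∀ j, Algebra B (B' j) := fun j => (β j).hom.toAlgebra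
  letI : ∀ j, Algebra (A' j) (B' j) := fun j => (φ' j).hom.toAlgebra
  letI : ∀ j, Algebra A (B' j) := fun j => ((β j).hom.comp φ.hom).toAlgebra
  haveI : ∀ j, IsScalarTower A B (B' j) := fun j =>
    IsScalarTower.of_algebraMap_eq (fun _ => rfl)
  haveI : ∀ j, IsScalarTower A (A' j) (B' j) := fun j =>
    IsScalarTower.of_algebraMap_eq (fun x => by
      show (β j).hom (φ.hom x) = (φ' j).hom ((γ j).hom x)
      have := congr(($((hpo j).w)).hom x)
      exact this)
  haveI : ∀ j, Algebra.IsPushout A B (A' j) (B' j) := fun j =>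
    (CommRingCat.isPushout_iff_isPushout (R := A) (R' := B) (S := A' j) (S' := B' j)).1 (hpo j)
  haveI : ∀ j, Module.Flat A (A' j) := fun j => hflat j
  haveI : Algebra.FiniteType A B := hft
  exact qAt_of_family H A B (fun j => A' j) (fun j => B' j) hcov s h

end Ring

section Scheme

/-- fpqc descent of `n`-pseudo-coherent morphisms (= S6227, given the ring-level input). -/
theorem isNPseudoCoherent_of_flat_surjective_baseChange (H : FamHyp.{u})
    {X S X' S' : Scheme.{u}} (f : X ⟶ S) (f' : X' ⟶ S') (g' : X' ⟶ X) (g : S' ⟶ S) [Flat g]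
    [Surjective g] [QuasiCompact g] (hc : IsPullback g' f' f g) (hft : LocallyOfFiniteType f)
    (n : ℤ) (hf' : DerSch.IsNPseudoCoherent f' n) : DerSch.IsNPseudoCoherent f n := by
  refine isPseudoCoherentRel_of_forall_good hft (fun U V hUV => ?_)
  have hK : IsCompact ((g ⁻¹ᵁ (V : S.Opens) : S'.Opens) : Set S') :=
    g.isCompact_preimage V.2.isCompact
  obtain ⟨s, hs, hsU⟩ := isCompact_iff_finite_and_eq_biUnion_affineOpens.1 hK
  haveI : Finite s := hs.to_subtype
  obtain ⟨n₀, ⟨e⟩⟩ := Finite.exists_equiv_fin s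
  let V' : Fin n₀ → S'.affineOpens := fun j => (e.symm j).1
  have hV'V : ∀ j, (V' j : S'.Opens) ≤ g ⁻¹ᵁ (V : S.Opens) := by
    intro j
    rw [hsU]
    exact le_iSup₂ (f := fun (i : S'.affineOpens) (_ : i ∈ s) => (i : S'.Opens))
      (e.symm j).1 (e.symm j).2
  have hcovV : ∀ y' : S', g y' ∈ (V : S.Opens) → ∃ j, y' ∈ (V' j : S'.Opens) := by
    intro y' hy'
    have h1 : y' ∈ g ⁻¹ᵁ (V : S.Opens) := hy'
    rw [hsU, TopologicalSpace.Opens.mem_iSup] at h1
    obtain ⟨i, h1⟩ := h1
    rw [TopologicalSpace.Opens.mem_iSup] at h1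
    obtain ⟨hi, h1⟩ := h1
    refine ⟨e ⟨i, hi⟩, ?_⟩
    show y' ∈ ((e.symm (e ⟨i, hi⟩)).1 : S'.Opens)
    rw [Equiv.symm_apply_apply]
    exact h1
  have hcov : ∀ p : PrimeSpectrum Γ(S, (V : S.Opens)), ∃ j,
      ∃ q : PrimeSpectrum Γ(S', (V' j : S'.Opens)),
        q.comap (g.appLE (V : S.Opens) (V' j : S'.Opens) (hV'V j)).hom = p := by
    intro p
    let y : (V : S.Opens) := V.2.isoSpec.inv p
    have hp : V.2.primeIdealOf y = p := by
      exact (Scheme.homeoOfIso V.2.isoSpec).apply_symm_apply p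
    obtain ⟨y', hy'⟩ := g.surjective y.1
    obtain ⟨j, hj⟩ := hcovV y' (by rw [hy']; exact y.2)
    refine ⟨j, (V' j).2.primeIdealOf ⟨y', hj⟩, ?_⟩
    rw [IsAffineOpen.comap_primeIdealOf_appLE (V : S.Opens) V.2 (V' j : S'.Opens) (V' j).2
      (hV'V j) hj, ← hp]
    congr 1
    exact Subtype.ext hy'
  let U' : Fin n₀ → X'.Opens := fun j => g' ⁻¹ᵁ (U : X.Opens) ⊓ f' ⁻¹ᵁ (V' j : S'.Opens)
  have hU' : ∀ j, IsAffineOpen (U' j) := by
    intro j
    have : IsAffine _ := V.2
    have : IsAffine _ := (V' j).2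
    have : IsAffine _ := U.2
    exact .of_isIso (Scheme.Hom.isPullback_resLE hc (hV'V j) hUV rfl).isoPullback.hom
  have hle : ∀ j, U' j ≤ f' ⁻¹ᵁ (V' j : S'.Opens) := fun j => inf_le_right
  have hpo := fun j => (isIso_pushoutSection_iff hc (hV'V j) hUV rfl).1
    (isIso_pushoutSection_of_isAffineOpen hc (hV'V j) hUV rfl V.2 (V' j).2 U.2)
  have hq' : ∀ j, QAt n (f'.appLE (V' j : S'.Opens) (U' j) (hle j)).hom := fun j =>
    (good_unit_iff_qAt f' (hU' j) (hle j) n).1
      (good_of_isPseudoCoherentRel hf' (hU' j) (V' j).2 (hle j))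
  have hft' : (f.appLE (V : S.Opens) (U : X.Opens) hUV).hom.FiniteType :=
    HasRingHomProperty.appLE (P := @LocallyOfFiniteType) f hft V U hUV
  have hq : QAt n (f.appLE (V : S.Opens) (U : X.Opens) hUV).hom :=
    qAt_of_isPushout_family H (f.appLE (V : S.Opens) (U : X.Opens) hUV) hft'
      (fun j => Γ(S', (V' j : S'.Opens))) (fun j => Γ(X', U' j)) hpo
      (fun j => g.flat_appLE V.2 (V' j).2 (hV'V j)) hcov n hq'
  exact (good_unit_iff_qAt f U.2 hUV n).2 hq

end Scheme

end Groth.Agent.H90.Chart
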