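import Groth.Agent.H90.ClosedPCFin
import Groth.Agent.H90.ChartRel

/-!
# Finite-level relative pseudo-coherence and composition (helper90)

* `PcHomAt s ψ`: the target of `ψ` is an `s`-pseudo-coherent module over the source.
* `pcHomAt_mvPolynomial_map`, `pcHomAt_comp`, `PolyLikeAt.mvPolynomial`: levelwise permanence.
* `isPC_pushCx_imm_comp_fin`: changing the chart along a surjection of rings which is
  pseudo-coherent at a finite level.
* `good_comp_fin`: good pairs for `f` and `f ≫ g` when `g` is `s`-pseudo-coherent.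
* `isPseudoCoherentRel_of_comp_fin` (= S6205), `isNPseudoCoherent_comp_fin` (= S6209).
-/

set_option autoImplicit false
set_option linter.style.haveILetI false
set_option maxHeartbeats 400000
universe u
open CategoryTheory CategoryTheory.Limits AlgebraicGeometry TopologicalSpace Opposite
open AlgebraicGeometry.Scheme.Modules

attribute [local instance] HasDerivedCategory.standard

namespace Groth.Agent.H90.Chart

open Groth.Agent.H56

section RingAt

variable {P₁ P₂ P₃ : Type u} [CommRing P₁] [CommRing P₂] [CommRing P₃]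

/-- `P₂` is an `s`-pseudo-coherent `P₁`-module along `ψ`. -/
def PcHomAt (s : ℤ) (ψ : P₁ →+* P₂) : Prop :=
  DRing.IsPseudoCoherent P₁ s ((DerivedCategory.singleFunctor (ModuleCat.{u} P₁) 0).obj
    ((ModuleCat.restrictScalars.{u} ψ).obj (ModuleCat.of P₂ P₂)))

lemma PcHomAt.mono {s s' : ℤ} {ψ : P₁ →+* P₂} (hψ : PcHomAt s ψ) (h : s ≤ s') :
    PcHomAt s' ψ := by
  unfold PcHomAt at *
  exact isPseudoCoherent_mono hψ h

/-- Composition with a pseudo-coherent ring map on the source side, levelwise. -/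
theorem pcHomAt_comp {ψ₁ : P₁ →+* P₂} {ψ₂ : P₂ →+* P₃} (h₁ : PcHom ψ₁) (s : ℤ)
    (h₂ : PcHomAt s ψ₂) : PcHomAt s (ψ₂.comp ψ₁) := by
  have a := (h₁.iff ((DerivedCategory.singleFunctor (ModuleCat.{u} P₂) 0).obj
    ((ModuleCat.restrictScalars.{u} ψ₂).obj (ModuleCat.of P₃ P₃))) s).2 h₂
  have e₁ := ((ModuleCat.restrictScalars.{u} ψ₁).mapDerivedCategorySingleFunctor 0).app
    ((ModuleCat.restrictScalars.{u} ψ₂).obj (ModuleCat.of P₃ P₃))
  have e₂ := (ModuleCat.restrictScalarsComp'App.{u} ψ₁ ψ₂ (ψ₂.comp ψ₁) rfl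
    (ModuleCat.of P₃ P₃)).symm
  exact isPseudoCoherent_of_iso
    (e₁ ≪≫ (DerivedCategory.singleFunctor (ModuleCat.{u} P₁) 0).mapIso e₂) s a

end RingAt

section BC

open Groth.Agent.H56.FlatPc

variable {A B : Type u} [CommRing A] [CommRing B]

/-- `B` as a module over `A`, in the two possible ways. -/
noncomputable def ofAlgIso (A B : Type u) [CommRing A] [CommRing B] [Algebra A B] :
    ModuleCat.of A B ≅
      (ModuleCat.restrictScalars.{u} (algebraMap A B)).obj (ModuleCat.of B B) :=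
  @LinearEquiv.toModuleIso A _ B B _ _ Algebra.toModule (Module.compHom B (algebraMap A B))
    (@LinearEquiv.mk A A _ _ (RingHom.id A) (RingHom.id A) _ _ B B _ _ Algebra.toModule
      (Module.compHom B (algebraMap A B))
      (@LinearMap.mk A A _ _ (RingHom.id A) B B _ _ Algebra.toModule
        (Module.compHom B (algebraMap A B))
        ⟨fun b => b, fun _ _ => rfl⟩ (fun a b => Algebra.smul_def a b))
      (fun b => b) (fun _ => rfl) (fun _ => rfl))

set_option backward.isDefEq.respectTransparency false in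
/-- Flat base change of `s`-pseudo-coherence of a module. -/
theorem isPseudoCoherent_bc_at (φ : A →+* B) (hφ : φ.Flat) (M : Type u) [AddCommGroup M]
    [Module A M] (s : ℤ) (hM : DRing.IsPseudoCoherent A s (Dual.inD A M)) :
    letI := algOf φ
    DRing.IsPseudoCoherent B s (Dual.inD B (TensorProduct A B M)) := by
  letI := algOf φ
  haveI : PreservesFiniteLimits (ext φ) :=
    ModuleCat.preservesFiniteLimits_extendScalars_of_flat hφ
  have h := isPseudoCoherent_map_ext φ (Dual.inD A M) s hM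
  exact isPseudoCoherent_of_iso
    (((ext φ).mapDerivedCategorySingleFunctor 0).app (ModuleCat.of A M)) s h

/-- Flat base change of an `s`-pseudo-coherent ring map along a pushout square. -/
theorem pcHomAt_of_isPushout (R S R' S' : Type u) [CommRing R] [CommRing S] [CommRing R']
    [CommRing S'] [Algebra R S] [Algebra R R'] [Algebra S S'] [Algebra R' S'] [Algebra R S']
    [IsScalarTower R S S'] [IsScalarTower R R' S'] [Algebra.IsPushout R S R' S'] [Module.Flat R S]
    (s : ℤ) (h : PcHomAt s (algebraMap R R')) : PcHomAt s (algebraMap S S') := by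
  have h1 : DRing.IsPseudoCoherent R s (Dual.inD R R') :=
    isPseudoCoherent_of_iso ((DerivedCategory.singleFunctor (ModuleCat.{u} R) 0).mapIso
      (ofAlgIso R R').symm) s h
  have h2 : DRing.IsPseudoCoherent S s (Dual.inD S (TensorProduct R S R')) := by
    have h := isPseudoCoherent_bc_at (algebraMap R S)
      (RingHom.flat_algebraMap_iff.2 inferInstance) R' s h1
    rw [algOf_eq] at h
    exact h
  have e : TensorProduct R S R' ≃ₗ[S] S' :=
    (Algebra.IsPushout.out : IsBaseChange S (IsScalarTower.toAlgHom R R' S').toLinearMap).equiv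
  exact isPseudoCoherent_of_iso ((DerivedCategory.singleFunctor (ModuleCat.{u} S) 0).mapIso
    (e.toModuleIso ≪≫ ofAlgIso S S')) s h2

attribute [local instance] MvPolynomial.algebraMvPolynomial in
/-- `P₁ → P₂` `s`-pseudo-coherent ⇒ `P₁[y] → P₂[y]` `s`-pseudo-coherent. -/
theorem pcHomAt_mvPolynomial_map {P₁ P₂ : Type u} [CommRing P₁] [CommRing P₂] (ψ : P₁ →+* P₂)
    (s : ℤ) (h : PcHomAt s ψ) (k : ℕ) :
    PcHomAt s (MvPolynomial.map ψ : MvPolynomial (Fin k) P₁ →+* MvPolynomial (Fin k) P₂) := by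
  letI : Algebra P₁ P₂ := ψ.toAlgebra
  have h' : PcHomAt s (algebraMap P₁ P₂) := h
  exact pcHomAt_of_isPushout P₁ (MvPolynomial (Fin k) P₁) P₂ (MvPolynomial (Fin k) P₂) s h'

end BC

section PolyLikeAt

variable {R P : Type u} [CommRing R] [CommRing P]

/-- `γ : R →+* P` factors as `C : R → R[x_1..x_k]` followed by a surjection which is
pseudo-coherent at level `s`. -/
def PolyLikeAt (s : ℤ) (γ : R →+* P) : Prop :=
  ∃ (k : ℕ) (ρ : MvPolynomial (Fin k) R →+* P), Function.Surjective ρ ∧ PcHomAt s ρ ∧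
    ρ.comp MvPolynomial.C = γ

lemma PolyLikeAt.mvPolynomial {s : ℤ} {γ : R →+* P} (hγ : PolyLikeAt s γ) (j : ℕ) :
    PolyLikeAt s ((MvPolynomial.C : P →+* MvPolynomial (Fin j) P).comp γ) := by
  obtain ⟨k, ρ, hρs, hρp, hρC⟩ := hγ
  let e1 : MvPolynomial (Fin (j + k)) R ≃ₐ[R] MvPolynomial (Fin j ⊕ Fin k) R :=
    MvPolynomial.renameEquiv R finSumFinEquiv.symm
  let e2 : MvPolynomial (Fin j ⊕ Fin k) R ≃ₐ[R] MvPolynomial (Fin j) (MvPolynomial (Fin k) R) :=
    MvPolynomial.sumAlgEquiv R (Fin j) (Fin k)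
  let ρ1 : MvPolynomial (Fin (j + k)) R →+* MvPolynomial (Fin j) (MvPolynomial (Fin k) R) :=
    ((e1.trans e2 : MvPolynomial (Fin (j + k)) R ≃ₐ[R] _) : _ →+* _)
  have h1 : PcHom ρ1 := pcHom_of_bijective _ (e1.trans e2).bijective
  have h2 : PcHomAt s (MvPolynomial.map ρ :
      MvPolynomial (Fin j) (MvPolynomial (Fin k) R) →+* MvPolynomial (Fin j) P) :=
    pcHomAt_mvPolynomial_map ρ s hρp j
  refine ⟨j + k, (MvPolynomial.map ρ).comp ρ1, ?_, pcHomAt_comp h1 s h2, ?_⟩
  · rw [RingHom.coe_comp]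
    exact (MvPolynomial.map_surjective ρ hρs).comp (e1.trans e2).surjective
  · ext r
    have : ρ (MvPolynomial.C r) = γ r := RingHom.congr_fun hρC r
    simp [ρ1, e1, e2, this]

end PolyLikeAt

section TestFin

open Groth.Agent.H90.SPerf Groth.Agent.H90.LR Groth.Agent.H90.QH Groth.Agent.H28.PCohD
open Groth.Agent.H90.CPC Groth.Agent.H90.TPC Groth.Agent.H90.TPerf Groth.Agent.H90.CPerf

variable {X : Scheme.{u}} {U : X.Opens}

lemma isPC_mono {Y : Scheme.{u}} {K : DCoh.D Y} {m m' : ℤ} (h : m ≤ m')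
    (hK : DCoh.IsPseudoCoherentD m K) : DCoh.IsPseudoCoherentD m' K := by
  rw [isPC_iff] at hK ⊢
  exact fun x => locPC_mono h (hK x)

lemma isZero_homology_restrictCx (G : CochainComplex X.Modules ℤ) (j : ℤ)
    (h : IsZero (G.homology j)) : IsZero (((DCoh.restrictCx U).obj G).homology j) := by
  have eH : ((DCoh.restrictCx U).obj G).homology j ≅
      (restrictFunctor U.ι).obj (G.homology j) :=
    (homologyMapHCIso (restrictFunctor U.ι) j).app G
  exact IsZero.of_iso (Functor.map_isZero _ h) eH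

lemma isZero_homology_of_isLE (G : CochainComplex X.Modules ℤ) (E : DCoh.D X)
    (e : DCoh.toD X G ≅ E) (b : ℤ) [E.IsLE b] (j : ℤ) (hj : b < j) : IsZero (G.homology j) :=
  IsZero.of_iso (DerivedCategory.isZero_of_isLE E b j hj)
    (((DerivedCategory.homologyFunctorFactors _ j).app G).symm ≪≫
      (DerivedCategory.homologyFunctor _ j).mapIso e)

/-- Changing the chart along a surjection of rings which is pseudo-coherent at a finite
level, for a complex without cohomology above degree `b`. -/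
theorem isPC_pushCx_imm_comp_fin (hU : IsAffineOpen U) {P'' P' : Type u} [CommRing P'']
    [CommRing P'] (ρ : P'' →+* P') (hρs : Function.Surjective ρ) (θ : P' →+* Γ(X, U))
    (hθ : Function.Surjective θ) (C : CochainComplex (U : Scheme.{u}).Modules ℤ) (m b : ℤ)
    (hC : ∀ j : ℤ, b < j → IsZero (C.homology j)) :
    (PcHomAt (m - b) ρ →
      DCoh.IsPseudoCoherentD m (DerivedCategory.Q.obj ((DerSch.pushCx (imm U θ)).obj C)) →
      DCoh.IsPseudoCoherentD m
        (DerivedCategory.Q.obj ((DerSch.pushCx (imm U (θ.comp ρ))).obj C))) ∧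
    (PcHomAt (m + 1 - b) ρ →
      DCoh.IsPseudoCoherentD m
        (DerivedCategory.Q.obj ((DerSch.pushCx (imm U (θ.comp ρ))).obj C)) →
      DCoh.IsPseudoCoherentD m (DerivedCategory.Q.obj ((DerSch.pushCx (imm U θ)).obj C))) := by
  haveI := isClosedImmersion_spec ρ hρs
  haveI := isClosedImmersion_imm hU θ hθ
  have hF : ∀ j : ℤ, b < j → IsZero (((DerSch.pushCx (imm U θ)).obj C).homology j) :=
    fun j hj => IsZero.of_iso (Functor.map_isZero _ (hC j hj))
      (homologyPushCxIso (imm U θ) C j)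
  rw [imm_comp ρ θ]
  constructor
  · intro hρ h
    have hO := (isPC_push_Spec_iff ρ hρs (m - b)).2 hρ
    exact isPC_of_iso (DerivedCategory.Q.mapIso (pushCxCompIso _ _ C))
      (isPC_Q_pushCx_of_isPC_fin (Spec.map (CommRingCat.ofHom ρ)) _ m b hF hO h)
  · intro hρ h
    have hO := (isPC_push_Spec_iff ρ hρs (m + 1 - b)).2 hρ
    exact isPC_Q_of_isPC_pushCx_fin (Spec.map (CommRingCat.ofHom ρ)) _ m b hF hO
      (isPC_of_iso (DerivedCategory.Q.mapIso (pushCxCompIso _ _ C)).symm h)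

end TestFin

section GoodFin

variable {X Y S : Scheme.{u}} (f : X ⟶ Y) (g : Y ⟶ S)

lemma good_mono {U : X.Opens} {V : Y.Opens} {h : U ≤ f ⁻¹ᵁ V} {m m' : ℤ} {E : DCoh.D X}
    (hm : m ≤ m') (H : Good f m E U V h) : Good f m' E U V h := by
  obtain ⟨n, φ, hφ, hPC⟩ := H
  exact ⟨n, φ, hφ, fun G hG => isPC_mono hm (hPC G hG)⟩

/-- Good pairs for `f` and for `f ≫ g` when `g` is `s`-pseudo-coherent on `(V, W)` and the
object has no cohomology above degree `b`. -/
theorem good_comp_fin {U : X.Opens} {V : Y.Opens} {W : S.Opens} (hU : IsAffineOpen U)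
    (hV : IsAffineOpen V) (hUV : U ≤ f ⁻¹ᵁ V) (hVW : V ≤ g ⁻¹ᵁ W)
    (hUW : U ≤ (f ≫ g) ⁻¹ᵁ W) (s : ℤ)
    (hg : Good g s (DCoh.toD Y (DerSch.unitCx Y)) V W hVW)
    (m b : ℤ) (E : DCoh.D X) (G₀ : CochainComplex X.Modules ℤ) (e : DCoh.toD X G₀ ≅ E)
    (hG₀ : ∀ j : ℤ, b < j → IsZero (G₀.homology j)) :
    (s ≤ m - b → Good f m E U V hUV → Good (f ≫ g) m E U W hUW) ∧
    (s ≤ m + 1 - b → Good (f ≫ g) m E U W hUW → LocallyOfFiniteType f →
      Good f m E U V hUV) := by
  obtain ⟨k, ψ, hψ, hψPC⟩ := hg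
  have hψp : PcHomAt s ψ := (chartPC_unit_iff hV W ψ hψ.1 s).1 hψPC
  have hγ0 : PolyLikeAt s (g.appLE W V hVW).hom := ⟨k, ψ, hψ.1, hψp, hψ.2⟩
  have hcomp : (f.appLE V U hUV).hom.comp (g.appLE W V hVW).hom =
      ((f ≫ g).appLE W U hUW).hom := by
    have h1 := Scheme.Hom.appLE_comp_appLE f g W V U hVW hUV
    exact congrArg (fun t => t.hom) h1
  have hC : ∀ j : ℤ, b < j → IsZero (((DCoh.restrictCx U).obj G₀).homology j) :=
    fun j hj => isZero_homology_restrictCx G₀ j (hG₀ j hj)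
  have key : ∀ {n : ℕ} (φ : MvPolynomial (Fin n) Γ(Y, V) →+* Γ(X, U)),
      DerSch.IsChart f U V hUV φ →
      ∃ (l : ℕ) (χ : MvPolynomial (Fin l) Γ(S, W) →+* Γ(X, U)),
        DerSch.IsChart (f ≫ g) U W hUW χ ∧
        (s ≤ m - b → DerSch.ChartPC m E U V φ → DerSch.ChartPC m E U W χ) ∧
        (s ≤ m + 1 - b → DerSch.ChartPC m E U W χ → DerSch.ChartPC m E U V φ) := by
    intro n φ hφ
    obtain ⟨l, ρ, hρs, hρp, hρC⟩ := hγ0.mvPolynomial n
    have hχ : DerSch.IsChart (f ≫ g) U W hUW (φ.comp ρ) := by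
      refine ⟨?_, ?_⟩
      · rw [RingHom.coe_comp]
        exact hφ.1.comp hρs
      · rw [RingHom.comp_assoc, hρC, ← RingHom.comp_assoc, hφ.2, hcomp]
    have H := isPC_pushCx_imm_comp_fin hU ρ hρs φ hφ.1 ((DCoh.restrictCx U).obj G₀) m b hC
    refine ⟨l, φ.comp ρ, hχ, ?_, ?_⟩
    · intro hs hPC
      exact (forall_rep_iff hU (φ.comp ρ) hχ.1 m E G₀ e).2
        (H.1 (hρp.mono hs) ((forall_rep_iff hU φ hφ.1 m E G₀ e).1 hPC))
    · intro hs hPC
      exact (forall_rep_iff hU φ hφ.1 m E G₀ e).2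
        (H.2 (hρp.mono hs) ((forall_rep_iff hU (φ.comp ρ) hχ.1 m E G₀ e).1 hPC))
  constructor
  · rintro hs ⟨n, φ, hφ, hPC⟩
    obtain ⟨l, χ, hχ, h1, -⟩ := key φ hφ
    exact ⟨l, χ, hχ, h1 hs hPC⟩
  · rintro hs H hf
    obtain ⟨n, φ, hφ⟩ := exists_isChart hf hU hV hUV
    obtain ⟨l, χ, hχ, -, h2⟩ := key φ hφ
    exact ⟨n, φ, hφ, h2 hs (chartPC_of_good H χ hχ)⟩

/-- = S6205. -/
theorem isPseudoCoherentRel_of_comp_fin (hf : LocallyOfFiniteType f) (a b : ℤ) (E : DCoh.D X)
    [E.IsLE b] (hE : DerSch.IsPseudoCoherentRel (f ≫ g) a E)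
    (hg : DerSch.IsNPseudoCoherent g (a + 1 - b)) :
    DerSch.IsPseudoCoherentRel f a E := by
  obtain ⟨G₀, ⟨e⟩⟩ : ∃ G₀ : CochainComplex X.Modules ℤ, Nonempty (DCoh.toD X G₀ ≅ E) :=
    ⟨DerivedCategory.Q.objPreimage E, ⟨DerivedCategory.Q.objObjPreimageIso E⟩⟩
  have hG₀ : ∀ j : ℤ, b < j → IsZero (G₀.homology j) :=
    fun j hj => isZero_homology_of_isLE G₀ E e b j hj
  refine ⟨hf, {V : Y.affineOpens | ∃ W : S.affineOpens,
    (V : Y.Opens) ≤ g ⁻¹ᵁ (W : S.Opens)}, ?_, ?_⟩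
  · apply le_antisymm le_top
    intro y _
    obtain ⟨W, hW, hyW, -⟩ :=
      exists_isAffineOpen_mem_and_subset (x := g.base y) (U := (⊤ : S.Opens)) trivial
    obtain ⟨V, hV, hyV, hVW⟩ :=
      exists_isAffineOpen_mem_and_subset (x := y) (U := g ⁻¹ᵁ W) hyW
    rw [TopologicalSpace.Opens.mem_iSup]
    refine ⟨⟨V, hV⟩, ?_⟩
    rw [TopologicalSpace.Opens.mem_iSup]
    exact ⟨⟨⟨W, hW⟩, fun z hz => hVW hz⟩, hyV⟩
  · rintro V ⟨W, hVW⟩
    refine ⟨{U : X.affineOpens | (U : X.Opens) ≤ f ⁻¹ᵁ (V : Y.Opens)}, ?_, ?_⟩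
    · apply le_antisymm
      · exact iSup₂_le (fun U hU => hU)
      · intro x hx
        obtain ⟨W', hW', hxW', hWV'⟩ :=
          exists_isAffineOpen_mem_and_subset (x := x) (U := f ⁻¹ᵁ (V : Y.Opens)) hx
        rw [TopologicalSpace.Opens.mem_iSup]
        refine ⟨⟨W', hW'⟩, ?_⟩
        rw [TopologicalSpace.Opens.mem_iSup]
        exact ⟨fun y hy => hWV' hy, hxW'⟩
    · intro U _ h
      have hUW : (U : X.Opens) ≤ (f ≫ g) ⁻¹ᵁ (W : S.Opens) := fun x hx => hVW (h hx)
      exact (good_comp_fin f g U.2 V.2 h hVW hUW (a + 1 - b)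
        (good_of_isPseudoCoherentRel hg V.2 W.2 hVW) a b E G₀ e hG₀).2 le_rfl
        (good_of_isPseudoCoherentRel hE U.2 W.2 hUW) hf

/-- = S6209. -/
theorem isNPseudoCoherent_comp_fin (r s : ℤ) (hf : DerSch.IsNPseudoCoherent f r)
    (hg : DerSch.IsNPseudoCoherent g s) : DerSch.IsNPseudoCoherent (f ≫ g) (max r s) := by
  have hff : LocallyOfFiniteType f := hf.1
  have hgf : LocallyOfFiniteType g := hg.1
  have hfg : LocallyOfFiniteType (f ≫ g) := by
    haveI := hff
    haveI := hgf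
    infer_instance
  have hG₀ : ∀ j : ℤ, 0 < j → IsZero ((DerSch.unitCx X).homology j) := fun j hj =>
    HomologicalComplex.isZero_single_obj_homology (ComplexShape.up ℤ) 0 _ j (by omega)
  refine ⟨hfg, Set.univ, ?_, ?_⟩
  · simp only [Set.mem_univ, iSup_pos]
    exact iSup_affineOpens_eq_top S
  · intro W _
    refine ⟨{U : X.affineOpens | ∃ V : Y.affineOpens,
      (V : Y.Opens) ≤ g ⁻¹ᵁ (W : S.Opens) ∧ (U : X.Opens) ≤ f ⁻¹ᵁ (V : Y.Opens)}, ?_, ?_⟩
    · apply le_antisymm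
      · refine iSup₂_le (fun U hU => ?_)
        obtain ⟨V, hVW, hUV⟩ := hU
        intro x hx
        exact hVW (hUV hx)
      · intro x hx
        obtain ⟨V, hV, hxV, hVW⟩ :=
          exists_isAffineOpen_mem_and_subset (x := f.base x) (U := g ⁻¹ᵁ (W : S.Opens)) hx
        obtain ⟨U, hU, hxU, hUV⟩ :=
          exists_isAffineOpen_mem_and_subset (x := x) (U := f ⁻¹ᵁ V) hxV
        rw [TopologicalSpace.Opens.mem_iSup]
        refine ⟨⟨U, hU⟩, ?_⟩
        rw [TopologicalSpace.Opens.mem_iSup]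
        exact ⟨⟨⟨V, hV⟩, fun y hy => hVW hy, fun y hy => hUV hy⟩, hxU⟩
    · rintro U ⟨V, hVW, hUV⟩ h
      refine (good_comp_fin f g U.2 V.2 hUV hVW h s
        (good_of_isPseudoCoherentRel hg V.2 W.2 hVW) (max r s) 0
        (DCoh.toD X (DerSch.unitCx X)) (DerSch.unitCx X) (Iso.refl _) hG₀).1 ?_
        (good_mono f (le_max_left r s) (good_of_isPseudoCoherentRel hf U.2 V.2 hUV))
      rw [sub_zero]
      exact le_max_right r s

end GoodFin

end Groth.Agent.H90.Chart
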