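import Groth.Agent.H90.ClosedPC

/-!
# Finite-level pseudo-coherence along closed immersions (helper90)

A finite-level refinement of `Groth.Agent.H90.CPC.claim'` (S1102).  For a closed immersion
`i : Z ⟶ X` and a complex `F` on `Z` without cohomology above degree `b`:

* if `i_* O_Z` is `(m - b)`-pseudo-coherent, then `F` `m`-pseudo-coherent implies `i_* F`
  `m`-pseudo-coherent (`isPC_Q_pushCx_of_isPC_fin`);
* if `i_* O_Z` is `(m + 1 - b)`-pseudo-coherent, then `i_* F` `m`-pseudo-coherent implies `F`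
  `m`-pseudo-coherent (`isPC_Q_of_isPC_pushCx_fin`).
-/

set_option autoImplicit false
set_option linter.style.haveILetI false
universe w v u' u
open CategoryTheory CategoryTheory.Limits AlgebraicGeometry TopologicalSpace Opposite
open AlgebraicGeometry.Scheme.Modules

attribute [local instance] HasDerivedCategory.standard

namespace Groth.Agent.H90.CPC

open Groth.Agent.H90.SPerf Groth.Agent.H90.LR Groth.Agent.H90.QH Groth.Agent.H28.PCohD

section Util

variable {X : Scheme.{u}}

/-- Levelwise form of `locPC_Q_single_of_inD`. -/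
lemma locPC_Q_single_of_inD_at {B : X.Modules} (n m : ℤ) (x : X)
    (hB : LocPC (m - n) (DCoh.inD X B) x) :
    LocPC m (DerivedCategory.Q.obj
      ((HomologicalComplex.single X.Modules (ComplexShape.up ℤ) n).obj B)) x := by
  have e1 : (DerivedCategory.singleFunctor X.Modules n).obj B ≅
      DerivedCategory.Q.obj ((HomologicalComplex.single X.Modules (ComplexShape.up ℤ) n).obj B) :=
    (DerivedCategory.singleFunctorIsoCompQ X.Modules n).app B
  have e2 : ((DerivedCategory.singleFunctor X.Modules 0).obj B)⟦(-n : ℤ)⟧ ≅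
      (DerivedCategory.singleFunctor X.Modules n).obj B :=
    ((DerivedCategory.singleFunctors X.Modules).shiftIso (-n) n 0 (by omega)).app B
  have h := locPC_shift (-n) hB
  rw [show m - n - -n = m by ring] at h
  exact locPC_of_iso (e2 ≪≫ e1) h

end Util

section Closed

variable {Z X : Scheme.{u}} (i : Z ⟶ X) [IsClosedImmersion i]

/-- Levelwise form of `locPC_push_freeMod`. -/
theorem locPC_push_freeMod_at (s : ℤ)
    (hO : ∀ x : X, LocPC s (DCoh.inD X ((pushforward i).obj (Coh.structureModule Z))) x) :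
    ∀ (k : ℕ) (x : X),
      LocPC s (DCoh.inD X ((pushforward i).obj (FlatMod.freeMod Z k))) x := by
  intro k
  induction k with
  | zero =>
    intro x
    exact locPC_of_isZero
      (Functor.map_isZero _ (Functor.map_isZero _ (isZero_freeMod_zero Z))) s x
  | succ k ih =>
    intro x
    have hS : (ShortComplex.mk (biprod.inl : FlatMod.freeMod Z k ⟶
        FlatMod.freeMod Z k ⊞ FlatMod.freeMod Z 1) biprod.snd (by simp)).ShortExact :=
      (ShortComplex.Splitting.ofHasBinaryBiproduct _ _).shortExact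
    have hS' := hS.map_of_exact (pushforward i)
    have h₁ : LocPC s hS'.singleTriangle.obj₁ x := ih x
    have e₃ : FlatMod.freeMod Z 1 ≅ Coh.structureModule Z :=
      coproductUniqueIso (fun _ : Fin 1 => Coh.structureModule Z)
    have h₃ : LocPC s hS'.singleTriangle.obj₃ x :=
      locPC_of_iso ((DerivedCategory.singleFunctor _ 0).mapIso
        ((pushforward i).mapIso e₃.symm)) (hO x)
    have h₂ := locPC_obj₂ hS'.singleTriangle hS'.singleTriangle_distinguished s x h₁ h₃
    exact locPC_of_iso ((DerivedCategory.singleFunctor _ 0).mapIso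
      ((pushforward i).mapIso (freeBiprodIso Z k 1))) h₂

/-- Levelwise form of `hO_restrict`. -/
theorem hO_restrict_at (s : ℤ)
    (hO : ∀ x : X, LocPC s (DCoh.inD X ((pushforward i).obj (Coh.structureModule Z))) x)
    (W : X.Opens) :
    ∀ y : (W : Scheme.{u}),
      LocPC s (DCoh.inD (W : Scheme.{u}) ((pushforward (i ∣_ W)).obj
        (Coh.structureModule ((i ⁻¹ᵁ W : Z.Opens) : Scheme.{u})))) y := by
  intro y
  have h1 : LocPC s ((DCoh.restrictD W.ι).obj
      (DCoh.inD X ((pushforward i).obj (Coh.structureModule Z)))) y :=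
    (locPC_restrict_iff W _ s y).2 (hO (W.ι y))
  let e1 := ((restrictFunctor W.ι).mapDerivedCategorySingleFunctor 0).app
    ((pushforward i).obj (Coh.structureModule Z))
  let e2 : (restrictFunctor W.ι).obj ((pushforward i).obj (Coh.structureModule Z)) ≅
      (pushforward (i ∣_ W)).obj (Coh.structureModule ((i ⁻¹ᵁ W : Z.Opens) : Scheme.{u})) :=
    (H31.PushRestrict.pushRestrictIso i W).app _ ≪≫
      (pushforward (i ∣_ W)).mapIso (restrictUnitIso (i ⁻¹ᵁ W).ι)
  exact locPC_of_iso (e1 ≪≫ (DerivedCategory.singleFunctor _ 0).mapIso e2) h1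

/-- The two directional statements at level `m` for a complex with top degree `b`. -/
def Dir (m b : ℤ) (F : CochainComplex Z.Modules ℤ) (z : Z) : Prop :=
  ((∀ x : X, LocPC (m - b) (DCoh.inD X ((pushforward i).obj (Coh.structureModule Z))) x) →
    LocPC m (DerivedCategory.Q.obj F) z →
      LocPC m (DerivedCategory.Q.obj ((DerSch.pushCx i).obj F)) (i z)) ∧
  ((∀ x : X, LocPC (m + 1 - b) (DCoh.inD X ((pushforward i).obj (Coh.structureModule Z))) x) →
    LocPC m (DerivedCategory.Q.obj ((DerSch.pushCx i).obj F)) (i z) →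
      LocPC m (DerivedCategory.Q.obj F) z)

lemma dir_of_restrict (m b : ℤ) (W : X.Opens) (F : CochainComplex Z.Modules ℤ)
    (z₁ : ((i ⁻¹ᵁ W : Z.Opens) : Scheme.{u}))
    (H : Dir (i ∣_ W) m b ((DCoh.restrictCx (i ⁻¹ᵁ W)).obj F) z₁) :
    Dir i m b F ((i ⁻¹ᵁ W).ι z₁) := by
  constructor
  · intro hO h
    exact (locPC_Q_pushCx_restrict_iff i W F m z₁).1
      (H.1 (hO_restrict_at i _ hO W) ((locPC_Q_restrictCx_iff _ F m z₁).2 h))
  · intro hO h
    exact (locPC_Q_restrictCx_iff _ F m z₁).1
      (H.2 (hO_restrict_at i _ hO W) ((locPC_Q_pushCx_restrict_iff i W F m z₁).2 h))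

open Pretriangulated in
/-- The induction step: the directional claims for the cone of `O^k[-n] ⟶ F` imply those for
`F`. -/
theorem dir_of_cone (F : CochainComplex Z.Modules ℤ) (n : ℤ) (k : ℕ)
    (f : (HomologicalComplex.single Z.Modules (ComplexShape.up ℤ) n).obj (FlatMod.freeMod Z k) ⟶ F)
    (m : ℤ) (z : Z) (IH : Dir i m (n - 1) (CochainComplex.mappingCone f) z) :
    Dir i m n F z := by
  have hT := DerivedCategory.mappingCone_triangle_distinguished f
  have h₁ : ∀ m' : ℤ, LocPC m'
      (DerivedCategory.Q.mapTriangle.obj (CochainComplex.mappingCone.triangle f)).obj₁ z :=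
    fun m' => locPC_Q_of_isStrictlyPerfect
      (isStrictlyPerfect_single' (isFinLocFree_freeMod Z k) n) m' z
  have hT' := (pushforward i).mapDerivedCategory.map_distinguished _ hT
  have e₁ : (pushforward i).mapDerivedCategory.obj (DerivedCategory.Q.obj
        ((HomologicalComplex.single Z.Modules (ComplexShape.up ℤ) n).obj (FlatMod.freeMod Z k))) ≅
      DerivedCategory.Q.obj ((HomologicalComplex.single X.Modules (ComplexShape.up ℤ) n).obj
        ((pushforward i).obj (FlatMod.freeMod Z k))) :=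
    (pushforward i).mapDerivedCategoryFactors.app _ ≪≫ DerivedCategory.Q.mapIso
      ((HomologicalComplex.singleMapHomologicalComplex (pushforward i)
        (ComplexShape.up ℤ) n).app _)
  have h₁' : ∀ m' : ℤ,
      (∀ x : X, LocPC (m' - n)
        (DCoh.inD X ((pushforward i).obj (Coh.structureModule Z))) x) →
      LocPC m' ((pushforward i).mapDerivedCategory.obj (DerivedCategory.Q.obj
        ((HomologicalComplex.single Z.Modules (ComplexShape.up ℤ) n).obj
          (FlatMod.freeMod Z k)))) (i z) :=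
    fun m' hO => locPC_of_iso e₁.symm
      (locPC_Q_single_of_inD_at n m' (i z) (locPC_push_freeMod_at i (m' - n) hO k (i z)))
  have e₂ : (pushforward i).mapDerivedCategory.obj (DerivedCategory.Q.obj F) ≅
      DerivedCategory.Q.obj ((DerSch.pushCx i).obj F) :=
    (pushforward i).mapDerivedCategoryFactors.app F
  have e₃ : (pushforward i).mapDerivedCategory.obj
        (DerivedCategory.Q.obj (CochainComplex.mappingCone f)) ≅
      DerivedCategory.Q.obj ((DerSch.pushCx i).obj (CochainComplex.mappingCone f)) :=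
    (pushforward i).mapDerivedCategoryFactors.app _
  constructor
  · intro hO h
    have hc : LocPC m (DerivedCategory.Q.obj (CochainComplex.mappingCone f)) z :=
      locPC_obj₃ _ hT m z (h₁ (m + 1)) h
    have hO' : ∀ x : X, LocPC (m - (n - 1))
        (DCoh.inD X ((pushforward i).obj (Coh.structureModule Z))) x :=
      fun x => locPC_mono (by omega) (hO x)
    have hc' := IH.1 hO' hc
    have hc'' : LocPC m ((pushforward i).mapDerivedCategory.obj
        (DerivedCategory.Q.obj (CochainComplex.mappingCone f))) (i z) :=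
      locPC_of_iso e₃.symm hc'
    exact locPC_of_iso e₂ (locPC_obj₂ _ hT' m (i z) (h₁' m hO) hc'')
  · intro hO h
    have h' : LocPC m ((pushforward i).mapDerivedCategory.obj (DerivedCategory.Q.obj F)) (i z) :=
      locPC_of_iso e₂.symm h
    have hc'' : LocPC m ((pushforward i).mapDerivedCategory.obj
        (DerivedCategory.Q.obj (CochainComplex.mappingCone f))) (i z) :=
      locPC_obj₃ _ hT' m (i z) (h₁' (m + 1) hO) h'
    have hO' : ∀ x : X, LocPC (m + 1 - (n - 1))
        (DCoh.inD X ((pushforward i).obj (Coh.structureModule Z))) x :=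
      fun x => locPC_mono (by omega) (hO x)
    have hc := IH.2 hO' (locPC_of_iso e₃ hc'')
    exact locPC_obj₂ _ hT m z (h₁ m) hc

end Closed

section Main

/-- The main induction: `k` bounds the number of possibly nonzero cohomology sheaves in degrees
`≥ m`. -/
theorem claim_fin : ∀ (k : ℕ) {Z X : Scheme.{u}} (i : Z ⟶ X) [IsClosedImmersion i] (m b : ℤ)
    (_ : b < m + k) (F : CochainComplex Z.Modules ℤ)
    (_ : ∀ j : ℤ, b < j → IsZero (F.homology j)) (z : Z), Dir i m b F z := by
  intro k
  induction k with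
  | zero =>
    intro Z X i _ m b hb F hF z
    have hb' : b < m := by simpa using hb
    have h1 : LocPC m (DerivedCategory.Q.obj F) z :=
      locPC_Q_of_isZero_homology F m (fun j hj => hF j (by omega)) z
    have h2 : LocPC m (DerivedCategory.Q.obj ((DerSch.pushCx i).obj F)) (i z) :=
      locPC_Q_of_isZero_homology _ m (fun j hj =>
        IsZero.of_iso (Functor.map_isZero _ (hF j (by omega)))
          (homologyPushCxIso i F j)) (i z)
    exact ⟨fun _ _ => h2, fun _ _ => h1⟩
  | succ k ih =>
    intro Z X i _ m b hb F hF z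
    by_cases hb' : b < m + k
    · exact ih i m b hb' F hF z
    have hbk : b = m + k := by
      push_cast at hb
      omega
    have hfgL : LocPC m (DerivedCategory.Q.obj F) z → LocFG (F.homology b) z := by
      intro h
      have h' : LocPC b (DerivedCategory.Q.obj F) z := locPC_mono (by omega) h
      have h2 := (locFPres_HD_of_locPC h').1 (fun j hj =>
        IsZero.of_iso (hF j hj) ((DerivedCategory.homologyFunctorFactors _ j).app F))
      exact h2.of_iso ((DerivedCategory.homologyFunctorFactors _ b).app F)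
    have hfgR : LocPC m (DerivedCategory.Q.obj ((DerSch.pushCx i).obj F)) (i z) →
        LocFG (F.homology b) z := by
      intro h
      have h' : LocPC b (DerivedCategory.Q.obj ((DerSch.pushCx i).obj F)) (i z) :=
        locPC_mono (by omega) h
      have h2 := (locFPres_HD_of_locPC h').1 (fun j hj =>
        IsZero.of_iso (Functor.map_isZero (pushforward i) (hF j hj))
          ((DerivedCategory.homologyFunctorFactors _ j).app _ ≪≫ homologyPushCxIso i F j))
      exact locFG_of_locFG_push i _ z
        (h2.of_iso ((DerivedCategory.homologyFunctorFactors _ b).app _ ≪≫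
          homologyPushCxIso i F b))
    have key : LocFG (F.homology b) z → Dir i m b F z := by
      intro hfg
      obtain ⟨V₁, hzV₁, G, hG⟩ := hfg.exists_opens
      obtain ⟨W₁, rfl⟩ := exists_opens_preimage i V₁
      obtain ⟨z₁, rfl⟩ : ∃ z₁ : ((i ⁻¹ᵁ W₁ : Z.Opens) : Scheme.{u}), (i ⁻¹ᵁ W₁).ι z₁ = z :=
        ⟨⟨z, hzV₁⟩, rfl⟩
      refine dir_of_restrict i m b W₁ F z₁ ?_
      have eH : ∀ j : ℤ, ((DCoh.restrictCx (i ⁻¹ᵁ W₁)).obj F).homology j ≅
          (restrictFunctor (i ⁻¹ᵁ W₁).ι).obj (F.homology j) := fun j =>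
        (homologyMapHCIso (restrictFunctor (i ⁻¹ᵁ W₁).ι) j).app F
      have hF₁ : ∀ j : ℤ, b < j →
          IsZero (((DCoh.restrictCx (i ⁻¹ᵁ W₁)).obj F).homology j) := fun j hj =>
        IsZero.of_iso (Functor.map_isZero _ (hF j hj)) (eH j)
      obtain ⟨k₁, π₀, hπ₀⟩ := exists_epi_freeMod_of_generatingSections G hG
      have hπ₁ : Epi (π₀ ≫ (eH b).inv) := epi_comp' hπ₀ inferInstance
      obtain ⟨V₂, hz₁V₂, f, hf⟩ := exists_single_map _ b k₁ (π₀ ≫ (eH b).inv) hπ₁ z₁
      obtain ⟨W₂, rfl⟩ := exists_opens_preimage (i ∣_ W₁) V₂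
      obtain ⟨z₂, rfl⟩ : ∃ z₂ : (((i ∣_ W₁) ⁻¹ᵁ W₂ : ((i ⁻¹ᵁ W₁ : Z.Opens) : Scheme.{u}).Opens) :
          Scheme.{u}), ((i ∣_ W₁) ⁻¹ᵁ W₂).ι z₂ = z₁ := ⟨⟨z₁, hz₁V₂⟩, rfl⟩
      refine dir_of_restrict (i ∣_ W₁) m b W₂ _ z₂ ?_
      have hF₂ : ∀ j : ℤ, b < j →
          IsZero (((DCoh.restrictCx ((i ∣_ W₁) ⁻¹ᵁ W₂)).obj
            ((DCoh.restrictCx (i ⁻¹ᵁ W₁)).obj F)).homology j) := fun j hj =>
        IsZero.of_iso (Functor.map_isZero (restrictFunctor ((i ∣_ W₁) ⁻¹ᵁ W₂).ι) (hF₁ j hj))
          ((homologyMapHCIso (restrictFunctor ((i ∣_ W₁) ⁻¹ᵁ W₂).ι) j).app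
            ((DCoh.restrictCx (i ⁻¹ᵁ W₁)).obj F))
      refine dir_of_cone ((i ∣_ W₁) ∣_ W₂) _ b k₁ f m z₂ ?_
      exact ih ((i ∣_ W₁) ∣_ W₂) m (b - 1) (by omega) (CochainComplex.mappingCone f)
        (fun j hj => isZero_homology_cone _ b f hf hF₂ j (by omega)) z₂
    exact ⟨fun hO h => (key (hfgL h)).1 hO h, fun hO h => (key (hfgR h)).2 hO h⟩

variable {Z X : Scheme.{u}} (i : Z ⟶ X) [IsClosedImmersion i]

/-- Forward direction at finite level. -/
theorem isPC_Q_pushCx_of_isPC_fin (F : CochainComplex Z.Modules ℤ) (m b : ℤ)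
    (hF : ∀ j : ℤ, b < j → IsZero (F.homology j))
    (hO : DCoh.IsPseudoCoherentD (m - b)
      (DCoh.inD X ((pushforward i).obj (Coh.structureModule Z))))
    (h : DCoh.IsPseudoCoherentD m (DerivedCategory.Q.obj F)) :
    DCoh.IsPseudoCoherentD m (DerivedCategory.Q.obj ((DerSch.pushCx i).obj F)) := by
  rw [isPC_iff] at h hO ⊢
  intro x
  by_cases hx : x ∈ Set.range i.base
  · obtain ⟨z, rfl⟩ := hx
    have hk : b < m + ((b + 1 - m).toNat : ℤ) := by
      have := Int.self_le_toNat (b + 1 - m)
      omega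
    exact (claim_fin (b + 1 - m).toNat i m b hk F hF z).1 hO (h z)
  · exact locPC_outside i F m x hx

/-- Backward direction at finite level. -/
theorem isPC_Q_of_isPC_pushCx_fin (F : CochainComplex Z.Modules ℤ) (m b : ℤ)
    (hF : ∀ j : ℤ, b < j → IsZero (F.homology j))
    (hO : DCoh.IsPseudoCoherentD (m + 1 - b)
      (DCoh.inD X ((pushforward i).obj (Coh.structureModule Z))))
    (h : DCoh.IsPseudoCoherentD m (DerivedCategory.Q.obj ((DerSch.pushCx i).obj F))) :
    DCoh.IsPseudoCoherentD m (DerivedCategory.Q.obj F) := by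
  rw [isPC_iff] at h hO ⊢
  intro z
  have hk : b < m + ((b + 1 - m).toNat : ℤ) := by
    have := Int.self_le_toNat (b + 1 - m)
    omega
  exact (claim_fin (b + 1 - m).toNat i m b hk F hF z).2 hO (h (i z))

end Main

end Groth.Agent.H90.CPC
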