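import Groth.Agent.H90.ChartMod
import Groth.Agent.H90.ClosedPCFin
import Groth.Agent.H90.ChartFin
import Groth.Agent.H90.PCohTop
import Groth.Prelude.Def_Flatn

/-!
# Relative pseudo-coherence of a module in degree `0` at levels `0` and `-1` (helper90)
-/

set_option autoImplicit false
set_option linter.style.haveILetI false
set_option maxHeartbeats 400000
universe u
open CategoryTheory CategoryTheory.Limits AlgebraicGeometry TopologicalSpace Opposite
open AlgebraicGeometry.Scheme.Modules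

attribute [local instance] HasDerivedCategory.standard

namespace Groth.Agent.H90.Chart

open Groth.Agent.H56
open Groth.Agent.H90.SPerf Groth.Agent.H90.LR Groth.Agent.H90.QH Groth.Agent.H28.PCohD
open Groth.Agent.H90.CPC Groth.Agent.H90.TPC Groth.Agent.H90.TPerf Groth.Agent.H90.CPerf

variable {X S : Scheme.{u}}

/-- The complex `M[0]`. -/
noncomputable abbrev sCx (M : X.Modules) : CochainComplex X.Modules ℤ :=
  (HomologicalComplex.single X.Modules (ComplexShape.up ℤ) 0).obj M

lemma isZero_homology_restrict_sCx (M : X.Modules) (U : X.Opens) (j : ℤ) (hj : 0 < j) :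
    IsZero (((DCoh.restrictCx U).obj (sCx M)).homology j) :=
  isZero_homology_restrictCx (sCx M) j
    (HomologicalComplex.isZero_single_obj_homology (ComplexShape.up ℤ) 0 M j (by omega))

/-- `i_* O_U` is `0`-pseudo-coherent for a chart. -/
lemma isPC_zero_push_unit {U : X.Opens} (hU : IsAffineOpen U) {P : Type u} [CommRing P]
    (θ : P →+* Γ(X, U)) (hθ : Function.Surjective θ) :
    DCoh.IsPseudoCoherentD 0 (DCoh.inD (Spec (CommRingCat.of P))
      ((pushforward (imm U θ)).obj (Coh.structureModule (U : Scheme.{u})))) := by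
  refine (isPC_push_imm_iff hU θ hθ 0).2 ((Groth.Agent.H56.isPseudoCoherent_zero_single_iff _).2 ?_)
  let l : P →ₗ[P] ((ModuleCat.restrictScalars.{u} θ).obj (ModuleCat.of Γ(X, U) Γ(X, U)) :
      ModuleCat.{u} P) :=
    { toFun := fun r => θ r
      map_add' := map_add θ
      map_smul' := fun r s => map_mul θ r s }
  exact Module.Finite.of_surjective l hθ

/-- The chart test at level `0` for a module is absolute pseudo-coherence on `U`. -/
theorem chartPC_zero_iff (M : X.Modules) {U : X.Opens} (hU : IsAffineOpen U) (V : S.Opens)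
    {n : ℕ} (φ : MvPolynomial (Fin n) Γ(S, V) →+* Γ(X, U)) (hφ : Function.Surjective φ) :
    DerSch.ChartPC 0 (DCoh.inD X M) U V φ ↔
      DCoh.IsPseudoCoherentD 0 (DerivedCategory.Q.obj ((DCoh.restrictCx U).obj (sCx M))) := by
  haveI := isClosedImmersion_imm hU φ hφ
  have hO0 := isPC_zero_push_unit hU φ hφ
  have hO1 := isPC_mono (show (0 : ℤ) ≤ 1 by norm_num) hO0
  refine (forall_rep_iff hU φ hφ 0 _ (sCx M) (toDSingleIso M)).trans ⟨fun h => ?_, fun h => ?_⟩
  · refine isPC_Q_of_isPC_pushCx_fin (imm U φ) _ 0 0 (isZero_homology_restrict_sCx M U) ?_ h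
    rw [show (0 : ℤ) + 1 - 0 = 1 by norm_num]
    exact hO1
  · refine isPC_Q_pushCx_of_isPC_fin (imm U φ) _ 0 0 (isZero_homology_restrict_sCx M U) ?_ h
    rw [sub_zero]
    exact hO0

/-- Part (2) of S7212. -/
theorem rel_zero_iff_isFT (f : X ⟶ S) [LocallyOfFiniteType f] (M : X.Modules) :
    DerSch.IsPseudoCoherentRel f 0 (DCoh.inD X M) ↔ CohB1.IsFT M := by
  rw [← (isPC_single_iff M).1]
  constructor
  · intro hE
    rw [isPC_iff]
    intro x
    obtain ⟨U, V, n, φ, hU, hxU, hsurj, hPC⟩ :=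
      exists_chart_of_isPseudoCoherentRel f 0 _ hE x
    have h1 := (chartPC_zero_iff M hU V φ hsurj).1 hPC
    rw [isPC_iff] at h1
    have h2 := (locPC_Q_restrictCx_iff U (sCx M) 0 ⟨x, hxU⟩).1 (h1 ⟨x, hxU⟩)
    exact locPC_of_iso (toDSingleIso M) h2
  · intro h
    have h0 : DCoh.IsPseudoCoherentD 0 (DerivedCategory.Q.obj (sCx M)) :=
      isPC_of_iso (toDSingleIso M).symm h
    refine isPseudoCoherentRel_of_forall_good inferInstance (fun U V hUV => ?_)
    obtain ⟨n, φ, hφ⟩ := exists_isChart (inferInstance : LocallyOfFiniteType f) U.2 V.2 hUV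
    exact ⟨n, φ, hφ, (chartPC_zero_iff M U.2 _ φ hφ.1).2 (isPC_restrictCx _ _ 0 h0)⟩

/-- The chart test for a module in terms of the direct image module. -/
theorem chartPC_inD_iff_push (M : X.Modules) {U : X.Opens} (hU : IsAffineOpen U) (V : S.Opens)
    {n : ℕ} (φ : MvPolynomial (Fin n) Γ(S, V) →+* Γ(X, U)) (hφ : Function.Surjective φ) (k : ℤ) :
    DerSch.ChartPC k (DCoh.inD X M) U V φ ↔
      DCoh.IsPseudoCoherentD k (DCoh.inD (Spec (CommRingCat.of (MvPolynomial (Fin n) Γ(S, V))))
        ((pushforward (imm U φ)).obj ((restrictFunctor U.ι).obj M))) := by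
  haveI := isClosedImmersion_imm hU φ hφ
  have e : DCoh.toD (Spec (CommRingCat.of (MvPolynomial (Fin n) Γ(S, V))))
      ((DerSch.pushCx (imm U φ)).obj ((DCoh.restrictCx U).obj (sCx M))) ≅
      DCoh.inD (Spec (CommRingCat.of (MvPolynomial (Fin n) Γ(S, V))))
        ((pushforward (imm U φ)).obj ((restrictFunctor U.ι).obj M)) :=
    DerivedCategory.Q.mapIso (pushRestrictSingleIso U (imm U φ) M) ≪≫
      ((DerivedCategory.singleFunctorIsoCompQ _ 0).app _).symm
  exact (forall_rep_iff hU φ hφ k _ (sCx M) (toDSingleIso M)).trans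
    ⟨isPC_of_iso e, isPC_of_iso e.symm⟩

/-- Finite presentation of the sections over a chart, in the two forms. -/
theorem fp_sections_iff (M : X.Modules) (U : X.Opens) {P : Type u} [CommRing P]
    (φ : P →+* Γ(X, U)) :
    Module.FinitePresentation P ((ModuleCat.restrictScalars.{u}
        (gammaMap (CommRingCat.of P) (imm U φ)).hom).obj
        (ModuleCat.of Γ((U : Scheme.{u}), ⊤) Γ((restrictFunctor U.ι).obj M, ⊤))) ↔
      (letI : Module P Γ(M, U) := Module.compHom _ φ
       Module.FinitePresentation P Γ(M, U)) := by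
  letI I₂ : Module P Γ(M, U) := Module.compHom _ φ
  have hW : U.ι ''ᵁ (⊤ : (U : Scheme.{u}).Opens) = U := U.ι_image_top
  let ρ : Γ(M, U.ι ''ᵁ (⊤ : (U : Scheme.{u}).Opens)) ≃+ Γ(M, U) :=
    (M.presheaf.mapIso (eqToIso hW.symm).op).addCommGroupIsoToAddEquiv
  have hρ : ∀ (r : Γ(X, U)) (x : Γ(M, U.ι ''ᵁ (⊤ : (U : Scheme.{u}).Opens))),
      ρ ((show Γ(X, U.ι ''ᵁ (⊤ : (U : Scheme.{u}).Opens)) from U.topIso.inv.hom r) • x) =
        r • ρ x := by
    intro r x
    have h1 := Scheme.Modules.map_smul (M := M) (eqToHom hW.symm)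
      (show Γ(X, U.ι ''ᵁ (⊤ : (U : Scheme.{u}).Opens)) from U.topIso.inv.hom r) x
    have h2 : X.presheaf.map (eqToHom hW.symm).op
        (show Γ(X, U.ι ''ᵁ (⊤ : (U : Scheme.{u}).Opens)) from U.topIso.inv.hom r) = r := by
      have h3 := congr($(U.topIso.inv_hom_id) r)
      rw [Scheme.Opens.topIso_hom] at h3
      exact h3
    rw [h2] at h1
    exact h1
  let e : ((ModuleCat.restrictScalars.{u} (gammaMap (CommRingCat.of P) (imm U φ)).hom).obj
        (ModuleCat.of Γ((U : Scheme.{u}), ⊤) Γ((restrictFunctor U.ι).obj M, ⊤))) ≃ₗ[P]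
      Γ(M, U) :=
    { toFun := fun x => ρ x
      invFun := fun y => ρ.symm y
      map_add' := fun x y => ρ.map_add x y
      map_smul' := fun p x => by
        change ρ (((gammaMap (CommRingCat.of P) (imm U φ)).hom p) •
          (show Γ((restrictFunctor U.ι).obj M, ⊤) from x)) = φ p • ρ x
        rw [restrict_smul_eq, gammaMap_imm φ]
        exact hρ (φ p) x
      left_inv := fun x => ρ.left_inv x
      right_inv := fun y => ρ.right_inv y }
  constructor
  · intro h
    haveI := h
    exact Module.finitePresentation_of_surjective e.toLinearMap e.surjective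
      (by rw [LinearEquiv.ker]; exact Submodule.fg_bot)
  · intro h
    haveI : Module.FinitePresentation P Γ(M, U) := h
    exact Module.finitePresentation_of_surjective e.symm.toLinearMap e.symm.surjective
      (by rw [LinearEquiv.ker]; exact Submodule.fg_bot)

/-- The chart test at level `-1` for a quasi-coherent module: finite presentation of the
sections over the polynomial ring. -/
theorem chartPC_negOne_iff (M : X.Modules) [M.IsQuasicoherent] {U : X.Opens}
    (hU : IsAffineOpen U) (V : S.Opens) {n : ℕ}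
    (φ : MvPolynomial (Fin n) Γ(S, V) →+* Γ(X, U)) (hφ : Function.Surjective φ) :
    DerSch.ChartPC (-1) (DCoh.inD X M) U V φ ↔
      (letI : Module (MvPolynomial (Fin n) Γ(S, V)) Γ(M, U) := Module.compHom _ φ
       Module.FinitePresentation (MvPolynomial (Fin n) Γ(S, V)) Γ(M, U)) := by
  haveI := isClosedImmersion_imm hU φ hφ
  haveI := (Groth.Agent.S9498.key (CommRingCat.of (MvPolynomial (Fin n) Γ(S, V)))).1
  haveI : ((pushforward (imm U φ)).obj ((restrictFunctor U.ι).obj M)).IsQuasicoherent :=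
    Groth.Agent.H8.isQuasicoherent_pushforward _ _
  rw [chartPC_inD_iff_push M hU V φ hφ (-1),
    isPC_push_module_iff (CommRingCat.of (MvPolynomial (Fin n) Γ(S, V))) (imm U φ)
      ((restrictFunctor U.ι).obj M) (-1)]
  exact (Groth.Agent.H56.isPseudoCoherent_negOne_single_iff _).trans (fp_sections_iff M U φ)

/-- Part (3) of S7212. -/
theorem rel_negOne_iff (f : X ⟶ S) [LocallyOfFiniteType f] (M : X.Modules) :
    DerSch.IsPseudoCoherentRel f (-1) (DCoh.inD X M) ↔ (Coh.IsQCoh M ∧ Flatn.IsRelFP f M) := by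
  constructor
  · intro hE
    have hq : M.IsQuasicoherent := by
      have hq0 := isQCoh_HD_of_isPseudoCoherentRel f (-1) _ hE 0 (by omega)
      haveI : ((DerivedCategory.singleFunctor X.Modules 0 ⋙
          DerivedCategory.homologyFunctor X.Modules 0).obj M).IsQuasicoherent := hq0
      exact H22.QCohLimits.isQuasicoherent_of_iso
        ((DerivedCategory.singleFunctorCompHomologyFunctorIso X.Modules 0).app M)
    haveI := hq
    refine ⟨hq, ?_⟩
    obtain ⟨-, 𝒱, h𝒱, hrest⟩ := hE
    refine ⟨𝒱, h𝒱, fun V hV => ?_⟩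
    obtain ⟨𝒰, h𝒰, hch⟩ := hrest V hV
    refine ⟨𝒰, h𝒰, fun U hU h => ?_⟩
    obtain ⟨n, φ, hφ, hPC⟩ := hch U hU h
    letI := (f.appLE (V : S.Opens) (U : X.Opens) h).hom.toAlgebra
    exact ⟨n, AlgHom.mk φ (fun r => RingHom.congr_fun hφ.2 r), hφ.1,
      (chartPC_negOne_iff M U.2 (V : S.Opens) φ hφ.1).1 hPC⟩
  · rintro ⟨hq, 𝒱, h𝒱, hrest⟩
    haveI : M.IsQuasicoherent := hq
    refine ⟨inferInstance, 𝒱, h𝒱, fun V hV => ?_⟩
    obtain ⟨𝒰, h𝒰, hch⟩ := hrest V hV
    refine ⟨𝒰, h𝒰, fun U hU h => ?_⟩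
    letI := (f.appLE (V : S.Opens) (U : X.Opens) h).hom.toAlgebra
    obtain ⟨n, α, hα, hfp⟩ := hch U hU h
    refine ⟨n, (α : MvPolynomial (Fin n) Γ(S, (V : S.Opens)) →+* Γ(X, (U : X.Opens))),
      ⟨hα, RingHom.ext (fun r => α.commutes r)⟩, ?_⟩
    exact (chartPC_negOne_iff M U.2 (V : S.Opens) _ hα).2 hfp

end Groth.Agent.H90.Chart
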