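import Groth.Agent.H90.ChartRel
import Groth.Agent.H56.FlatFP

/-!
# Flat morphisms locally of finite presentation are pseudo-coherent (chart form) (helper90)

* `isNPseudoCoherent_of_q`: if all affine-local ring maps of `b` are pseudo-coherent ring maps
  (`H56.PcMor.Q`) then `b` is `n`-pseudo-coherent for every `n` in the chart form.
* `isNPseudoCoherent_of_flat_lfp`: flat + locally of finite presentation ⇒ pseudo-coherent.
* `isPseudoCoherentRel_comp_flat_iff` (= S7226).
-/

set_option autoImplicit false
set_option linter.style.haveILetI false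
set_option maxHeartbeats 400000
universe u
open CategoryTheory CategoryTheory.Limits AlgebraicGeometry TopologicalSpace Opposite
open AlgebraicGeometry.Scheme.Modules

attribute [local instance] HasDerivedCategory.standard

namespace Groth.Agent.H90.Chart

open Groth.Agent.H56

variable {T S : Scheme.{u}} (b : T ⟶ S)

/-- If all affine-local ring maps of `b` are pseudo-coherent, `b` is `n`-pseudo-coherent in the
chart form. -/
theorem isNPseudoCoherent_of_q (hft : LocallyOfFiniteType b)
    (hq : ∀ (V : T.affineOpens) (W : S.affineOpens) (h : (V : T.Opens) ≤ b ⁻¹ᵁ (W : S.Opens)),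
      Groth.Agent.H56.PcMor.Q (b.appLE (W : S.Opens) (V : T.Opens) h).hom) (n : ℤ) :
    DerSch.IsNPseudoCoherent b n := by
  refine isPseudoCoherentRel_of_forall_good hft (fun V W h => ?_)
  obtain ⟨k, δ, hδs, hδC, hδp⟩ := (Groth.Agent.H56.PcMor.q_iff _).1 (hq V W h)
  refine ⟨k, δ, ⟨hδs, RingHom.ext hδC⟩, ?_⟩
  exact (chartPC_unit_iff V.2 (W : S.Opens) δ hδs n).2 (hδp n)

/-- Conversely, the affine-local ring maps of a pseudo-coherent morphism (chart form) are
pseudo-coherent ring maps. -/
theorem q_of_isNPseudoCoherent (hb : ∀ n : ℤ, DerSch.IsNPseudoCoherent b n)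
    {V : T.Opens} {W : S.Opens} (hV : IsAffineOpen V) (hW : IsAffineOpen W)
    (h : V ≤ b ⁻¹ᵁ W) : Groth.Agent.H56.PcMor.Q (b.appLE W V h).hom := by
  obtain ⟨k, δ, hδ⟩ := exists_isChart (hb 0).1 hV hW h
  exact (Groth.Agent.H56.PcMor.q_iff _).2
    ⟨k, δ, hδ.1, fun r => RingHom.congr_fun hδ.2 r, pcHom_of_chart hb hV hW h δ hδ⟩

/-- A flat morphism locally of finite presentation is pseudo-coherent (chart form). -/
theorem isNPseudoCoherent_of_flat_lfp [Flat b] [LocallyOfFinitePresentation b] (n : ℤ) :
    DerSch.IsNPseudoCoherent b n := by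
  refine isNPseudoCoherent_of_q b inferInstance (fun V W h => ?_) n
  have hfl : (b.appLE (W : S.Opens) (V : T.Opens) h).hom.Flat :=
    HasRingHomProperty.appLE (P := @Flat) b inferInstance W V h
  have hfp : (b.appLE (W : S.Opens) (V : T.Opens) h).hom.FinitePresentation :=
    HasRingHomProperty.appLE (P := @LocallyOfFinitePresentation) b inferInstance W V h
  letI : Algebra Γ(S, (W : S.Opens)) Γ(T, (V : T.Opens)) :=
    (b.appLE (W : S.Opens) (V : T.Opens) h).hom.toAlgebra
  haveI : Module.Flat Γ(S, (W : S.Opens)) Γ(T, (V : T.Opens)) := hfl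
  haveI : Algebra.FinitePresentation Γ(S, (W : S.Opens)) Γ(T, (V : T.Opens)) := hfp
  exact (Groth.Agent.H56.PcMor.isPerfectHom_of_flat_fp Γ(S, (W : S.Opens))
    Γ(T, (V : T.Opens))).1

/-- Relative pseudo-coherence with respect to `a` and `a ≫ b` for `b` flat and locally of
finite presentation (= S7226). -/
theorem isPseudoCoherentRel_comp_flat_iff {X : Scheme.{u}} (a : X ⟶ T) [LocallyOfFiniteType a]
    [Flat b] [LocallyOfFinitePresentation b] (m : ℤ) (E : DCoh.D X) :
    DerSch.IsPseudoCoherentRel (a ≫ b) m E ↔ DerSch.IsPseudoCoherentRel a m E :=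
  (isPseudoCoherentRel_comp_iff a b inferInstance (isNPseudoCoherent_of_flat_lfp b) m E).symm

end Groth.Agent.H90.Chart
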