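import Groth.Agent.H90.ChartPoly

/-!
# Good pairs of affine opens for relative pseudo-coherence (helper90)

`Good f m E U V h`: there is a chart `φ` for `(U, V)` with `DerSch.ChartPC m E U V φ`.

* `locTheta_comp_C`: compatibility of the localized chart with the structure map.
* `good_basicOpen` : good pairs localize on the source (basic opens).
* `test_locTheta_iff` : the test along the localized chart is equivalent to the test along any chart
  of the basic open.
* `chartPC_of_good_cover` : glueing along a finite cover by basic opens (cf. S7217).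
-/

set_option autoImplicit false
set_option linter.style.haveILetI false
set_option maxHeartbeats 400000
universe u
open CategoryTheory CategoryTheory.Limits AlgebraicGeometry TopologicalSpace Opposite
open AlgebraicGeometry.Scheme.Modules

attribute [local instance] HasDerivedCategory.standard

namespace Groth.Agent.H90.Chart

open Groth.Agent.H56

variable {X S : Scheme.{u}} (f : X ⟶ S)

/-- There is a chart for `(U, V)` passing the pseudo-coherence test. -/
def Good (m : ℤ) (E : DCoh.D X) (U : X.Opens) (V : S.Opens) (h : U ≤ f ⁻¹ᵁ V) : Prop :=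
  ∃ (n : ℕ) (φ : MvPolynomial (Fin n) Γ(S, V) →+* Γ(X, U)),
    DerSch.IsChart f U V h φ ∧ DerSch.ChartPC m E U V φ

lemma good_congr {m : ℤ} {E : DCoh.D X} {U U' : X.Opens} {V V' : S.Opens} (hU : U = U')
    (hV : V = V') (h : U ≤ f ⁻¹ᵁ V) (h' : U' ≤ f ⁻¹ᵁ V') (H : Good f m E U V h) :
    Good f m E U' V' h' := by
  subst hU
  subst hV
  exact H

variable {f} {U : X.Opens} {V : S.Opens} {h : U ≤ f ⁻¹ᵁ V}

lemma locTheta_comp_C {n : ℕ} (φ : MvPolynomial (Fin n) Γ(S, V) →+* Γ(X, U))
    (hφC : φ.comp MvPolynomial.C = (f.appLE V U h).hom) (G : MvPolynomial (Fin n) Γ(S, V)) :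
    (locTheta U φ G).comp ((algebraMap (MvPolynomial (Fin n) Γ(S, V)) (LocRing G)).comp
      MvPolynomial.C) =
      (f.appLE V (X.basicOpen (φ G)) ((X.basicOpen_le (φ G)).trans h)).hom := by
  rw [← RingHom.comp_assoc, locTheta_comp_algebraMap, RingHom.comp_assoc, hφC]
  have h1 : f.appLE V U h ≫ X.presheaf.map (homOfLE (X.basicOpen_le (φ G))).op =
      f.appLE V (X.basicOpen (φ G)) ((X.basicOpen_le (φ G)).trans h) := by
    rw [Scheme.Hom.appLE_map]
  exact congrArg (fun t => t.hom) h1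

/-- The test along the localized chart is equivalent to the test along any chart of `D(φ G)`. -/
theorem test_locTheta_iff (hU : IsAffineOpen U) {n : ℕ}
    (φ : MvPolynomial (Fin n) Γ(S, V) →+* Γ(X, U)) (hφ : DerSch.IsChart f U V h φ)
    (G : MvPolynomial (Fin n) Γ(S, V)) {k : ℕ}
    (ψ : MvPolynomial (Fin k) Γ(S, V) →+* Γ(X, X.basicOpen (φ G)))
    (hψ : DerSch.IsChart f (X.basicOpen (φ G)) V ((X.basicOpen_le (φ G)).trans h) ψ)
    (m : ℤ) (G₀ : CochainComplex X.Modules ℤ) :
    Test m G₀ (X.basicOpen (φ G)) (locTheta U φ G) ↔ Test m G₀ (X.basicOpen (φ G)) ψ := by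
  refine test_iff_of_polyLike _ ((polyLike_C n).away (P' := LocRing G) G) (locTheta U φ G)
    (locTheta_surjective hU φ hφ.1 G) ψ hψ.1 ?_ m G₀
  rw [hψ.2, locTheta_comp_C φ hφ.2 G]

/-- Good pairs localize on the source. -/
theorem good_basicOpen (hU : IsAffineOpen U) {m : ℤ} {E : DCoh.D X} {n : ℕ}
    (φ : MvPolynomial (Fin n) Γ(S, V) →+* Γ(X, U)) (hφ : DerSch.IsChart f U V h φ)
    (hPC : DerSch.ChartPC m E U V φ) (G : MvPolynomial (Fin n) Γ(S, V)) :
    Good f m E (X.basicOpen (φ G)) V ((X.basicOpen_le (φ G)).trans h) := by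
  obtain ⟨k, ψ, hψs, hψC, hψT⟩ := exists_chart_of_polyLike _
    ((polyLike_C n).away (P' := LocRing G) G) (locTheta U φ G) (locTheta_surjective hU φ hφ.1 G)
  refine ⟨k, ψ, ⟨hψs, ?_⟩, ?_⟩
  · rw [hψC, locTheta_comp_C φ hφ.2 G]
  · intro G₀ hG₀
    exact (hψT m G₀).1 (test_basicOpen φ G m G₀ (hPC G₀ hG₀))

/-- Good pairs localize on the source (elements of `Γ(X, U)`). -/
theorem good_basicOpen' (hU : IsAffineOpen U) {m : ℤ} {E : DCoh.D X}
    (H : Good f m E U V h) (g : Γ(X, U)) :
    Good f m E (X.basicOpen g) V ((X.basicOpen_le g).trans h) := by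
  obtain ⟨n, φ, hφ, hPC⟩ := H
  obtain ⟨G, rfl⟩ := hφ.1 g
  exact good_basicOpen hU φ hφ hPC G

/-- Glueing along a cover by basic opens: if all `D(g j)` are good then every chart of `(U, V)`
passes the test. -/
theorem chartPC_of_good_cover (hU : IsAffineOpen U) {m : ℤ} {E : DCoh.D X} {n : ℕ}
    (φ : MvPolynomial (Fin n) Γ(S, V) →+* Γ(X, U)) (hφ : DerSch.IsChart f U V h φ)
    {ι : Type*} (g : ι → Γ(X, U)) (hg : Ideal.span (Set.range g) = ⊤)
    (H : ∀ j, Good f m E (X.basicOpen (g j)) V ((X.basicOpen_le (g j)).trans h)) :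
    DerSch.ChartPC m E U V φ := by
  choose Gs hGs using fun j => hφ.1 (g j)
  intro G₀ hG₀
  have hspan : Ideal.span (Set.range (fun j => φ (Gs j))) = ⊤ := by
    have : (fun j => φ (Gs j)) = g := funext hGs
    rw [this]
    exact hg
  refine test_of_cover hU φ hφ.1 Gs hspan m G₀ (fun j => ?_)
  have Hj : Good f m E (X.basicOpen (φ (Gs j))) V ((X.basicOpen_le (φ (Gs j))).trans h) :=
    good_congr f (congrArg X.basicOpen (hGs j).symm) rfl _ _ (H j)
  obtain ⟨k, ψ, hψ, hψPC⟩ := Hj
  exact (test_locTheta_iff hU φ hφ (Gs j) ψ hψ m G₀).2 (hψPC G₀ hG₀)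

end Groth.Agent.H90.Chart
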