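import Groth.Agent.H90.ChartCx

/-!
# Relative pseudo-coherence: the cohomological criterion (helper90)

* `singleHnIso`: `H^n` of the single functor in degree `n`.
* `trunc_facts`: homology of a truncation triangle.
* `rel_of_homology` (= S7216): if `E ∈ D^{≤ b}` and every `H^i(E)` is `(m - i)`-pseudo-coherent
  relative to `f`, then `E` is `m`-pseudo-coherent relative to `f`.
-/

set_option autoImplicit false
set_option linter.style.haveILetI false
set_option maxHeartbeats 400000
universe w v u' u
open CategoryTheory CategoryTheory.Limits AlgebraicGeometry TopologicalSpace Opposite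
open AlgebraicGeometry.Scheme.Modules

attribute [local instance] HasDerivedCategory.standard

namespace Groth.Agent.H90.Chart

section General

variable {C : Type u'} [Category.{v} C] [Abelian C] [HasDerivedCategory.{w} C]

open DerivedCategory Pretriangulated

/-- `H^n` of the single functor in degree `n`. -/
noncomputable def singleHnIso (n : ℤ) : singleFunctor C n ⋙ homologyFunctor C n ≅ 𝟭 C :=
  Functor.isoWhiskerRight (singleFunctorIsoCompQ C n) _ ≪≫ Functor.associator _ _ _ ≪≫
    Functor.isoWhiskerLeft _ (homologyFunctorFactors C n) ≪≫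
    HomologicalComplex.homologyFunctorSingleIso C (ComplexShape.up ℤ) n

/-- Homology of a truncation triangle `τ_{<b} E ⟶ E ⟶ τ_{≥b} E` with `E ∈ D^{≤ b}`. -/
theorem trunc_facts (T : Triangle (DerivedCategory C)) (hT : T ∈ distTriang _) (b : ℤ)
    [T.obj₁.IsLE (b - 1)] [T.obj₃.IsGE b] [T.obj₂.IsLE b] :
    (∀ i, i < b → Nonempty ((homologyFunctor C i).obj T.obj₁ ≅
      (homologyFunctor C i).obj T.obj₂)) ∧
    (∀ i, b ≤ i → IsZero ((homologyFunctor C i).obj T.obj₁)) ∧
    ∃ A : C, Nonempty (T.obj₃ ≅ (singleFunctor C b).obj A) ∧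
      Nonempty (A ≅ (homologyFunctor C b).obj T.obj₂) := by
  have z1 : ∀ i, b ≤ i → IsZero ((homologyFunctor C i).obj T.obj₁) :=
    fun i hi => isZero_of_isLE T.obj₁ (b - 1) i (by omega)
  have z3 : ∀ i, i < b → IsZero ((homologyFunctor C i).obj T.obj₃) :=
    fun i hi => isZero_of_isGE T.obj₃ b i hi
  have z2 : ∀ i, b < i → IsZero ((homologyFunctor C i).obj T.obj₂) :=
    fun i hi => isZero_of_isLE T.obj₂ b i hi
  refine ⟨fun i hi => ?_, z1, ?_⟩
  · haveI : Epi ((homologyFunctor C i).map T.mor₁) :=
      (HomologySequence.epi_homologyMap_mor₁_iff T hT i).2 ((z3 i hi).eq_of_tgt _ _)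
    haveI : Mono ((homologyFunctor C i).map T.mor₁) :=
      (HomologySequence.mono_homologyMap_mor₁_iff T hT (i - 1) i (by omega)).2
        ((z3 (i - 1) (by omega)).eq_of_src _ _)
    haveI : IsIso ((homologyFunctor C i).map T.mor₁) := isIso_of_mono_of_epi _
    exact ⟨asIso ((homologyFunctor C i).map T.mor₁)⟩
  · haveI : T.obj₃.IsLE b := by
      rw [isLE_iff]
      intro i hi
      exact (HomologySequence.exact₃ T hT i (i + 1) rfl).isZero_X₂
        ((z2 i hi).eq_of_src _ _) ((z1 (i + 1) (by omega)).eq_of_tgt _ _)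
    obtain ⟨A, ⟨e⟩⟩ := exists_iso_singleFunctor_obj_of_isGE_of_isLE T.obj₃ b
    haveI : Mono ((homologyFunctor C b).map T.mor₂) :=
      (HomologySequence.mono_homologyMap_mor₂_iff T hT b).2 ((z1 b le_rfl).eq_of_src _ _)
    haveI : Epi ((homologyFunctor C b).map T.mor₂) :=
      (HomologySequence.epi_homologyMap_mor₂_iff T hT b (b + 1) rfl).2
        ((z1 (b + 1) (by omega)).eq_of_tgt _ _)
    haveI : IsIso ((homologyFunctor C b).map T.mor₂) := isIso_of_mono_of_epi _
    exact ⟨A, ⟨e⟩, ⟨((singleHnIso b).app A).symm ≪≫ (homologyFunctor C b).mapIso e.symm ≪≫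
      (asIso ((homologyFunctor C b).map T.mor₂)).symm⟩⟩

end General

section Rel

variable {X S : Scheme.{u}} {f : X ⟶ S}

open Pretriangulated

/-- Cohomological criterion (= S7216). -/
theorem rel_of_homology (hf : LocallyOfFiniteType f) (m : ℤ) :
    ∀ (n : ℕ) (E : DCoh.D X) (b : ℤ), E.IsLE b → b < m + n →
      (∀ i : ℤ, DerSch.IsPseudoCoherentRel f (m - i) (DCoh.inD X (DCoh.HD E i))) →
      DerSch.IsPseudoCoherentRel f m E := by
  intro n
  induction n with
  | zero =>
    intro E b hE hb _
    refine rel_of_isZero_homology hf m E (fun j hj => ?_)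
    haveI := hE
    exact DerivedCategory.isZero_of_isLE E b j
      (by simp only [Nat.cast_zero, add_zero] at hb; omega)
  | succ n ih =>
    intro E b hE hb h
    obtain ⟨T, hT, h1le, h3ge, h2⟩ : ∃ T : Triangle (DCoh.D X), T ∈ distTriang _ ∧
        T.obj₁.IsLE (b - 1) ∧ T.obj₃.IsGE b ∧ T.obj₂ = E :=
      ⟨(DerivedCategory.TStructure.t.triangleLTGE b).obj E,
        DerivedCategory.TStructure.t.triangleLTGE_distinguished b E,
        inferInstance, inferInstance, rfl⟩
    subst h2
    haveI := hE
    haveI := h1le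
    haveI := h3ge
    obtain ⟨hiso, hz, A, ⟨e⟩, ⟨eA⟩⟩ := trunc_facts T hT b
    have h1 : DerSch.IsPseudoCoherentRel f m T.obj₁ := by
      apply ih T.obj₁ (b - 1) h1le (by push_cast at hb ⊢; omega)
      intro i
      by_cases hi : i < b
      · obtain ⟨ei⟩ := hiso i hi
        exact rel_of_iso ((DerivedCategory.singleFunctor X.Modules 0).mapIso ei.symm) (h i)
      · exact rel_of_isZero_homology hf _ _
          (fun j _ => Functor.map_isZero _ (Functor.map_isZero _ (hz i (by omega))))
    have h3 : DerSch.IsPseudoCoherentRel f m T.obj₃ :=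
      rel_of_iso e.symm (rel_single
        (rel_of_iso ((DerivedCategory.singleFunctor X.Modules 0).mapIso eA.symm) (h b)))
    exact (isPseudoCoherentRel_triangle f m T hT).2.1 h1 h3

/-- Cohomological criterion, statement form of S7216. -/
theorem rel_of_homology' (m : ℤ) (E : DCoh.D X) (b : ℤ) [E.IsLE b]
    (h : ∀ i : ℤ, DerSch.IsPseudoCoherentRel f (m - i) (DCoh.inD X (DCoh.HD E i))) :
    DerSch.IsPseudoCoherentRel f m E := by
  have hn := Int.self_le_toNat (b - m + 1)
  exact rel_of_homology (h 0).1 m (b - m + 1).toNat E b inferInstance (by omega) h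

end Rel

end Groth.Agent.H90.Chart
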