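import Groth.Agent.H90.Chart

/-!
# Localization of charts (helper90)

* `restrictIsoPush`: restriction along an isomorphism is direct image along its inverse.
* `kappa`, `restrictRestrictCxIso`: `(G|_U)|_{W'} ≅ κ_* (G|_{U'})` when `W' ⊆ U` and `U' ⊆ X` are the
  same open set.
* `restrict_iff`: `(i_* (G|_U))|_W` is pseudo-coherent iff `(f₁)_* (G|_{U'})` is, where
  `f₁ : U' ≅ i⁻¹W ⟶ W ⟶ Y₁`.
-/

set_option autoImplicit false
set_option linter.style.haveILetI false
set_option maxHeartbeats 400000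
universe u
open CategoryTheory CategoryTheory.Limits AlgebraicGeometry TopologicalSpace Opposite
open AlgebraicGeometry.Scheme.Modules

attribute [local instance] HasDerivedCategory.standard

namespace Groth.Agent.H90.Chart

open Groth.Agent.H90.SPerf Groth.Agent.H90.LR Groth.Agent.H90.QH Groth.Agent.H28.PCohD
open Groth.Agent.H90.CPC Groth.Agent.H90.TPC Groth.Agent.H90.TPerf Groth.Agent.H90.CPerf

section Transport

/-- Restriction along an isomorphism is direct image along its inverse. -/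
noncomputable def restrictIsoPush {A B : Scheme.{u}} (e : A ≅ B) :
    restrictFunctor e.hom ≅ pushforward e.inv :=
  (Functor.leftUnitor _).symm ≪≫
    Functor.isoWhiskerRight (pushforwardComp e.inv e.hom ≪≫ pushforwardCongr e.inv_hom_id ≪≫
      pushforwardId B).symm (restrictFunctor e.hom) ≪≫
    Functor.associator _ _ _ ≪≫
    Functor.isoWhiskerLeft (pushforward e.inv) (restrictFunctorAdjCounitIso e.hom) ≪≫
    Functor.rightUnitor _

variable {X : Scheme.{u}} (U : X.Opens) (W' : (U : Scheme.{u}).Opens) (U' : X.Opens)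
  (e : Set.range (W'.ι ≫ U.ι) = Set.range U'.ι)

/-- The isomorphism between an open of `U` and the same open of `X`. -/
noncomputable def kappa : (W' : Scheme.{u}) ≅ (U' : Scheme.{u}) :=
  IsOpenImmersion.isoOfRangeEq (W'.ι ≫ U.ι) U'.ι e

lemma kappa_hom_ι : (kappa U W' U' e).hom ≫ U'.ι = W'.ι ≫ U.ι :=
  IsOpenImmersion.isoOfRangeEq_hom_fac _ _ _

lemma kappa_inv_ι : (kappa U W' U' e).inv ≫ W'.ι ≫ U.ι = U'.ι :=
  IsOpenImmersion.isoOfRangeEq_inv_fac _ _ _

/-- `(M|_U)|_{W'} ≅ κ_* (M|_{U'})`, naturally in `M`. -/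
noncomputable def restrictRestrictIso :
    restrictFunctor U.ι ⋙ restrictFunctor W'.ι ≅
      restrictFunctor U'.ι ⋙ pushforward (kappa U W' U' e).inv :=
  (restrictFunctorComp W'.ι U.ι).symm ≪≫ restrictFunctorCongr (kappa_hom_ι U W' U' e).symm ≪≫
    restrictFunctorComp (kappa U W' U' e).hom U'.ι ≪≫
    Functor.isoWhiskerLeft (restrictFunctor U'.ι) (restrictIsoPush (kappa U W' U' e))

/-- `(G|_U)|_{W'} ≅ κ_* (G|_{U'})` for complexes. -/
noncomputable def restrictRestrictCxIso (G₀ : CochainComplex X.Modules ℤ) :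
    (DCoh.restrictCx W').obj ((DCoh.restrictCx U).obj G₀) ≅
      (DerSch.pushCx (kappa U W' U' e).inv).obj ((DCoh.restrictCx U').obj G₀) :=
  HomologicalComplex.Hom.isoOfComponents
    (fun j => (restrictRestrictIso U W' U' e).app (G₀.X j))
    (fun j k _ => ((restrictRestrictIso U W' U' e).hom.naturality (G₀.d j k)).symm)

end Transport

section LemmaR

variable {X : Scheme.{u}} (U : X.Opens) {Y Y₁ : Scheme.{u}} (i : (U : Scheme.{u}) ⟶ Y)
  (W : Y.Opens) (U' : X.Opens)
  (e : Set.range ((i ⁻¹ᵁ W).ι ≫ U.ι) = Set.range U'.ι)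
  (c₀ : (W : Scheme.{u}) ⟶ Y₁) [IsClosedImmersion c₀]

/-- The composite `U' ≅ i⁻¹W ⟶ W ⟶ Y₁`. -/
noncomputable def locMor : (U' : Scheme.{u}) ⟶ Y₁ :=
  (kappa U (i ⁻¹ᵁ W) U' e).inv ≫ (i ∣_ W) ≫ c₀

/-- `(i_* (G|_U))|_W` is pseudo-coherent iff the direct image of `G|_{U'}` along `locMor` is. -/
theorem restrict_iff
    (hO : ∀ m : ℤ, DCoh.IsPseudoCoherentD m
      (DCoh.inD Y₁ ((pushforward c₀).obj (Coh.structureModule (W : Scheme.{u})))))
    (G₀ : CochainComplex X.Modules ℤ) (m : ℤ) :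
    DCoh.IsPseudoCoherentD m (DerivedCategory.Q.obj ((DCoh.restrictCx W).obj
      ((DerSch.pushCx i).obj ((DCoh.restrictCx U).obj G₀)))) ↔
    DCoh.IsPseudoCoherentD m (DerivedCategory.Q.obj
      ((DerSch.pushCx (locMor U i W U' e c₀)).obj ((DCoh.restrictCx U').obj G₀))) := by
  have e1 := pushRestrictCxIso i W ((DCoh.restrictCx U).obj G₀)
  have e2 : (DerSch.pushCx c₀).obj ((DerSch.pushCx (i ∣_ W)).obj
      ((DCoh.restrictCx (i ⁻¹ᵁ W)).obj ((DCoh.restrictCx U).obj G₀))) ≅
      (DerSch.pushCx (locMor U i W U' e c₀)).obj ((DCoh.restrictCx U').obj G₀) :=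
    pushCxCompIso (i ∣_ W) c₀ _ ≪≫
      (DerSch.pushCx ((i ∣_ W) ≫ c₀)).mapIso (restrictRestrictCxIso U (i ⁻¹ᵁ W) U' e G₀) ≪≫
      pushCxCompIso (kappa U (i ⁻¹ᵁ W) U' e).inv ((i ∣_ W) ≫ c₀) _
  constructor
  · intro h
    have h1 := isPC_of_iso (DerivedCategory.Q.mapIso e1) h
    have h2 := (isPC_Q_pushCx_iff c₀ hO _ m).1 h1
    exact isPC_of_iso (DerivedCategory.Q.mapIso e2) h2
  · intro h
    have h2 := isPC_of_iso (DerivedCategory.Q.mapIso e2).symm h
    have h1 := (isPC_Q_pushCx_iff c₀ hO _ m).2 h2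
    exact isPC_of_iso (DerivedCategory.Q.mapIso e1).symm h1

end LemmaR

section ThetaOf

variable {X : Scheme.{u}} (U' : X.Opens) {P₁ : Type u} [CommRing P₁]

/-- The ring map `P₁ →+* Γ(X, U')` attached to a morphism `U' ⟶ Spec P₁`. -/
noncomputable def thetaOf (f : (U' : Scheme.{u}) ⟶ Spec (CommRingCat.of P₁)) : P₁ →+* Γ(X, U') :=
  (U'.topIso.hom.hom).comp (gammaMap (CommRingCat.of P₁) f).hom

lemma gammaMap_imm' (θ : P₁ →+* Γ(X, U')) :
    gammaMap (CommRingCat.of P₁) (imm U' θ) = CommRingCat.ofHom θ ≫ U'.topIso.inv := by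
  unfold gammaMap imm
  rw [Scheme.Hom.comp_appTop, ← Category.assoc, ← Scheme.ΓSpecIso_inv_naturality,
    Category.assoc, Scheme.Opens.toSpecΓ_appTop, Iso.inv_hom_id_assoc]

lemma ofHom_thetaOf (f : (U' : Scheme.{u}) ⟶ Spec (CommRingCat.of P₁)) :
    CommRingCat.ofHom (thetaOf U' f) = gammaMap (CommRingCat.of P₁) f ≫ U'.topIso.hom := rfl

lemma imm_thetaOf (f : (U' : Scheme.{u}) ⟶ Spec (CommRingCat.of P₁)) :
    imm U' (thetaOf U' f) = f := by
  apply ext_of_isAffine
  have h : gammaMap (CommRingCat.of P₁) (imm U' (thetaOf U' f)) =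
      gammaMap (CommRingCat.of P₁) f := by
    rw [gammaMap_imm', ofHom_thetaOf, Category.assoc, Iso.hom_inv_id, Category.comp_id]
  unfold gammaMap at h
  exact (Iso.cancel_iso_inv_left _ _ _).1 h

lemma thetaOf_surjective (f : (U' : Scheme.{u}) ⟶ Spec (CommRingCat.of P₁))
    [IsClosedImmersion f] : Function.Surjective (thetaOf U' f) := by
  obtain ⟨-, hs⟩ := IsClosedImmersion.isAffine_surjective_of_isAffine f
  have h1 : Function.Surjective (Scheme.ΓSpecIso (CommRingCat.of P₁)).inv :=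
    (ConcreteCategory.bijective_of_isIso (Scheme.ΓSpecIso (CommRingCat.of P₁)).inv).surjective
  have h2 : Function.Surjective U'.topIso.hom :=
    (ConcreteCategory.bijective_of_isIso U'.topIso.hom).surjective
  exact h2.comp (hs.comp h1)

end ThetaOf

section SpecLoc

variable {X : Scheme.{u}} {U : X.Opens} {P : Type u} [CommRing P]

/-- `D(G) ⊆ Spec P`. -/
abbrev locW (G : P) : (Spec (CommRingCat.of P)).Opens := PrimeSpectrum.basicOpen G

/-- `P_G`, as the ring of sections over `D(G)`. -/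
abbrev LocRing (G : P) : Type u := Γ(Spec (CommRingCat.of P), locW G)

/-- Mathlib's `R`-algebra structure on sections of `Spec R` (restated for a variable `R`). -/
@[instance_reducible]
noncomputable def algebraSpec (R : CommRingCat.{u}) (V : (Spec R).Opens) :
    Algebra R Γ(Spec R, V) := inferInstance

lemma algebraMap_algebraSpec (R : CommRingCat.{u}) (V : (Spec R).Opens) :
    CommRingCat.ofHom (@algebraMap R Γ(Spec R, V) _ _ (algebraSpec R V)) =
      (Scheme.ΓSpecIso R).inv ≫ (Spec R).presheaf.map (homOfLE le_top).op := rfl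

set_option backward.isDefEq.respectTransparency false in
lemma isLocalization_algebraSpec (R : CommRingCat.{u}) (f : R) :
    @IsLocalization.Away R _ f Γ(Spec R, PrimeSpectrum.basicOpen f) _
      (algebraSpec R (PrimeSpectrum.basicOpen f)) :=
  inferInstanceAs (IsLocalization.Away f Γ(Spec R, PrimeSpectrum.basicOpen f))

noncomputable instance instAlgebraLocRing (G : P) : Algebra P (LocRing G) :=
  algebraSpec (CommRingCat.of P) (locW G)

instance instIsLocalizationLocRing (G : P) : IsLocalization.Away G (LocRing G) :=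
  isLocalization_algebraSpec (CommRingCat.of P) G

lemma imm_preimage_basicOpen (θ : P →+* Γ(X, U)) (G : P) :
    imm U θ ⁻¹ᵁ locW G = U.ι ⁻¹ᵁ X.basicOpen (θ G) :=
  Scheme.Opens.toSpecΓ_preimage_basicOpen U (θ G)

lemma range_eq_of_le {U' : X.Opens} (h : U' ≤ U) (W' : (U : Scheme.{u}).Opens)
    (hW' : W' = U.ι ⁻¹ᵁ U') : Set.range (W'.ι ≫ U.ι) = Set.range U'.ι := by
  subst hW'
  have : U.ι ''ᵁ (U.ι ⁻¹ᵁ U') = U' := by simpa [Scheme.Hom.image_preimage_eq_opensRange_inf]
  rw [Scheme.Hom.comp_base, TopCat.coe_comp, Scheme.Opens.range_ι, Set.range_comp, ← this]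
  simp

variable (U) in
/-- The morphism `D(θ G) ⟶ Spec P_G`. -/
noncomputable def locF (θ : P →+* Γ(X, U)) (G : P) :
    (X.basicOpen (θ G) : Scheme.{u}) ⟶ Spec (CommRingCat.of (LocRing G)) :=
  locMor U (imm U θ) (locW G) (X.basicOpen (θ G))
    (range_eq_of_le (X.basicOpen_le (θ G)) _ (imm_preimage_basicOpen θ G))
    (imm (locW G) (RingHom.id (LocRing G)))

variable (U) in
/-- The ring map `P_G →+* Γ(X, D(θ G))`. -/
noncomputable def locTheta (θ : P →+* Γ(X, U)) (G : P) :
    LocRing G →+* Γ(X, X.basicOpen (θ G)) :=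
  thetaOf (X.basicOpen (θ G)) (locF U θ G)

lemma hO_locW (G : P) (m : ℤ) :
    DCoh.IsPseudoCoherentD m (DCoh.inD (Spec (CommRingCat.of (LocRing G)))
      ((pushforward (imm (locW G) (RingHom.id (LocRing G)))).obj
        (Coh.structureModule (locW G : Scheme.{u})))) :=
  (isPC_push_imm_iff (IsAffineOpen.Spec_basicOpen (R := CommRingCat.of P) G)
    (RingHom.id (LocRing G)) Function.surjective_id m).2
    (Groth.Agent.H56.pcHom_of_bijective (RingHom.id (LocRing G)) Function.bijective_id m)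

/-- Restricting the chart test to `D(G)`. -/
theorem test_loc_iff (θ : P →+* Γ(X, U)) (G : P) (G₀ : CochainComplex X.Modules ℤ) (m : ℤ) :
    DCoh.IsPseudoCoherentD m (DerivedCategory.Q.obj ((DCoh.restrictCx (locW G)).obj
      ((DerSch.pushCx (imm U θ)).obj ((DCoh.restrictCx U).obj G₀)))) ↔
    DCoh.IsPseudoCoherentD m (DerivedCategory.Q.obj
      ((DerSch.pushCx (imm (X.basicOpen (θ G)) (locTheta U θ G))).obj
        ((DCoh.restrictCx (X.basicOpen (θ G))).obj G₀))) := by
  haveI : IsClosedImmersion (imm (locW G) (RingHom.id (LocRing G))) :=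
    isClosedImmersion_imm (IsAffineOpen.Spec_basicOpen (R := CommRingCat.of P) G) _
      Function.surjective_id
  unfold locTheta
  rw [imm_thetaOf]
  exact restrict_iff U (imm U θ) (locW G) (X.basicOpen (θ G)) _ _ (hO_locW G) G₀ m

lemma locTheta_surjective (hU : IsAffineOpen U) (θ : P →+* Γ(X, U))
    (hθ : Function.Surjective θ) (G : P) : Function.Surjective (locTheta U θ G) := by
  haveI := isClosedImmersion_imm hU θ hθ
  haveI : IsClosedImmersion (imm (locW G) (RingHom.id (LocRing G))) :=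
    isClosedImmersion_imm (IsAffineOpen.Spec_basicOpen (R := CommRingCat.of P) G) _
      Function.surjective_id
  haveI : IsClosedImmersion (locF U θ G) := by
    unfold locF locMor
    infer_instance
  exact thetaOf_surjective _ _


set_option backward.isDefEq.respectTransparency false in
/-- `locTheta` restricted to `P` is `θ` followed by restriction to `D(θ G)`. -/
lemma locTheta_comp_algebraMap (θ : P →+* Γ(X, U)) (G : P) :
    (locTheta U θ G).comp (algebraMap P (LocRing G)) =
      (X.presheaf.map (homOfLE (X.basicOpen_le (θ G))).op).hom.comp θ := by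
  have hκ : (kappa U (imm U θ ⁻¹ᵁ locW G) (X.basicOpen (θ G))
      (range_eq_of_le (X.basicOpen_le (θ G)) _ (imm_preimage_basicOpen θ G))).inv ≫
      (imm U θ ⁻¹ᵁ locW G).ι = X.homOfLE (X.basicOpen_le (θ G)) := by
    rw [← cancel_mono U.ι, Category.assoc, kappa_inv_ι, Scheme.homOfLE_ι]
  -- the composite `D(θ G) ⟶ Spec P`
  have hcomp : (kappa U (imm U θ ⁻¹ᵁ locW G) (X.basicOpen (θ G))
      (range_eq_of_le (X.basicOpen_le (θ G)) _ (imm_preimage_basicOpen θ G))).inv ≫
      (imm U θ ∣_ locW G) ≫ (locW G).ι = X.homOfLE (X.basicOpen_le (θ G)) ≫ imm U θ := by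
    rw [morphismRestrict_ι, ← Category.assoc, hκ]
  have h1 : gammaMap (CommRingCat.of (LocRing G)) (locF U θ G) =
      (locW G).topIso.inv ≫ (imm U θ ∣_ locW G).appTop ≫
        (kappa U (imm U θ ⁻¹ᵁ locW G) (X.basicOpen (θ G))
          (range_eq_of_le (X.basicOpen_le (θ G)) _ (imm_preimage_basicOpen θ G))).inv.appTop := by
    have h0 := gammaMap_imm' (locW G) (RingHom.id (LocRing G))
    unfold gammaMap at h0 ⊢
    unfold locF locMor
    rw [Scheme.Hom.comp_appTop, Scheme.Hom.comp_appTop, ← Category.assoc, ← Category.assoc, h0]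
    rfl
  have h2 : CommRingCat.ofHom (algebraMap P (LocRing G)) ≫ (locW G).topIso.inv =
      (Scheme.ΓSpecIso (CommRingCat.of P)).inv ≫ (locW G).ι.appTop := by
    have : CommRingCat.ofHom (algebraMap P (LocRing G)) =
        (Scheme.ΓSpecIso (CommRingCat.of P)).inv ≫
          (Spec (CommRingCat.of P)).presheaf.map (homOfLE le_top).op :=
      algebraMap_algebraSpec (CommRingCat.of P) (locW G)
    rw [this, Category.assoc]
    congr 1
  have h3 : U.topIso.inv ≫ (X.homOfLE (X.basicOpen_le (θ G))).appTop ≫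
      (X.basicOpen (θ G)).topIso.hom = X.presheaf.map (homOfLE (X.basicOpen_le (θ G))).op := by
    rw [Scheme.homOfLE_appTop, Scheme.Opens.topIso_inv, Scheme.Opens.topIso_hom,
      ← Functor.map_comp, ← Functor.map_comp]
    rfl
  have key : CommRingCat.ofHom (algebraMap P (LocRing G)) ≫
      CommRingCat.ofHom (locTheta U θ G) =
      CommRingCat.ofHom θ ≫ X.presheaf.map (homOfLE (X.basicOpen_le (θ G))).op := by
    unfold locTheta
    rw [ofHom_thetaOf, h1, ← Category.assoc, ← Category.assoc, ← Category.assoc, h2, ← h3]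
    have h4 : (Scheme.ΓSpecIso (CommRingCat.of P)).inv ≫ (imm U θ).appTop =
        CommRingCat.ofHom θ ≫ U.topIso.inv := gammaMap_imm' U θ
    simp only [Category.assoc]
    have h5 : (locW G).ι.appTop ≫ (imm U θ ∣_ locW G).appTop ≫
        (kappa U (imm U θ ⁻¹ᵁ locW G) (X.basicOpen (θ G))
          (range_eq_of_le (X.basicOpen_le (θ G)) _ (imm_preimage_basicOpen θ G))).inv.appTop =
        (imm U θ).appTop ≫ (X.homOfLE (X.basicOpen_le (θ G))).appTop := by
      rw [← Scheme.Hom.comp_appTop, ← Scheme.Hom.comp_appTop, ← Scheme.Hom.comp_appTop,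
        Category.assoc, hcomp]
    rw [reassoc_of% h5, reassoc_of% h4]
  exact congrArg (fun f => f.hom) key

end SpecLoc

end Groth.Agent.H90.Chart
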