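import Groth.Agent.H90.RelBound
import Groth.Agent.H8.QCohPush

/-!
# Relative pseudo-coherence: quasi-coherence of the cohomology sheaves (helper90)

* `isQCoh_of_isQCoh_pushforward`: the direct image along a closed immersion into an affine scheme
  reflects quasi-coherence.
* `exists_chart_of_isPseudoCoherentRel`: extraction of a chart around a point.
* `isQCoh_HD_of_isPseudoCoherentRel` (= S7213), `isQCohD_of_isPseudoCoherentRelAll` (= S6235).
-/

set_option autoImplicit false
set_option linter.style.haveILetI false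
universe u
open CategoryTheory CategoryTheory.Limits AlgebraicGeometry TopologicalSpace Opposite
open AlgebraicGeometry.Scheme.Modules

attribute [local instance] HasDerivedCategory.standard

namespace Groth.Agent.H90.QH

open Groth.Agent.H90.SPerf Groth.Agent.H90.LR

section Reflect

variable {Z T : Scheme.{u}} (ι : Z ⟶ T)

set_option backward.isDefEq.respectTransparency false in
/-- The direct image along a closed immersion into an affine scheme reflects quasi-coherence. -/
theorem isQCoh_of_isQCoh_pushforward [IsAffine T] [IsClosedImmersion ι] (M : Z.Modules)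
    [hN : ((Scheme.Modules.pushforward ι).obj M).IsQuasicoherent] : M.IsQuasicoherent := by
  obtain ⟨hZaff, hsurj⟩ := IsClosedImmersion.isAffine_surjective_of_isAffine ι
  haveI := hZaff
  have hT : IsAffineOpen (⊤ : T.Opens) := isAffineOpen_top T
  have hZ : IsAffineOpen (⊤ : Z.Opens) := isAffineOpen_top Z
  have hbase : ∀ g : Γ(T, ⊤), ∀ e : ι ⁻¹ᵁ T.basicOpen g = Z.basicOpen (ι.appTop g),
      Z.presheaf.map (eqToHom e).op
        (Z.presheaf.map (homOfLE (Z.basicOpen_le (ι.appTop g))).op (ι.appTop g)) =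
      ι.app (T.basicOpen g) (T.presheaf.map (homOfLE (T.basicOpen_le g)).op g) := by
    intro g e
    have nat := congr($(ι.naturality (homOfLE (T.basicOpen_le g)).op) g)
    rw [CommRingCat.comp_apply, CommRingCat.comp_apply] at nat
    rw [nat, ← CommRingCat.comp_apply, ← Functor.map_comp]
    rfl
  have hm : ∀ (g : Γ(T, ⊤)) (e : ι ⁻¹ᵁ T.basicOpen g = Z.basicOpen (ι.appTop g))
      (x : Γ(M, ⊤)),
      M.presheaf.map (eqToHom e).op
        (M.presheaf.map (homOfLE (Z.basicOpen_le (ι.appTop g))).op x) =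
      ((Scheme.Modules.pushforward ι).obj M).presheaf.map (homOfLE (T.basicOpen_le g)).op
        (show Γ((Scheme.Modules.pushforward ι).obj M, ⊤) from x) := by
    intro g e x
    change (M.presheaf.map _ ≫ M.presheaf.map _) x = _
    rw [← Functor.map_comp]
    rfl
  haveI h1 : (M.restrict hZ.fromSpec).IsQuasicoherent := by
    apply H8.isQuasicoherent_restrict_fromSpec_of hZ M
    · intro a y
      obtain ⟨g, rfl⟩ := hsurj a
      have e : ι ⁻¹ᵁ T.basicOpen g = Z.basicOpen (ι.appTop g) := Scheme.preimage_basicOpen ι g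
      obtain ⟨n, x, hx⟩ := H8.exists_smul_eq_res hT ((Scheme.Modules.pushforward ι).obj M) g
        (show Γ((Scheme.Modules.pushforward ι).obj M, T.basicOpen g) from
          M.presheaf.map (eqToHom e).op y)
      refine ⟨n, (show Γ(M, ⊤) from x), ?_⟩
      have hinj : Function.Injective (M.presheaf.map (eqToHom e).op) :=
        ((ConcreteCategory.bijective_of_isIso (M.presheaf.map (eqToHom e).op))).injective
      apply hinj
      rw [M.map_smul, map_pow, hbase g e, hm g e]
      rw [← map_pow]
      exact ((H8.pushforward_smul ι M _ _ _).symm.trans hx)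
    · intro a x hx
      obtain ⟨g, rfl⟩ := hsurj a
      have e : ι ⁻¹ᵁ T.basicOpen g = Z.basicOpen (ι.appTop g) := Scheme.preimage_basicOpen ι g
      have hx' : ((Scheme.Modules.pushforward ι).obj M).presheaf.map
          (homOfLE (T.basicOpen_le g)).op
          (show Γ((Scheme.Modules.pushforward ι).obj M, ⊤) from x) = 0 := by
        rw [← hm g e x, hx, map_zero]
      obtain ⟨n, hn⟩ := H8.exists_smul_eq_zero hT ((Scheme.Modules.pushforward ι).obj M) g
        (show Γ((Scheme.Modules.pushforward ι).obj M, ⊤) from x) hx'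
      refine ⟨n, ?_⟩
      have h2 := (H8.pushforward_smul ι M ⊤ (g ^ n)
        (show Γ((Scheme.Modules.pushforward ι).obj M, ⊤) from x)).symm.trans hn
      rw [← map_pow]
      exact h2
  refine isQCoh_of_locally M (fun x => ⟨⊤, trivial, ?_⟩)
  have i1 : M.restrict (⊤ : Z.Opens).ι ≅ (M.restrict hZ.fromSpec).restrict hZ.isoSpec.hom :=
    (restrictFunctorCongr hZ.isoSpec_hom_fromSpec.symm).app M ≪≫
      (restrictFunctorComp hZ.isoSpec.hom hZ.fromSpec).app M
  exact H22.QCohLimits.isQuasicoherent_of_iso i1.symm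

end Reflect

section Charts

variable {X Y : Scheme.{u}}

/-- A chart of a relatively pseudo-coherent object around a point. -/
theorem exists_chart_of_isPseudoCoherentRel (f : X ⟶ Y) (m : ℤ) (E : DCoh.D X)
    (hE : DerSch.IsPseudoCoherentRel f m E) (x : X) :
    ∃ (U : X.Opens) (V : Y.Opens) (n : ℕ) (φ : MvPolynomial (Fin n) Γ(Y, V) →+* Γ(X, U)),
      IsAffineOpen U ∧ x ∈ U ∧ Function.Surjective φ ∧ DerSch.ChartPC m E U V φ := by
  obtain ⟨-, 𝒱, h𝒱, hrest⟩ := hE
  have hx : f x ∈ ⨆ V ∈ 𝒱, ((V : Y.affineOpens) : Y.Opens) := by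
    rw [h𝒱]
    trivial
  simp only [Opens.mem_iSup] at hx
  obtain ⟨V, hV, hxV⟩ := hx
  obtain ⟨𝒰, h𝒰, hch⟩ := hrest V hV
  have hx' : x ∈ ⨆ U ∈ 𝒰, ((U : X.affineOpens) : X.Opens) := by
    rw [h𝒰]
    exact hxV
  simp only [Opens.mem_iSup] at hx'
  obtain ⟨U, hU, hxU⟩ := hx'
  have hUle : (U : X.Opens) ≤ f ⁻¹ᵁ (V : Y.Opens) := by
    rw [← h𝒰]
    exact le_iSup₂_of_le U hU le_rfl
  obtain ⟨n', φ, ⟨hsurj, -⟩, hPC⟩ := hch U hU hUle
  exact ⟨U, V, n', φ, U.2, hxU, hsurj, hPC⟩

lemma isClosedImmersion_chartImm {U : X.Opens} (hU : IsAffineOpen U) {R : Type u} [CommRing R]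
    {n : ℕ} (φ : MvPolynomial (Fin n) R →+* Γ(X, U)) (hφ : Function.Surjective φ) :
    IsClosedImmersion (DerSch.chartImm U φ) := by
  haveI : IsIso U.toSpecΓ := by
    rw [← hU.isoSpec_hom]
    infer_instance
  haveI : IsClosedImmersion (Spec.map (CommRingCat.ofHom φ)) :=
    IsClosedImmersion.spec_of_surjective _ hφ
  unfold DerSch.chartImm
  infer_instance

/-- S7213. -/
theorem isQCoh_HD_of_isPseudoCoherentRel (f : X ⟶ Y) (m : ℤ) (E : DCoh.D X)
    (hE : DerSch.IsPseudoCoherentRel f m E) (i : ℤ) (hi : m < i) :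
    (DCoh.HD E i).IsQuasicoherent := by
  have eG : DerivedCategory.Q.obj (DerivedCategory.Q.objPreimage E) ≅ E :=
    DerivedCategory.Q.objObjPreimageIso E
  refine isQCoh_of_locally _ (fun x => ?_)
  obtain ⟨U, V, n, φ, hU, hxU, hsurj, hPC⟩ := exists_chart_of_isPseudoCoherentRel f m E hE x
  refine ⟨U, hxU, ?_⟩
  haveI := isClosedImmersion_chartImm hU φ hsurj
  have hce := isClosedEmbedding_chartImm hU φ hsurj
  haveI := H8.ClosedPush.preservesColimitsOfSize_pushforward (DerSch.chartImm U φ) hce
  haveI : PreservesFiniteColimits (Scheme.Modules.pushforward (DerSch.chartImm U φ)) :=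
    PreservesColimitsOfSize.preservesFiniteColimits _
  haveI : PreservesFiniteLimits (Scheme.Modules.pushforward (DerSch.chartImm U φ)) :=
    inferInstance
  haveI : (Scheme.Modules.pushforward (DerSch.chartImm U φ)).PreservesHomology := inferInstance
  have hq : (DCoh.HD (DCoh.toD _ ((DerSch.pushCx (DerSch.chartImm U φ)).obj
      ((DCoh.restrictCx U).obj (DerivedCategory.Q.objPreimage E)))) i).IsQuasicoherent :=
    (isQCoh_HD_of_isPC m _ (hPC _ ⟨eG⟩)).1 i hi
  have e4 : DCoh.HD (DCoh.toD _ ((DerSch.pushCx (DerSch.chartImm U φ)).obj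
      ((DCoh.restrictCx U).obj (DerivedCategory.Q.objPreimage E)))) i ≅
      (Scheme.Modules.pushforward (DerSch.chartImm U φ)).obj
        (((DCoh.restrictCx U).obj (DerivedCategory.Q.objPreimage E)).homology i) :=
    (DerivedCategory.homologyFunctorFactors _ i).app _ ≪≫
      (show HomologicalComplex.homology ((DerSch.pushCx (DerSch.chartImm U φ)).obj
          ((DCoh.restrictCx U).obj (DerivedCategory.Q.objPreimage E))) i ≅
        (Scheme.Modules.pushforward (DerSch.chartImm U φ)).obj
          (HomologicalComplex.homology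
            ((DCoh.restrictCx U).obj (DerivedCategory.Q.objPreimage E)) i) from
        (((DCoh.restrictCx U).obj (DerivedCategory.Q.objPreimage E)).sc i).mapHomologyIso
          (Scheme.Modules.pushforward (DerSch.chartImm U φ)))
  haveI : ((Scheme.Modules.pushforward (DerSch.chartImm U φ)).obj
      (((DCoh.restrictCx U).obj (DerivedCategory.Q.objPreimage E)).homology i)).IsQuasicoherent :=
    haveI := hq
    H22.QCohLimits.isQuasicoherent_of_iso e4
  haveI : (((DCoh.restrictCx U).obj (DerivedCategory.Q.objPreimage E)).homology i).IsQuasicoherent :=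
    isQCoh_of_isQCoh_pushforward (DerSch.chartImm U φ) _
  have e1 : (DerivedCategory.homologyFunctor _ i).obj ((DCoh.restrictD U.ι).obj E) ≅
      (restrictFunctor U.ι).obj (DCoh.HD E i) := (homologyCommIso (restrictFunctor U.ι) i).app E
  have e2 : (DCoh.restrictD U.ι).obj E ≅ DerivedCategory.Q.obj
      ((DCoh.restrictCx U).obj (DerivedCategory.Q.objPreimage E)) := restrictDObjIso U.ι eG
  have e3 : (DerivedCategory.homologyFunctor _ i).obj
      (DerivedCategory.Q.obj ((DCoh.restrictCx U).obj (DerivedCategory.Q.objPreimage E))) ≅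
      ((DCoh.restrictCx U).obj (DerivedCategory.Q.objPreimage E)).homology i :=
    (DerivedCategory.homologyFunctorFactors _ i).app _
  exact H22.QCohLimits.isQuasicoherent_of_iso
    (e1.symm ≪≫ (DerivedCategory.homologyFunctor _ i).mapIso e2 ≪≫ e3).symm

/-- S6235. -/
theorem isQCohD_of_isPseudoCoherentRelAll (f : X ⟶ Y) (E : DCoh.D X)
    (hE : DerSch.IsPseudoCoherentRelAll f E) : DCoh.IsQCohD E :=
  fun i => isQCoh_HD_of_isPseudoCoherentRel f (i - 1) E (hE (i - 1)) i (by omega)

end Charts

end Groth.Agent.H90.QH
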