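import Groth.Agent.H90.ChartFlat
import Groth.Agent.H90.ChartCx
import Groth.Agent.H90.RelQCoh
import Groth.Agent.H8.FlatAffine
import Groth.Agent.H56.FlatFP
import Groth.Agent.H56.RelPC

/-!
# Flat modules of finite presentation relative to a morphism are pseudo-coherent (helper90)

* `isPC_push_module_iff`: pseudo-coherence of a quasi-coherent `i_* 𝒢` on `Spec R` in ring terms.
* `ring_core`: a module over `A[x_1, …, x_n]`, flat over `A` and finitely presented, is
  pseudo-coherent.
* `flat_chart_module`: sections over an affine chart of a module flat over the base are flat.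
* `chartPC_of_flat`, `core`: `M` flat over `Y` and `(-1)`-pseudo-coherent relative to `f` is
  pseudo-coherent relative to `f`.
-/

set_option autoImplicit false
set_option linter.style.haveILetI false
set_option maxHeartbeats 400000
universe u
open CategoryTheory CategoryTheory.Limits AlgebraicGeometry TopologicalSpace Opposite
open AlgebraicGeometry.Scheme.Modules

attribute [local instance] HasDerivedCategory.standard

namespace Groth.Agent.H90.Chart

open Groth.Agent.H56
open Groth.Agent.H90.SPerf Groth.Agent.H90.LR Groth.Agent.H90.QH Groth.Agent.H28.PCohD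
open Groth.Agent.H90.CPC Groth.Agent.H90.TPC Groth.Agent.H90.TPerf Groth.Agent.H90.CPerf

section Spec

variable (R : CommRingCat.{u}) {Z : Scheme.{u}} (i : Z ⟶ Spec (CommRingCat.of R))
  (𝒢 : Z.Modules)

/-- Global sections of `i_* 𝒢` are `Γ(𝒢, ⊤)`, linearly over `R`. -/
noncomputable def sectionsEquivMod :
    ((modulesSpecToSheaf.obj ((pushforward i).obj 𝒢)).presheaf.obj (.op ⊤)) ≃ₗ[R]
      ((ModuleCat.restrictScalars.{u} (gammaMap R i).hom).obj (ModuleCat.of Γ(Z, ⊤) Γ(𝒢, ⊤)) :
        ModuleCat.{u} R) :=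
  { toFun := fun s => s
    invFun := fun s => s
    map_add' := fun _ _ => rfl
    map_smul' := fun _ _ => rfl
    left_inv := fun _ => rfl
    right_inv := fun _ => rfl }

variable [PreservesFiniteLimits (tilde.functor R)]

set_option backward.isDefEq.respectTransparency false in
/-- Pseudo-coherence of a quasi-coherent `i_* 𝒢` on `Spec R`, in ring terms. -/
theorem isPC_push_module_iff [((pushforward i).obj 𝒢).IsQuasicoherent] (m : ℤ) :
    DCoh.IsPseudoCoherentD m (DCoh.inD (Spec (CommRingCat.of R)) ((pushforward i).obj 𝒢)) ↔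
      DRing.IsPseudoCoherent R m ((DerivedCategory.singleFunctor (ModuleCat.{u} R) 0).obj
        ((ModuleCat.restrictScalars.{u} (gammaMap R i).hom).obj
          (ModuleCat.of Γ(Z, ⊤) Γ(𝒢, ⊤)))) := by
  haveI : IsIso ((pushforward i).obj 𝒢).fromTildeΓ :=
    Scheme.Modules.isIso_fromTildeΓ_of_isQuasicoherent _
  have e₁ : (tilde.functor R).obj ((ModuleCat.restrictScalars.{u} (gammaMap R i).hom).obj
      (ModuleCat.of Γ(Z, ⊤) Γ(𝒢, ⊤))) ≅ (pushforward i).obj 𝒢 :=
    ((tilde.functor R).mapIso (sectionsEquivMod R i 𝒢).toModuleIso).symm ≪≫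
      asIso ((pushforward i).obj 𝒢).fromTildeΓ
  have e₂ : (DCoh.tildeD R).obj ((DerivedCategory.singleFunctor (ModuleCat.{u} R) 0).obj
      ((ModuleCat.restrictScalars.{u} (gammaMap R i).hom).obj (ModuleCat.of Γ(Z, ⊤) Γ(𝒢, ⊤)))) ≅
      DCoh.inD (Spec (CommRingCat.of R)) ((pushforward i).obj 𝒢) :=
    ((tilde.functor R).mapDerivedCategorySingleFunctor 0).app _ ≪≫
      (DerivedCategory.singleFunctor _ 0).mapIso e₁
  rw [← isPC_tildeD_iff R _ m]
  exact ⟨isPC_of_iso e₂.symm, isPC_of_iso e₂⟩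

end Spec

section Ring

/-- A module over `A[x_1, …, x_n]` which is flat over `A` and `(-1)`-pseudo-coherent (finitely
presented) is pseudo-coherent. -/
theorem ring_core {A : Type u} [CommRing A] {n : ℕ} (N : ModuleCat.{u} (MvPolynomial (Fin n) A))
    (hfl : letI := Module.compHom N (MvPolynomial.C : A →+* MvPolynomial (Fin n) A)
      Module.Flat A N)
    (h : DRing.IsPseudoCoherent (MvPolynomial (Fin n) A) (-1)
      ((DerivedCategory.singleFunctor (ModuleCat.{u} (MvPolynomial (Fin n) A)) 0).obj N))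
    (m : ℤ) :
    DRing.IsPseudoCoherent (MvPolynomial (Fin n) A) m
      ((DerivedCategory.singleFunctor (ModuleCat.{u} (MvPolynomial (Fin n) A)) 0).obj N) := by
  letI : Module A N := Module.compHom N (MvPolynomial.C : A →+* MvPolynomial (Fin n) A)
  haveI : IsScalarTower A (MvPolynomial (Fin n) A) N :=
    IsScalarTower.of_algebraMap_smul fun r x => rfl
  haveI : Module.Flat A N := hfl
  haveI : Module.FinitePresentation (MvPolynomial (Fin n) A) N :=
    (Groth.Agent.H56.isPseudoCoherent_negOne_single_iff N).1 h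
  have h1 : DRing.IsPseudoCoherentModule' (MvPolynomial (Fin n) A) N :=
    Groth.Agent.H56.PcMor.isPseudoCoherentModule'_of_flat_fp A (MvPolynomial (Fin n) A) N
  exact Groth.Agent.H56.isPseudoCoherent_of_isPseudoCoherent' h1 m

end Ring

section Scheme

variable {X Y : Scheme.{u}}

/-- The action of `Γ(U, W)` on the sections of a restricted module. -/
lemma restrict_smul_eq (U : X.Opens) (M : X.Modules) (W : (U : Scheme.{u}).Opens)
    (r : Γ((U : Scheme.{u}), W)) (x : Γ((restrictFunctor U.ι).obj M, W)) :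
    r • x = (show Γ(X, U.ι ''ᵁ W) from r) • (show Γ(M, U.ι ''ᵁ W) from x) := by
  have h3 : (r • x : Γ((restrictFunctor U.ι).obj M, W)) =
      ((U.ι.appIso W).inv r) • (show Γ(M, U.ι ''ᵁ W) from x) := rfl
  rw [h3, Scheme.Opens.ι_appIso]
  rfl

/-- Sections over an affine chart of a quasi-coherent module flat over the base are flat over
the ring of the base. -/
theorem flat_chart_module (f : X ⟶ Y) (M : X.Modules) [M.IsQuasicoherent]
    (hfl : FlatMod.IsFlatOver f M) {U : X.Opens} {V : Y.Opens} (hU : IsAffineOpen U)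
    (hV : IsAffineOpen V) (h : U ≤ f ⁻¹ᵁ V) {n : ℕ}
    (φ : MvPolynomial (Fin n) Γ(Y, V) →+* Γ(X, U))
    (hφC : φ.comp MvPolynomial.C = (f.appLE V U h).hom) :
    letI := Module.compHom
      ((ModuleCat.restrictScalars.{u}
        (gammaMap (CommRingCat.of (MvPolynomial (Fin n) Γ(Y, V))) (imm U φ)).hom).obj
        (ModuleCat.of Γ((U : Scheme.{u}), ⊤) Γ((restrictFunctor U.ι).obj M, ⊤)))
      (MvPolynomial.C : Γ(Y, V) →+* MvPolynomial (Fin n) Γ(Y, V))
    Module.Flat Γ(Y, V)
      ((ModuleCat.restrictScalars.{u}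
        (gammaMap (CommRingCat.of (MvPolynomial (Fin n) Γ(Y, V))) (imm U φ)).hom).obj
        (ModuleCat.of Γ((U : Scheme.{u}), ⊤) Γ((restrictFunctor U.ι).obj M, ⊤))) := by
  have hW : IsAffineOpen (U.ι ''ᵁ (⊤ : (U : Scheme.{u}).Opens)) := by
    rw [Scheme.Opens.ι_image_top]
    exact hU
  have hWV : U.ι ''ᵁ (⊤ : (U : Scheme.{u}).Opens) ≤ f ⁻¹ᵁ V := by
    rw [Scheme.Opens.ι_image_top]
    exact h
  have key := Groth.Agent.H8.flat_sections_of_isFlatOverAt f M hW hV hWV (fun x _ => hfl x)
  have hρ : ∀ a : Γ(Y, V),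
      (gammaMap (CommRingCat.of (MvPolynomial (Fin n) Γ(Y, V))) (imm U φ)).hom
        (MvPolynomial.C a) = (f.appLE V (U.ι ''ᵁ ⊤) hWV).hom a := by
    intro a
    rw [gammaMap_imm φ]
    change U.topIso.inv.hom (φ (MvPolynomial.C a)) = _
    have h1 : φ (MvPolynomial.C a) = (f.appLE V U h).hom a := RingHom.congr_fun hφC a
    rw [h1]
    have h2 : f.appLE V U h ≫ U.topIso.inv = f.appLE V (U.ι ''ᵁ ⊤) hWV := by
      rw [Scheme.Opens.topIso_inv]
      exact Scheme.Hom.appLE_map f h _
    rw [← h2]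
    rfl
  letI I₂ : Module Γ(Y, V) Γ(M, U.ι ''ᵁ (⊤ : (U : Scheme.{u}).Opens)) :=
    Module.compHom _ (f.appLE V (U.ι ''ᵁ ⊤) hWV).hom
  haveI : Module.Flat Γ(Y, V) Γ(M, U.ι ''ᵁ (⊤ : (U : Scheme.{u}).Opens)) := key
  letI I₁ : Module Γ(Y, V) ((ModuleCat.restrictScalars.{u}
        (gammaMap (CommRingCat.of (MvPolynomial (Fin n) Γ(Y, V))) (imm U φ)).hom).obj
        (ModuleCat.of Γ((U : Scheme.{u}), ⊤) Γ((restrictFunctor U.ι).obj M, ⊤))) :=
    Module.compHom _ (MvPolynomial.C : Γ(Y, V) →+* MvPolynomial (Fin n) Γ(Y, V))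
  let e : ((ModuleCat.restrictScalars.{u}
        (gammaMap (CommRingCat.of (MvPolynomial (Fin n) Γ(Y, V))) (imm U φ)).hom).obj
        (ModuleCat.of Γ((U : Scheme.{u}), ⊤) Γ((restrictFunctor U.ι).obj M, ⊤))) ≃ₗ[Γ(Y, V)]
      Γ(M, U.ι ''ᵁ (⊤ : (U : Scheme.{u}).Opens)) :=
    { toFun := fun x => x
      invFun := fun x => x
      map_add' := fun _ _ => rfl
      map_smul' := fun a x => by
        change ((gammaMap (CommRingCat.of (MvPolynomial (Fin n) Γ(Y, V))) (imm U φ)).hom
          (MvPolynomial.C a)) • (show Γ((restrictFunctor U.ι).obj M, ⊤) from x) =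
          ((f.appLE V (U.ι ''ᵁ ⊤) hWV).hom a) •
            (show Γ(M, U.ι ''ᵁ (⊤ : (U : Scheme.{u}).Opens)) from x)
        rw [restrict_smul_eq, ← hρ a]
      left_inv := fun _ => rfl
      right_inv := fun _ => rfl }
  exact Module.Flat.of_linearEquiv e

/-- `i_* (M|_U)[0]` as a complex concentrated in degree `0`. -/
noncomputable def pushRestrictSingleIso (U : X.Opens) {W : Scheme.{u}}
    (i : (U : Scheme.{u}) ⟶ W) (M : X.Modules) :
    (DerSch.pushCx i).obj ((DCoh.restrictCx U).obj
      ((HomologicalComplex.single X.Modules (ComplexShape.up ℤ) 0).obj M)) ≅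
      (HomologicalComplex.single W.Modules (ComplexShape.up ℤ) 0).obj
        ((pushforward i).obj ((restrictFunctor U.ι).obj M)) :=
  (DerSch.pushCx i).mapIso
      ((HomologicalComplex.singleMapHomologicalComplex (restrictFunctor U.ι)
        (ComplexShape.up ℤ) 0).app M) ≪≫
    (HomologicalComplex.singleMapHomologicalComplex (pushforward i) (ComplexShape.up ℤ) 0).app _

/-- A module in degree `0`, in the derived category. -/
noncomputable def toDSingleIso (M : X.Modules) :
    DCoh.toD X ((HomologicalComplex.single X.Modules (ComplexShape.up ℤ) 0).obj M) ≅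
      DCoh.inD X M :=
  ((DerivedCategory.singleFunctorIsoCompQ X.Modules 0).app M).symm

/-- The chart test for a module flat over the base: level `-1` implies every level. -/
theorem chartPC_of_flat (f : X ⟶ Y) (M : X.Modules) [M.IsQuasicoherent]
    (hfl : FlatMod.IsFlatOver f M) {U : X.Opens} {V : Y.Opens} (hU : IsAffineOpen U)
    (hV : IsAffineOpen V) (h : U ≤ f ⁻¹ᵁ V) {n : ℕ}
    (φ : MvPolynomial (Fin n) Γ(Y, V) →+* Γ(X, U)) (hφ : DerSch.IsChart f U V h φ)
    (h1 : DerSch.ChartPC (-1)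
      (DCoh.toD X ((HomologicalComplex.single X.Modules (ComplexShape.up ℤ) 0).obj M)) U V φ)
    (m : ℤ) :
    DerSch.ChartPC m
      (DCoh.toD X ((HomologicalComplex.single X.Modules (ComplexShape.up ℤ) 0).obj M)) U V φ := by
  haveI := isClosedImmersion_imm hU φ hφ.1
  haveI := (Groth.Agent.S9498.key (CommRingCat.of (MvPolynomial (Fin n) Γ(Y, V)))).1
  have e : DCoh.toD (Spec (CommRingCat.of (MvPolynomial (Fin n) Γ(Y, V))))
      ((DerSch.pushCx (imm U φ)).obj ((DCoh.restrictCx U).obj
        ((HomologicalComplex.single X.Modules (ComplexShape.up ℤ) 0).obj M))) ≅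
      DCoh.inD (Spec (CommRingCat.of (MvPolynomial (Fin n) Γ(Y, V))))
        ((pushforward (imm U φ)).obj ((restrictFunctor U.ι).obj M)) :=
    DerivedCategory.Q.mapIso (pushRestrictSingleIso U (imm U φ) M) ≪≫
      ((DerivedCategory.singleFunctorIsoCompQ _ 0).app _).symm
  have key : ∀ k : ℤ, DerSch.ChartPC k
      (DCoh.toD X ((HomologicalComplex.single X.Modules (ComplexShape.up ℤ) 0).obj M)) U V φ ↔
      DCoh.IsPseudoCoherentD k (DCoh.inD (Spec (CommRingCat.of (MvPolynomial (Fin n) Γ(Y, V))))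
        ((pushforward (imm U φ)).obj ((restrictFunctor U.ι).obj M))) := fun k =>
    (forall_rep_iff hU φ hφ.1 k _
      ((HomologicalComplex.single X.Modules (ComplexShape.up ℤ) 0).obj M) (Iso.refl _)).trans
      ⟨isPC_of_iso e, isPC_of_iso e.symm⟩
  rw [key] at h1 ⊢
  haveI : ((pushforward (imm U φ)).obj ((restrictFunctor U.ι).obj M)).IsQuasicoherent := by
    have hq := (isQCoh_HD_of_isPC (-1) _ h1).1 0 (by omega)
    haveI : ((DerivedCategory.singleFunctor
        (Spec (CommRingCat.of (MvPolynomial (Fin n) Γ(Y, V)))).Modules 0 ⋙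
        DerivedCategory.homologyFunctor
          (Spec (CommRingCat.of (MvPolynomial (Fin n) Γ(Y, V)))).Modules 0).obj
        ((pushforward (imm U φ)).obj ((restrictFunctor U.ι).obj M))).IsQuasicoherent := hq
    exact H22.QCohLimits.isQuasicoherent_of_iso
      ((DerivedCategory.singleFunctorCompHomologyFunctorIso _ 0).app
        ((pushforward (imm U φ)).obj ((restrictFunctor U.ι).obj M)))
  have h1' := (isPC_push_module_iff (CommRingCat.of (MvPolynomial (Fin n) Γ(Y, V))) (imm U φ)
    ((restrictFunctor U.ι).obj M) (-1)).1 h1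
  refine (isPC_push_module_iff (CommRingCat.of (MvPolynomial (Fin n) Γ(Y, V))) (imm U φ)
    ((restrictFunctor U.ι).obj M) m).2 ?_
  exact ring_core _ (flat_chart_module f M hfl hU hV h φ hφ.2) h1' m

/-- `H^0` of a module placed in degree `0`. -/
noncomputable def hdSingleIso (M : X.Modules) :
    DCoh.HD (DCoh.toD X ((HomologicalComplex.single X.Modules (ComplexShape.up ℤ) 0).obj M)) 0 ≅
      M :=
  (DerivedCategory.homologyFunctor X.Modules 0).mapIso (toDSingleIso M) ≪≫
    (DerivedCategory.singleFunctorCompHomologyFunctorIso X.Modules 0).app M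

/-- A module flat over `Y` which is `(-1)`-pseudo-coherent relative to `f` is pseudo-coherent
relative to `f`. -/
theorem core (f : X ⟶ Y) (M : X.Modules) (hfl : FlatMod.IsFlatOver f M)
    (hfp : DerSch.IsPseudoCoherentRel f (-1)
      (DCoh.toD X ((HomologicalComplex.single X.Modules (ComplexShape.up ℤ) 0).obj M)))
    (m : ℤ) :
    DerSch.IsPseudoCoherentRel f m
      (DCoh.toD X ((HomologicalComplex.single X.Modules (ComplexShape.up ℤ) 0).obj M)) := by
  haveI : M.IsQuasicoherent := by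
    have hq := isQCoh_HD_of_isPseudoCoherentRel f (-1) _ hfp 0 (by omega)
    haveI := hq
    exact H22.QCohLimits.isQuasicoherent_of_iso (hdSingleIso M)
  obtain ⟨hft, 𝒱, h𝒱, hrest⟩ := hfp
  refine ⟨hft, 𝒱, h𝒱, fun V hV => ?_⟩
  obtain ⟨𝒰, h𝒰, hch⟩ := hrest V hV
  refine ⟨𝒰, h𝒰, fun U hU h => ?_⟩
  obtain ⟨n, φ, hφ, hPC⟩ := hch U hU h
  exact ⟨n, φ, hφ, chartPC_of_flat f M hfl U.2 V.2 h φ hφ hPC m⟩

/-- Inclusion form of `core`. -/
theorem core_inD (f : X ⟶ Y) (M : X.Modules) (hfl : FlatMod.IsFlatOver f M)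
    (hfp : DerSch.IsPseudoCoherentRel f (-1)
      (DCoh.toD X ((HomologicalComplex.single X.Modules (ComplexShape.up ℤ) 0).obj M)))
    (m : ℤ) : DerSch.IsPseudoCoherentRel f m (DCoh.inD X M) :=
  rel_of_iso (toDSingleIso M) (core f M hfl hfp m)

/-- Flatness over the base at a point, in terms of `stalkOver`. -/
theorem flat_stalkOver_iff (f : X ⟶ Y) (M : X.Modules) (x : X) :
    Module.Flat (Y.presheaf.stalk (f.base x)) ((DerSch.stalkOver f x).obj M) ↔
      FlatMod.IsFlatOverAt f M x :=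
  Iff.rfl

end Scheme

end Groth.Agent.H90.Chart
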