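import Groth.Agent.H90.ChartLoc
import Groth.Agent.H56.LocPc

/-!
# Polynomial-like algebras and the chart test (helper90)

* `Test m G₀ U θ`: the chart test for a ring map `θ : P →+* Γ(X, U)` from any ring.
* `PolyLike γ`: `γ : R →+* P` is the composite of `C : R → R[x_1..x_k]` and a pseudo-coherent
  surjection `R[x_1..x_k] → P`.  Closed under pseudo-coherent surjections, polynomial extensions and
  localization at one element.
* `test_iff_of_polyLike`: the chart test along `θ : P → Γ(X, U)` for a polynomial-like `P` is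
  equivalent to the test for any polynomial chart.
-/

set_option autoImplicit false
set_option linter.style.haveILetI false
set_option maxHeartbeats 400000
universe u
open CategoryTheory CategoryTheory.Limits AlgebraicGeometry TopologicalSpace Opposite
open AlgebraicGeometry.Scheme.Modules

attribute [local instance] HasDerivedCategory.standard

namespace Groth.Agent.H90.Chart

open Groth.Agent.H56

section PolyLike

variable {R P P' : Type u} [CommRing R] [CommRing P] [CommRing P']

/-- `γ : R →+* P` factors as `C : R → R[x_1..x_k]` followed by a pseudo-coherent surjection. -/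
def PolyLike (γ : R →+* P) : Prop :=
  ∃ (k : ℕ) (ρ : MvPolynomial (Fin k) R →+* P), Function.Surjective ρ ∧ PcHom ρ ∧
    ρ.comp MvPolynomial.C = γ

lemma polyLike_C (n : ℕ) : PolyLike (MvPolynomial.C : R →+* MvPolynomial (Fin n) R) :=
  ⟨n, RingHom.id _, Function.surjective_id, pcHom_of_bijective _ Function.bijective_id, rfl⟩

lemma PolyLike.comp_surj {γ : R →+* P} (hγ : PolyLike γ) (ρ' : P →+* P')
    (hs : Function.Surjective ρ') (hp : PcHom ρ') : PolyLike (ρ'.comp γ) := by
  obtain ⟨k, ρ, hρs, hρp, hρC⟩ := hγ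
  refine ⟨k, ρ'.comp ρ, ?_, hρp.comp hp, ?_⟩
  · rw [RingHom.coe_comp]
    exact hs.comp hρs
  · rw [RingHom.comp_assoc, hρC]

lemma PolyLike.mvPolynomial {γ : R →+* P} (hγ : PolyLike γ) (j : ℕ) :
    PolyLike ((MvPolynomial.C : P →+* MvPolynomial (Fin j) P).comp γ) := by
  obtain ⟨k, ρ, hρs, hρp, hρC⟩ := hγ
  let e1 : MvPolynomial (Fin (j + k)) R ≃ₐ[R] MvPolynomial (Fin j ⊕ Fin k) R :=
    MvPolynomial.renameEquiv R finSumFinEquiv.symm
  let e2 : MvPolynomial (Fin j ⊕ Fin k) R ≃ₐ[R] MvPolynomial (Fin j) (MvPolynomial (Fin k) R) :=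
    MvPolynomial.sumAlgEquiv R (Fin j) (Fin k)
  let ρ1 : MvPolynomial (Fin (j + k)) R →+* MvPolynomial (Fin j) (MvPolynomial (Fin k) R) :=
    ((e1.trans e2 : MvPolynomial (Fin (j + k)) R ≃ₐ[R] _) : _ →+* _)
  have h1 : PcHom ρ1 := pcHom_of_bijective _ (e1.trans e2).bijective
  have h2 : PcHom (MvPolynomial.map ρ :
      MvPolynomial (Fin j) (MvPolynomial (Fin k) R) →+* MvPolynomial (Fin j) P) :=
    Groth.Agent.H56.FlatPc.pcHom_mvPolynomial_map ρ hρp j
  refine ⟨j + k, (MvPolynomial.map ρ).comp ρ1, ?_, h1.comp h2, ?_⟩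
  · rw [RingHom.coe_comp]
    exact (MvPolynomial.map_surjective ρ hρs).comp (e1.trans e2).surjective
  · ext r
    have : ρ (MvPolynomial.C r) = γ r := RingHom.congr_fun hρC r
    simp [ρ1, e1, e2, this]

/-- `MvPolynomial (Fin 1) P ≃ₐ[P] P[X]`. -/
noncomputable def finOneEquiv (P : Type u) [CommRing P] :
    MvPolynomial (Fin 1) P ≃ₐ[P] Polynomial P :=
  MvPolynomial.uniqueAlgEquiv P (Fin 1)

lemma PolyLike.away {γ : R →+* P} (hγ : PolyLike γ) (G : P) [Algebra P P']
    [IsLocalization.Away G P'] : PolyLike ((algebraMap P P').comp γ) := by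
  obtain ⟨ρ, hρp, hρs, hρC⟩ := Groth.Agent.H56.FlatPc.exists_pcHom_away G P'
  have h1 := hγ.mvPolynomial 1
  have h2 : PcHom (((finOneEquiv P : MvPolynomial (Fin 1) P ≃ₐ[P] Polynomial P) :
      MvPolynomial (Fin 1) P →+* Polynomial P)) :=
    pcHom_of_bijective _ (finOneEquiv P).bijective
  have h3 := h1.comp_surj (ρ.comp ((finOneEquiv P : MvPolynomial (Fin 1) P ≃ₐ[P] Polynomial P) :
      MvPolynomial (Fin 1) P →+* Polynomial P))
    (by rw [RingHom.coe_comp]; exact hρs.comp (finOneEquiv P).surjective) (h2.comp hρp)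
  have heq : (ρ.comp ((finOneEquiv P : MvPolynomial (Fin 1) P ≃ₐ[P] Polynomial P) :
      MvPolynomial (Fin 1) P →+* Polynomial P)).comp
      ((MvPolynomial.C : P →+* MvPolynomial (Fin 1) P).comp γ) = (algebraMap P P').comp γ := by
    ext r
    have h4 : (finOneEquiv P) (MvPolynomial.C (γ r)) = Polynomial.C (γ r) :=
      (finOneEquiv P).commutes (γ r)
    simp only [RingHom.comp_apply, RingHom.coe_coe]
    rw [h4, hρC]
  rwa [heq] at h3

/-- Localizing the base ring at one element: `R → R_r[x_1..x_n]` is polynomial-like. -/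
lemma polyLike_base_away {R' : Type u} [CommRing R'] [Algebra R R'] (r : R)
    [IsLocalization.Away r R'] (n : ℕ) :
    PolyLike ((MvPolynomial.C : R' →+* MvPolynomial (Fin n) R').comp (algebraMap R R')) := by
  letI : Algebra (MvPolynomial (Fin n) R) (MvPolynomial (Fin n) R') :=
    MvPolynomial.algebraMvPolynomial
  haveI : IsLocalization.Away (MvPolynomial.C r : MvPolynomial (Fin n) R)
      (MvPolynomial (Fin n) R') := by
    have h := MvPolynomial.isLocalization (σ := Fin n) (Submonoid.powers r) R'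
    rwa [Submonoid.map_powers] at h
  have h1 := (polyLike_C (R := R) n).away (P' := MvPolynomial (Fin n) R') (MvPolynomial.C r)
  have heq : (algebraMap (MvPolynomial (Fin n) R) (MvPolynomial (Fin n) R')).comp
      MvPolynomial.C = MvPolynomial.C.comp (algebraMap R R') := by
    refine RingHom.ext (fun x => ?_)
    simp only [RingHom.comp_apply]
    rw [MvPolynomial.algebraMap_def, MvPolynomial.map_C]
  rwa [heq] at h1

end PolyLike

section Test

variable {X : Scheme.{u}}

/-- The chart test for a ring map `θ : P →+* Γ(X, U)`. -/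
def Test (m : ℤ) (G₀ : CochainComplex X.Modules ℤ) (U : X.Opens) {P : Type u} [CommRing P]
    (θ : P →+* Γ(X, U)) : Prop :=
  DCoh.IsPseudoCoherentD m (DerivedCategory.Q.obj
    ((DerSch.pushCx (imm U θ)).obj ((DCoh.restrictCx U).obj G₀)))

lemma chartPC_iff_test {Y : Scheme.{u}} (m : ℤ) (E : DCoh.D X) (U : X.Opens) (V : Y.Opens)
    {n : ℕ} (φ : MvPolynomial (Fin n) Γ(Y, V) →+* Γ(X, U)) :
    DerSch.ChartPC m E U V φ ↔
      ∀ G : CochainComplex X.Modules ℤ, Nonempty (DCoh.toD X G ≅ E) → Test m G U φ :=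
  Iff.rfl

variable {U : X.Opens} {R P : Type u} [CommRing R] [CommRing P]

/-- For a polynomial-like `P`, the test along `θ : P → Γ(X, U)` is equivalent to the test along
any polynomial chart compatible with it. -/
theorem test_iff_of_polyLike (γ : R →+* P) (hγ : PolyLike γ) (θ : P →+* Γ(X, U))
    (hθ : Function.Surjective θ) {k' : ℕ} (ψ : MvPolynomial (Fin k') R →+* Γ(X, U))
    (hψ : Function.Surjective ψ) (hψC : ψ.comp MvPolynomial.C = θ.comp γ)
    (m : ℤ) (G₀ : CochainComplex X.Modules ℤ) :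
    Test m G₀ U θ ↔ Test m G₀ U ψ := by
  obtain ⟨k, ρ, hρs, hρp, hρC⟩ := hγ
  refine (isPC_pushCx_imm_comp_iff ρ hρs hρp θ _ m).trans ?_
  refine chart_iff_chart (θ.comp γ) (θ.comp ρ) ?_ ?_ ψ hψ hψC _ m
  · rw [RingHom.coe_comp]
    exact hθ.comp hρs
  · rw [RingHom.comp_assoc, hρC]

/-- A polynomial chart equivalent to a polynomial-like one. -/
theorem exists_chart_of_polyLike (γ : R →+* P) (hγ : PolyLike γ) (θ : P →+* Γ(X, U))
    (hθ : Function.Surjective θ) :
    ∃ (k : ℕ) (ψ : MvPolynomial (Fin k) R →+* Γ(X, U)), Function.Surjective ψ ∧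
      ψ.comp MvPolynomial.C = θ.comp γ ∧
      ∀ (m : ℤ) (G₀ : CochainComplex X.Modules ℤ), Test m G₀ U θ ↔ Test m G₀ U ψ := by
  obtain ⟨k, ρ, hρs, hρp, hρC⟩ := hγ
  refine ⟨k, θ.comp ρ, ?_, ?_, fun m G₀ => isPC_pushCx_imm_comp_iff ρ hρs hρp θ _ m⟩
  · rw [RingHom.coe_comp]
    exact hθ.comp hρs
  · rw [RingHom.comp_assoc, hρC]

end Test

section Assemble

open Groth.Agent.H90.SPerf Groth.Agent.H90.LR Groth.Agent.H90.QH Groth.Agent.H28.PCohD
open Groth.Agent.H90.CPC Groth.Agent.H90.TPC Groth.Agent.H90.TPerf Groth.Agent.H90.CPerf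

variable {X : Scheme.{u}} {U : X.Opens} {P : Type u} [CommRing P]

lemma isPC_restrictCx {Y : Scheme.{u}} (W : Y.Opens) (F : CochainComplex Y.Modules ℤ) (m : ℤ)
    (h : DCoh.IsPseudoCoherentD m (DerivedCategory.Q.obj F)) :
    DCoh.IsPseudoCoherentD m (DerivedCategory.Q.obj ((DCoh.restrictCx W).obj F)) := by
  rw [isPC_iff] at h ⊢
  intro y
  exact (locPC_Q_restrictCx_iff W F m y).2 (h (W.ι y))

/-- Source localization: the chart test passes to basic opens. -/
theorem test_basicOpen (θ : P →+* Γ(X, U)) (G : P) (m : ℤ) (G₀ : CochainComplex X.Modules ℤ)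
    (h : Test m G₀ U θ) : Test m G₀ (X.basicOpen (θ G)) (locTheta U θ G) :=
  (test_loc_iff θ G G₀ m).1 (isPC_restrictCx _ _ m h)

/-- Glueing: the chart test may be checked on a cover by basic opens. -/
theorem test_of_cover (hU : IsAffineOpen U) (θ : P →+* Γ(X, U)) (hθ : Function.Surjective θ)
    {ι : Type*} (G : ι → P) (hG : Ideal.span (Set.range (fun j => θ (G j))) = ⊤) (m : ℤ)
    (G₀ : CochainComplex X.Modules ℤ)
    (h : ∀ j, Test m G₀ (X.basicOpen (θ (G j))) (locTheta U θ (G j))) : Test m G₀ U θ := by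
  haveI := isClosedImmersion_imm hU θ hθ
  unfold Test
  rw [isPC_iff]
  intro y
  by_cases hy : y ∈ Set.range (imm U θ).base
  · obtain ⟨u, rfl⟩ := hy
    have hcov : (⨆ f : (Set.range (fun j => θ (G j))), X.basicOpen (f : Γ(X, U))) = U :=
      (hU.iSup_basicOpen_eq_self_iff).2 hG
    have hu : u.1 ∈ (⨆ f : (Set.range (fun j => θ (G j))), X.basicOpen (f : Γ(X, U))) := by
      rw [hcov]
      exact u.2
    rw [Opens.mem_iSup] at hu
    obtain ⟨⟨_, j, rfl⟩, huj⟩ := hu
    have huW : (imm U θ) u ∈ locW (G j) := by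
      have h0 : u ∈ imm U θ ⁻¹ᵁ locW (G j) := by
        rw [imm_preimage_basicOpen]
        exact huj
      exact h0
    have h1 := (test_loc_iff θ (G j) G₀ m).2 (h j)
    rw [isPC_iff] at h1
    exact (locPC_Q_restrictCx_iff (locW (G j)) _ m ⟨_, huW⟩).1 (h1 ⟨_, huW⟩)
  · exact locPC_outside (imm U θ) _ m y hy

end Assemble

end Groth.Agent.H90.Chart
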