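import Groth.Agent.H90.ChartMod
import Groth.Agent.H28.TildePush
import Groth.Agent.S0997
import Groth.Prelude.Def_DerCA

/-!
# Relative pseudo-coherence in terms of sections over affine opens (helper90)

* `pushTildeCxIso`: `(Spec θ)_* (K~) ≅ (K_P)~` for complexes of modules.
* `toD_push_imm_iso`: the chart direct image of `E|_U` is `(M_P)~` when `M~ ≅ E|_U`.
* `sections_of_rel`, `rel_of_sections`: the two directions of S7234.
-/

set_option autoImplicit false
set_option linter.style.haveILetI false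
set_option maxHeartbeats 400000
universe u
open CategoryTheory CategoryTheory.Limits AlgebraicGeometry TopologicalSpace Opposite
open AlgebraicGeometry.Scheme.Modules

attribute [local instance] HasDerivedCategory.standard

namespace Groth.Agent.H90.Chart

open Groth.Agent.H56
open Groth.Agent.H90.SPerf Groth.Agent.H90.LR Groth.Agent.H90.QH Groth.Agent.H28.PCohD
open Groth.Agent.H90.CPC Groth.Agent.H90.TPC Groth.Agent.H90.TPerf Groth.Agent.H90.CPerf

section Key

/-- `(Spec θ)_* (K~) ≅ (K_P)~` for complexes. -/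
noncomputable def pushTildeCxIso {P : Type u} [CommRing P] (S : CommRingCat.{u}) (θ : P →+* S)
    (K : CochainComplex (ModuleCat.{u} S) ℤ) :
    (DerSch.pushCx (Spec.map (CommRingCat.ofHom θ))).obj
        (((tilde.functor S).mapHomologicalComplex (ComplexShape.up ℤ)).obj K) ≅
      ((tilde.functor (CommRingCat.of P)).mapHomologicalComplex (ComplexShape.up ℤ)).obj
        (((ModuleCat.restrictScalars.{u} θ).mapHomologicalComplex (ComplexShape.up ℤ)).obj K) :=
  HomologicalComplex.Hom.isoOfComponents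
    (fun j => (Groth.Agent.H28.TildePush.tildePushIso (CommRingCat.ofHom θ)).app (K.X j))
    (fun j k _ => ((Groth.Agent.H28.TildePush.tildePushIso
      (CommRingCat.ofHom θ)).hom.naturality (K.d j k)).symm)

variable {X : Scheme.{u}} {U : X.Opens}

/-- If `M~ ≅ E|_U` on `Spec Γ(X, U)`, the chart direct image of `E|_U` is `(M_P)~`. -/
theorem toD_push_imm_iso (hU : IsAffineOpen U) [PreservesFiniteLimits (tilde.functor Γ(X, U))]
    {P : Type u} [CommRing P] [PreservesFiniteLimits (tilde.functor (CommRingCat.of P))]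
    (θ : P →+* Γ(X, U)) (hθ : Function.Surjective θ)
    (G : CochainComplex X.Modules ℤ) (M : DerivedCategory (ModuleCat.{u} Γ(X, U)))
    (e₀ : (DCoh.tildeD Γ(X, U)).obj M ≅
      DCoh.toD _ ((DerSch.pushCx hU.isoSpec.hom).obj ((DCoh.restrictCx U).obj G))) :
    Nonempty (DCoh.toD (Spec (CommRingCat.of P))
        ((DerSch.pushCx (imm U θ)).obj ((DCoh.restrictCx U).obj G)) ≅
      (DCoh.tildeD (CommRingCat.of P)).obj ((DRing.restrictD θ).obj M)) := by
  haveI := isClosedImmersion_spec θ hθ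
  haveI := (Groth.Agent.S9498.key (CommRingCat.of P)).2
  let K := DerivedCategory.Q.objPreimage M
  have eK : DerivedCategory.Q.obj K ≅ M := DerivedCategory.Q.objObjPreimageIso M
  have e1 : DerivedCategory.Q.obj
      (((tilde.functor Γ(X, U)).mapHomologicalComplex (ComplexShape.up ℤ)).obj K) ≅
      DerivedCategory.Q.obj ((DerSch.pushCx hU.isoSpec.hom).obj ((DCoh.restrictCx U).obj G)) :=
    ((tilde.functor Γ(X, U)).mapDerivedCategoryFactors.app K).symm ≪≫
      (DCoh.tildeD Γ(X, U)).mapIso eK ≪≫ e₀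
  have e2 := pushQIso (Spec.map (CommRingCat.ofHom θ)) e1
  have e3 : (DerSch.pushCx (Spec.map (CommRingCat.ofHom θ))).obj
      ((DerSch.pushCx hU.isoSpec.hom).obj ((DCoh.restrictCx U).obj G)) ≅
      (DerSch.pushCx (imm U θ)).obj ((DCoh.restrictCx U).obj G) := by
    have h : imm U θ = hU.isoSpec.hom ≫ Spec.map (CommRingCat.ofHom θ) := by
      rw [hU.isoSpec_hom]
      rfl
    rw [h]
    exact pushCxCompIso _ _ _
  have e4 := DerivedCategory.Q.mapIso (pushTildeCxIso Γ(X, U) θ K)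
  have e5 : DerivedCategory.Q.obj
      (((tilde.functor (CommRingCat.of P)).mapHomologicalComplex (ComplexShape.up ℤ)).obj
        (((ModuleCat.restrictScalars.{u} θ).mapHomologicalComplex (ComplexShape.up ℤ)).obj K)) ≅
      (DCoh.tildeD (CommRingCat.of P)).obj ((DRing.restrictD θ).obj M) :=
    ((tilde.functor (CommRingCat.of P)).mapDerivedCategoryFactors.app _).symm ≪≫
      (DCoh.tildeD (CommRingCat.of P)).mapIso
        (((ModuleCat.restrictScalars.{u} θ).mapDerivedCategoryFactors.app K).symm ≪≫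
          (DRing.restrictD θ).mapIso eK)
  exact ⟨(DerivedCategory.Q.mapIso e3).symm ≪≫ e2.symm ≪≫ e4 ≪≫ e5⟩

end Key

section Sections

variable {X S : Scheme.{u}}

/-- `(1) ⇒ (3)` of S7234. -/
theorem sections_of_rel (f : X ⟶ S) (E : DCoh.D X) (m : ℤ)
    (hE : DerSch.IsPseudoCoherentRel f m E) (U : X.affineOpens) (V : S.affineOpens)
    (h : (U : X.Opens) ≤ f ⁻¹ᵁ (V : S.Opens))
    [PreservesFiniteLimits (tilde.functor Γ(X, (U : X.Opens)))]
    (G : CochainComplex X.Modules ℤ) (hG : Nonempty (DCoh.toD X G ≅ E))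
    (M : Dual.D Γ(X, (U : X.Opens)))
    (hM : Nonempty ((DCoh.tildeD Γ(X, (U : X.Opens))).obj M ≅
      DCoh.toD _ ((DerSch.pushCx U.2.isoSpec.hom).obj ((DCoh.restrictCx (U : X.Opens)).obj G)))) :
    letI := (f.appLE (V : S.Opens) (U : X.Opens) h).hom.toAlgebra
    DerCA.IsRelPseudoCoherent Γ(S, (V : S.Opens)) Γ(X, (U : X.Opens)) m M := by
  obtain ⟨n, ψ, hψ, hPC⟩ := good_of_isPseudoCoherentRel hE U.2 V.2 h
  obtain ⟨e₀⟩ := hM
  haveI := (Groth.Agent.S9498.key
    (CommRingCat.of (MvPolynomial (Fin n) Γ(S, (V : S.Opens))))).1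
  obtain ⟨e⟩ := toD_push_imm_iso U.2 ψ hψ.1 G M e₀
  letI := (f.appLE (V : S.Opens) (U : X.Opens) h).hom.toAlgebra
  refine ⟨n, AlgHom.mk ψ (fun r => RingHom.congr_fun hψ.2 r), hψ.1, ?_⟩
  show DRing.IsPseudoCoherent _ m ((DRing.restrictD ψ).obj M)
  rw [← isPC_tildeD_iff (CommRingCat.of (MvPolynomial (Fin n) Γ(S, (V : S.Opens)))) _ m]
  exact isPC_of_iso e (hPC G hG)

/-- `(3) ⇒ (1)` of S7234. -/
theorem rel_of_sections (f : X ⟶ S) [LocallyOfFiniteType f]
    [∀ U : X.affineOpens, PreservesFiniteLimits (tilde.functor Γ(X, (U : X.Opens)))]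
    (E : DCoh.D X) (hE : DCoh.IsQCohD E) (m : ℤ)
    (H : ∀ (U : X.affineOpens) (V : S.affineOpens) (h : (U : X.Opens) ≤ f ⁻¹ᵁ (V : S.Opens))
      (G : CochainComplex X.Modules ℤ), Nonempty (DCoh.toD X G ≅ E) →
      ∀ M : Dual.D Γ(X, (U : X.Opens)),
        Nonempty ((DCoh.tildeD Γ(X, (U : X.Opens))).obj M ≅
          DCoh.toD _ ((DerSch.pushCx U.2.isoSpec.hom).obj
            ((DCoh.restrictCx (U : X.Opens)).obj G))) →
        letI := (f.appLE (V : S.Opens) (U : X.Opens) h).hom.toAlgebra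
        DerCA.IsRelPseudoCoherent Γ(S, (V : S.Opens)) Γ(X, (U : X.Opens)) m M) :
    DerSch.IsPseudoCoherentRel f m E := by
  refine isPseudoCoherentRel_of_forall_good inferInstance (fun U V h => ?_)
  let G₀ := DerivedCategory.Q.objPreimage E
  have eG : DCoh.toD X G₀ ≅ E := DerivedCategory.Q.objObjPreimageIso E
  have hq : DCoh.IsQCohD (DCoh.toD (Spec Γ(X, (U : X.Opens)))
      ((DerSch.pushCx U.2.isoSpec.hom).obj ((DCoh.restrictCx (U : X.Opens)).obj G₀))) := by
    intro i
    haveI h1 : (DCoh.HD E i).IsQuasicoherent := hE i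
    haveI h3 : ((restrictFunctor (U : X.Opens).ι).obj (DCoh.HD E i)).IsQuasicoherent :=
      inferInstance
    have e1 : (restrictFunctor (U : X.Opens).ι).obj (DCoh.HD E i) ≅
        ((DCoh.restrictCx (U : X.Opens)).obj G₀).homology i :=
      (restrictFunctor (U : X.Opens).ι).mapIso
        ((DerivedCategory.homologyFunctor _ i).mapIso eG.symm ≪≫
          (DerivedCategory.homologyFunctorFactors _ i).app G₀) ≪≫
        ((homologyMapHCIso (restrictFunctor (U : X.Opens).ι) i).app G₀).symm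
    haveI h4 : (((DCoh.restrictCx (U : X.Opens)).obj G₀).homology i).IsQuasicoherent :=
      H22.QCohLimits.isQuasicoherent_of_iso e1
    haveI h5 : ((pushforward U.2.isoSpec.hom).obj
        (((DCoh.restrictCx (U : X.Opens)).obj G₀).homology i)).IsQuasicoherent :=
      Groth.Agent.H8.isQuasicoherent_pushforward _ _
    have e2 : (pushforward U.2.isoSpec.hom).obj
        (((DCoh.restrictCx (U : X.Opens)).obj G₀).homology i) ≅
        DCoh.HD (DCoh.toD (Spec Γ(X, (U : X.Opens)))
          ((DerSch.pushCx U.2.isoSpec.hom).obj ((DCoh.restrictCx (U : X.Opens)).obj G₀))) i :=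
      (homologyPushCxIso U.2.isoSpec.hom ((DCoh.restrictCx (U : X.Opens)).obj G₀) i).symm ≪≫
        ((DerivedCategory.homologyFunctorFactors _ i).app _).symm
    exact H22.QCohLimits.isQuasicoherent_of_iso e2
  obtain ⟨M, ⟨eM⟩⟩ := ((Groth.Agent.S0997.result Γ(X, (U : X.Opens))).2.2 _).1 hq
  have hrel := H U V h G₀ ⟨eG⟩ M ⟨eM⟩
  letI := (f.appLE (V : S.Opens) (U : X.Opens) h).hom.toAlgebra
  obtain ⟨n, α, hα, hvia⟩ := hrel
  haveI := (Groth.Agent.S9498.key
    (CommRingCat.of (MvPolynomial (Fin n) Γ(S, (V : S.Opens))))).1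
  obtain ⟨e⟩ := toD_push_imm_iso U.2
    (α : MvPolynomial (Fin n) Γ(S, (V : S.Opens)) →+* Γ(X, (U : X.Opens))) hα G₀ M eM
  refine ⟨n, (α : MvPolynomial (Fin n) Γ(S, (V : S.Opens)) →+* Γ(X, (U : X.Opens))),
    ⟨hα, RingHom.ext (fun r => α.commutes r)⟩, ?_⟩
  refine (forall_rep_iff U.2 _ hα m E G₀ eG).2 ?_
  refine isPC_of_iso e.symm ?_
  exact (isPC_tildeD_iff (CommRingCat.of (MvPolynomial (Fin n) Γ(S, (V : S.Opens)))) _ m).2 hvia

end Sections

end Groth.Agent.H90.Chart
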