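import Groth.Agent.H90.TildePerf
import Groth.Agent.S9498
import Groth.Agent.H8.QCohPush
import Groth.Agent.H8.StructureCoh
import Groth.Agent.H56.KoszPerf

/-!
# Perfectness of `i_* O_Z` for closed immersions, via sections over affine opens (helper90)

* `nonempty_restrict_fromSpec_iso`: a quasi-coherent module restricted to an affine open
  `Spec Γ(X, U)` is the tilde of its module of sections.
* `locPerfO_of_isPerfect_sections`: if `Γ(N, U)` is a perfect `Γ(X, U)`-module (`N` quasi-coherent,
  `U` affine), then `N[0]` is perfect near every point of `U`.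
* `sectionsPushEquiv`: `Γ(i_* O_Z, U) ≃ Γ(Z, i⁻¹U)`, linearly over `Γ(X, U)`.
* `isPerfect_push_of_koszul` (= S6237), `isPerfect_push_of_isPerfectMor` (= S7175).
-/

set_option autoImplicit false
set_option linter.style.haveILetI false
set_option maxHeartbeats 400000
universe u
open CategoryTheory CategoryTheory.Limits AlgebraicGeometry TopologicalSpace Opposite
open AlgebraicGeometry.Scheme.Modules

attribute [local instance] HasDerivedCategory.standard

namespace Groth.Agent.H90.CPerf

open Groth.Agent.H90.SPerf Groth.Agent.H90.LR Groth.Agent.H90.QH Groth.Agent.H28.PCohD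
open Groth.Agent.H90.CPC Groth.Agent.H90.TPC Groth.Agent.H90.TPerf

section Affine

variable {X : Scheme.{u}} {U : X.Opens}

set_option backward.isDefEq.respectTransparency false in
/-- A quasi-coherent module restricted to `Spec Γ(X, U)` (`U` affine) is the tilde of its module
of sections over `U`. -/
theorem nonempty_restrict_fromSpec_iso (hU : IsAffineOpen U) (N : X.Modules)
    [N.IsQuasicoherent] :
    Nonempty (N.restrict hU.fromSpec ≅
      (tilde.functor Γ(X, U)).obj (ModuleCat.of Γ(X, U) Γ(N, U))) := by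
  haveI : (N.restrict hU.fromSpec).IsQuasicoherent :=
    Scheme.Modules.isQuasicoherent_restrictFunctor hU.fromSpec N
  haveI : IsIso (N.restrict hU.fromSpec).fromTildeΓ :=
    Scheme.Modules.isIso_fromTildeΓ_of_isQuasicoherent _
  exact ⟨(asIso (N.restrict hU.fromSpec).fromTildeΓ).symm ≪≫
    (tilde.functor Γ(X, U)).mapIso (Groth.Agent.H8.sectionsRestrictEquiv hU N).toModuleIso⟩

set_option backward.isDefEq.respectTransparency false in
/-- If the module of sections of a quasi-coherent module `N` over an affine open `U` is perfect,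
then `N[0]` is perfect near every point of `U`. -/
theorem locPerfO_of_isPerfect_sections (hU : IsAffineOpen U) (N : X.Modules)
    [N.IsQuasicoherent]
    (h : DRing.IsPerfect Γ(X, U) (Dual.inD Γ(X, U) Γ(N, U))) (x : X) (hx : x ∈ U) :
    LocPerfO (DCoh.inD X N) x := by
  obtain ⟨y, rfl⟩ : x ∈ Set.range hU.fromSpec := by
    rw [hU.range_fromSpec]
    exact hx
  apply locPerfO_of_restrict hU.fromSpec
  haveI : PreservesFiniteLimits (tilde.functor Γ(X, U)) := (Groth.Agent.S9498.key _).1
  obtain ⟨eA⟩ := nonempty_restrict_fromSpec_iso hU N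
  have e1 : (DCoh.restrictD hU.fromSpec).obj (DCoh.inD X N) ≅
      DCoh.inD _ (N.restrict hU.fromSpec) :=
    ((restrictFunctor hU.fromSpec).mapDerivedCategorySingleFunctor 0).app N
  have e2 : DCoh.inD (Spec Γ(X, U)) (N.restrict hU.fromSpec) ≅
      DCoh.inD _ ((tilde.functor Γ(X, U)).obj (ModuleCat.of Γ(X, U) Γ(N, U))) :=
    (DerivedCategory.singleFunctor _ 0).mapIso eA
  have e3 : (DCoh.tildeD Γ(X, U)).obj (Dual.inD Γ(X, U) Γ(N, U)) ≅
      DCoh.inD _ ((tilde.functor Γ(X, U)).obj (ModuleCat.of Γ(X, U) Γ(N, U))) :=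
    ((tilde.functor Γ(X, U)).mapDerivedCategorySingleFunctor 0).app _
  have hp := isPerfect_tildeD_of Γ(X, U) _ h
  exact locPerfO_of_iso (e3 ≪≫ e2.symm ≪≫ e1.symm) ((isPerfect_iff _).1 hp y)

end Affine

section Ring

variable {B C : Type u} [CommRing B] [CommRing C]

/-- The quotient by a Koszul-regular sequence is a perfect module. -/
theorem isPerfect_of_koszul (f : B →+* C) (hf : Function.Surjective f) (l : List B)
    (hl : LCI.IsKoszulRegularSeq B l) (hker : RingHom.ker f = Ideal.ofList l) :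
    letI := f.toAlgebra
    DRing.IsPerfect B (Dual.inD B C) := by
  letI : Algebra B C := f.toAlgebra
  have hle : (Ideal.ofList l : Submodule B B) ≤ LinearMap.ker (Algebra.linearMap B C) := by
    intro x hx
    have h : x ∈ RingHom.ker f := by
      rw [hker]
      exact hx
    exact h
  have hφi : Function.Injective
      (Submodule.liftQ (Ideal.ofList l : Submodule B B) (Algebra.linearMap B C) hle) := by
    rw [← LinearMap.ker_eq_bot]
    refine Submodule.ker_liftQ_eq_bot _ _ _ ?_
    intro x hx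
    have h : x ∈ RingHom.ker f := hx
    rw [hker] at h
    exact h
  have hφs : Function.Surjective
      (Submodule.liftQ (Ideal.ofList l : Submodule B B) (Algebra.linearMap B C) hle) := by
    intro c
    obtain ⟨r, rfl⟩ := hf c
    exact ⟨Submodule.Quotient.mk r, rfl⟩
  let e : (B ⧸ Ideal.ofList l) ≃ₗ[B] C := LinearEquiv.ofBijective _ ⟨hφi, hφs⟩
  obtain ⟨e0⟩ := Groth.Agent.H56.PcMor.nonempty_koszul_iso l hl
  have hK : DRing.IsPerfect B (DRing.toD (Koszul.koszul B l)) :=
    ⟨_, _, _, (Groth.Agent.H28.K0Kos.koszul_perfect B l).1,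
      (Groth.Agent.H28.K0Kos.koszul_perfect B l).2, ⟨Iso.refl _⟩⟩
  exact Groth.Agent.H56.isPerfect_of_iso
    (e0 ≪≫ (DerivedCategory.singleFunctor (ModuleCat.{u} B) 0).mapIso e.toModuleIso) hK

/-- The target of a surjective perfect ring map is a perfect module. -/
theorem isPerfect_of_isPerfectHom (f : B →+* C) (hf : Function.Surjective f)
    (h : letI := f.toAlgebra; MoreMor.IsPerfectHom B C) :
    letI := f.toAlgebra
    DRing.IsPerfect B (Dual.inD B C) := by
  letI : Algebra B C := f.toAlgebra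
  haveI : Module.Finite B C := Module.Finite.of_surjective (Algebra.linearMap B C) hf
  have hpc : DRing.IsPseudoCoherentModule' B C :=
    (Groth.Agent.H56.PcMor.q_iff_of_finite (R := B) (A := C)).1 h.1
  obtain ⟨n, hn⟩ := h.2
  have hamp := (Groth.Agent.H35.TorAmp.hasTorDimLE_iff (R := B) C n).1 hn
  exact (Groth.Agent.H35.TorAmp.isPerfect_iff _).2 ⟨hpc, _, _, hamp⟩

/-- A subsingleton module is perfect. -/
theorem isPerfect_of_subsingleton (M : Type u) [AddCommGroup M] [Module B M] [Subsingleton M] :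
    DRing.IsPerfect B (Dual.inD B M) :=
  Groth.Agent.H56.isPerfect_of_isZero
    (Functor.map_isZero _ (ModuleCat.isZero_of_subsingleton (ModuleCat.of B M)))

end Ring

section Closed

variable {Z X : Scheme.{u}} (i : Z ⟶ X)

/-- `Γ(i_* O_Z, U) ≃ Γ(Z, i⁻¹U)`, linearly over `Γ(X, U)`. -/
noncomputable def sectionsPushEquiv (U : X.Opens) :
    letI := (i.app U).hom.toAlgebra
    Γ((pushforward i).obj (Coh.structureModule Z), U) ≃ₗ[Γ(X, U)] Γ(Z, i ⁻¹ᵁ U) :=
  letI := (i.app U).hom.toAlgebra
  { toFun := fun s => s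
    invFun := fun s => s
    map_add' := fun _ _ => rfl
    map_smul' := fun _ _ => rfl
    left_inv := fun _ => rfl
    right_inv := fun _ => rfl }

variable [IsClosedImmersion i]

instance isQuasicoherent_push_structure :
    ((pushforward i).obj (Coh.structureModule Z)).IsQuasicoherent := by
  haveI := Groth.Agent.H8.isQuasicoherent_structureModule' Z
  exact Groth.Agent.H8.isQuasicoherent_pushforward i (Coh.structureModule Z)

/-- If `Γ(Z, i⁻¹U)` is a perfect `Γ(X, U)`-module for an affine open `U`, then `i_* O_Z` is perfect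
near the points of `U`. -/
theorem locPerfO_push {U : X.Opens} (hU : IsAffineOpen U)
    (h : letI := (i.app U).hom.toAlgebra;
      DRing.IsPerfect Γ(X, U) (Dual.inD Γ(X, U) Γ(Z, i ⁻¹ᵁ U))) (x : X) (hx : x ∈ U) :
    LocPerfO (DCoh.inD X ((pushforward i).obj (Coh.structureModule Z))) x := by
  letI : Algebra Γ(X, U) Γ(Z, i ⁻¹ᵁ U) := (i.app U).hom.toAlgebra
  refine locPerfO_of_isPerfect_sections hU _ ?_ x hx
  exact Groth.Agent.H56.isPerfect_of_iso
    ((DerivedCategory.singleFunctor (ModuleCat.{u} Γ(X, U)) 0).mapIso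
      (sectionsPushEquiv i U).symm.toModuleIso) h

/-- Away from the image of `i`, `i_* O_Z` is perfect (zero). -/
theorem locPerfO_push_outside (x : X) (hx : x ∉ Set.range i.base) :
    LocPerfO (DCoh.inD X ((pushforward i).obj (Coh.structureModule Z))) x := by
  let W : X.Opens := ⟨(Set.range i.base)ᶜ, (isClosedEmbedding i).isClosed_range.isOpen_compl⟩
  obtain ⟨U, hU, hxU, hUW⟩ := exists_isAffineOpen_mem_and_subset (x := x) (U := W) hx
  have hbot : i ⁻¹ᵁ U = ⊥ := by
    ext z
    simp only [Opens.coe_bot, Set.mem_empty_iff_false, iff_false]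
    intro hz
    exact hUW hz ⟨z, rfl⟩
  refine locPerfO_push i hU ?_ x hxU
  letI : Algebra Γ(X, U) Γ(Z, i ⁻¹ᵁ U) := (i.app U).hom.toAlgebra
  haveI : Subsingleton Γ(Z, i ⁻¹ᵁ U) := by
    rw [hbot]
    infer_instance
  exact isPerfect_of_subsingleton _

/-- S6237. -/
theorem isPerfect_push_of_koszul
    (hi : RegImm.IsRegularImmersion RegImm.Kind.koszul i) :
    DCoh.IsPerfect (DCoh.inD X ((pushforward i).obj (Coh.structureModule Z))) := by
  rw [isPerfect_iff]
  intro x
  by_cases hx : x ∈ Set.range i.base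
  · obtain ⟨z, rfl⟩ := hx
    obtain ⟨U, hzU, -, rs, hrs, hker⟩ := hi.2 z
    refine locPerfO_push i U.2 ?_ _ hzU
    exact isPerfect_of_koszul (i.app U.1).hom (i.app_surjective U.1 U.2) rs hrs hker
  · exact locPerfO_push_outside i x hx

/-- S7175. -/
theorem isPerfect_push_of_isPerfectMor (hi : MoreMor.IsPerfectMor i) :
    DCoh.IsPerfect (DCoh.inD X ((pushforward i).obj (Coh.structureModule Z))) := by
  rw [isPerfect_iff]
  intro x
  obtain ⟨U, hU, hxU, -⟩ := exists_isAffineOpen_mem_and_subset (x := x) (U := ⊤) trivial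
  refine locPerfO_push i hU ?_ x hxU
  have key : ∀ (g : Γ(X, U) ⟶ Γ(Z, i ⁻¹ᵁ U)), g = i.app U →
      (letI := g.hom.toAlgebra; MoreMor.IsPerfectHom Γ(X, U) Γ(Z, i ⁻¹ᵁ U)) →
      (letI := (i.app U).hom.toAlgebra; MoreMor.IsPerfectHom Γ(X, U) Γ(Z, i ⁻¹ᵁ U)) := by
    rintro g rfl h
    exact h
  exact isPerfect_of_isPerfectHom (i.app U).hom (i.app_surjective U hU)
    (key _ i.appLE_eq_app (hi (i ⁻¹ᵁ U) U (hU.preimage i) hU le_rfl))

end Closed

end Groth.Agent.H90.CPerf
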