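import Groth.Prelude.Def_W4c5stcicurvesp3Euclid
import Mathlib

set_option autoImplicit false

namespace Groth.Agent.H90

open W4c5stcicurvesp3

theorem irem_zero (a b : ℕ) : irem a b 0 = b := rfl
theorem irem_one (a b : ℕ) : irem a b 1 = a % b := rfl
theorem irem_succ_succ (a b n : ℕ) :
    irem a b (n + 2) = if irem a b (n + 1) = 0 then 0 else irem a b n % irem a b (n + 1) := rfl
theorem idiv_zero (a b : ℕ) : idiv a b 0 = 0 := rfl
theorem idiv_one (a b : ℕ) : idiv a b 1 = a / b := rfl
theorem idiv_succ_succ (a b n : ℕ) :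
    idiv a b (n + 2) = if irem a b (n + 1) = 0 then 0 else irem a b n / irem a b (n + 1) := rfl

theorem irem_shift (a b : ℕ) (h : a % b ≠ 0) : ∀ i, irem a b (i + 1) = irem b (a % b) i
  | 0 => by rw [irem_one, irem_zero]
  | 1 => by rw [irem_succ_succ, irem_one, irem_zero, irem_one, if_neg h]
  | (i + 2) => by
      have h1 := irem_shift a b h i
      have h2 := irem_shift a b h (i + 1)
      rw [irem_succ_succ a b (i + 1), irem_succ_succ b (a % b) i, h2, h1]

theorem idiv_shift (a b : ℕ) (h : a % b ≠ 0) : ∀ i, 1 ≤ i → idiv a b (i + 1) = idiv b (a % b) i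
  | 0, h0 => absurd h0 (by norm_num)
  | 1, _ => by rw [idiv_succ_succ, irem_one, irem_zero, idiv_one, if_neg h]
  | (i + 2), _ => by
      rw [idiv_succ_succ a b (i + 1), idiv_succ_succ b (a % b) i, irem_shift a b h (i + 1),
        irem_shift a b h i]

theorem sum_Icc_one_eq_sum_range {M : Type*} [AddCommMonoid M] (f : ℕ → M) (t : ℕ) :
    ∑ i ∈ Finset.Icc 1 t, f i = ∑ j ∈ Finset.range t, f (j + 1) := by
  induction t with
  | zero => simp
  | succ t ih =>
    rw [Finset.sum_Icc_succ_top (by omega), ih, Finset.sum_range_succ]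

end Groth.Agent.H90

namespace Groth.Agent.H90

open W4c5stcicurvesp3

theorem sum_idiv_mul_gcd_le : ∀ (t k N : ℕ), 0 < k → k ≤ N → 0 < t → irem N k t = 0 →
    (∀ i, 0 < i → i < t → irem N k i ≠ 0) →
    (∑ i ∈ Finset.Icc 1 t, idiv N k i) * Nat.gcd k N ≤ N := by
  intro t
  induction t with
  | zero => intro k N _ _ ht; omega
  | succ t ih =>
    intro k N hk hkN _ hzero hmin
    rcases Nat.eq_zero_or_pos t with rfl | htpos
    · rw [irem_one] at hzero
      simp only [zero_add, Finset.Icc_self, Finset.sum_singleton, idiv_one]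
      have hdvd : k ∣ N := Nat.dvd_of_mod_eq_zero hzero
      rw [Nat.gcd_eq_left hdvd]
      exact Nat.div_mul_le_self N k
    · have hr1 : N % k ≠ 0 := by
        have := hmin 1 (by norm_num) (by omega)
        rwa [irem_one] at this
      have hzero' : irem k (N % k) t = 0 := by rw [← irem_shift N k hr1 t]; exact hzero
      have hmin' : ∀ i, 0 < i → i < t → irem k (N % k) i ≠ 0 := by
        intro i hi hit
        rw [← irem_shift N k hr1 i]
        exact hmin (i + 1) (by omega) (by omega)
      have hk' : 0 < N % k := Nat.pos_of_ne_zero hr1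
      have hle' : N % k ≤ k := (Nat.mod_lt N hk).le
      have IH := ih (N % k) k hk' hle' htpos hzero' hmin'
      rw [sum_Icc_one_eq_sum_range, Finset.sum_range_succ', zero_add, idiv_one]
      have hsum : ∑ j ∈ Finset.range t, idiv N k (j + 1 + 1)
          = ∑ i ∈ Finset.Icc 1 t, idiv k (N % k) i := by
        rw [sum_Icc_one_eq_sum_range]
        refine Finset.sum_congr rfl (fun j _ => ?_)
        exact idiv_shift N k hr1 (j + 1) (by omega)
      rw [hsum]
      have hg : Nat.gcd (N % k) k = Nat.gcd k N := (Nat.gcd_rec k N).symm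
      rw [hg] at IH
      have hgr : Nat.gcd k N ≤ N % k :=
        Nat.le_of_dvd hk' (by rw [← hg]; exact Nat.gcd_dvd_left _ _)
      have hgk : Nat.gcd k N ≤ k := Nat.le_of_dvd hk (Nat.gcd_dvd_left _ _)
      have hd1 : 1 ≤ N / k := Nat.div_pos hkN hk
      have hN : N = k * (N / k) + N % k := (Nat.div_add_mod N k).symm
      generalize Nat.gcd k N = g at *
      generalize N / k = d1 at *
      generalize N % k = r1 at *
      generalize ∑ i ∈ Finset.Icc 1 t, idiv k r1 i = S at *
      obtain ⟨e, rfl⟩ : ∃ e, d1 = e + 1 := ⟨d1 - 1, by omega⟩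
      have : e * g ≤ e * k := Nat.mul_le_mul_left e hgk
      nlinarith

end Groth.Agent.H90
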