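import Mathlib
import Groth.Prelude.Def_FilD

/-!
# Finite filtered objects of an abelian category: basic toolbox

Refinement-style ("elementwise") characterisations of strictness, level-wise exactness from graded
exactness, and the kernel criterion for strictness.
-/

universe v u

open CategoryTheory CategoryTheory.Limits Opposite

namespace Groth.Agent.H90
namespace FilDLib

set_option linter.unusedSectionVars false

variable {A : Type u} [Category.{v} A] [Abelian A]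

/-- transition map `F^q ⟶ F^p` for `p ≤ q`. -/
noncomputable abbrev tr (F : ℤᵒᵖ ⥤ A) {p q : ℤ} (h : p ≤ q) : F.obj (op q) ⟶ F.obj (op p) :=
  F.map (homOfLE h).op

lemma tr_comp (F : ℤᵒᵖ ⥤ A) {p q r : ℤ} (h₁ : p ≤ q) (h₂ : q ≤ r) :
    tr F h₂ ≫ tr F h₁ = tr F (h₁.trans h₂) := by
  dsimp only [tr]
  rw [← F.map_comp]
  exact congrArg F.map (Subsingleton.elim _ _)

lemma tr_refl (F : ℤᵒᵖ ⥤ A) {p : ℤ} (h : p ≤ p) : tr F h = 𝟙 _ := by
  have : (homOfLE h).op = 𝟙 (op p) := Subsingleton.elim _ _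
  dsimp only [tr]
  rw [this, F.map_id]

lemma map_eq_tr (F : ℤᵒᵖ ⥤ A) {p q : ℤ} (φ : op q ⟶ op p) :
    F.map φ = tr F (leOfHom φ.unop) :=
  congrArg F.map (Subsingleton.elim _ _)

lemma w_app {F G H : ℤᵒᵖ ⥤ A} (f : F ⟶ G) (g : G ⟶ H) (w : f ≫ g = 0) (x : ℤᵒᵖ) :
    f.app x ≫ g.app x = 0 := by
  rw [← NatTrans.comp_app, w]; rfl

/-- the projection to the graded piece. -/
noncomputable abbrev grπ (F : ℤᵒᵖ ⥤ A) (p : ℤ) : F.obj (op p) ⟶ (FilD.gr A p).obj F :=
  cokernel.π (F.map (FilD.stepHom p))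

instance (F : ℤᵒᵖ ⥤ A) (p : ℤ) : Epi (grπ F p) :=
  inferInstanceAs (Epi (cokernel.π (F.map (FilD.stepHom p))))

@[reassoc]
lemma grπ_naturality {F G : ℤᵒᵖ ⥤ A} (φ : F ⟶ G) (p : ℤ) :
    grπ F p ≫ (FilD.gr A p).map φ = φ.app (op p) ≫ grπ G p := by
  dsimp only [grπ, FilD.gr]
  exact cokernel.π_desc _ _ _

@[reassoc]
lemma step_grπ (F : ℤᵒᵖ ⥤ A) (p : ℤ) : F.map (FilD.stepHom p) ≫ grπ F p = 0 :=
  cokernel.condition _

lemma lift_step {F : ℤᵒᵖ ⥤ A} (p : ℤ) {T : A} (y : T ⟶ F.obj (op p)) (h : y ≫ grπ F p = 0) :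
    ∃ (T' : A) (π : T' ⟶ T) (_ : Epi π) (y' : T' ⟶ F.obj (op (p + 1))),
      π ≫ y = y' ≫ F.map (FilD.stepHom p) :=
  (ShortComplex.exact_cokernel (F.map (FilD.stepHom p))).exact_up_to_refinements y h

/-! ### Subobjects and refinements -/

lemma subobject_le_iff_factors {Y : A} (S S' : Subobject Y) :
    S ≤ S' ↔ ∀ ⦃T : A⦄ (t : T ⟶ Y), S.Factors t → S'.Factors t := by
  constructor
  · intro h T t ht
    exact Subobject.factors_of_le t h ht
  · intro h
    have h' := h S.arrow (Subobject.factors_self S)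
    exact Subobject.le_of_comm (S'.factorThru S.arrow h') (Subobject.factorThru_arrow _ _ _)

lemma imageSubobject_factors_iff {X Y : A} (f : X ⟶ Y) {T : A} (t : T ⟶ Y) :
    (imageSubobject f).Factors t ↔
      ∃ (T' : A) (π : T' ⟶ T) (_ : Epi π) (x : T' ⟶ X), π ≫ t = x ≫ f := by
  constructor
  · intro h
    obtain ⟨T', π, hπ, x, hx⟩ := surjective_up_to_refinements_of_epi (factorThruImageSubobject f)
      ((imageSubobject f).factorThru t h)
    refine ⟨T', π, hπ, x, ?_⟩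
    have h2 := congrArg (fun α => α ≫ (imageSubobject f).arrow) hx
    simpa only [Category.assoc, Subobject.factorThru_arrow, imageSubobject_arrow_comp] using h2
  · rintro ⟨T', π, hπ, x, hx⟩
    have e : x ≫ f = (x ≫ factorThruImageSubobject f) ≫ (imageSubobject f).arrow := by
      rw [Category.assoc, imageSubobject_arrow_comp]
    have h0 : t ≫ cokernel.π (imageSubobject f).arrow = 0 := by
      rw [← cancel_epi π, ← Category.assoc, hx, e, Category.assoc, cokernel.condition, comp_zero,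
        comp_zero]
    have h1 := Subobject.factors_comp_arrow (P := imageSubobject f)
      (Abelian.monoLift (imageSubobject f).arrow t h0)
    rwa [Abelian.monoLift_comp] at h1

/-! ### Strictness in lifting form -/

/-- strictness of a natural transformation, in lifting form. -/
def StrictLift {F G : ℤᵒᵖ ⥤ A} (φ : F ⟶ G) : Prop :=
  ∀ (p q : ℤ) (h : p ≤ q) ⦃T : A⦄ (x : T ⟶ F.obj (op p)) (y : T ⟶ G.obj (op q)),
    x ≫ φ.app (op p) = y ≫ tr G h →
    ∃ (T' : A) (π : T' ⟶ T) (_ : Epi π) (x' : T' ⟶ F.obj (op q)), π ≫ y = x' ≫ φ.app (op q)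

lemma strictLift_of_isStrict {F G : FilD.FilF A} {φ : F ⟶ G} (hφ : FilD.IsStrict φ) :
    StrictLift φ.hom := by
  intro p q h T x y w
  have hm : Mono (tr G.obj h) := G.property.1 _
  have h1 : (imageSubobject (φ.hom.app (op p))).Factors (y ≫ tr G.obj h) :=
    (imageSubobject_factors_iff _ _).mpr ⟨T, 𝟙 T, inferInstance, x, by rw [Category.id_comp, w]⟩
  have h2 : (Subobject.mk (tr G.obj h)).Factors (y ≫ tr G.obj h) :=
    Subobject.factors_of_factors_right y (Subobject.mk_factors_self _)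
  have h3 : (imageSubobject (φ.hom.app (op q) ≫ tr G.obj h)).Factors (y ≫ tr G.obj h) :=
    Eq.mpr (congrArg (fun S : Subobject (G.obj.obj (op p)) => S.Factors (y ≫ tr G.obj h))
      (hφ p q h)) ((Subobject.inf_factors _).mpr ⟨h1, h2⟩)
  obtain ⟨T', π, hπ, x', hx'⟩ := (imageSubobject_factors_iff _ _).mp h3
  refine ⟨T', π, hπ, x', ?_⟩
  rw [← cancel_mono (tr G.obj h), Category.assoc, hx', Category.assoc]

lemma isStrict_of_strictLift {F G : FilD.FilF A} {φ : F ⟶ G} (H : StrictLift φ.hom) :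
    FilD.IsStrict φ := by
  intro p q h
  have hm : Mono (tr G.obj h) := G.property.1 _
  have hnat : φ.hom.app (op q) ≫ tr G.obj h = tr F.obj h ≫ φ.hom.app (op p) :=
    (φ.hom.naturality (homOfLE h).op).symm
  apply le_antisymm
  · apply le_inf
    · exact (congrArg (fun f => imageSubobject f) hnat).le.trans (imageSubobject_comp_le _ _)
    · exact (imageSubobject_comp_le _ _).trans (imageSubobject_mono _).le
  · rw [subobject_le_iff_factors]
    intro T t ht
    obtain ⟨h1, h2⟩ := (Subobject.inf_factors _).mp ht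
    obtain ⟨T₁, π₁, hπ₁, x, hx⟩ := (imageSubobject_factors_iff _ _).mp h1
    let y : T ⟶ G.obj.obj (op q) := (Subobject.mk (tr G.obj h)).factorThru t h2 ≫
      (Subobject.underlyingIso (tr G.obj h)).hom
    have hy : y ≫ tr G.obj h = t := by
      simp only [y, Category.assoc, Subobject.underlyingIso_hom_comp_eq_mk,
        Subobject.factorThru_arrow]
    obtain ⟨T₂, π₂, hπ₂, x', hx'⟩ := H p q h x (π₁ ≫ y) (by rw [← hx, Category.assoc, hy])
    refine (imageSubobject_factors_iff _ _).mpr ⟨T₂, π₂ ≫ π₁, epi_comp _ _, x', ?_⟩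
    rw [← hy, Category.assoc, ← Category.assoc π₁, ← Category.assoc π₂, hx', Category.assoc]

lemma isStrict_iff_strictLift {F G : FilD.FilF A} (φ : F ⟶ G) :
    FilD.IsStrict φ ↔ StrictLift φ.hom :=
  ⟨strictLift_of_isStrict, isStrict_of_strictLift⟩

/-! ### Exactness -/

section Exactness

variable {F G H : ℤᵒᵖ ⥤ A} (f : F ⟶ G) (g : G ⟶ H)

/-- exactness of `gr^p F ⟶ gr^p G ⟶ gr^p H`, in refinement form. -/
def GrExact (p : ℤ) : Prop :=
  ∀ ⦃T : A⦄ (y : T ⟶ (FilD.gr A p).obj G), y ≫ (FilD.gr A p).map g = 0 →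
    ∃ (T' : A) (π : T' ⟶ T) (_ : Epi π) (x : T' ⟶ (FilD.gr A p).obj F),
      π ≫ y = x ≫ (FilD.gr A p).map f

/-- exactness of `F^p ⟶ G^p ⟶ H^p`, in refinement form. -/
def LevExact (p : ℤ) : Prop :=
  ∀ ⦃T : A⦄ (y : T ⟶ G.obj (op p)), y ≫ g.app (op p) = 0 →
    ∃ (T' : A) (π : T' ⟶ T) (_ : Epi π) (x : T' ⟶ F.obj (op p)), π ≫ y = x ≫ f.app (op p)

variable {f g}

lemma step_decomp (p : ℤ) (hgr : GrExact f g p) {T : A} (y : T ⟶ G.obj (op p))
    (hy : y ≫ g.app (op p) ≫ grπ H p = 0) :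
    ∃ (T' : A) (π : T' ⟶ T) (_ : Epi π) (x : T' ⟶ F.obj (op p))
      (y₁ : T' ⟶ G.obj (op (p + 1))),
      π ≫ y = x ≫ f.app (op p) + y₁ ≫ G.map (FilD.stepHom p) := by
  obtain ⟨T₁, π₁, hπ₁, xb, hxb⟩ := hgr (y ≫ grπ G p)
    (by rw [Category.assoc, grπ_naturality, hy])
  obtain ⟨T₂, π₂, hπ₂, x, hx⟩ := surjective_up_to_refinements_of_epi (grπ F p) xb
  have e1 : π₂ ≫ π₁ ≫ y ≫ grπ G p = x ≫ f.app (op p) ≫ grπ G p := by
    rw [hxb, ← Category.assoc, hx, Category.assoc, grπ_naturality]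
  have h0 : (π₂ ≫ π₁ ≫ y - x ≫ f.app (op p)) ≫ grπ G p = 0 := by
    rw [Preadditive.sub_comp]
    simp only [Category.assoc]
    rw [e1, sub_self]
  obtain ⟨T₃, π₃, hπ₃, y₁, hy₁⟩ := lift_step p _ h0
  refine ⟨T₃, π₃ ≫ π₂ ≫ π₁, inferInstance, π₃ ≫ x, y₁, ?_⟩
  rw [← hy₁, Preadditive.comp_sub]
  simp only [Category.assoc]
  abel

lemma levExact_step (w : f ≫ g = 0) (p : ℤ) (hmono : Mono (H.map (FilD.stepHom p)))
    (hgr : GrExact f g p) (hnext : LevExact f g (p + 1)) : LevExact f g p := by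
  intro T y hy
  obtain ⟨T₁, π₁, hπ₁, x, y₁, e⟩ := step_decomp p hgr y
    (by rw [← Category.assoc, hy, zero_comp])
  have e' : y₁ ≫ G.map (FilD.stepHom p) = π₁ ≫ y - x ≫ f.app (op p) := by
    rw [e]; abel
  have hy₁ : y₁ ≫ g.app (op (p + 1)) = 0 := by
    rw [← cancel_mono (H.map (FilD.stepHom p)), Category.assoc, zero_comp, ← g.naturality,
      ← Category.assoc, e', Preadditive.sub_comp, Category.assoc, hy, comp_zero, Category.assoc,
      w_app f g w, comp_zero, sub_zero]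
  obtain ⟨T₂, π₂, hπ₂, x', hx'⟩ := hnext y₁ hy₁
  refine ⟨T₂, π₂ ≫ π₁, epi_comp _ _, π₂ ≫ x + x' ≫ F.map (FilD.stepHom p), ?_⟩
  rw [Category.assoc, e, Preadditive.comp_add, Preadditive.add_comp, Category.assoc,
    Category.assoc, f.naturality, ← Category.assoc x', ← hx', Category.assoc]

lemma levExact_all (w : f ≫ g = 0) (hH : ∀ p, Mono (H.map (FilD.stepHom p)))
    (hgr : ∀ p, GrExact f g p) (b : ℤ) (hb : ∀ p, b ≤ p → IsZero (G.obj (op p))) (p : ℤ) :
    LevExact f g p := by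
  have hz : ∀ p, b ≤ p → LevExact f g p := by
    intro p hp T y _
    exact ⟨T, 𝟙 T, inferInstance, 0, (hb p hp).eq_of_tgt _ _⟩
  suffices Hn : ∀ n : ℕ, LevExact f g (b - n) by
    rcases le_total b p with h | h
    · exact hz p h
    · have e : p = b - ((b - p).toNat : ℤ) := by
        have := Int.toNat_of_nonneg (sub_nonneg.mpr h)
        omega
      rw [e]
      exact Hn _
  intro n
  induction n with
  | zero => exact hz _ (by simp)
  | succ n ih =>
    have e : b - ((n + 1 : ℕ) : ℤ) + 1 = b - (n : ℤ) := by push_cast; ring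
    refine levExact_step w _ (hH _) (hgr _) ?_
    rw [e]
    exact ih

lemma strictLift_f_of_levExact (w : f ≫ g = 0)
    (hH : ∀ (p q : ℤ) (h : p ≤ q), Mono (tr H h)) (hlev : ∀ p, LevExact f g p) :
    StrictLift f := by
  intro p q h T x y e
  apply hlev q y
  have := hH p q h
  rw [← cancel_mono (tr H h), Category.assoc, zero_comp, ← g.naturality, ← Category.assoc, ← e,
    Category.assoc, w_app f g w, comp_zero]

lemma strictLift_g_aux (w : f ≫ g = 0) (hH : ∀ p, Mono (H.map (FilD.stepHom p)))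
    (hgr : ∀ p, GrExact f g p) (n : ℕ) :
    ∀ (p q : ℤ) (h : p ≤ q), q - p = n → ∀ ⦃T : A⦄ (y : T ⟶ G.obj (op p))
      (z : T ⟶ H.obj (op q)), y ≫ g.app (op p) = z ≫ tr H h →
      ∃ (T' : A) (π : T' ⟶ T) (_ : Epi π) (y' : T' ⟶ G.obj (op q)),
        π ≫ z = y' ≫ g.app (op q) := by
  induction n with
  | zero =>
    intro p q h hn T y z e
    have hpq : p = q := by omega
    subst hpq
    refine ⟨T, 𝟙 T, inferInstance, y, ?_⟩
    rw [Category.id_comp, e, tr_refl, Category.comp_id]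
  | succ n ih =>
    intro p q h hn T y z e
    have h' : p + 1 ≤ q := by omega
    have hs : tr H h = tr H h' ≫ H.map (FilD.stepHom p) := (tr_comp H _ h').symm
    have hy : y ≫ g.app (op p) ≫ grπ H p = 0 := by
      rw [← Category.assoc, e, hs, Category.assoc, Category.assoc, step_grπ, comp_zero, comp_zero]
    obtain ⟨T₁, π₁, hπ₁, x, y₁, e₁⟩ := step_decomp p (hgr p) y hy
    have e' : y₁ ≫ G.map (FilD.stepHom p) = π₁ ≫ y - x ≫ f.app (op p) := by
      rw [e₁]; abel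
    have hy₁ : y₁ ≫ g.app (op (p + 1)) = (π₁ ≫ z) ≫ tr H h' := by
      have := hH p
      rw [← cancel_mono (H.map (FilD.stepHom p)), Category.assoc, ← g.naturality,
        ← Category.assoc, e', Preadditive.sub_comp, Category.assoc, Category.assoc,
        w_app f g w, comp_zero, sub_zero, e, hs]
      simp only [Category.assoc]
    obtain ⟨T₂, π₂, hπ₂, y', hy'⟩ := ih (p + 1) q h' (by omega) y₁ (π₁ ≫ z) hy₁
    exact ⟨T₂, π₂ ≫ π₁, epi_comp _ _, y', by rw [Category.assoc, hy']⟩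

lemma strictLift_g (w : f ≫ g = 0) (hH : ∀ p, Mono (H.map (FilD.stepHom p)))
    (hgr : ∀ p, GrExact f g p) : StrictLift g := by
  intro p q h T y z e
  exact strictLift_g_aux w hH hgr (q - p).toNat p q h
    (by have := Int.toNat_of_nonneg (sub_nonneg.mpr h); omega) y z e

end Exactness

/-! ### Kernel criterion for strictness -/

section Kernel

variable {K F G : ℤᵒᵖ ⥤ A} {κ : K ⟶ F} {φ : F ⟶ G}

lemma grExact_of_strictLift (wκ : κ ≫ φ = 0)
    (hK : ∀ (p : ℤ) ⦃T : A⦄ (x : T ⟶ F.obj (op p)), x ≫ φ.app (op p) = 0 →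
      ∃ k : T ⟶ K.obj (op p), k ≫ κ.app (op p) = x)
    (hφ : StrictLift φ) (p : ℤ) : GrExact κ φ p := by
  intro T xb hxb
  obtain ⟨T₁, π₁, hπ₁, x, hx⟩ := surjective_up_to_refinements_of_epi (grπ F p) xb
  have h0 : (x ≫ φ.app (op p)) ≫ grπ G p = 0 := by
    rw [Category.assoc, ← grπ_naturality, ← Category.assoc, ← hx, Category.assoc, hxb, comp_zero]
  obtain ⟨T₂, π₂, hπ₂, y, hy⟩ := lift_step p _ h0
  obtain ⟨T₃, π₃, hπ₃, x', hx'⟩ := hφ p (p + 1) (by omega) (π₂ ≫ x) y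
    (by rw [Category.assoc]; exact hy)
  have h1 : (π₃ ≫ π₂ ≫ x - x' ≫ F.map (FilD.stepHom p)) ≫ φ.app (op p) = 0 := by
    rw [Preadditive.sub_comp, Category.assoc, Category.assoc, Category.assoc, φ.naturality,
      ← Category.assoc x', ← hx', Category.assoc,
      show π₂ ≫ x ≫ φ.app (op p) = y ≫ G.map (FilD.stepHom p) from hy, sub_self]
  obtain ⟨k, hk⟩ := hK p _ h1
  refine ⟨T₃, π₃ ≫ π₂ ≫ π₁, inferInstance, k ≫ grπ K p, ?_⟩
  have e2 : (k ≫ grπ K p) ≫ (FilD.gr A p).map κ = π₃ ≫ π₂ ≫ x ≫ grπ F p := by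
    rw [Category.assoc, grπ_naturality, ← Category.assoc, hk, Preadditive.sub_comp]
    simp only [Category.assoc, step_grπ, comp_zero, sub_zero]
  rw [e2]
  simp only [Category.assoc]
  rw [hx]

lemma strictLift_of_grExact_aux (wκ : κ ≫ φ = 0) (hG : ∀ p, Mono (G.map (FilD.stepHom p)))
    (hgr : ∀ p, GrExact κ φ p) (n : ℕ) :
    ∀ (p q : ℤ) (h : p ≤ q), q - p = n → ∀ ⦃T : A⦄ (x : T ⟶ F.obj (op p))
      (y : T ⟶ G.obj (op q)), x ≫ φ.app (op p) = y ≫ tr G h →
      ∃ (T' : A) (π : T' ⟶ T) (_ : Epi π) (x' : T' ⟶ F.obj (op q)),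
        π ≫ y = x' ≫ φ.app (op q) := by
  induction n with
  | zero =>
    intro p q h hn T x y e
    have hpq : p = q := by omega
    subst hpq
    refine ⟨T, 𝟙 T, inferInstance, x, ?_⟩
    rw [Category.id_comp, e, tr_refl, Category.comp_id]
  | succ n ih =>
    intro p q h hn T x y e
    have h' : p + 1 ≤ q := by omega
    have hs : tr G h = tr G h' ≫ G.map (FilD.stepHom p) := (tr_comp G _ h').symm
    have h0 : (x ≫ grπ F p) ≫ (FilD.gr A p).map φ = 0 := by
      rw [Category.assoc, grπ_naturality, ← Category.assoc, e, hs, Category.assoc, Category.assoc,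
        step_grπ, comp_zero, comp_zero]
    obtain ⟨T₁, π₁, hπ₁, kb, hkb⟩ := hgr p (x ≫ grπ F p) h0
    obtain ⟨T₂, π₂, hπ₂, k, hk⟩ := surjective_up_to_refinements_of_epi (grπ K p) kb
    have e1 : π₂ ≫ π₁ ≫ x ≫ grπ F p = k ≫ κ.app (op p) ≫ grπ F p := by
      rw [hkb, ← Category.assoc, hk, Category.assoc, grπ_naturality]
    have h1 : (π₂ ≫ π₁ ≫ x - k ≫ κ.app (op p)) ≫ grπ F p = 0 := by
      rw [Preadditive.sub_comp]
      simp only [Category.assoc]
      rw [e1, sub_self]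
    obtain ⟨T₃, π₃, hπ₃, x₁, hx₁⟩ := lift_step p _ h1
    have h2 : x₁ ≫ φ.app (op (p + 1)) = (π₃ ≫ π₂ ≫ π₁ ≫ y) ≫ tr G h' := by
      have := hG p
      rw [← cancel_mono (G.map (FilD.stepHom p)), Category.assoc, ← φ.naturality,
        ← Category.assoc, ← hx₁, Preadditive.comp_sub, Preadditive.sub_comp]
      simp only [Category.assoc]
      rw [w_app κ φ wκ, comp_zero, comp_zero, sub_zero, e, hs]
    obtain ⟨T₄, π₄, hπ₄, x', hx'⟩ := ih (p + 1) q h' (by omega) x₁ (π₃ ≫ π₂ ≫ π₁ ≫ y) h2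
    exact ⟨T₄, π₄ ≫ π₃ ≫ π₂ ≫ π₁, inferInstance, x', by
      simp only [Category.assoc]; exact hx'⟩

lemma strictLift_of_grExact (wκ : κ ≫ φ = 0) (hG : ∀ p, Mono (G.map (FilD.stepHom p)))
    (hgr : ∀ p, GrExact κ φ p) : StrictLift φ := by
  intro p q h T x y e
  exact strictLift_of_grExact_aux wκ hG hgr (q - p).toNat p q h
    (by have := Int.toNat_of_nonneg (sub_nonneg.mpr h); omega) x y e

end Kernel

end FilDLib
end Groth.Agent.H90
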