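import Mathlib
import Groth.Prelude.Def_FilD
import Groth.Agent.H90.FilDBasic

/-!
# Extension of morphisms into filtered injective objects along strict morphisms
-/

universe v u

open CategoryTheory CategoryTheory.Limits Opposite ZeroObject

namespace Groth.Agent.H90
namespace FilDLib

set_option linter.unusedSectionVars false

variable {A : Type u} [Category.{v} A] [Abelian A]

/-! ### Abelian-category lemmas -/

lemma exists_extension {P Y I : A} [Injective I] (σ : P ⟶ Y) (τ : P ⟶ I)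
    (h : kernel.ι σ ≫ τ = 0) : ∃ g : Y ⟶ I, σ ≫ g = τ := by
  let τ' : Abelian.coimage σ ⟶ I := cokernel.desc (kernel.ι σ) τ h
  refine ⟨Injective.factorThru τ' (Abelian.factorThruCoimage σ), ?_⟩
  calc σ ≫ Injective.factorThru τ' (Abelian.factorThruCoimage σ)
      = (Abelian.coimage.π σ ≫ Abelian.factorThruCoimage σ) ≫
          Injective.factorThru τ' (Abelian.factorThruCoimage σ) := by
        rw [Abelian.coimage.fac]
    _ = Abelian.coimage.π σ ≫ τ' := by rw [Category.assoc, Injective.comp_factorThru]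
    _ = τ := cokernel.π_desc _ _ _

lemma ext_step {X₁ X₀ Y₁ Y₀ I₁ I₀ : A} [Injective I₀]
    (iX : X₁ ⟶ X₀) (iY : Y₁ ⟶ Y₀) (iI : I₁ ⟶ I₀)
    (u₁ : X₁ ⟶ Y₁) (u₀ : X₀ ⟶ Y₀) (hu : iX ≫ u₀ = u₁ ≫ iY)
    (f₁ : X₁ ⟶ I₁) (f₀ : X₀ ⟶ I₀) (hf : iX ≫ f₀ = f₁ ≫ iI)
    (g₁ : Y₁ ⟶ I₁) (hg₁ : u₁ ≫ g₁ = f₁)
    (hstrict : ∀ ⦃T : A⦄ (x : T ⟶ X₀) (y : T ⟶ Y₁), x ≫ u₀ = y ≫ iY →
      ∃ (T' : A) (π : T' ⟶ T) (_ : Epi π) (x' : T' ⟶ X₁), π ≫ y = x' ≫ u₁)
    (hker : ∀ ⦃T : A⦄ (x : T ⟶ X₀), x ≫ u₀ = 0 → x ≫ f₀ = 0) :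
    ∃ g₀ : Y₀ ⟶ I₀, iY ≫ g₀ = g₁ ≫ iI ∧ u₀ ≫ g₀ = f₀ := by
  let σ : Y₁ ⊞ X₀ ⟶ Y₀ := biprod.desc iY u₀
  let τ : Y₁ ⊞ X₀ ⟶ I₀ := biprod.desc (g₁ ≫ iI) f₀
  have hk : kernel.ι σ ≫ τ = 0 := by
    obtain ⟨y, hyd⟩ : ∃ y : kernel σ ⟶ Y₁, y = kernel.ι σ ≫ biprod.fst := ⟨_, rfl⟩
    obtain ⟨x, hxd⟩ : ∃ x : kernel σ ⟶ X₀, x = kernel.ι σ ≫ biprod.snd := ⟨_, rfl⟩
    have hkσ : y ≫ iY + x ≫ u₀ = 0 := by
      have h0 := kernel.condition σ
      simp only [σ, biprod.desc_eq, Preadditive.comp_add] at h0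
      rw [hyd, hxd]
      simpa only [Category.assoc] using h0
    have hkτ : kernel.ι σ ≫ τ = y ≫ g₁ ≫ iI + x ≫ f₀ := by
      rw [hyd, hxd]
      simp only [τ, biprod.desc_eq, Preadditive.comp_add, Category.assoc]
    obtain ⟨T', π, hπ, x', hx'⟩ := hstrict (-x) y
      (by rw [Preadditive.neg_comp]; exact (eq_neg_of_add_eq_zero_left hkσ).symm)
    have h1 : (x' ≫ iX + π ≫ x) ≫ u₀ = 0 := by
      calc (x' ≫ iX + π ≫ x) ≫ u₀ = x' ≫ iX ≫ u₀ + π ≫ x ≫ u₀ := by
            rw [Preadditive.add_comp, Category.assoc, Category.assoc]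
        _ = (x' ≫ u₁) ≫ iY + π ≫ x ≫ u₀ := by rw [hu, Category.assoc]
        _ = π ≫ (y ≫ iY + x ≫ u₀) := by rw [← hx', Category.assoc, Preadditive.comp_add]
        _ = 0 := by rw [hkσ, comp_zero]
    have e1 : π ≫ y ≫ g₁ ≫ iI = x' ≫ iX ≫ f₀ := by
      rw [← Category.assoc, hx', Category.assoc, ← Category.assoc u₁, hg₁, hf]
    have e2 : π ≫ x ≫ f₀ = -(x' ≫ iX ≫ f₀) := by
      have h2 := hker _ h1
      rw [Preadditive.add_comp, Category.assoc, Category.assoc] at h2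
      exact eq_neg_of_add_eq_zero_right h2
    rw [← cancel_epi π, comp_zero, hkτ, Preadditive.comp_add, e1, e2, add_neg_cancel]
  obtain ⟨g₀, hg₀⟩ := exists_extension σ τ hk
  refine ⟨g₀, ?_, ?_⟩
  · have h3 := congrArg (fun α => biprod.inl ≫ α) hg₀
    simpa only [σ, τ, biprod.inl_desc_assoc, biprod.inl_desc] using h3
  · have h3 := congrArg (fun α => biprod.inr ≫ α) hg₀
    simpa only [σ, τ, biprod.inr_desc_assoc, biprod.inr_desc] using h3

lemma injective_of_extension {X₁ X₂ : A} (i : X₁ ⟶ X₂) [Mono i] [Injective X₁]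
    [Injective (cokernel i)] : Injective X₂ := by
  let r : X₂ ⟶ X₁ := Injective.factorThru (𝟙 X₁) i
  have hr : i ≫ r = 𝟙 X₁ := Injective.comp_factorThru _ _
  let e : X₂ ⟶ X₂ := 𝟙 X₂ - r ≫ i
  have he : i ≫ e = 0 := by
    simp only [e, Preadditive.comp_sub, Category.comp_id]
    rw [← Category.assoc, hr, Category.id_comp, sub_self]
  let s : cokernel i ⟶ X₂ := cokernel.desc i e he
  have hs : cokernel.π i ≫ s = e := cokernel.π_desc _ _ _
  constructor
  intro B C h m _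
  refine ⟨Injective.factorThru (h ≫ r) m ≫ i + Injective.factorThru (h ≫ cokernel.π i) m ≫ s, ?_⟩
  rw [Preadditive.comp_add, ← Category.assoc, Injective.comp_factorThru, ← Category.assoc,
    Injective.comp_factorThru, Category.assoc, Category.assoc, hs]
  simp only [e, Preadditive.comp_sub, Category.comp_id]
  abel

lemma retract_cokernel_injective {X₁ X₂ : A} (i : X₁ ⟶ X₂) [Mono i] [Injective X₁]
    [Injective X₂] : Injective (cokernel i) := by
  let r : X₂ ⟶ X₁ := Injective.factorThru (𝟙 X₁) i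
  have hr : i ≫ r = 𝟙 X₁ := Injective.comp_factorThru _ _
  let e : X₂ ⟶ X₂ := 𝟙 X₂ - r ≫ i
  have he : i ≫ e = 0 := by
    simp only [e, Preadditive.comp_sub, Category.comp_id]
    rw [← Category.assoc, hr, Category.id_comp, sub_self]
  let s : cokernel i ⟶ X₂ := cokernel.desc i e he
  have hs : cokernel.π i ≫ s = e := cokernel.π_desc _ _ _
  have hsπ : s ≫ cokernel.π i = 𝟙 _ := by
    rw [← cancel_epi (cokernel.π i), ← Category.assoc, hs]
    simp only [e, Preadditive.sub_comp, Category.id_comp, Category.assoc, cokernel.condition,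
      comp_zero, sub_zero, Category.comp_id]
  exact Retract.injective ⟨s, cokernel.π i, hsπ⟩

lemma injective_level (I : FilD.FilF A) (hI : FilD.IsFilteredInjective I) (p : ℤ) :
    Injective (I.obj.obj (op p)) := by
  obtain ⟨b, hb⟩ := I.property.2.1
  suffices Hn : ∀ n : ℕ, Injective (I.obj.obj (op (b - (n : ℤ)))) by
    rcases le_total b p with h | h
    · exact (hb p h).injective
    · have e : p = b - ((b - p).toNat : ℤ) := by
        have := Int.toNat_of_nonneg (sub_nonneg.mpr h)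
        omega
      rw [e]
      exact Hn _
  intro n
  induction n with
  | zero => exact (hb _ (by simp)).injective
  | succ n ih =>
    have e : b - ((n + 1 : ℕ) : ℤ) + 1 = b - (n : ℤ) := by push_cast; ring
    have hm : Mono (I.obj.map (FilD.stepHom (b - ((n + 1 : ℕ) : ℤ)))) := I.property.1 _
    have h1 : Injective (I.obj.obj (op (b - ((n + 1 : ℕ) : ℤ) + 1))) := by rw [e]; exact ih
    have h3 : Injective (cokernel (I.obj.map (FilD.stepHom (b - ((n + 1 : ℕ) : ℤ))))) := hI _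
    exact injective_of_extension (I.obj.map (FilD.stepHom (b - ((n + 1 : ℕ) : ℤ))))

/-! ### The one-step filtered objects `J⟨p⟩` -/

/-- the filtered object with value `J` in degrees `≤ p` and `0` above. -/
noncomputable def sh (J : A) (p : ℤ) : ℤᵒᵖ ⥤ A where
  obj q := if q.unop ≤ p then J else 0
  map {q q'} φ := if h : q.unop ≤ p then
      eqToHom (if_pos h) ≫ eqToHom (if_pos ((leOfHom φ.unop).trans h)).symm else 0
  map_id q := by
    by_cases h : q.unop ≤ p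
    · simp [h]
    · have hz : IsZero (if q.unop ≤ p then J else (0 : A)) := by
        rw [if_neg h]; exact isZero_zero A
      exact hz.eq_of_src _ _
  map_comp {q q' q''} φ ψ := by
    by_cases h : q.unop ≤ p
    · have h' : q'.unop ≤ p := (leOfHom φ.unop).trans h
      simp [h, h']
    · simp [h]

lemma sh_map_pos (J : A) {p : ℤ} {q q' : ℤᵒᵖ} (φ : q ⟶ q') (h : q.unop ≤ p) :
    (sh J p).map φ =
      eqToHom (if_pos h) ≫ eqToHom (if_pos ((leOfHom φ.unop).trans h)).symm :=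
  dif_pos h

lemma sh_isZero (J : A) {p : ℤ} {q : ℤᵒᵖ} (h : ¬ q.unop ≤ p) : IsZero ((sh J p).obj q) := by
  show IsZero (if q.unop ≤ p then J else (0 : A))
  rw [if_neg h]; exact isZero_zero A

/-- the identification of the low levels of `sh J p` with `J`. -/
noncomputable def shIso (J : A) {p : ℤ} {q : ℤᵒᵖ} (h : q.unop ≤ p) : (sh J p).obj q ≅ J :=
  eqToIso (if_pos h)

lemma sh_map_eq (J : A) {p : ℤ} {q q' : ℤᵒᵖ} (φ : q ⟶ q') (h : q.unop ≤ p) :
    (sh J p).map φ = (shIso J h).hom ≫ (shIso J ((leOfHom φ.unop).trans h)).inv := by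
  rw [sh_map_pos J φ h]; rfl

lemma sh_map_isIso (J : A) {p : ℤ} {q q' : ℤᵒᵖ} (φ : q ⟶ q') (h : q.unop ≤ p) :
    IsIso ((sh J p).map φ) := by
  rw [sh_map_eq J φ h]; infer_instance

lemma isFinFil_sh (J : A) (p : ℤ) : FilD.IsFinFil A (sh J p) := by
  refine ⟨fun q q' φ => ?_, ⟨p + 1, fun q hq => sh_isZero J (by show ¬ q ≤ p; omega)⟩,
    ⟨p, fun q q' φ h => sh_map_isIso J φ h⟩⟩
  by_cases h : q.unop ≤ p
  · have := sh_map_isIso J φ h
    infer_instance
  · exact ⟨fun a b _ => (sh_isZero J h).eq_of_tgt a b⟩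

/-- maps out of `sh T p` correspond to maps `T ⟶ X^p`. -/
noncomputable def fromSh {T : A} {p : ℤ} (X : ℤᵒᵖ ⥤ A) (x : T ⟶ X.obj (op p)) : sh T p ⟶ X where
  app q := if h : q.unop ≤ p then (shIso T h).hom ≫ x ≫ X.map (homOfLE h).op else 0
  naturality q q' φ := by
    by_cases h : q.unop ≤ p
    · have h' : q'.unop ≤ p := (leOfHom φ.unop).trans h
      rw [dif_pos h, dif_pos h', sh_map_eq T φ h]
      simp only [Category.assoc, Iso.inv_hom_id_assoc]
      rw [← X.map_comp]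
      congr 3
    · exact (sh_isZero T h).eq_of_src _ _

lemma fromSh_app_pos {T : A} {p : ℤ} (X : ℤᵒᵖ ⥤ A) (x : T ⟶ X.obj (op p)) {q : ℤᵒᵖ}
    (h : q.unop ≤ p) :
    (fromSh X x).app q = (shIso T h).hom ≫ x ≫ X.map (homOfLE h).op :=
  dif_pos h

lemma mono_app {X Y : FilD.FilF A} (u : X ⟶ Y) [Mono u] (p : ℤ) : Mono (u.hom.app (op p)) := by
  apply Preadditive.mono_of_cancel_zero
  intro T x hx
  let S : FilD.FilF A := ⟨sh T p, isFinFil_sh T p⟩
  let m : S ⟶ X := ObjectProperty.homMk (fromSh X.obj x)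
  have hm : m ≫ u = 0 := by
    apply ObjectProperty.hom_ext
    apply NatTrans.ext
    funext q
    show (fromSh X.obj x).app q ≫ u.hom.app q = 0
    by_cases h : q.unop ≤ p
    · rw [fromSh_app_pos _ _ h, Category.assoc, Category.assoc, u.hom.naturality,
        ← Category.assoc x, hx, zero_comp, comp_zero]
    · exact (sh_isZero T h).eq_of_src _ _
  have hm0 : m = 0 := by rw [← cancel_mono u, hm, zero_comp]
  have h1 : (fromSh X.obj x).app (op p) = 0 := congrArg (fun φ => φ.hom.app (op p)) hm0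
  rw [fromSh_app_pos _ _ (le_refl p)] at h1
  have h2 : X.obj.map (homOfLE (le_refl p)).op = 𝟙 _ := tr_refl X.obj _
  rw [h2, Category.comp_id] at h1
  exact (cancel_epi (shIso T (le_refl p)).hom).mp (h1.trans comp_zero.symm)

/-! ### The extension theorem -/

section Extend

variable {X Y I : FilD.FilF A}

/-- the hypotheses of the extension theorem. -/
structure ExtData (u : X ⟶ Y) (f : X ⟶ I) : Prop where
  strict : StrictLift u.hom
  inj : ∀ p, Injective (I.obj.obj (op p))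
  ker : ∀ (p : ℤ) ⦃T : A⦄ (x : T ⟶ X.obj.obj (op p)),
    x ≫ u.hom.app (op p) = 0 → x ≫ f.hom.app (op p) = 0

variable {u : X ⟶ Y} {f : X ⟶ I}

lemma ExtData.step (D : ExtData u f) {p q : ℤ} (h : p ≤ q)
    (g₁ : Y.obj.obj (op q) ⟶ I.obj.obj (op q))
    (hg₁ : u.hom.app (op q) ≫ g₁ = f.hom.app (op q)) :
    ∃ g₀ : Y.obj.obj (op p) ⟶ I.obj.obj (op p),
      tr Y.obj h ≫ g₀ = g₁ ≫ tr I.obj h ∧ u.hom.app (op p) ≫ g₀ = f.hom.app (op p) := by
  have := D.inj p
  exact ext_step (tr X.obj h) (tr Y.obj h) (tr I.obj h) (u.hom.app (op q)) (u.hom.app (op p))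
    (u.hom.naturality _) (f.hom.app (op q)) (f.hom.app (op p)) (f.hom.naturality _) g₁ hg₁
    (fun T x y w => D.strict p q h x y w) (D.ker p)

lemma lev_le (b : ℤ) (n : ℕ) : b - ((n + 1 : ℕ) : ℤ) ≤ b - (n : ℤ) := by
  push_cast; linarith

lemma lev_le' (b : ℤ) {m n : ℕ} (h : m ≤ n) : b - (n : ℤ) ≤ b - (m : ℤ) := by
  have : (m : ℤ) ≤ n := by exact_mod_cast h
  linarith

/-- the sequence of level maps, built by downward recursion. -/
noncomputable def extSeq (D : ExtData u f) (b : ℤ)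
    (hb : ∀ p, b ≤ p → IsZero (I.obj.obj (op p))) :
    (n : ℕ) → {g : Y.obj.obj (op (b - (n : ℤ))) ⟶ I.obj.obj (op (b - (n : ℤ))) //
      u.hom.app (op (b - (n : ℤ))) ≫ g = f.hom.app (op (b - (n : ℤ)))}
  | 0 => ⟨0, (hb _ (by simp)).eq_of_tgt _ _⟩
  | n + 1 => ⟨Classical.choose (D.step (lev_le b n) (extSeq D b hb n).1 (extSeq D b hb n).2),
      (Classical.choose_spec (D.step (lev_le b n) (extSeq D b hb n).1 (extSeq D b hb n).2)).2⟩

lemma extSeq_compat (D : ExtData u f) (b : ℤ)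
    (hb : ∀ p, b ≤ p → IsZero (I.obj.obj (op p))) (n : ℕ) :
    tr Y.obj (lev_le b n) ≫ (extSeq D b hb (n + 1)).1 =
      (extSeq D b hb n).1 ≫ tr I.obj (lev_le b n) :=
  (Classical.choose_spec (D.step (lev_le b n) (extSeq D b hb n).1 (extSeq D b hb n).2)).1

lemma extSeq_compat_le (D : ExtData u f) (b : ℤ)
    (hb : ∀ p, b ≤ p → IsZero (I.obj.obj (op p))) (m n : ℕ) (hmn : m ≤ n) :
    tr Y.obj (lev_le' b hmn) ≫ (extSeq D b hb n).1 =
      (extSeq D b hb m).1 ≫ tr I.obj (lev_le' b hmn) := by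
  induction n, hmn using Nat.le_induction with
  | base => rw [tr_refl, tr_refl, Category.id_comp, Category.comp_id]
  | succ n hmn ih =>
    calc tr Y.obj (lev_le' b (hmn.trans (Nat.le_succ n))) ≫ (extSeq D b hb (n + 1)).1
        = (tr Y.obj (lev_le' b hmn) ≫ tr Y.obj (lev_le b n)) ≫ (extSeq D b hb (n + 1)).1 := by
          rw [tr_comp]
      _ = tr Y.obj (lev_le' b hmn) ≫ (extSeq D b hb n).1 ≫ tr I.obj (lev_le b n) := by
          rw [Category.assoc, extSeq_compat]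
      _ = ((extSeq D b hb m).1 ≫ tr I.obj (lev_le' b hmn)) ≫ tr I.obj (lev_le b n) := by
          rw [← Category.assoc, ih]
      _ = (extSeq D b hb m).1 ≫ tr I.obj (lev_le' b (hmn.trans (Nat.le_succ n))) := by
          rw [Category.assoc, tr_comp]

theorem exists_ext (D : ExtData u f) : ∃ g : Y ⟶ I, u ≫ g = f := by
  obtain ⟨bI, hbI⟩ := I.property.2.1
  obtain ⟨bY, hbY⟩ := Y.property.2.1
  obtain ⟨b, hb1, hb2⟩ : ∃ b, bI ≤ b ∧ bY ≤ b := ⟨max bI bY, le_max_left _ _, le_max_right _ _⟩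
  have hI0 : ∀ p, b ≤ p → IsZero (I.obj.obj (op p)) := fun p hp => hbI p (hb1.trans hp)
  have hY0 : ∀ p, b ≤ p → IsZero (Y.obj.obj (op p)) := fun p hp => hbY p (hb2.trans hp)
  have hn1 : ∀ p : ℤ, b - ((b - p).toNat : ℤ) ≤ p := fun p => by
    have := Int.self_le_toNat (b - p)
    omega
  have hn2 : ∀ p : ℤ, p ≤ b → p ≤ b - ((b - p).toNat : ℤ) := fun p hp => by
    have := Int.toNat_of_nonneg (sub_nonneg.mpr hp)
    omega
  let G : ∀ p : ℤ, Y.obj.obj (op p) ⟶ I.obj.obj (op p) := fun p =>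
    if hp : p ≤ b then
      tr Y.obj (hn1 p) ≫ (extSeq D b hI0 (b - p).toNat).1 ≫ tr I.obj (hn2 p hp) else 0
  have hG : ∀ p (hp : p ≤ b), G p =
      tr Y.obj (hn1 p) ≫ (extSeq D b hI0 (b - p).toNat).1 ≫ tr I.obj (hn2 p hp) :=
    fun p hp => dif_pos hp
  have hnat : ∀ (p q : ℤ) (hpq : p ≤ q), tr Y.obj hpq ≫ G p = G q ≫ tr I.obj hpq := by
    intro p q hpq
    by_cases hq : q ≤ b
    · have hp : p ≤ b := hpq.trans hq
      have hnn : (b - q).toNat ≤ (b - p).toNat := Int.toNat_le_toNat (by linarith)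
      rw [hG p hp, hG q hq]
      have key : tr Y.obj hpq ≫ tr Y.obj (hn1 p) =
          tr Y.obj (hn1 q) ≫ tr Y.obj (lev_le' b hnn) := by rw [tr_comp, tr_comp]
      have key2 : tr I.obj (lev_le' b hnn) ≫ tr I.obj (hn2 p hp) =
          tr I.obj (hn2 q hq) ≫ tr I.obj hpq := by rw [tr_comp, tr_comp]
      calc tr Y.obj hpq ≫ tr Y.obj (hn1 p) ≫ (extSeq D b hI0 (b - p).toNat).1 ≫
            tr I.obj (hn2 p hp)
          = (tr Y.obj hpq ≫ tr Y.obj (hn1 p)) ≫ (extSeq D b hI0 (b - p).toNat).1 ≫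
            tr I.obj (hn2 p hp) := by rw [Category.assoc]
        _ = tr Y.obj (hn1 q) ≫ (tr Y.obj (lev_le' b hnn) ≫ (extSeq D b hI0 (b - p).toNat).1) ≫
            tr I.obj (hn2 p hp) := by rw [key]; simp only [Category.assoc]
        _ = tr Y.obj (hn1 q) ≫ ((extSeq D b hI0 (b - q).toNat).1 ≫ tr I.obj (lev_le' b hnn)) ≫
            tr I.obj (hn2 p hp) := by rw [extSeq_compat_le D b hI0 _ _ hnn]
        _ = tr Y.obj (hn1 q) ≫ (extSeq D b hI0 (b - q).toNat).1 ≫
            (tr I.obj (lev_le' b hnn) ≫ tr I.obj (hn2 p hp)) := by simp only [Category.assoc]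
        _ = (tr Y.obj (hn1 q) ≫ (extSeq D b hI0 (b - q).toNat).1 ≫ tr I.obj (hn2 q hq)) ≫
            tr I.obj hpq := by rw [key2]; simp only [Category.assoc]
    · exact (hY0 q (by omega)).eq_of_src _ _
  let g : Y ⟶ I := ObjectProperty.homMk
    { app := fun x => G x.unop
      naturality := fun x y φ => by
        obtain ⟨q⟩ := x
        obtain ⟨p⟩ := y
        rw [map_eq_tr Y.obj φ, map_eq_tr I.obj φ]
        exact hnat p q _ }
  refine ⟨g, ?_⟩
  apply ObjectProperty.hom_ext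
  apply NatTrans.ext
  funext x
  obtain ⟨p⟩ := x
  show u.hom.app (op p) ≫ G p = f.hom.app (op p)
  by_cases hp : p ≤ b
  · rw [hG p hp]
    calc u.hom.app (op p) ≫ tr Y.obj (hn1 p) ≫ (extSeq D b hI0 (b - p).toNat).1 ≫
          tr I.obj (hn2 p hp)
        = tr X.obj (hn1 p) ≫ (u.hom.app _ ≫ (extSeq D b hI0 (b - p).toNat).1) ≫
          tr I.obj (hn2 p hp) := by
          rw [← Category.assoc, ← u.hom.naturality (homOfLE (hn1 p)).op]
          simp only [Category.assoc]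
      _ = tr X.obj (hn1 p) ≫ f.hom.app _ ≫ tr I.obj (hn2 p hp) := by
          rw [(extSeq D b hI0 (b - p).toNat).2]
      _ = (tr X.obj (hn1 p) ≫ tr X.obj (hn2 p hp)) ≫ f.hom.app (op p) := by
          rw [← f.hom.naturality (homOfLE (hn2 p hp)).op]
          simp only [Category.assoc]
      _ = f.hom.app (op p) := by rw [tr_comp, tr_refl, Category.id_comp]
  · exact (hI0 p (by omega)).eq_of_tgt _ _

end Extend

end FilDLib
end Groth.Agent.H90
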