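import Mathlib
import Groth.Prelude.Def_FilD
import Groth.Agent.H90.FilDBasic
import Groth.Agent.H90.FilDExt

/-!
# Strict embeddings of finite filtered objects into filtered injective objects
-/

universe v u

open CategoryTheory CategoryTheory.Limits Opposite ZeroObject

namespace Groth.Agent.H90
namespace FilDLib

set_option linter.unusedSectionVars false

variable {A : Type u} [Category.{v} A] [Abelian A]

instance instHasFiniteBiproductsFun : HasFiniteBiproducts (ℤᵒᵖ ⥤ A) :=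
  HasFiniteBiproducts.of_hasFiniteProducts

/-! ### Retraction to the total object -/

section Rho

variable (X : ℤᵒᵖ ⥤ A) (a : ℤ)
  (ha : ∀ ⦃p q : ℤᵒᵖ⦄ (f : p ⟶ q), p.unop ≤ a → IsIso (X.map f))

/-- the canonical map from the `q`-th filtration step to the total object `X^a`. -/
noncomputable def rho (q : ℤ) : X.obj (op q) ⟶ X.obj (op a) :=
  haveI : IsIso (tr X (min_le_left a q)) := ha _ le_rfl
  tr X (min_le_right a q) ≫ inv (tr X (min_le_left a q))

lemma rho_nat {q' q : ℤ} (h : q' ≤ q) : tr X h ≫ rho X a ha q' = rho X a ha q := by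
  have i1 : IsIso (tr X (min_le_left a q)) := ha _ le_rfl
  have i2 : IsIso (tr X (min_le_left a q')) := ha _ le_rfl
  have hm : min a q' ≤ min a q := min_le_min_left a h
  have e1 : inv (tr X (min_le_left a q)) ≫ tr X (min_le_left a q') = tr X hm := by
    rw [IsIso.inv_comp_eq, tr_comp]
  unfold rho
  rw [← Category.assoc, tr_comp, IsIso.comp_inv_eq, Category.assoc, e1, tr_comp]

lemma rho_mono (hX : ∀ {p q : ℤ} (h : p ≤ q), Mono (tr X h)) (q : ℤ) : Mono (rho X a ha q) := by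
  have i1 : IsIso (tr X (min_le_left a q)) := ha _ le_rfl
  have := hX (min_le_right a q)
  unfold rho
  infer_instance

end Rho

/-! ### Maps into `sh J p` -/

lemma toSh_aux {J : A} (X : ℤᵒᵖ ⥤ A) (γ : ∀ q : ℤ, X.obj (op q) ⟶ J)
    (hnat : ∀ (q' q : ℤ) (h : q' ≤ q), tr X h ≫ γ q' = γ q) {x y : ℤᵒᵖ} (φ : x ⟶ y) :
    X.map φ ≫ γ y.unop = γ x.unop := by
  obtain ⟨q⟩ := x
  obtain ⟨q'⟩ := y
  rw [map_eq_tr X φ]
  exact hnat _ _ _

/-- a compatible family of maps `X^q ⟶ J` vanishing above `p` gives a map `X ⟶ sh J p`. -/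
noncomputable def toSh {J : A} {p : ℤ} (X : ℤᵒᵖ ⥤ A) (γ : ∀ q : ℤ, X.obj (op q) ⟶ J)
    (hnat : ∀ (q' q : ℤ) (h : q' ≤ q), tr X h ≫ γ q' = γ q)
    (hvan : ∀ q, p < q → γ q = 0) : X ⟶ sh J p where
  app q := if h : q.unop ≤ p then γ q.unop ≫ (shIso J h).inv else 0
  naturality q q' φ := by
    by_cases h : q.unop ≤ p
    · have h' : q'.unop ≤ p := (leOfHom φ.unop).trans h
      rw [dif_pos h, dif_pos h', sh_map_eq J φ h]
      simp only [Category.assoc, Iso.inv_hom_id_assoc]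
      rw [← Category.assoc, toSh_aux X γ hnat φ]
    · rw [dif_neg h, zero_comp]
      by_cases h' : q'.unop ≤ p
      · rw [dif_pos h', ← Category.assoc, toSh_aux X γ hnat φ, hvan _ (not_le.mp h), zero_comp]
      · rw [dif_neg h', comp_zero]

lemma toSh_app_pos {J : A} {p : ℤ} (X : ℤᵒᵖ ⥤ A) (γ : ∀ q : ℤ, X.obj (op q) ⟶ J)
    (hnat : ∀ (q' q : ℤ) (h : q' ≤ q), tr X h ≫ γ q' = γ q)
    (hvan : ∀ q, p < q → γ q = 0) {q : ℤᵒᵖ} (h : q.unop ≤ p) :
    (toSh X γ hnat hvan).app q = γ q.unop ≫ (shIso J h).inv :=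
  dif_pos h

lemma sh_injective_level (J : A) (hJ : Injective J) (p : ℤ) (q : ℤᵒᵖ) :
    Injective ((sh J p).obj q) := by
  by_cases h : q.unop ≤ p
  · exact Injective.of_iso (shIso J h).symm hJ
  · exact (sh_isZero J h).injective

/-! ### Finite direct sums of filtered objects -/

section Biprod

variable {n : ℕ} (E : Fin n → (ℤᵒᵖ ⥤ A))

lemma sum_app (q : ℤᵒᵖ) :
    ∑ j, (biproduct.π E j).app q ≫ (biproduct.ι E j).app q = 𝟙 ((⨁ E).obj q) := by
  have h := congrArg (fun α => α.app q) (biproduct.total (f := E))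
  simpa only [NatTrans.app_sum, NatTrans.comp_app, NatTrans.id_app] using h

lemma isZero_biproduct_level (q : ℤᵒᵖ) (hz : ∀ j, IsZero ((E j).obj q)) :
    IsZero ((⨁ E).obj q) := by
  rw [IsZero.iff_id_eq_zero, ← sum_app E q]
  apply Finset.sum_eq_zero
  intro j _
  rw [(hz j).eq_of_tgt ((biproduct.π E j).app q) 0, zero_comp]

lemma injective_biproduct_level (q : ℤᵒᵖ) (hE : ∀ j, Injective ((E j).obj q)) :
    Injective ((⨁ E).obj q) := by
  constructor
  intro B C h m _
  refine ⟨∑ j, Injective.factorThru (h ≫ (biproduct.π E j).app q) m ≫ (biproduct.ι E j).app q, ?_⟩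
  rw [Preadditive.comp_sum]
  calc ∑ j, m ≫ Injective.factorThru (h ≫ (biproduct.π E j).app q) m ≫ (biproduct.ι E j).app q
      = ∑ j, h ≫ (biproduct.π E j).app q ≫ (biproduct.ι E j).app q := by
        apply Finset.sum_congr rfl
        intro j _
        rw [← Category.assoc, Injective.comp_factorThru, Category.assoc]
    _ = h ≫ ∑ j, (biproduct.π E j).app q ≫ (biproduct.ι E j).app q := by
        rw [Preadditive.comp_sum]
    _ = h := by rw [sum_app, Category.comp_id]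

lemma isFinFil_biproduct (hE : ∀ j, FilD.IsFinFil A (E j))
    (b : ℤ) (hb : ∀ j p, b ≤ p → IsZero ((E j).obj (op p)))
    (a : ℤ) (ha : ∀ j ⦃p q : ℤᵒᵖ⦄ (f : p ⟶ q), p.unop ≤ a → IsIso ((E j).map f)) :
    FilD.IsFinFil A (⨁ E) := by
  refine ⟨fun p q φ => ?_, ⟨b, fun p hp => isZero_biproduct_level E _ (fun j => hb j p hp)⟩,
    ⟨a, fun p q φ hp => ?_⟩⟩
  · apply Preadditive.mono_of_cancel_zero
    intro T t ht
    have hz : ∀ j, t ≫ (biproduct.π E j).app p = 0 := fun j => by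
      have := (hE j).1 φ
      rw [← cancel_mono ((E j).map φ), Category.assoc, ← (biproduct.π E j).naturality,
        ← Category.assoc, ht, zero_comp, zero_comp]
    calc t = t ≫ 𝟙 _ := (Category.comp_id t).symm
      _ = t ≫ ∑ j, (biproduct.π E j).app p ≫ (biproduct.ι E j).app p := by rw [sum_app]
      _ = ∑ j, (t ≫ (biproduct.π E j).app p) ≫ (biproduct.ι E j).app p := by
          rw [Preadditive.comp_sum]
          simp only [Category.assoc]
      _ = 0 := by simp only [hz, zero_comp, Finset.sum_const_zero]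
  · have hiso : ∀ j, IsIso ((E j).map φ) := fun j => ha j φ hp
    refine ⟨⟨∑ j, (biproduct.π E j).app q ≫ inv ((E j).map φ) ≫ (biproduct.ι E j).app p, ?_, ?_⟩⟩
    · rw [Preadditive.comp_sum, ← sum_app E p]
      apply Finset.sum_congr rfl
      intro j _
      rw [← Category.assoc, (biproduct.π E j).naturality, Category.assoc,
        IsIso.hom_inv_id_assoc]
    · rw [Preadditive.sum_comp, ← sum_app E q]
      apply Finset.sum_congr rfl
      intro j _
      rw [Category.assoc, Category.assoc, ← (biproduct.ι E j).naturality,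
        IsIso.inv_hom_id_assoc]

end Biprod

/-! ### The embedding -/

/-- data for the construction of a strict embedding into a filtered injective object. -/
structure EmbData (X : FilD.FilF A) where
  a : ℤ
  b : ℤ
  n : ℕ
  hn : (n : ℤ) = b - a
  hab : a < b
  hb : ∀ p, b ≤ p → IsZero (X.obj.obj (op p))
  ρ : ∀ q : ℤ, X.obj.obj (op q) ⟶ X.obj.obj (op a)
  ρnat : ∀ {q' q : ℤ} (h : q' ≤ q), tr X.obj h ≫ ρ q' = ρ q
  ρmono : ∀ q, Mono (ρ q)
  hiso : ∀ {p q : ℤ} (h : p ≤ q), q ≤ a → IsIso (tr X.obj h)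
  Jo : Fin n → A
  hJo : ∀ j, Injective (Jo j)
  c : ∀ j, X.obj.obj (op a) ⟶ Jo j
  hc0 : ∀ j : Fin n, ρ (a + ((j : ℕ) : ℤ) + 1) ≫ c j = 0
  hc : ∀ (j : Fin n) ⦃T' : A⦄ (z : T' ⟶ X.obj.obj (op a)), z ≫ c j = 0 →
    ∃ (T'' : A) (π : T'' ⟶ T') (_ : Epi π)
      (x' : T'' ⟶ X.obj.obj (op (a + ((j : ℕ) : ℤ) + 1))),
      π ≫ z = x' ≫ ρ (a + ((j : ℕ) : ℤ) + 1)

namespace EmbData

variable {X : FilD.FilF A} (D : EmbData X)

/-- the summands of the target. -/
noncomputable def E (j : Fin D.n) : ℤᵒᵖ ⥤ A := sh (D.Jo j) (D.a + ((j : ℕ) : ℤ))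

lemma γnat (j : Fin D.n) (q' q : ℤ) (h : q' ≤ q) :
    tr X.obj h ≫ (D.ρ q' ≫ D.c j) = D.ρ q ≫ D.c j := by
  rw [← Category.assoc, D.ρnat]

lemma γvan (j : Fin D.n) (q : ℤ) (hq : D.a + ((j : ℕ) : ℤ) < q) : D.ρ q ≫ D.c j = 0 := by
  have h1 : D.a + ((j : ℕ) : ℤ) + 1 ≤ q := by omega
  rw [← D.ρnat h1, Category.assoc, D.hc0, comp_zero]

/-- the components of the embedding. -/
noncomputable def uj (j : Fin D.n) : X.obj ⟶ D.E j :=
  toSh X.obj (fun q => D.ρ q ≫ D.c j) (D.γnat j) (D.γvan j)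

lemma E_isZero (j : Fin D.n) (s : ℤ) (hs : D.a + ((j : ℕ) : ℤ) < s) :
    IsZero ((D.E j).obj (op s)) :=
  sh_isZero _ (by show ¬ s ≤ D.a + ((j : ℕ) : ℤ); omega)

lemma E_isZero_of_le (j : Fin D.n) (s : ℤ) (hs : D.b ≤ s) : IsZero ((D.E j).obj (op s)) :=
  D.E_isZero j s (by have := j.2; have := D.hn; omega)

/-- the target filtered injective object. -/
noncomputable abbrev I : FilD.FilF A :=
  ⟨⨁ D.E, isFinFil_biproduct D.E (fun j => isFinFil_sh _ _) D.b
    (fun j p hp => D.E_isZero_of_le j p hp) D.a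
    (fun j p q f h => sh_map_isIso _ f (by have h' : p.unop ≤ D.a := h; omega))⟩

/-- the embedding. -/
noncomputable def u : X ⟶ D.I := ObjectProperty.homMk (biproduct.lift D.uj)

lemma u_π (j : Fin D.n) (x : ℤᵒᵖ) :
    D.u.hom.app x ≫ (biproduct.π D.E j).app x = (D.uj j).app x := by
  show (biproduct.lift D.uj).app x ≫ _ = _
  rw [← NatTrans.comp_app, biproduct.lift_π]

lemma uj_app (j : Fin D.n) (r : ℤ) (hr : r ≤ D.a + ((j : ℕ) : ℤ)) :
    (D.uj j).app (op r) = (D.ρ r ≫ D.c j) ≫ (shIso (D.Jo j) (q := op r) hr).inv :=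
  toSh_app_pos X.obj (fun q => D.ρ q ≫ D.c j) (D.γnat j) (D.γvan j) (q := op r) hr

lemma key (j : Fin D.n) (r : ℤ) (hr : r ≤ D.a + ((j : ℕ) : ℤ)) {T' : A}
    (x : T' ⟶ X.obj.obj (op r))
    (hx : x ≫ D.u.hom.app (op r) ≫ (biproduct.π D.E j).app (op r) = 0) (s : ℤ)
    (hs : s ≤ D.a + ((j : ℕ) : ℤ) + 1) :
    ∃ (T'' : A) (π : T'' ⟶ T') (_ : Epi π) (x' : T'' ⟶ X.obj.obj (op s)),
      π ≫ x ≫ D.ρ r = x' ≫ D.ρ s := by
  rw [D.u_π, D.uj_app j r hr] at hx
  have h1 : (x ≫ D.ρ r) ≫ D.c j = 0 := by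
    rw [← cancel_mono (shIso (D.Jo j) (q := op r) hr).inv, zero_comp]
    simp only [Category.assoc] at hx ⊢
    exact hx
  obtain ⟨T'', π, hπ, x', hx'⟩ := D.hc j _ h1
  refine ⟨T'', π, hπ, x' ≫ tr X.obj hs, ?_⟩
  rw [hx', Category.assoc, D.ρnat]

lemma mono_u_app (r : ℤ) : Mono (D.u.hom.app (op r)) := by
  apply Preadditive.mono_of_cancel_zero
  intro T' x hx
  by_cases hrb : D.b ≤ r
  · exact (D.hb r hrb).eq_of_tgt _ _
  · have hn0 : 0 < D.n := by have := D.hn; have := D.hab; omega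
    let j₀ : Fin D.n := ⟨D.n - 1, by omega⟩
    have hj₀v : (j₀ : ℕ) = D.n - 1 := rfl
    have hj₀ : D.a + ((j₀ : ℕ) : ℤ) = D.b - 1 := by have := D.hn; omega
    obtain ⟨T'', π, hπ, x', hx'⟩ := D.key j₀ r (by omega) x
      (by rw [← Category.assoc, hx, zero_comp]) (D.a + ((j₀ : ℕ) : ℤ) + 1) le_rfl
    have hx0 : x' = 0 := (D.hb _ (by omega)).eq_of_tgt _ _
    rw [hx0, zero_comp] at hx'
    have h2 : x ≫ D.ρ r = 0 := by rw [← cancel_epi π, hx', comp_zero]
    have := D.ρmono r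
    rw [← cancel_mono (D.ρ r), h2, zero_comp]

lemma strict_u : StrictLift D.u.hom := by
  intro r s h T' x y e
  have hIm : Mono (tr D.I.obj h) := D.I.property.1 _
  by_cases hsb : D.b ≤ s
  · have hz : IsZero (D.I.obj.obj (op s)) :=
      isZero_biproduct_level D.E (op s) (fun j => D.E_isZero_of_le j s hsb)
    exact ⟨T', 𝟙 T', inferInstance, 0, hz.eq_of_tgt _ _⟩
  by_cases hsa : s ≤ D.a
  · have := D.hiso h hsa
    refine ⟨T', 𝟙 T', inferInstance, x ≫ inv (tr X.obj h), ?_⟩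
    rw [Category.id_comp, ← cancel_mono (tr D.I.obj h), ← e, Category.assoc, Category.assoc,
      ← D.u.hom.naturality, IsIso.inv_hom_id_assoc]
  rcases h.eq_or_lt with hrs | hrs
  · subst hrs
    refine ⟨T', 𝟙 T', inferInstance, x, ?_⟩
    rw [Category.id_comp, e, tr_refl, Category.comp_id]
  · have hj : (s - D.a - 1).toNat < D.n := by have := D.hn; omega
    let j : Fin D.n := ⟨(s - D.a - 1).toNat, hj⟩
    have hjv0 : (j : ℕ) = (s - D.a - 1).toNat := rfl
    have hjv : ((j : ℕ) : ℤ) = s - D.a - 1 := by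
      rw [hjv0]; exact Int.toNat_of_nonneg (by omega)
    have hzero : y ≫ tr D.I.obj h ≫ (biproduct.π D.E j).app (op r) = 0 := by
      rw [(biproduct.π D.E j).naturality, ← Category.assoc,
        (D.E_isZero j s (by omega)).eq_of_tgt (y ≫ (biproduct.π D.E j).app (op s)) 0, zero_comp]
    obtain ⟨T'', π, hπ, x', hx'⟩ := D.key j r (by omega) x
      (by rw [← Category.assoc, e, Category.assoc, hzero]) s (by omega)
    have h3 : π ≫ x = x' ≫ tr X.obj h := by
      have := D.ρmono r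
      rw [← cancel_mono (D.ρ r), Category.assoc, Category.assoc, D.ρnat, hx']
    refine ⟨T'', π, hπ, x', ?_⟩
    rw [← cancel_mono (tr D.I.obj h), Category.assoc, ← e, ← Category.assoc, h3, Category.assoc,
      Category.assoc, D.u.hom.naturality]

lemma I_filtInj : FilD.IsFilteredInjective D.I := by
  intro p
  have hm : Mono (D.I.obj.map (FilD.stepHom p)) := D.I.property.1 _
  have h1 : Injective (D.I.obj.obj (op (p + 1))) :=
    injective_biproduct_level D.E _ (fun j => sh_injective_level _ (D.hJo j) _ _)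
  have h0 : Injective (D.I.obj.obj (op p)) :=
    injective_biproduct_level D.E _ (fun j => sh_injective_level _ (D.hJo j) _ _)
  exact retract_cokernel_injective (D.I.obj.map (FilD.stepHom p))

lemma mono_u : Mono D.u := by
  have h1 : ∀ x : ℤᵒᵖ, Mono (D.u.hom.app x) := fun x => by
    obtain ⟨r⟩ := x
    exact D.mono_u_app r
  have h2 : Mono D.u.hom := NatTrans.mono_of_mono_app _
  exact (FilD.IsFinFil A).ι.mono_of_mono_map h2

end EmbData

theorem exists_embedding [EnoughInjectives A] (X : FilD.FilF A) :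
    ∃ (I : FilD.FilF A) (u : X ⟶ I), FilD.IsFilteredInjective I ∧ Mono u ∧ FilD.IsStrict u := by
  obtain ⟨b, hb⟩ := X.property.2.1
  obtain ⟨a₀, ha₀⟩ := X.property.2.2
  obtain ⟨a, hab, ha⟩ : ∃ a, a < b ∧
      ∀ ⦃p q : ℤᵒᵖ⦄ (f : p ⟶ q), p.unop ≤ a → IsIso (X.obj.map f) :=
    ⟨min a₀ (b - 1), by have := min_le_right a₀ (b - 1); omega,
      fun p q f h => ha₀ f (h.trans (min_le_left _ _))⟩
  obtain ⟨n, hn⟩ : ∃ n : ℕ, (n : ℤ) = b - a := ⟨(b - a).toNat, Int.toNat_of_nonneg (by omega)⟩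
  let D : EmbData X :=
    { a := a
      b := b
      n := n
      hn := hn
      hab := hab
      hb := hb
      ρ := rho X.obj a ha
      ρnat := fun h => rho_nat X.obj a ha h
      ρmono := fun q => rho_mono X.obj a ha (fun h => X.property.1 _) q
      hiso := fun h hq => ha _ hq
      Jo := fun j => Injective.under (cokernel (rho X.obj a ha (a + ((j : ℕ) : ℤ) + 1)))
      hJo := fun j => inferInstance
      c := fun j => cokernel.π _ ≫ Injective.ι _
      hc0 := fun j => by rw [← Category.assoc, cokernel.condition, zero_comp]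
      hc := fun j T' z hz => by
        have h0 : z ≫ cokernel.π (rho X.obj a ha (a + ((j : ℕ) : ℤ) + 1)) = 0 := by
          rw [← cancel_mono (Injective.ι (cokernel (rho X.obj a ha (a + ((j : ℕ) : ℤ) + 1)))),
            Category.assoc, hz, zero_comp]
        exact (ShortComplex.exact_cokernel
          (rho X.obj a ha (a + ((j : ℕ) : ℤ) + 1))).exact_up_to_refinements z h0 }
  exact ⟨D.I, D.u, D.I_filtInj, D.mono_u, isStrict_of_strictLift D.strict_u⟩

end FilDLib
end Groth.Agent.H90
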