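import Mathlib
import Groth.Prelude.Def_FilD
import Groth.Agent.H90.FilDBasic
import Groth.Agent.H90.FilDExt

/-!
# Maps from filtered acyclic complexes to bounded below complexes of filtered injectives
-/

universe v u

open CategoryTheory CategoryTheory.Limits Opposite ZeroObject

namespace Groth.Agent.H90
namespace FilDLib

set_option linter.unusedSectionVars false

variable {A : Type u} [Category.{v} A] [Abelian A]

section Acyclic

variable (K : CochainComplex (FilD.FilF A) ℤ)

lemma d_hom_comp (i j k : ℤ) : (K.d i j).hom ≫ (K.d j k).hom = 0 :=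
  congrArg (fun φ => φ.hom) (K.d_comp_d i j k)

lemma grExact_of_acyclic (hK : FilD.IsFilteredAcyclic K) (i j k : ℤ) (hij : i + 1 = j)
    (hjk : j + 1 = k) (p : ℤ) : GrExact (K.d i j).hom (K.d j k).hom p := by
  have h := hK p j
  rw [HomologicalComplex.exactAt_iff' _ i j k (by rw [CochainComplex.prev]; omega)
    (by rw [CochainComplex.next]; omega)] at h
  intro T y hy
  exact h.exact_up_to_refinements y hy

lemma strictLift_d (hK : FilD.IsFilteredAcyclic K) (i j k : ℤ) (hij : i + 1 = j)
    (hjk : j + 1 = k) : StrictLift (K.d j k).hom :=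
  strictLift_g (d_hom_comp K i j k) (fun _ => (K.X k).property.1 _)
    (fun p => grExact_of_acyclic K hK i j k hij hjk p)

lemma levExact_d (hK : FilD.IsFilteredAcyclic K) (i j k : ℤ) (hij : i + 1 = j)
    (hjk : j + 1 = k) (p : ℤ) : LevExact (K.d i j).hom (K.d j k).hom p := by
  obtain ⟨b, hb⟩ := (K.X j).property.2.1
  exact levExact_all (d_hom_comp K i j k) (fun _ => (K.X k).property.1 _)
    (fun p => grExact_of_acyclic K hK i j k hij hjk p) b hb p

/-- extension along a differential of a filtered acyclic complex. -/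
lemma exists_ext_d (hK : FilD.IsFilteredAcyclic K) {J : FilD.FilF A}
    (hJ : FilD.IsFilteredInjective J)
    {q p p' : ℤ} (hq : q + 1 = p) (hp : p + 1 = p') (ψ : K.X p ⟶ J) (hψ : K.d q p ≫ ψ = 0) :
    ∃ s' : K.X p' ⟶ J, K.d p p' ≫ s' = ψ := by
  have D : ExtData (K.d p p') ψ :=
    { strict := strictLift_d K hK q p p' hq hp
      inj := fun l => injective_level J hJ l
      ker := fun l T x hx => by
        obtain ⟨T', π, hπ, x', hx'⟩ := levExact_d K hK q p p' hq hp l x hx
        have h0 : (K.d q p).hom.app (op l) ≫ ψ.hom.app (op l) = 0 :=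
          congrArg (fun φ => φ.hom.app (op l)) hψ
        rw [← cancel_epi π, comp_zero, ← Category.assoc, hx', Category.assoc, h0, comp_zero] }
  exact exists_ext D

end Acyclic

section Homotopy

variable {K I : CochainComplex (FilD.FilF A) ℤ} (φ : K ⟶ I)

/-- a stage of the inductive construction of a null-homotopy. -/
def Stage (p : ℤ) : Type v :=
  {s : ∀ q : ℤ, q + 1 = p → (K.X p ⟶ I.X q) //
    ∀ (q : ℤ) (hq : q + 1 = p), K.d q p ≫ (φ.f p - s q hq ≫ I.d q p) = 0}

variable (hK : FilD.IsFilteredAcyclic K) (hI : ∀ n, FilD.IsFilteredInjective (I.X n))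

include hK hI in
lemma stage_next {q p : ℤ} (st : Stage φ q) (hq : q + 1 = p) :
    ∃ s' : K.X p ⟶ I.X q,
      K.d q p ≫ s' = φ.f q - st.1 (q - 1) (sub_add_cancel q 1) ≫ I.d (q - 1) q :=
  exists_ext_d K hK (hI q) (sub_add_cancel q 1) hq _ (st.2 (q - 1) (sub_add_cancel q 1))

/-- the next homotopy component. -/
noncomputable def nextS {q p : ℤ} (st : Stage φ q) (hq : q + 1 = p) : K.X p ⟶ I.X q :=
  Classical.choose (stage_next φ hK hI st hq)

lemma nextS_spec {q p : ℤ} (st : Stage φ q) (hq : q + 1 = p) :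
    K.d q p ≫ nextS φ hK hI st hq =
      φ.f q - st.1 (q - 1) (sub_add_cancel q 1) ≫ I.d (q - 1) q :=
  Classical.choose_spec (stage_next φ hK hI st hq)

/-- the stages, by recursion. -/
noncomputable def stageFam (a : ℤ) [I.IsStrictlyGE a] :
    (n : ℕ) → ∀ p : ℤ, p = a + (n : ℤ) → Stage φ p
  | 0, p, hp => ⟨fun q hq => 0, fun q hq => by
      have hz : IsZero (I.X q) := CochainComplex.isZero_of_isStrictlyGE I a q (by
        simp only [Nat.cast_zero, add_zero] at hp; omega)
      rw [zero_comp, sub_zero, ← φ.comm, hz.eq_of_tgt (φ.f q) 0, zero_comp]⟩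
  | n + 1, p, hp => ⟨fun q hq => nextS φ hK hI (stageFam a n q (by push_cast at hp; omega)) hq,
      fun q hq => by
        rw [Preadditive.comp_sub, ← Category.assoc, nextS_spec, Preadditive.sub_comp,
          Category.assoc, I.d_comp_d, comp_zero, sub_zero, φ.comm, sub_self]⟩

lemma stageFam_succ_spec (a : ℤ) [I.IsStrictlyGE a] (n : ℕ) (p : ℤ)
    (hp : p = a + ((n + 1 : ℕ) : ℤ)) (q : ℤ) (hq : q + 1 = p) (hq0 : q = a + (n : ℤ))
    (q' : ℤ) (hq' : q' + 1 = q) :
    K.d q p ≫ (stageFam φ hK hI a (n + 1) p hp).1 q hq =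
      φ.f q - (stageFam φ hK hI a n q hq0).1 q' hq' ≫ I.d q' q := by
  obtain rfl : q' = q - 1 := by omega
  exact nextS_spec φ hK hI (stageFam φ hK hI a n q hq0) hq

include hK hI in
theorem nullHomotopic (a : ℤ) [I.IsStrictlyGE a] : Nonempty (Homotopy φ 0) := by
  let V : ∀ i j : ℤ, j + 1 = i → (K.X i ⟶ I.X j) := fun i j h =>
    if hi : a ≤ i then (stageFam φ hK hI a (i - a).toNat i (by
      have := Int.toNat_of_nonneg (sub_nonneg.mpr hi); omega)).1 j h else 0
  have hV : ∀ (n : ℕ) (i j : ℤ) (h : j + 1 = i) (hi : i = a + (n : ℤ)),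
      V i j h = (stageFam φ hK hI a n i hi).1 j h := by
    intro n i j h hi
    have hai : a ≤ i := by omega
    have hn : (i - a).toNat = n := by omega
    simp only [V, dif_pos hai]
    subst hn
    rfl
  refine ⟨{ hom := fun i j => if h : j + 1 = i then V i j h else 0, zero := ?_, comm := ?_ }⟩
  · intro i j hij
    exact dif_neg hij
  · intro i
    rw [dNext_eq _ (show (ComplexShape.up ℤ).Rel i (i + 1) from rfl),
      prevD_eq _ (show (ComplexShape.up ℤ).Rel (i - 1) i from by simp)]
    simp only [HomologicalComplex.zero_f, add_zero]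
    rw [dif_pos trivial, dif_pos (sub_add_cancel i 1)]
    by_cases hi : a ≤ i
    · obtain ⟨n, hn⟩ : ∃ n : ℕ, i = a + (n : ℤ) :=
        ⟨(i - a).toNat, by have := Int.toNat_of_nonneg (sub_nonneg.mpr hi); omega⟩
      rw [hV (n + 1) (i + 1) i rfl (by push_cast; omega), hV n i (i - 1) (sub_add_cancel i 1) hn,
        stageFam_succ_spec φ hK hI a n (i + 1) _ i rfl hn (i - 1) (sub_add_cancel i 1)]
      abel
    · have hz : IsZero (I.X i) := CochainComplex.isZero_of_isStrictlyGE I a i (by omega)
      exact hz.eq_of_tgt _ _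

end Homotopy

end FilDLib
end Groth.Agent.H90
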