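import Mathlib
import Groth.Prelude.Def_FilD
import Groth.Agent.H90.FilDBasic
import Groth.Agent.H90.FilDExt
import Groth.Agent.H90.FilDEmbed
import Groth.Agent.H90.FilDHtpy

/-!
# Mapping cones of filtered quasi-isomorphisms, and maps into complexes of filtered injectives
-/

universe v u

open CategoryTheory CategoryTheory.Limits Opposite ZeroObject

namespace Groth.Agent.H90
namespace FilDLib

set_option linter.unusedSectionVars false

variable {A : Type u} [Category.{v} A] [Abelian A]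

/-! ### Binary biproducts of finite filtered objects -/

section BinBiprod

variable (F G : ℤᵒᵖ ⥤ A)

lemma biprod_total_app (q : ℤᵒᵖ) :
    (biprod.fst : F ⊞ G ⟶ F).app q ≫ (biprod.inl : F ⟶ F ⊞ G).app q +
      (biprod.snd : F ⊞ G ⟶ G).app q ≫ (biprod.inr : G ⟶ F ⊞ G).app q =
        𝟙 ((F ⊞ G).obj q) := by
  have h := congrArg (fun α => α.app q) (biprod.total (X := F) (Y := G))
  simpa only [NatTrans.app_add, NatTrans.comp_app, NatTrans.id_app] using h

lemma isFinFil_biprod (hF : FilD.IsFinFil A F) (hG : FilD.IsFinFil A G) :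
    FilD.IsFinFil A (F ⊞ G) := by
  obtain ⟨bF, hbF⟩ := hF.2.1
  obtain ⟨bG, hbG⟩ := hG.2.1
  obtain ⟨aF, haF⟩ := hF.2.2
  obtain ⟨aG, haG⟩ := hG.2.2
  refine ⟨fun p q φ => ?_, ⟨max bF bG, fun p hp => ?_⟩, ⟨min aF aG, fun p q φ hp => ?_⟩⟩
  · apply Preadditive.mono_of_cancel_zero
    intro T t ht
    have h1 : t ≫ (biprod.fst : F ⊞ G ⟶ F).app p = 0 := by
      have := hF.1 φ
      rw [← cancel_mono (F.map φ), Category.assoc, ← (biprod.fst : F ⊞ G ⟶ F).naturality,
        ← Category.assoc, ht, zero_comp, zero_comp]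
    have h2 : t ≫ (biprod.snd : F ⊞ G ⟶ G).app p = 0 := by
      have := hG.1 φ
      rw [← cancel_mono (G.map φ), Category.assoc, ← (biprod.snd : F ⊞ G ⟶ G).naturality,
        ← Category.assoc, ht, zero_comp, zero_comp]
    calc t = t ≫ 𝟙 _ := (Category.comp_id t).symm
      _ = t ≫ ((biprod.fst : F ⊞ G ⟶ F).app p ≫ (biprod.inl : F ⟶ F ⊞ G).app p +
            (biprod.snd : F ⊞ G ⟶ G).app p ≫ (biprod.inr : G ⟶ F ⊞ G).app p) := by
          rw [biprod_total_app]
      _ = (t ≫ (biprod.fst : F ⊞ G ⟶ F).app p) ≫ (biprod.inl : F ⟶ F ⊞ G).app p +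
            (t ≫ (biprod.snd : F ⊞ G ⟶ G).app p) ≫ (biprod.inr : G ⟶ F ⊞ G).app p := by
          rw [Preadditive.comp_add]
          simp only [Category.assoc]
      _ = 0 := by rw [h1, h2, zero_comp, zero_comp, add_zero]
  · rw [IsZero.iff_id_eq_zero, ← biprod_total_app F G (op p),
      (hbF p ((le_max_left _ _).trans hp)).eq_of_tgt ((biprod.fst : F ⊞ G ⟶ F).app (op p)) 0,
      (hbG p ((le_max_right _ _).trans hp)).eq_of_tgt ((biprod.snd : F ⊞ G ⟶ G).app (op p)) 0,
      zero_comp, zero_comp, add_zero]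
  · have i1 : IsIso (F.map φ) := haF φ (hp.trans (min_le_left _ _))
    have i2 : IsIso (G.map φ) := haG φ (hp.trans (min_le_right _ _))
    refine ⟨⟨(biprod.fst : F ⊞ G ⟶ F).app q ≫ inv (F.map φ) ≫ (biprod.inl : F ⟶ F ⊞ G).app p +
      (biprod.snd : F ⊞ G ⟶ G).app q ≫ inv (G.map φ) ≫ (biprod.inr : G ⟶ F ⊞ G).app p, ?_, ?_⟩⟩
    · have e1 : (F ⊞ G).map φ ≫ (biprod.fst : F ⊞ G ⟶ F).app q ≫ inv (F.map φ) ≫
          (biprod.inl : F ⟶ F ⊞ G).app p =
          (biprod.fst : F ⊞ G ⟶ F).app p ≫ (biprod.inl : F ⟶ F ⊞ G).app p := by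
        rw [← Category.assoc, (biprod.fst : F ⊞ G ⟶ F).naturality, Category.assoc,
          IsIso.hom_inv_id_assoc]
      have e2 : (F ⊞ G).map φ ≫ (biprod.snd : F ⊞ G ⟶ G).app q ≫ inv (G.map φ) ≫
          (biprod.inr : G ⟶ F ⊞ G).app p =
          (biprod.snd : F ⊞ G ⟶ G).app p ≫ (biprod.inr : G ⟶ F ⊞ G).app p := by
        rw [← Category.assoc, (biprod.snd : F ⊞ G ⟶ G).naturality, Category.assoc,
          IsIso.hom_inv_id_assoc]
      rw [Preadditive.comp_add, e1, e2, biprod_total_app]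
    · have e3 : ((biprod.fst : F ⊞ G ⟶ F).app q ≫ inv (F.map φ) ≫
          (biprod.inl : F ⟶ F ⊞ G).app p) ≫ (F ⊞ G).map φ =
          (biprod.fst : F ⊞ G ⟶ F).app q ≫ (biprod.inl : F ⟶ F ⊞ G).app q := by
        rw [Category.assoc, Category.assoc, ← (biprod.inl : F ⟶ F ⊞ G).naturality,
          IsIso.inv_hom_id_assoc]
      have e4 : ((biprod.snd : F ⊞ G ⟶ G).app q ≫ inv (G.map φ) ≫
          (biprod.inr : G ⟶ F ⊞ G).app p) ≫ (F ⊞ G).map φ =
          (biprod.snd : F ⊞ G ⟶ G).app q ≫ (biprod.inr : G ⟶ F ⊞ G).app q := by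
        rw [Category.assoc, Category.assoc, ← (biprod.inr : G ⟶ F ⊞ G).naturality,
          IsIso.inv_hom_id_assoc]
      rw [Preadditive.add_comp, e3, e4, biprod_total_app]

end BinBiprod

instance instHasBinaryBiproductsFilF : HasBinaryBiproducts (FilD.FilF A) where
  has_binary_biproduct X Y := hasBinaryBiproduct_of_total
    { pt := ⟨X.obj ⊞ Y.obj, isFinFil_biprod X.obj Y.obj X.property Y.property⟩
      fst := ObjectProperty.homMk biprod.fst
      snd := ObjectProperty.homMk biprod.snd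
      inl := ObjectProperty.homMk biprod.inl
      inr := ObjectProperty.homMk biprod.inr
      inl_fst := by apply ObjectProperty.hom_ext; exact biprod.inl_fst
      inl_snd := by apply ObjectProperty.hom_ext; exact biprod.inl_snd
      inr_fst := by apply ObjectProperty.hom_ext; exact biprod.inr_fst
      inr_snd := by apply ObjectProperty.hom_ext; exact biprod.inr_snd }
    (by apply ObjectProperty.hom_ext; exact biprod.total)

/-! ### Cones -/

lemma exactAt_mappingCone_of_quasiIso {K' L' : CochainComplex A ℤ} (φ' : K' ⟶ L')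
    (h : QuasiIso φ') (n : ℤ) : (CochainComplex.mappingCone φ').ExactAt n := by
  have h1 : (HomotopyCategory.quasiIso A (ComplexShape.up ℤ))
      ((HomotopyCategory.quotient _ _).map φ') :=
    (HomotopyCategory.quotient_map_mem_quasiIso_iff φ').2 h
  rw [HomotopyCategory.quasiIso_eq_trW_subcategoryAcyclic] at h1
  have h2 := ((HomotopyCategory.subcategoryAcyclic A).trW_iff_of_distinguished _
    (HomotopyCategory.mappingCone_triangleh_distinguished φ')).1 h1
  exact (HomotopyCategory.quotient_obj_mem_subcategoryAcyclic_iff_exactAt _).1 h2 n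

lemma filteredAcyclic_mappingCone {K L : CochainComplex (FilD.FilF A) ℤ} (α : K ⟶ L)
    (hα : FilD.IsFilteredQuasiIso α) :
    FilD.IsFilteredAcyclic (CochainComplex.mappingCone α) := by
  intro p n
  have e := CochainComplex.mappingCone.mapHomologicalComplexIso α (FilD.grF A p)
  have hex := exactAt_mappingCone_of_quasiIso ((FilD.grCx p).map α) (hα p) n
  rw [HomologicalComplex.exactAt_iff_isZero_homology] at hex ⊢
  exact IsZero.of_iso hex ((HomologicalComplex.homologyFunctor A _ n).mapIso e)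

lemma hom_eq_zero_of_acyclic (C I' : CochainComplex (FilD.FilF A) ℤ)
    (hC : FilD.IsFilteredAcyclic C) (a' : ℤ) [I'.IsStrictlyGE a']
    (hI' : ∀ n, FilD.IsFilteredInjective (I'.X n))
    (m : (HomotopyCategory.quotient (FilD.FilF A) (ComplexShape.up ℤ)).obj C ⟶
      (HomotopyCategory.quotient (FilD.FilF A) (ComplexShape.up ℤ)).obj I') : m = 0 := by
  obtain ⟨m', rfl⟩ := (HomotopyCategory.quotient (FilD.FilF A) (ComplexShape.up ℤ)).map_surjective m
  obtain ⟨h⟩ := nullHomotopic m' hC hI' a'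
  rw [HomotopyCategory.eq_of_homotopy _ _ h, Functor.map_zero]

open Pretriangulated in
theorem precomp_bijective (I : CochainComplex (FilD.FilF A) ℤ)
    (a : ℤ) [I.IsStrictlyGE a] (hI : ∀ n, FilD.IsFilteredInjective (I.X n))
    {K L : CochainComplex (FilD.FilF A) ℤ} (α : K ⟶ L) (hα : FilD.IsFilteredQuasiIso α) :
    Function.Bijective
      (fun β : (HomotopyCategory.quotient (FilD.FilF A) (ComplexShape.up ℤ)).obj L ⟶
        (HomotopyCategory.quotient (FilD.FilF A) (ComplexShape.up ℤ)).obj I =>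
      (HomotopyCategory.quotient (FilD.FilF A) (ComplexShape.up ℤ)).map α ≫ β) := by
  have hC := filteredAcyclic_mappingCone α hα
  have hT := HomotopyCategory.mappingCone_triangleh_distinguished α
  constructor
  · intro β₁ β₂ h
    have h0 : (HomotopyCategory.quotient (FilD.FilF A) (ComplexShape.up ℤ)).map α ≫ (β₁ - β₂) = 0 := by
      rw [Preadditive.comp_sub]
      exact sub_eq_zero.mpr h
    obtain ⟨g, hg⟩ := Triangle.yoneda_exact₂ (CochainComplex.mappingCone.triangleh α) hT
      (β₁ - β₂) h0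
    have hg0 : g = 0 := hom_eq_zero_of_acyclic _ _ hC a hI g
    rw [hg0, comp_zero] at hg
    exact sub_eq_zero.mp hg
  · intro γ
    have hT₂ := rot_of_distTriang _ (rot_of_distTriang _ hT)
    have hI1 : (I⟦(1 : ℤ)⟧).IsStrictlyGE (a - 1) := I.isStrictlyGE_shift a 1 (a - 1) (by omega)
    have hz : ∀ m : (CochainComplex.mappingCone.triangleh α).obj₃ ⟶
        ((HomotopyCategory.quotient (FilD.FilF A) (ComplexShape.up ℤ)).obj I)⟦(1 : ℤ)⟧,
        m = 0 := by
      intro m
      let e := ((HomotopyCategory.quotient (FilD.FilF A) (ComplexShape.up ℤ)).commShiftIso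
        (1 : ℤ)).app I
      have h1 : m ≫ e.inv = 0 :=
        hom_eq_zero_of_acyclic _ (I⟦(1 : ℤ)⟧) hC (a - 1) (fun n => hI (n + 1)) (m ≫ e.inv)
      rw [← cancel_mono e.inv, h1, zero_comp]
    obtain ⟨g, hg⟩ : ∃ g : (shiftFunctor (HomotopyCategory (FilD.FilF A) (ComplexShape.up ℤ))
        (1 : ℤ)).obj ((HomotopyCategory.quotient (FilD.FilF A) (ComplexShape.up ℤ)).obj L) ⟶
        (shiftFunctor (HomotopyCategory (FilD.FilF A) (ComplexShape.up ℤ)) (1 : ℤ)).obj
          ((HomotopyCategory.quotient (FilD.FilF A) (ComplexShape.up ℤ)).obj I),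
        (shiftFunctor (HomotopyCategory (FilD.FilF A) (ComplexShape.up ℤ)) (1 : ℤ)).map γ =
          (-(shiftFunctor (HomotopyCategory (FilD.FilF A) (ComplexShape.up ℤ)) (1 : ℤ)).map
            ((HomotopyCategory.quotient (FilD.FilF A) (ComplexShape.up ℤ)).map α)) ≫ g := by
      obtain ⟨g, hg⟩ := Triangle.yoneda_exact₂ _ hT₂
        ((shiftFunctor (HomotopyCategory (FilD.FilF A) (ComplexShape.up ℤ)) (1 : ℤ)).map γ) (hz _)
      exact ⟨g, hg⟩
    obtain ⟨g₀, rfl⟩ := (shiftFunctor (HomotopyCategory (FilD.FilF A) (ComplexShape.up ℤ))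
      (1 : ℤ)).map_surjective g
    refine ⟨-g₀, (shiftFunctor (HomotopyCategory (FilD.FilF A) (ComplexShape.up ℤ))
      (1 : ℤ)).map_injective ?_⟩
    show (shiftFunctor _ (1 : ℤ)).map
      ((HomotopyCategory.quotient (FilD.FilF A) (ComplexShape.up ℤ)).map α ≫ (-g₀)) = _
    rw [Functor.map_comp, Functor.map_neg, Preadditive.comp_neg, hg, Preadditive.neg_comp]

theorem resolution_map {X Y : FilD.FilF A} (f : X ⟶ Y)
    (I : CochainComplex (FilD.FilF A) ℤ)
    (a : (CochainComplex.singleFunctor (FilD.FilF A) 0).obj X ⟶ I)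
    (ha : FilD.IsFilteredQuasiIso a)
    (J : CochainComplex (FilD.FilF A) ℤ) [J.IsStrictlyGE 0]
    (hJ : ∀ n, FilD.IsFilteredInjective (J.X n))
    (b : (CochainComplex.singleFunctor (FilD.FilF A) 0).obj Y ⟶ J) :
    ∃ φ : I ⟶ J, a ≫ φ = (CochainComplex.singleFunctor (FilD.FilF A) 0).map f ≫ b := by
  obtain ⟨β, hβ⟩ := (precomp_bijective J 0 hJ a ha).2
    ((HomotopyCategory.quotient _ _).map ((CochainComplex.singleFunctor (FilD.FilF A) 0).map f ≫ b))
  obtain ⟨φ, rfl⟩ := (HomotopyCategory.quotient (FilD.FilF A) (ComplexShape.up ℤ)).map_surjective β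
  refine ⟨φ, ?_⟩
  have hβ' : (HomotopyCategory.quotient _ _).map (a ≫ φ) = (HomotopyCategory.quotient _ _).map
      ((CochainComplex.singleFunctor (FilD.FilF A) 0).map f ≫ b) := by
    rw [Functor.map_comp]
    exact hβ
  have h := HomotopyCategory.homotopyOfEq _ _ hβ'
  ext i : 1
  rw [h.comm i]
  have h1 : dNext i h.hom = 0 := by
    rw [dNext_eq _ (show (ComplexShape.up ℤ).Rel i (i + 1) from rfl)]
    have hd : ((CochainComplex.singleFunctor (FilD.FilF A) 0).obj X).d i (i + 1) = 0 := rfl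
    rw [hd, zero_comp]
  have h2 : prevD i h.hom = 0 := by
    rw [prevD_eq _ (show (ComplexShape.up ℤ).Rel (i - 1) i from by simp)]
    by_cases hi : i = 0
    · subst hi
      have hz : IsZero (J.X (0 - 1)) := CochainComplex.isZero_of_isStrictlyGE J 0 _ (by omega)
      rw [hz.eq_of_tgt (h.hom 0 (0 - 1)) 0, zero_comp]
    · have hz : IsZero (((CochainComplex.singleFunctor (FilD.FilF A) 0).obj X).X i) :=
        HomologicalComplex.isZero_single_obj_X _ _ _ _ hi
      rw [hz.eq_of_src (h.hom i (i - 1)) 0, zero_comp]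
  rw [h1, h2, zero_add, zero_add]

end FilDLib
end Groth.Agent.H90
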