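import Mathlib
import Groth.Prelude.Def_FilD
import Groth.Agent.H90.FilDBasic
import Groth.Agent.H90.FilDExt
import Groth.Agent.H90.FilDEmbed

/-!
# Filtered injective resolutions of a single finite filtered object
-/

universe v u

open CategoryTheory CategoryTheory.Limits Opposite ZeroObject

namespace Groth.Agent.H90
namespace FilDLib

set_option linter.unusedSectionVars false

variable {A : Type u} [Category.{v} A] [Abelian A]

/-! ### General lemmas on graded pieces -/

section GrLemmas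

variable {F G C : ℤᵒᵖ ⥤ A}

lemma gr_mono_of_strictLift (u : F ⟶ G) (hu : StrictLift u)
    (hmono : ∀ p : ℤ, Mono (u.app (op p))) (p : ℤ) : Mono ((FilD.gr A p).map u) := by
  apply Preadditive.mono_of_cancel_zero
  intro T xb hxb
  obtain ⟨T₁, π₁, hπ₁, x, hx⟩ := surjective_up_to_refinements_of_epi (grπ F p) xb
  have h0 : (x ≫ u.app (op p)) ≫ grπ G p = 0 := by
    rw [Category.assoc, ← grπ_naturality, ← Category.assoc, ← hx, Category.assoc, hxb, comp_zero]
  obtain ⟨T₂, π₂, hπ₂, y, hy⟩ := lift_step p _ h0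
  obtain ⟨T₃, π₃, hπ₃, x', hx'⟩ := hu p (p + 1) (by omega) (π₂ ≫ x) y
    (by rw [Category.assoc]; exact hy)
  have := hmono p
  have h1 : π₃ ≫ π₂ ≫ x = x' ≫ F.map (FilD.stepHom p) := by
    rw [← cancel_mono (u.app (op p)), Category.assoc, Category.assoc, Category.assoc,
      u.naturality, ← Category.assoc x', ← hx', Category.assoc,
      show π₂ ≫ x ≫ u.app (op p) = y ≫ G.map (FilD.stepHom p) from hy]
  have h2 : (π₃ ≫ π₂ ≫ π₁) ≫ xb = 0 := by
    calc (π₃ ≫ π₂ ≫ π₁) ≫ xb = π₃ ≫ π₂ ≫ (π₁ ≫ xb) := by simp only [Category.assoc]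
      _ = (π₃ ≫ π₂ ≫ x) ≫ grπ F p := by rw [hx]; simp only [Category.assoc]
      _ = 0 := by rw [h1, Category.assoc, step_grπ, comp_zero]
  exact (cancel_epi (π₃ ≫ π₂ ≫ π₁)).mp (h2.trans comp_zero.symm)

lemma grExact_of_levExact (u : F ⟶ G) (π : G ⟶ C)
    (hπ : ∀ p : ℤ, Epi (π.app (op p))) (hex : ∀ p, LevExact u π p) (p : ℤ) :
    GrExact u π p := by
  intro T yb hyb
  obtain ⟨T₁, π₁, hπ₁, y, hy⟩ := surjective_up_to_refinements_of_epi (grπ G p) yb
  have h0 : (y ≫ π.app (op p)) ≫ grπ C p = 0 := by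
    rw [Category.assoc, ← grπ_naturality, ← Category.assoc, ← hy, Category.assoc, hyb, comp_zero]
  obtain ⟨T₂, π₂, hπ₂, c, hc⟩ := lift_step p _ h0
  have := hπ (p + 1)
  obtain ⟨T₃, π₃, hπ₃, y', hy'⟩ := surjective_up_to_refinements_of_epi (π.app (op (p + 1))) c
  have h1 : (π₃ ≫ π₂ ≫ y - y' ≫ G.map (FilD.stepHom p)) ≫ π.app (op p) = 0 := by
    rw [Preadditive.sub_comp, Category.assoc, Category.assoc, Category.assoc, π.naturality,
      ← Category.assoc y', ← hy', Category.assoc,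
      show π₂ ≫ y ≫ π.app (op p) = c ≫ C.map (FilD.stepHom p) from hc, sub_self]
  obtain ⟨T₄, π₄, hπ₄, x, hx⟩ := hex p _ h1
  refine ⟨T₄, π₄ ≫ π₃ ≫ π₂ ≫ π₁, inferInstance, x ≫ grπ F p, ?_⟩
  have e2 : (x ≫ grπ F p) ≫ (FilD.gr A p).map u = π₄ ≫ π₃ ≫ π₂ ≫ y ≫ grπ G p := by
    rw [Category.assoc, grπ_naturality, ← Category.assoc, ← hx, Preadditive.comp_sub,
      Preadditive.sub_comp]
    simp only [Category.assoc, step_grπ, comp_zero, sub_zero]
  rw [e2]
  simp only [Category.assoc]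
  rw [hy]

lemma gr_epi_of_epi (π : G ⟶ C) (hπ : ∀ p : ℤ, Epi (π.app (op p))) (p : ℤ) :
    Epi ((FilD.gr A p).map π) := by
  have := hπ p
  have h : grπ G p ≫ (FilD.gr A p).map π = π.app (op p) ≫ grπ C p := grπ_naturality π p
  have : Epi (π.app (op p) ≫ grπ C p) := epi_comp _ _
  exact epi_of_epi_fac h

end GrLemmas

/-! ### Cokernels of strict monomorphisms -/

section Coker

variable {X Y : FilD.FilF A} (u : X ⟶ Y)

lemma coker_levExact (p : ℤ) : LevExact u.hom (cokernel.π u.hom) p := by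
  intro T y hy
  have hc := CokernelCofork.mapIsColimit _ (cokernelIsCokernel u.hom)
    ((evaluation ℤᵒᵖ A).obj (op p))
  exact (CokernelCofork.IsColimit.comp_π_eq_zero_iff_up_to_refinements hc y).1 hy

lemma isFinFil_coker (hu : StrictLift u.hom) : FilD.IsFinFil A (cokernel u.hom) := by
  have hmono : ∀ {p q : ℤ} (h : p ≤ q), Mono (tr (cokernel u.hom) h) := by
    intro p q h
    apply Preadditive.mono_of_cancel_zero
    intro T c hc
    obtain ⟨T₁, π₁, hπ₁, y, hy⟩ :=
      surjective_up_to_refinements_of_epi ((cokernel.π u.hom).app (op q)) c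
    have h0 : (y ≫ tr Y.obj h) ≫ (cokernel.π u.hom).app (op p) = 0 := by
      rw [Category.assoc, (cokernel.π u.hom).naturality, ← Category.assoc, ← hy, Category.assoc, hc,
        comp_zero]
    obtain ⟨T₂, π₂, hπ₂, x, hx⟩ := coker_levExact u p _ h0
    obtain ⟨T₃, π₃, hπ₃, x', hx'⟩ := hu p q h x (π₂ ≫ y)
      (by rw [← hx, Category.assoc])
    have h2 : (π₃ ≫ π₂ ≫ π₁) ≫ c = 0 := by
      calc (π₃ ≫ π₂ ≫ π₁) ≫ c = π₃ ≫ π₂ ≫ (π₁ ≫ c) := by simp only [Category.assoc]
        _ = (π₃ ≫ π₂ ≫ y) ≫ (cokernel.π u.hom).app (op q) := by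
            rw [hy]; simp only [Category.assoc]
        _ = 0 := by
            rw [hx', Category.assoc,
              w_app u.hom (cokernel.π u.hom) (cokernel.condition u.hom), comp_zero]
    exact (cancel_epi (π₃ ≫ π₂ ≫ π₁)).mp (h2.trans comp_zero.symm)
  obtain ⟨bY, hbY⟩ := Y.property.2.1
  obtain ⟨aY, haY⟩ := Y.property.2.2
  refine ⟨fun {p q} φ => ?_, ⟨bY, fun p hp => ?_⟩, ⟨aY, fun {p q} φ hp => ?_⟩⟩
  · obtain ⟨q'⟩ := p
    obtain ⟨p'⟩ := q
    rw [map_eq_tr (cokernel u.hom) φ]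
    exact hmono _
  · exact IsZero.of_epi ((cokernel.π u.hom).app (op p)) (hbY p hp)
  · obtain ⟨q'⟩ := p
    obtain ⟨p'⟩ := q
    have hm : Mono ((cokernel u.hom).map φ) := by
      rw [map_eq_tr (cokernel u.hom) φ]
      exact hmono _
    have hi : IsIso (Y.obj.map φ) := haY φ hp
    have hnat : (cokernel.π u.hom).app (op q') ≫ (cokernel u.hom).map φ =
        Y.obj.map φ ≫ (cokernel.π u.hom).app (op p') := ((cokernel.π u.hom).naturality φ).symm
    have : Epi (Y.obj.map φ ≫ (cokernel.π u.hom).app (op p')) := epi_comp _ _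
    have he : Epi ((cokernel u.hom).map φ) := epi_of_epi_fac hnat
    exact isIso_of_mono_of_epi _

end Coker

/-! ### Chosen embeddings -/

/-- a strict embedding into a filtered injective object. -/
structure Emb (C : FilD.FilF A) where
  I : FilD.FilF A
  u : C ⟶ I
  inj : FilD.IsFilteredInjective I
  mono : Mono u
  strict : FilD.IsStrict u

/-- a chosen embedding. -/
noncomputable def emb [EnoughInjectives A] (C : FilD.FilF A) : Emb C :=
  ⟨(exists_embedding C).choose, (exists_embedding C).choose_spec.choose,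
    (exists_embedding C).choose_spec.choose_spec.1,
    (exists_embedding C).choose_spec.choose_spec.2.1,
    (exists_embedding C).choose_spec.choose_spec.2.2⟩

namespace Emb

variable {C : FilD.FilF A} (e : Emb C)

lemma strictLift : StrictLift e.u.hom := strictLift_of_isStrict e.strict

lemma mono_app (p : ℤ) : Mono (e.u.hom.app (op p)) :=
  have := e.mono
  FilDLib.mono_app e.u p

/-- the cokernel of the embedding, as a finite filtered object. -/
noncomputable def coker : FilD.FilF A := ⟨cokernel e.u.hom, isFinFil_coker e.u e.strictLift⟩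

/-- the projection to the cokernel. -/
noncomputable def π : e.I ⟶ e.coker := ObjectProperty.homMk (cokernel.π e.u.hom)

lemma u_π : e.u ≫ e.π = 0 := by
  apply ObjectProperty.hom_ext
  exact cokernel.condition e.u.hom

lemma π_epi_app (p : ℤ) : Epi (e.π.hom.app (op p)) :=
  inferInstanceAs (Epi ((cokernel.π e.u.hom).app (op p)))

lemma gr_u_mono (p : ℤ) : Mono ((FilD.gr A p).map e.u.hom) :=
  gr_mono_of_strictLift e.u.hom e.strictLift e.mono_app p

lemma grExact (p : ℤ) : GrExact e.u.hom e.π.hom p :=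
  grExact_of_levExact e.u.hom e.π.hom e.π_epi_app (fun p => coker_levExact e.u p) p

lemma gr_π_epi (p : ℤ) : Epi ((FilD.gr A p).map e.π.hom) :=
  gr_epi_of_epi e.π.hom e.π_epi_app p

end Emb

/-! ### The resolution -/

section Resolution

variable [EnoughInjectives A] (X : FilD.FilF A)

/-- the successive cokernels. -/
noncomputable def Cseq : ℕ → FilD.FilF A
  | 0 => X
  | n + 1 => (emb (Cseq n)).coker

/-- the chosen embedding at stage `n`. -/
noncomputable abbrev Eseq (n : ℕ) : Emb (Cseq X n) := emb (Cseq X n)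

/-- the terms of the resolution. -/
noncomputable abbrev Iseq (n : ℕ) : FilD.FilF A := (Eseq X n).I

/-- the projection to the next cokernel. -/
noncomputable def πseq (n : ℕ) : Iseq X n ⟶ Cseq X (n + 1) := (Eseq X n).π

lemma u_πseq (n : ℕ) : (Eseq X n).u ≫ πseq X n = 0 := (Eseq X n).u_π

lemma gr_πseq_epi (n : ℕ) (p : ℤ) : Epi ((FilD.gr A p).map (πseq X n).hom) :=
  (Eseq X n).gr_π_epi p

lemma grExact_seq (n : ℕ) (p : ℤ) : GrExact (Eseq X n).u.hom (πseq X n).hom p :=
  (Eseq X n).grExact p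

/-- the differentials of the resolution. -/
noncomputable def dseq (n : ℕ) : Iseq X n ⟶ Iseq X (n + 1) :=
  πseq X n ≫ (Eseq X (n + 1)).u

lemma dseq_hom (n : ℕ) : (dseq X n).hom = (πseq X n).hom ≫ (Eseq X (n + 1)).u.hom := rfl

lemma dseq_comp (n : ℕ) : dseq X n ≫ dseq X (n + 1) = 0 := by
  unfold dseq
  rw [Category.assoc, ← Category.assoc (Eseq X (n + 1)).u, u_πseq, zero_comp, comp_zero]

lemma u_dseq : (Eseq X 0).u ≫ dseq X 0 = 0 := by
  unfold dseq
  rw [← Category.assoc, u_πseq, zero_comp]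

lemma grExact_dseq (n : ℕ) (p : ℤ) : GrExact (dseq X n).hom (dseq X (n + 1)).hom p := by
  intro T yb hyb
  have hm := (Eseq X (n + 1 + 1)).gr_u_mono p
  have he := gr_πseq_epi X n p
  rw [dseq_hom, Functor.map_comp, ← Category.assoc] at hyb
  have h3 : yb ≫ (FilD.gr A p).map (πseq X (n + 1)).hom = 0 := by
    rw [← cancel_mono ((FilD.gr A p).map (Eseq X (n + 1 + 1)).u.hom), hyb, zero_comp]
  obtain ⟨T₁, π₁, hπ₁, xb, hxb⟩ := grExact_seq X (n + 1) p yb h3
  obtain ⟨T₂, π₂, hπ₂, zb, hzb⟩ :=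
    surjective_up_to_refinements_of_epi ((FilD.gr A p).map (πseq X n).hom) xb
  refine ⟨T₂, π₂ ≫ π₁, epi_comp _ _, zb, ?_⟩
  rw [dseq_hom, Functor.map_comp, ← Category.assoc, ← hzb, Category.assoc, Category.assoc, hxb]

lemma grExact_u_dseq (p : ℤ) : GrExact (Eseq X 0).u.hom (dseq X 0).hom p := by
  intro T yb hyb
  have hm := (Eseq X (0 + 1)).gr_u_mono p
  rw [dseq_hom, Functor.map_comp, ← Category.assoc] at hyb
  have h3 : yb ≫ (FilD.gr A p).map (πseq X 0).hom = 0 := by
    rw [← cancel_mono ((FilD.gr A p).map (Eseq X (0 + 1)).u.hom), hyb, zero_comp]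
  exact grExact_seq X 0 p yb h3

/-- the terms of the `ℤ`-indexed resolution. -/
noncomputable def IX : ℤ → FilD.FilF A
  | Int.ofNat m => Iseq X m
  | Int.negSucc _ => 0

/-- the differentials of the `ℤ`-indexed resolution. -/
noncomputable def Id : ∀ n : ℤ, IX X n ⟶ IX X (n + 1)
  | Int.ofNat m => (show Iseq X m ⟶ Iseq X (m + 1) from dseq X m)
  | Int.negSucc _ => 0

lemma Id_sq : ∀ n : ℤ, Id X n ≫ Id X (n + 1) = 0
  | Int.ofNat m => (show dseq X m ≫ dseq X (m + 1) = 0 from dseq_comp X m)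
  | Int.negSucc _ => zero_comp

/-- the resolution as a cochain complex. -/
noncomputable def Icx : CochainComplex (FilD.FilF A) ℤ :=
  CochainComplex.of (IX X) (Id X) (Id_sq X)

lemma Icx_d (m : ℕ) : (Icx X).d (m : ℤ) ((m : ℤ) + 1) = dseq X m :=
  CochainComplex.of_d (IX X) (Id X) (m : ℤ)

lemma Icx_isZero (n : ℤ) (hn : n < 0) : IsZero ((Icx X).X n) := by
  cases n with
  | ofNat m => exact absurd hn (by simp)
  | negSucc m => exact isZero_zero _

instance : (Icx X).IsStrictlyGE 0 := by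
  rw [CochainComplex.isStrictlyGE_iff]
  intro i hi
  exact Icx_isZero X i hi

lemma Icx_filtInj (n : ℤ) : FilD.IsFilteredInjective ((Icx X).X n) := by
  cases n with
  | ofNat m => exact (Eseq X m).inj
  | negSucc m =>
    intro p
    exact ((FilD.grF A p).map_isZero (isZero_zero (FilD.FilF A))).injective

/-- the degree zero component of the augmentation. -/
noncomputable def u0 : X ⟶ (Icx X).X 0 := (Eseq X 0).u

lemma Icx_d_zero : (Icx X).d 0 1 = dseq X 0 := Icx_d X 0

lemma u0_d : u0 X ≫ (Icx X).d 0 1 = 0 := by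
  rw [Icx_d_zero]
  exact u_dseq X

/-- the augmentation. -/
noncomputable def Iaug : (CochainComplex.singleFunctor (FilD.FilF A) 0).obj X ⟶ Icx X :=
  HomologicalComplex.mkHomFromSingle (K := Icx X) (j := (0 : ℤ)) (u0 X) (by
    intro k hk
    have hk' : k = 1 := by
      have : (0 : ℤ) + 1 = k := hk
      omega
    subst hk'
    exact u0_d X)

end Resolution

/-! ### The augmentation is a filtered quasi-isomorphism -/

section QI

variable [EnoughInjectives A] (X : FilD.FilF A)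

lemma Iaug_f_zero : (Iaug X).f 0 =
    (HomologicalComplex.singleObjXSelf (ComplexShape.up ℤ) 0 X).hom ≫ u0 X :=
  HomologicalComplex.mkHomFromSingle_f _ _

lemma Icx_d_succ (m : ℕ) : (Icx X).d ((m : ℤ) + 1) ((m : ℤ) + 1 + 1) = dseq X (m + 1) :=
  Icx_d X (m + 1)

lemma single_gr_exactAt (p n : ℤ) (hn : n ≠ 0) :
    ((FilD.grCx p).obj ((CochainComplex.singleFunctor (FilD.FilF A) 0).obj X)).ExactAt n := by
  apply ShortComplex.exact_of_isZero_X₂
  exact (FilD.grF A p).map_isZero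
    (HomologicalComplex.isZero_single_obj_X (ComplexShape.up ℤ) 0 X n hn)

lemma Icx_gr_exactAt_neg (p n : ℤ) (hn : n < 0) : ((FilD.grCx p).obj (Icx X)).ExactAt n := by
  apply ShortComplex.exact_of_isZero_X₂
  exact (FilD.grF A p).map_isZero (Icx_isZero X n hn)

lemma Icx_gr_exactAt_succ (p : ℤ) (m : ℕ) :
    ((FilD.grCx p).obj (Icx X)).ExactAt ((m : ℤ) + 1) := by
  rw [HomologicalComplex.exactAt_iff' _ (m : ℤ) ((m : ℤ) + 1) ((m : ℤ) + 1 + 1)
    (by simp) (by simp), ShortComplex.exact_iff_exact_up_to_refinements]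
  intro T y hy
  have h : GrExact ((Icx X).d (m : ℤ) ((m : ℤ) + 1)).hom
      ((Icx X).d ((m : ℤ) + 1) ((m : ℤ) + 1 + 1)).hom p := by
    rw [Icx_d, Icx_d_succ]
    exact grExact_dseq X m p
  exact h y hy

lemma Iaug_gr_f_zero (p : ℤ) :
    ((FilD.grCx p).map (Iaug X)).f 0 =
      ((FilD.grF A p).mapIso
        (HomologicalComplex.singleObjXSelf (ComplexShape.up ℤ) 0 X)).hom ≫
        (FilD.gr A p).map (Eseq X 0).u.hom := by
  exact (congrArg (fun f => (FilD.grF A p).map f) (Iaug_f_zero X)).trans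
    ((FilD.grF A p).map_comp _ _)

lemma Iaug_quasiIsoAt_zero (p : ℤ) : QuasiIsoAt ((FilD.grCx p).map (Iaug X)) 0 := by
  rw [quasiIsoAt_iff' _ (-1) 0 1 (by simp) (by simp)]
  refine (ShortComplex.quasiIso_iff_of_zeros _ ?_ ?_ ?_).2 ⟨?_, ?_⟩
  · show (FilD.grF A p).map
      (((CochainComplex.singleFunctor (FilD.FilF A) 0).obj X).d (-1) 0) = 0
    exact (FilD.grF A p).map_zero _ _
  · show (FilD.grF A p).map
      (((CochainComplex.singleFunctor (FilD.FilF A) 0).obj X).d 0 1) = 0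
    exact (FilD.grF A p).map_zero _ _
  · apply IsZero.eq_of_src
    exact (FilD.grF A p).map_isZero (Icx_isZero X (-1) (by omega))
  · rw [ShortComplex.exact_iff_exact_up_to_refinements]
    intro T y hy
    have hy' : y ≫ (FilD.gr A p).map (dseq X 0).hom = 0 := by
      rw [← Icx_d_zero]
      exact hy
    obtain ⟨T', π, hπ, x, hx⟩ := grExact_u_dseq X p y hy'
    refine ⟨T', π, hπ, x ≫ ((FilD.grF A p).mapIso
        (HomologicalComplex.singleObjXSelf (ComplexShape.up ℤ) 0 X)).inv, ?_⟩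
    have e : (x ≫ ((FilD.grF A p).mapIso
        (HomologicalComplex.singleObjXSelf (ComplexShape.up ℤ) 0 X)).inv) ≫
        ((FilD.grCx p).map (Iaug X)).f 0 = x ≫ (FilD.gr A p).map (Eseq X 0).u.hom := by
      rw [Iaug_gr_f_zero, Category.assoc]
      exact congrArg (fun z => x ≫ z) (Iso.inv_hom_id_assoc _ _)
    exact hx.trans e.symm
  · show Mono (((FilD.grCx p).map (Iaug X)).f 0)
    rw [Iaug_gr_f_zero]
    exact @mono_comp _ _ _ _ _ _ inferInstance _ ((Eseq X 0).gr_u_mono p)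

theorem Iaug_filteredQuasiIso : FilD.IsFilteredQuasiIso (Iaug X) := by
  intro p
  refine ⟨fun n => ?_⟩
  by_cases hn : n = 0
  · subst hn
    exact Iaug_quasiIsoAt_zero X p
  · rw [quasiIsoAt_iff_exactAt _ n (single_gr_exactAt X p n hn)]
    by_cases hneg : n < 0
    · exact Icx_gr_exactAt_neg X p n hneg
    · obtain ⟨m, rfl⟩ : ∃ m : ℕ, n = (m : ℤ) + 1 := ⟨(n - 1).toNat, by omega⟩
      exact Icx_gr_exactAt_succ X p m

theorem exists_resolution_single :
    ∃ (I : CochainComplex (FilD.FilF A) ℤ)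
      (φ : (CochainComplex.singleFunctor (FilD.FilF A) 0).obj X ⟶ I), I.IsStrictlyGE 0 ∧
      (∀ n, FilD.IsFilteredInjective (I.X n)) ∧ FilD.IsFilteredQuasiIso φ :=
  ⟨Icx X, Iaug X, inferInstance, Icx_filtInj X, Iaug_filteredQuasiIso X⟩

end QI

end FilDLib
end Groth.Agent.H90
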