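import Mathlib
import Groth.Prelude.Def_FilD
import Groth.Agent.H90.FilDBasic
import Groth.Agent.H90.FilDHtpy
import Groth.Agent.H90.FilDRes

/-!
# Kernels in `Fil^f(A)` and the canonical truncation `τ≤b` of a filtered complex
-/

universe v u

open CategoryTheory CategoryTheory.Limits Opposite ZeroObject

namespace Groth.Agent.H90
namespace FilDLib

set_option linter.unusedSectionVars false

variable {A : Type u} [Category.{v} A] [Abelian A]

/-! ### Zero and identity are strict -/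

lemma strictLift_zero (F G : ℤᵒᵖ ⥤ A) (hG : ∀ (p q : ℤ) (h : p ≤ q), Mono (tr G h)) :
    StrictLift (0 : F ⟶ G) := by
  intro p q h T x y e
  have := hG p q h
  have hy : y = 0 := by
    rw [← cancel_mono (tr G h), ← e, zero_comp]
    exact comp_zero
  exact ⟨T, 𝟙 T, inferInstance, 0, by rw [hy, comp_zero, zero_comp]⟩

lemma strictLift_id (F : ℤᵒᵖ ⥤ A) : StrictLift (𝟙 F) := by
  intro p q h T x y e
  refine ⟨T, 𝟙 T, inferInstance, y, ?_⟩
  rw [Category.id_comp]
  exact (Category.comp_id y).symm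

/-! ### Kernels -/

section Ker

variable {X Y : FilD.FilF A} (u : X ⟶ Y)

lemma kernel_ι_app_mono (q : ℤᵒᵖ) : Mono ((kernel.ι u.hom).app q) :=
  (NatTrans.mono_iff_mono_app (kernel.ι u.hom)).1 inferInstance q

lemma ker_lev_lift (p : ℤ) {T : A} (x : T ⟶ X.obj.obj (op p))
    (hx : x ≫ u.hom.app (op p) = 0) :
    ∃ k : T ⟶ (kernel u.hom).obj (op p), k ≫ (kernel.ι u.hom).app (op p) = x := by
  have hc := KernelFork.mapIsLimit _ (kernelIsKernel u.hom) ((evaluation ℤᵒᵖ A).obj (op p))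
  exact ⟨(KernelFork.IsLimit.lift' hc x hx).1, (KernelFork.IsLimit.lift' hc x hx).2⟩

lemma isFinFil_kernel : FilD.IsFinFil A (kernel u.hom) := by
  have hι : ∀ q : ℤᵒᵖ, Mono ((kernel.ι u.hom).app q) := kernel_ι_app_mono u
  have hmono : ∀ ⦃p q : ℤᵒᵖ⦄ (φ : p ⟶ q), Mono ((kernel u.hom).map φ) := by
    intro p q φ
    have := hι p
    have := X.property.1 φ
    have hnat : (kernel u.hom).map φ ≫ (kernel.ι u.hom).app q =
        (kernel.ι u.hom).app p ≫ X.obj.map φ := (kernel.ι u.hom).naturality φ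
    have : Mono ((kernel.ι u.hom).app p ≫ X.obj.map φ) := mono_comp _ _
    exact mono_of_mono_fac hnat
  obtain ⟨bX, hbX⟩ := X.property.2.1
  obtain ⟨aX, haX⟩ := X.property.2.2
  refine ⟨hmono, ⟨bX, fun p hp => ?_⟩, ⟨aX, fun {p q} φ hp => ?_⟩⟩
  · have := hι (op p)
    exact IsZero.of_mono ((kernel.ι u.hom).app (op p)) (hbX p hp)
  · have hm := hmono φ
    have hi : IsIso (X.obj.map φ) := haX φ hp
    have hYm : Mono (Y.obj.map φ) := Y.property.1 φ
    obtain ⟨p'⟩ := p
    obtain ⟨q'⟩ := q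
    obtain ⟨x, hxdef⟩ : ∃ x : (kernel u.hom).obj (op q') ⟶ X.obj.obj (op p'),
        x = (kernel.ι u.hom).app (op q') ≫ inv (X.obj.map φ) := ⟨_, rfl⟩
    have hxφ : x ≫ X.obj.map φ = (kernel.ι u.hom).app (op q') := by
      rw [hxdef, Category.assoc, IsIso.inv_hom_id, Category.comp_id]
    have hx : x ≫ u.hom.app (op p') = 0 := by
      rw [← cancel_mono (Y.obj.map φ), zero_comp, Category.assoc, ← u.hom.naturality φ,
        ← Category.assoc, hxφ]
      exact w_app (kernel.ι u.hom) u.hom (kernel.condition u.hom) (op q')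
    obtain ⟨k, hk⟩ := ker_lev_lift u p' x hx
    have hk2 : k ≫ (kernel u.hom).map φ = 𝟙 _ := by
      have := hι (op q')
      rw [← cancel_mono ((kernel.ι u.hom).app (op q')), Category.assoc,
        (kernel.ι u.hom).naturality φ, ← Category.assoc, hk, hxφ, Category.id_comp]
    have he : Epi ((kernel u.hom).map φ) := epi_of_epi_fac hk2
    exact isIso_of_mono_of_epi _

/-- the kernel of a morphism of finite filtered objects. -/
noncomputable def kerF : FilD.FilF A := ⟨kernel u.hom, isFinFil_kernel u⟩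

/-- the inclusion of the kernel. -/
noncomputable def kerι : kerF u ⟶ X := ObjectProperty.homMk (kernel.ι u.hom)

lemma kerι_comp : kerι u ≫ u = 0 := by
  apply ObjectProperty.hom_ext
  exact kernel.condition u.hom

lemma kerι_comp_of_eq (v : X ⟶ Y) (h : u = v) : kerι u ≫ v = 0 := by
  subst h
  exact kerι_comp u

/-- lifting to the kernel. -/
noncomputable def kerLift {W : FilD.FilF A} (f : W ⟶ X) (hf : f ≫ u = 0) : W ⟶ kerF u :=
  ObjectProperty.homMk (kernel.lift u.hom f.hom (congrArg (fun φ => φ.hom) hf))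

@[reassoc]
lemma kerLift_ι {W : FilD.FilF A} (f : W ⟶ X) (hf : f ≫ u = 0) :
    kerLift u f hf ≫ kerι u = f := by
  apply ObjectProperty.hom_ext
  exact kernel.lift_ι u.hom f.hom _

instance kerι_mono : Mono (kerι u) := by
  constructor
  intro W g h e
  apply ObjectProperty.hom_ext
  have e' : g.hom ≫ kernel.ι u.hom = h.hom ≫ kernel.ι u.hom := congrArg (fun φ => φ.hom) e
  exact (cancel_mono (kernel.ι u.hom)).1 e'

lemma strictLift_kerι : StrictLift (kerι u).hom := by
  intro p q h T x y e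
  have hYm : Mono (tr Y.obj h) := Y.property.1 _
  have hy : y ≫ u.hom.app (op q) = 0 := by
    rw [← cancel_mono (tr Y.obj h), Category.assoc, zero_comp, ← u.hom.naturality,
      ← Category.assoc, ← e, Category.assoc,
      w_app (kerι u).hom u.hom (kernel.condition u.hom), comp_zero]
  obtain ⟨k, hk⟩ := ker_lev_lift u q y hy
  exact ⟨T, 𝟙 T, inferInstance, k, by rw [Category.id_comp]; exact hk.symm⟩

lemma gr_kerι_mono (p : ℤ) : Mono ((FilD.gr A p).map (kerι u).hom) :=
  gr_mono_of_strictLift (kerι u).hom (strictLift_kerι u)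
    (fun q => kernel_ι_app_mono u (op q)) p

lemma grExact_kerι (hu : StrictLift u.hom) (p : ℤ) : GrExact (kerι u).hom u.hom p :=
  grExact_of_strictLift (kernel.condition u.hom) (fun q _ x hx => ker_lev_lift u q x hx) hu p

end Ker

/-! ### Exactness from vanishing of homology of graded pieces -/

lemma grExact_of_isZero_homology (K : CochainComplex (FilD.FilF A) ℤ) (p i j k : ℤ)
    (hij : i + 1 = j) (hjk : j + 1 = k)
    (h : IsZero (((FilD.grCx p).obj K).homology j)) :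
    GrExact (K.d i j).hom (K.d j k).hom p := by
  have h' : ((FilD.grCx p).obj K).ExactAt j := by
    rwa [HomologicalComplex.exactAt_iff_isZero_homology]
  rw [HomologicalComplex.exactAt_iff' _ i j k (by rw [CochainComplex.prev]; omega)
    (by rw [CochainComplex.next]; omega)] at h'
  intro T y hy
  exact h'.exact_up_to_refinements y hy

/-! ### The truncation `τ≤b` -/

section TruncLE

variable (K : CochainComplex (FilD.FilF A) ℤ) (b : ℤ)

/-- the differential in degree `b`, zero elsewhere. -/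
noncomputable def tu1 (n : ℤ) : K.X n ⟶ K.X (n + 1) := if n = b then K.d n (n + 1) else 0

lemma tu1_of_eq (n : ℤ) (h : n = b) : tu1 K b n = K.d n (n + 1) := if_pos h

lemma tu1_of_ne (n : ℤ) (h : n ≠ b) : tu1 K b n = 0 := if_neg h

/-- cycles in degree `b`, everything elsewhere. -/
noncomputable abbrev tZ (n : ℤ) : FilD.FilF A := kerF (tu1 K b n)

/-- the inclusion. -/
noncomputable abbrev tj (n : ℤ) : tZ K b n ⟶ K.X n := kerι (tu1 K b n)

/-- zero in degrees `≤ b`, the identity above. -/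
noncomputable def tu2 (n : ℤ) : tZ K b n ⟶ tZ K b n := if n ≤ b then 0 else 𝟙 _

lemma tu2_of_le (n : ℤ) (h : n ≤ b) : tu2 K b n = 0 := if_pos h

lemma tu2_of_lt (n : ℤ) (h : b < n) : tu2 K b n = 𝟙 _ := if_neg (by omega)

/-- the terms of the truncation. -/
noncomputable abbrev tM (n : ℤ) : FilD.FilF A := kerF (tu2 K b n)

/-- the inclusion of the truncation. -/
noncomputable def tι (n : ℤ) : tM K b n ⟶ K.X n := kerι (tu2 K b n) ≫ tj K b n

instance tι_mono (n : ℤ) : Mono (tι K b n) := by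
  unfold tι
  exact mono_comp _ _

lemma d_comp_tu1 (n : ℤ) : K.d n (n + 1) ≫ tu1 K b (n + 1) = 0 := by
  by_cases h : n + 1 = b
  · rw [tu1_of_eq K b (n + 1) h, K.d_comp_d]
  · rw [tu1_of_ne K b (n + 1) h, comp_zero]

lemma tj_comp_d (n : ℤ) (h : n = b) : tj K b n ≫ K.d n (n + 1) = 0 :=
  kerι_comp_of_eq (tu1 K b n) (K.d n (n + 1)) (tu1_of_eq K b n h)

lemma kerι_tu2_eq_zero (n : ℤ) (h : b < n) : kerι (tu2 K b n) = 0 := by
  have e := kerι_comp_of_eq (tu2 K b n) (𝟙 _) (tu2_of_lt K b n h)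
  rwa [Category.comp_id] at e

lemma tι_d_zero (n : ℤ) (h : b ≤ n) : tι K b n ≫ K.d n (n + 1) = 0 := by
  rcases h.eq_or_lt with h | h
  · unfold tι
    rw [Category.assoc, tj_comp_d K b n h.symm, comp_zero]
  · unfold tι
    rw [kerι_tu2_eq_zero K b n h, zero_comp, zero_comp]

lemma tM_isZero (n : ℤ) (h : b < n) : IsZero (tM K b n) := by
  rw [IsZero.iff_id_eq_zero]
  have : Mono (kerι (tu2 K b n)) := inferInstance
  have e : 𝟙 (tM K b n) ≫ kerι (tu2 K b n) = 0 ≫ kerι (tu2 K b n) := by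
    rw [Category.id_comp, zero_comp]
    exact kerι_tu2_eq_zero K b n h
  exact (cancel_mono (kerι (tu2 K b n))).1 e

/-- lifting to the truncation. -/
noncomputable def tLift (n : ℤ) {W : FilD.FilF A} (f : W ⟶ K.X n) (h1 : f ≫ tu1 K b n = 0)
    (h2 : b < n → f = 0) : W ⟶ tM K b n :=
  kerLift (tu2 K b n) (kerLift (tu1 K b n) f h1) (by
    by_cases h : n ≤ b
    · rw [tu2_of_le K b n h, comp_zero]
    · rw [tu2_of_lt K b n (by omega), Category.comp_id, ← cancel_mono (kerι (tu1 K b n)),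
        kerLift_ι, zero_comp]
      exact h2 (by omega))

lemma tLift_ι (n : ℤ) {W : FilD.FilF A} (f : W ⟶ K.X n) (h1 : f ≫ tu1 K b n = 0)
    (h2 : b < n → f = 0) : tLift K b n f h1 h2 ≫ tι K b n = f := by
  unfold tLift tι
  rw [← Category.assoc, kerLift_ι, kerLift_ι]

/-- the differential of the truncation. -/
noncomputable def tD (n : ℤ) : tM K b n ⟶ tM K b (n + 1) :=
  tLift K b (n + 1) (tι K b n ≫ K.d n (n + 1))
    (by rw [Category.assoc, d_comp_tu1, comp_zero])
    (fun h => tι_d_zero K b n (by omega))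

lemma tD_ι (n : ℤ) : tD K b n ≫ tι K b (n + 1) = tι K b n ≫ K.d n (n + 1) :=
  tLift_ι K b (n + 1) _ _ _

lemma tD_sq (n : ℤ) : tD K b n ≫ tD K b (n + 1) = 0 := by
  rw [← cancel_mono (tι K b (n + 1 + 1)), Category.assoc, tD_ι, ← Category.assoc, tD_ι,
    Category.assoc, K.d_comp_d, comp_zero, zero_comp]

/-- the truncated complex. -/
noncomputable def tCx : CochainComplex (FilD.FilF A) ℤ :=
  CochainComplex.of (tM K b) (tD K b) (tD_sq K b)

lemma tCx_d (n : ℤ) : (tCx K b).d n (n + 1) = tD K b n :=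
  CochainComplex.of_d _ _ n

/-- the inclusion of the truncated complex. -/
noncomputable def tMap : tCx K b ⟶ K where
  f n := tι K b n
  comm' i j hij := by
    have hj : i + 1 = j := hij
    subst hj
    rw [tCx_d]
    exact (tD_ι K b i).symm

instance : (tCx K b).IsStrictlyLE b := by
  rw [CochainComplex.isStrictlyLE_iff]
  intro i hi
  exact tM_isZero K b i hi

/-! graded pieces -/

lemma gr_tι_mono (n p : ℤ) : Mono ((FilD.gr A p).map (tι K b n).hom) := by
  have h1 := gr_kerι_mono (tu2 K b n) p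
  have h2 := gr_kerι_mono (tu1 K b n) p
  have e : (FilD.gr A p).map (tι K b n).hom =
      (FilD.gr A p).map (kerι (tu2 K b n)).hom ≫ (FilD.gr A p).map (kerι (tu1 K b n)).hom :=
    (FilD.gr A p).map_comp _ _
  rw [e]
  exact mono_comp _ _

lemma gr_tM_isZero (n p : ℤ) (h : b < n) : IsZero ((FilD.gr A p).obj (tM K b n).obj) :=
  (FilD.grF A p).map_isZero (tM_isZero K b n h)

variable (hd : StrictLift (K.d b (b + 1)).hom)

include hd in
lemma strictLift_tu1 (n : ℤ) : StrictLift (tu1 K b n).hom := by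
  by_cases h : n = b
  · subst h
    rw [tu1_of_eq K n n rfl]
    exact hd
  · rw [tu1_of_ne K b n h]
    exact strictLift_zero _ _ (fun p q h => (K.X (n + 1)).property.1 _)

lemma strictLift_tu2 (n : ℤ) (hn : n ≤ b) : StrictLift (tu2 K b n).hom := by
  rw [tu2_of_le K b n hn]
  exact strictLift_zero _ _ (fun p q h => (tZ K b n).property.1 _)

include hd in
lemma t_lift_gr (n : ℤ) (hn : n ≤ b) (p : ℤ) {T : A}
    (y : T ⟶ (FilD.gr A p).obj (K.X n).obj)
    (hy : y ≫ (FilD.gr A p).map (tu1 K b n).hom = 0) :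
    ∃ (T' : A) (π : T' ⟶ T) (_ : Epi π) (x : T' ⟶ (FilD.gr A p).obj (tM K b n).obj),
      π ≫ y = x ≫ (FilD.gr A p).map (tι K b n).hom := by
  obtain ⟨T₁, π₁, hπ₁, z, hz⟩ :=
    grExact_kerι (tu1 K b n) (strictLift_tu1 K b hd n) p y hy
  have hz0 : z ≫ (FilD.gr A p).map (tu2 K b n).hom = 0 := by
    rw [tu2_of_le K b n hn]
    have : (FilD.gr A p).map (0 : tZ K b n ⟶ tZ K b n).hom = 0 := (FilD.gr A p).map_zero _ _
    rw [this, comp_zero]
  obtain ⟨T₂, π₂, hπ₂, x, hx⟩ :=
    grExact_kerι (tu2 K b n) (strictLift_tu2 K b n hn) p z hz0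
  refine ⟨T₂, π₂ ≫ π₁, epi_comp _ _, x, ?_⟩
  have e : (FilD.gr A p).map (tι K b n).hom =
      (FilD.gr A p).map (kerι (tu2 K b n)).hom ≫ (FilD.gr A p).map (kerι (tu1 K b n)).hom :=
    (FilD.gr A p).map_comp _ _
  rw [e, Category.assoc, hz, ← Category.assoc, hx, Category.assoc]

include hd in
lemma t_mono_aux (p i : ℤ) ⦃T : A⦄ (x₂ : T ⟶ (FilD.gr A p).obj (tM K b (i + 1)).obj)
    (y₁ : T ⟶ (FilD.gr A p).obj (K.X i).obj)
    (e : x₂ ≫ (FilD.gr A p).map (tι K b (i + 1)).hom =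
      y₁ ≫ (FilD.gr A p).map (K.d i (i + 1)).hom) :
    ∃ (T' : A) (π : T' ⟶ T) (_ : Epi π) (x₁ : T' ⟶ (FilD.gr A p).obj (tM K b i).obj),
      π ≫ x₂ = x₁ ≫ (FilD.gr A p).map (tD K b i).hom := by
  by_cases h : b < i + 1
  · have hz := gr_tM_isZero K b (i + 1) p h
    exact ⟨T, 𝟙 T, inferInstance, 0, hz.eq_of_tgt _ _⟩
  · have hi : i ≤ b := by omega
    have hy : y₁ ≫ (FilD.gr A p).map (tu1 K b i).hom = 0 := by
      rw [tu1_of_ne K b i (by omega)]
      have : (FilD.gr A p).map (0 : K.X i ⟶ K.X (i + 1)).hom = 0 := (FilD.gr A p).map_zero _ _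
      rw [this, comp_zero]
    obtain ⟨T', π, hπ, x₁, hx₁⟩ := t_lift_gr K b hd i hi p y₁ hy
    refine ⟨T', π, hπ, x₁, ?_⟩
    have := gr_tι_mono K b (i + 1) p
    have e2 : (FilD.gr A p).map (tD K b i).hom ≫ (FilD.gr A p).map (tι K b (i + 1)).hom =
        (FilD.gr A p).map (tι K b i).hom ≫ (FilD.gr A p).map (K.d i (i + 1)).hom := by
      rw [← Functor.map_comp, ← Functor.map_comp]
      exact congrArg (fun φ => (FilD.gr A p).map φ.hom) (tD_ι K b i)
    rw [← cancel_mono ((FilD.gr A p).map (tι K b (i + 1)).hom), Category.assoc, e,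
      ← Category.assoc, hx₁, Category.assoc, Category.assoc, e2]

include hd in
lemma t_epi_aux (hex : ∀ (p i j k : ℤ), i + 1 = j → j + 1 = k → b < j →
      GrExact (K.d i j).hom (K.d j k).hom p)
    (p i : ℤ) ⦃T : A⦄ (y₂ : T ⟶ (FilD.gr A p).obj (K.X (i + 1)).obj)
    (hy₂ : y₂ ≫ (FilD.gr A p).map (K.d (i + 1) (i + 1 + 1)).hom = 0) :
    ∃ (T' : A) (π : T' ⟶ T) (_ : Epi π)
      (x₂ : T' ⟶ (FilD.gr A p).obj (tM K b (i + 1)).obj)
      (_ : x₂ ≫ (FilD.gr A p).map (tD K b (i + 1)).hom = 0)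
      (y₁ : T' ⟶ (FilD.gr A p).obj (K.X i).obj),
      π ≫ y₂ = x₂ ≫ (FilD.gr A p).map (tι K b (i + 1)).hom +
        y₁ ≫ (FilD.gr A p).map (K.d i (i + 1)).hom := by
  by_cases h : b < i + 1
  · obtain ⟨T', π, hπ, y₁, hy₁⟩ := hex p i (i + 1) (i + 1 + 1) rfl rfl h y₂ hy₂
    exact ⟨T', π, hπ, 0, zero_comp, y₁, by rw [zero_comp, zero_add, hy₁]⟩
  · have hi : i + 1 ≤ b := by omega
    have hy : y₂ ≫ (FilD.gr A p).map (tu1 K b (i + 1)).hom = 0 := by
      by_cases hb : i + 1 = b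
      · rw [tu1_of_eq K b (i + 1) hb]
        exact hy₂
      · rw [tu1_of_ne K b (i + 1) hb]
        have : (FilD.gr A p).map (0 : K.X (i + 1) ⟶ K.X (i + 1 + 1)).hom = 0 :=
          (FilD.gr A p).map_zero _ _
        rw [this, comp_zero]
    obtain ⟨T', π, hπ, x₂, hx₂⟩ := t_lift_gr K b hd (i + 1) hi p y₂ hy
    have := gr_tι_mono K b (i + 1 + 1) p
    have e2 : (FilD.gr A p).map (tD K b (i + 1)).hom ≫
        (FilD.gr A p).map (tι K b (i + 1 + 1)).hom =
        (FilD.gr A p).map (tι K b (i + 1)).hom ≫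
          (FilD.gr A p).map (K.d (i + 1) (i + 1 + 1)).hom := by
      rw [← Functor.map_comp, ← Functor.map_comp]
      exact congrArg (fun φ => (FilD.gr A p).map φ.hom) (tD_ι K b (i + 1))
    have hcyc : x₂ ≫ (FilD.gr A p).map (tD K b (i + 1)).hom = 0 := by
      rw [← cancel_mono ((FilD.gr A p).map (tι K b (i + 1 + 1)).hom), Category.assoc, e2,
        ← Category.assoc, ← hx₂, Category.assoc, hy₂, comp_zero, zero_comp]
    exact ⟨T', π, hπ, x₂, hcyc, 0, by rw [zero_comp, add_zero, hx₂]⟩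

end TruncLE

lemma strict_d_of_exact (K : CochainComplex (FilD.FilF A) ℤ) (b : ℤ)
    (hex : ∀ (p i j k : ℤ), i + 1 = j → j + 1 = k → b < j →
      GrExact (K.d i j).hom (K.d j k).hom p) : StrictLift (K.d b (b + 1)).hom := by
  obtain ⟨bG, hbG⟩ := (K.X (b + 1)).property.2.1
  exact strictLift_f_of_levExact (d_hom_comp K b (b + 1) (b + 1 + 1))
    (fun p q h => (K.X (b + 1 + 1)).property.1 _)
    (fun p => levExact_all (d_hom_comp K b (b + 1) (b + 1 + 1))
      (fun q => (K.X (b + 1 + 1)).property.1 _)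
      (fun q => hex q b (b + 1) (b + 1 + 1) rfl rfl (by omega)) bG hbG p)

theorem exists_truncLE (K : CochainComplex (FilD.FilF A) ℤ) (b : ℤ)
    (hK : ∀ (p n : ℤ), b < n → IsZero (((FilD.grCx p).obj K).homology n)) :
    ∃ (M : CochainComplex (FilD.FilF A) ℤ) (φ : M ⟶ K),
      M.IsStrictlyLE b ∧ FilD.IsFilteredQuasiIso φ := by
  have hex : ∀ (p i j k : ℤ), i + 1 = j → j + 1 = k → b < j →
      GrExact (K.d i j).hom (K.d j k).hom p :=
    fun p i j k hij hjk hj => grExact_of_isZero_homology K p i j k hij hjk (hK p j hj)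
  have hd := strict_d_of_exact K b hex
  refine ⟨tCx K b, tMap K b, inferInstance, fun p => ⟨fun n => ?_⟩⟩
  obtain ⟨i, hi⟩ : ∃ i : ℤ, i + 1 = n := ⟨n - 1, by omega⟩
  subst hi
  rw [quasiIsoAt_iff_isIso_homologyMap]
  have hm : Mono (HomologicalComplex.homologyMap ((FilD.grCx p).map (tMap K b)) (i + 1)) := by
    rw [HomologicalComplex.mono_homologyMap_iff_up_to_refinements _ i (i + 1) (i + 1 + 1)
      (by rw [CochainComplex.prev]; omega) (by rw [CochainComplex.next])]
    intro T x₂ _ y₁ e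
    obtain ⟨T', π, hπ, x₁, hx₁⟩ := t_mono_aux K b hd p i x₂ y₁ e
    refine ⟨T', π, hπ, x₁, ?_⟩
    have e3 : ((FilD.grCx p).obj (tCx K b)).d i (i + 1) =
        (FilD.gr A p).map (tD K b i).hom :=
      congrArg (fun φ : (tCx K b).X i ⟶ (tCx K b).X (i + 1) => (FilD.gr A p).map φ.hom)
        (tCx_d K b i)
    exact hx₁.trans (congrArg (fun z => x₁ ≫ z) e3.symm)
  have he : Epi (HomologicalComplex.homologyMap ((FilD.grCx p).map (tMap K b)) (i + 1)) := by
    rw [HomologicalComplex.epi_homologyMap_iff_up_to_refinements _ i (i + 1) (i + 1 + 1)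
      (by rw [CochainComplex.prev]; omega) (by rw [CochainComplex.next])]
    intro T y₂ hy₂
    obtain ⟨T', π, hπ, x₂, hx₂, y₁, hy₁⟩ := t_epi_aux K b hd hex p i y₂ hy₂
    refine ⟨T', π, hπ, x₂, ?_, y₁, hy₁⟩
    have e3 : ((FilD.grCx p).obj (tCx K b)).d (i + 1) (i + 1 + 1) =
        (FilD.gr A p).map (tD K b (i + 1)).hom :=
      congrArg (fun φ : (tCx K b).X (i + 1) ⟶ (tCx K b).X (i + 1 + 1) =>
        (FilD.gr A p).map φ.hom) (tCx_d K b (i + 1))
    exact (congrArg (fun z => x₂ ≫ z) e3).trans hx₂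
  exact isIso_of_mono_of_epi _

end FilDLib
end Groth.Agent.H90
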