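import Mathlib
import Groth.Prelude.Def_FilD
import Groth.Agent.H90.FilDBasic
import Groth.Agent.H90.FilDHtpy
import Groth.Agent.H90.FilDRes
import Groth.Agent.H90.FilDTrunc

/-!
# Cokernels of strict morphisms in `Fil^f(A)` and the canonical truncation `τ≥a`
-/

universe v u

open CategoryTheory CategoryTheory.Limits Opposite ZeroObject

namespace Groth.Agent.H90
namespace FilDLib

set_option linter.unusedSectionVars false

variable {A : Type u} [Category.{v} A] [Abelian A]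

/-! ### Cokernels of strict morphisms -/

section Coker

variable {X Y : FilD.FilF A} (u : X ⟶ Y) (hu : StrictLift u.hom)

/-- the cokernel of a strict morphism of finite filtered objects. -/
noncomputable def cokF : FilD.FilF A := ⟨cokernel u.hom, isFinFil_coker u hu⟩

/-- the projection to the cokernel. -/
noncomputable def cokπ : Y ⟶ cokF u hu := ObjectProperty.homMk (cokernel.π u.hom)

lemma comp_cokπ : u ≫ cokπ u hu = 0 := by
  apply ObjectProperty.hom_ext
  exact cokernel.condition u.hom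

lemma comp_cokπ_of_eq (v : X ⟶ Y) (h : u = v) : v ≫ cokπ u hu = 0 := by
  subst h
  exact comp_cokπ u hu

/-- descending from the cokernel. -/
noncomputable def cokDesc {W : FilD.FilF A} (f : Y ⟶ W) (hf : u ≫ f = 0) : cokF u hu ⟶ W :=
  ObjectProperty.homMk (cokernel.desc u.hom f.hom (congrArg (fun φ => φ.hom) hf))

@[reassoc]
lemma cokπ_desc {W : FilD.FilF A} (f : Y ⟶ W) (hf : u ≫ f = 0) :
    cokπ u hu ≫ cokDesc u hu f hf = f := by
  apply ObjectProperty.hom_ext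
  exact cokernel.π_desc u.hom f.hom _

instance cokπ_epi : Epi (cokπ u hu) := by
  constructor
  intro W g h e
  apply ObjectProperty.hom_ext
  have e' : cokernel.π u.hom ≫ g.hom = cokernel.π u.hom ≫ h.hom :=
    congrArg (fun φ => φ.hom) e
  exact (cancel_epi (cokernel.π u.hom)).1 e'

lemma cokπ_epi_app (p : ℤ) : Epi ((cokπ u hu).hom.app (op p)) :=
  inferInstanceAs (Epi ((cokernel.π u.hom).app (op p)))

lemma gr_cokπ_epi (p : ℤ) : Epi ((FilD.gr A p).map (cokπ u hu).hom) :=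
  gr_epi_of_epi (cokπ u hu).hom (cokπ_epi_app u hu) p

lemma grExact_cokπ (p : ℤ) : GrExact u.hom (cokπ u hu).hom p :=
  grExact_of_levExact u.hom (cokπ u hu).hom (cokπ_epi_app u hu)
    (fun q => coker_levExact u q) p

end Coker

/-! ### The truncation `τ≥a` -/

section TruncGE

variable (K : CochainComplex (FilD.FilF A) ℤ) (a : ℤ)

/-- the differential into degree `a`, zero elsewhere. -/
noncomputable def su1 (n : ℤ) : K.X (n - 1) ⟶ K.X n := if n = a then K.d (n - 1) n else 0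

lemma su1_of_eq (n : ℤ) (h : n = a) : su1 K a n = K.d (n - 1) n := if_pos h

lemma su1_of_ne (n : ℤ) (h : n ≠ a) : su1 K a n = 0 := if_neg h

lemma su1_comp_d (n : ℤ) : su1 K a n ≫ K.d n (n + 1) = 0 := by
  by_cases h : n = a
  · rw [su1_of_eq K a n h, K.d_comp_d]
  · rw [su1_of_ne K a n h, zero_comp]

lemma su1_factor (i : ℤ) :
    ∃ w : K.X (i + 1 - 1) ⟶ K.X i, su1 K a (i + 1) = w ≫ K.d i (i + 1) := by
  by_cases h : i + 1 = a
  · refine ⟨(K.XIsoOfEq (by omega : i + 1 - 1 = i)).hom, ?_⟩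
    rw [su1_of_eq K a (i + 1) h, HomologicalComplex.XIsoOfEq_hom_comp_d]
  · exact ⟨0, by rw [su1_of_ne K a (i + 1) h, zero_comp]⟩

variable (hd : StrictLift (K.d (a - 1) a).hom)

include hd in
lemma strictLift_su1 (n : ℤ) : StrictLift (su1 K a n).hom := by
  by_cases h : n = a
  · subst h
    rw [su1_of_eq K n n rfl]
    exact hd
  · rw [su1_of_ne K a n h]
    exact strictLift_zero _ _ (fun p q h => (K.X n).property.1 _)

/-- the first cokernel. -/
noncomputable abbrev sC (n : ℤ) : FilD.FilF A := cokF (su1 K a n) (strictLift_su1 K a hd n)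

/-- the first projection. -/
noncomputable abbrev sq (n : ℤ) : K.X n ⟶ sC K a hd n :=
  cokπ (su1 K a n) (strictLift_su1 K a hd n)

/-- zero in degrees `≥ a`, the identity below. -/
noncomputable def su2 (n : ℤ) : sC K a hd n ⟶ sC K a hd n := if a ≤ n then 0 else 𝟙 _

lemma su2_of_le (n : ℤ) (h : a ≤ n) : su2 K a hd n = 0 := if_pos h

lemma su2_of_lt (n : ℤ) (h : n < a) : su2 K a hd n = 𝟙 _ := if_neg (by omega)

lemma strictLift_su2 (n : ℤ) : StrictLift (su2 K a hd n).hom := by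
  by_cases h : a ≤ n
  · rw [su2_of_le K a hd n h]
    exact strictLift_zero _ _ (fun p q h => (sC K a hd n).property.1 _)
  · rw [su2_of_lt K a hd n (by omega)]
    exact strictLift_id _

/-- the terms of the truncation. -/
noncomputable abbrev sL (n : ℤ) : FilD.FilF A :=
  cokF (su2 K a hd n) (strictLift_su2 K a hd n)

/-- the projection to the truncation. -/
noncomputable def sπ (n : ℤ) : K.X n ⟶ sL K a hd n :=
  sq K a hd n ≫ cokπ (su2 K a hd n) (strictLift_su2 K a hd n)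

instance sπ_epi (n : ℤ) : Epi (sπ K a hd n) := by
  unfold sπ
  exact epi_comp _ _

lemma cokπ_su2_eq_zero (n : ℤ) (h : n < a) :
    cokπ (su2 K a hd n) (strictLift_su2 K a hd n) = 0 := by
  have e := comp_cokπ_of_eq (su2 K a hd n) (strictLift_su2 K a hd n) (𝟙 _)
    (su2_of_lt K a hd n h)
  rwa [Category.id_comp] at e

lemma sL_isZero (n : ℤ) (h : n < a) : IsZero (sL K a hd n) := by
  rw [IsZero.iff_id_eq_zero]
  have e : cokπ (su2 K a hd n) (strictLift_su2 K a hd n) ≫ 𝟙 (sL K a hd n) =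
      cokπ (su2 K a hd n) (strictLift_su2 K a hd n) ≫ 0 := by
    rw [Category.comp_id, comp_zero]
    exact cokπ_su2_eq_zero K a hd n h
  exact (cancel_epi (cokπ (su2 K a hd n) (strictLift_su2 K a hd n))).1 e

lemma sπ_eq_zero (n : ℤ) (h : n < a) : sπ K a hd n = 0 := by
  unfold sπ
  rw [cokπ_su2_eq_zero K a hd n h, comp_zero]

lemma d_comp_sq (i : ℤ) (h : i + 1 = a) : K.d i (i + 1) ≫ sq K a hd (i + 1) = 0 := by
  have e := comp_cokπ_of_eq (su1 K a (i + 1)) (strictLift_su1 K a hd (i + 1))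
    (K.d (i + 1 - 1) (i + 1)) (su1_of_eq K a (i + 1) h)
  rw [← K.XIsoOfEq_hom_comp_d (by omega : i = i + 1 - 1) (i + 1), Category.assoc, e, comp_zero]

lemma d_sπ_zero (n : ℤ) (h : n + 1 ≤ a) : K.d n (n + 1) ≫ sπ K a hd (n + 1) = 0 := by
  rcases h.eq_or_lt with h | h
  · unfold sπ
    rw [← Category.assoc, d_comp_sq K a hd n h, zero_comp]
  · rw [sπ_eq_zero K a hd (n + 1) h, comp_zero]

/-- descending from the truncation. -/
noncomputable def sDesc (n : ℤ) {W : FilD.FilF A} (f : K.X n ⟶ W) (h1 : su1 K a n ≫ f = 0)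
    (h2 : n < a → f = 0) : sL K a hd n ⟶ W :=
  cokDesc (su2 K a hd n) (strictLift_su2 K a hd n)
    (cokDesc (su1 K a n) (strictLift_su1 K a hd n) f h1) (by
    by_cases h : a ≤ n
    · rw [su2_of_le K a hd n h, zero_comp]
    · rw [su2_of_lt K a hd n (by omega), Category.id_comp,
        ← cancel_epi (cokπ (su1 K a n) (strictLift_su1 K a hd n)), cokπ_desc, comp_zero]
      exact h2 (by omega))

lemma sπ_desc (n : ℤ) {W : FilD.FilF A} (f : K.X n ⟶ W) (h1 : su1 K a n ≫ f = 0)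
    (h2 : n < a → f = 0) : sπ K a hd n ≫ sDesc K a hd n f h1 h2 = f := by
  unfold sπ sDesc
  rw [Category.assoc, cokπ_desc, cokπ_desc]

/-- the differential of the truncation. -/
noncomputable def sD (n : ℤ) : sL K a hd n ⟶ sL K a hd (n + 1) :=
  sDesc K a hd n (K.d n (n + 1) ≫ sπ K a hd (n + 1))
    (by rw [← Category.assoc, su1_comp_d, zero_comp])
    (fun h => d_sπ_zero K a hd n (by omega))

lemma sπ_D (n : ℤ) :
    sπ K a hd n ≫ sD K a hd n = K.d n (n + 1) ≫ sπ K a hd (n + 1) :=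
  sπ_desc K a hd n _ _ _

lemma sD_sq (n : ℤ) : sD K a hd n ≫ sD K a hd (n + 1) = 0 := by
  rw [← cancel_epi (sπ K a hd n), ← Category.assoc, sπ_D, Category.assoc, sπ_D,
    ← Category.assoc, K.d_comp_d, zero_comp, comp_zero]

/-- the truncated complex. -/
noncomputable def sCx : CochainComplex (FilD.FilF A) ℤ :=
  CochainComplex.of (sL K a hd) (sD K a hd) (sD_sq K a hd)

lemma sCx_d (n : ℤ) : (sCx K a hd).d n (n + 1) = sD K a hd n :=
  CochainComplex.of_d _ _ n

/-- the projection to the truncated complex. -/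
noncomputable def sMap : K ⟶ sCx K a hd where
  f n := sπ K a hd n
  comm' i j hij := by
    have hj : i + 1 = j := hij
    subst hj
    rw [sCx_d]
    exact sπ_D K a hd i

instance : (sCx K a hd).IsStrictlyGE a := by
  rw [CochainComplex.isStrictlyGE_iff]
  intro i hi
  exact sL_isZero K a hd i hi

/-! graded pieces -/

lemma gr_sπ_eq (n p : ℤ) : (FilD.gr A p).map (sπ K a hd n).hom =
    (FilD.gr A p).map (sq K a hd n).hom ≫
      (FilD.gr A p).map (cokπ (su2 K a hd n) (strictLift_su2 K a hd n)).hom :=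
  (FilD.gr A p).map_comp _ _

lemma gr_sπ_epi (n p : ℤ) : Epi ((FilD.gr A p).map (sπ K a hd n).hom) := by
  have h1 := gr_cokπ_epi (su1 K a n) (strictLift_su1 K a hd n) p
  have h2 := gr_cokπ_epi (su2 K a hd n) (strictLift_su2 K a hd n) p
  rw [gr_sπ_eq]
  exact epi_comp _ _

lemma gr_sL_isZero (n p : ℤ) (h : n < a) : IsZero ((FilD.gr A p).obj (sL K a hd n).obj) :=
  (FilD.grF A p).map_isZero (sL_isZero K a hd n h)

lemma s_ker_gr (n : ℤ) (hn : a ≤ n) (p : ℤ) {T : A}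
    (y : T ⟶ (FilD.gr A p).obj (K.X n).obj)
    (hy : y ≫ (FilD.gr A p).map (sπ K a hd n).hom = 0) :
    ∃ (T' : A) (π : T' ⟶ T) (_ : Epi π) (x : T' ⟶ (FilD.gr A p).obj (K.X (n - 1)).obj),
      π ≫ y = x ≫ (FilD.gr A p).map (su1 K a n).hom := by
  rw [gr_sπ_eq, ← Category.assoc] at hy
  obtain ⟨T₁, π₁, hπ₁, z, hz⟩ :=
    grExact_cokπ (su2 K a hd n) (strictLift_su2 K a hd n) p _ hy
  have hz0 : (π₁ ≫ y) ≫ (FilD.gr A p).map (sq K a hd n).hom = 0 := by
    rw [Category.assoc, hz, su2_of_le K a hd n hn]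
    have : (FilD.gr A p).map (0 : sC K a hd n ⟶ sC K a hd n).hom = 0 :=
      (FilD.gr A p).map_zero _ _
    rw [this, comp_zero]
  obtain ⟨T₂, π₂, hπ₂, x, hx⟩ :=
    grExact_cokπ (su1 K a n) (strictLift_su1 K a hd n) p _ hz0
  exact ⟨T₂, π₂ ≫ π₁, epi_comp _ _, x, by rw [Category.assoc]; exact hx⟩

lemma gr_sπ_D (n p : ℤ) :
    (FilD.gr A p).map (sπ K a hd n).hom ≫ (FilD.gr A p).map (sD K a hd n).hom =
      (FilD.gr A p).map (K.d n (n + 1)).hom ≫ (FilD.gr A p).map (sπ K a hd (n + 1)).hom := by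
  rw [← Functor.map_comp, ← Functor.map_comp]
  exact congrArg (fun φ => (FilD.gr A p).map φ.hom) (sπ_D K a hd n)

lemma s_mono_aux (hex : ∀ (p i j k : ℤ), i + 1 = j → j + 1 = k → j < a →
      GrExact (K.d i j).hom (K.d j k).hom p)
    (p i : ℤ) ⦃T : A⦄ (x₂ : T ⟶ (FilD.gr A p).obj (K.X (i + 1)).obj)
    (hx₂ : x₂ ≫ (FilD.gr A p).map (K.d (i + 1) (i + 1 + 1)).hom = 0)
    (y₁ : T ⟶ (FilD.gr A p).obj (sL K a hd i).obj)
    (e : x₂ ≫ (FilD.gr A p).map (sπ K a hd (i + 1)).hom =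
      y₁ ≫ (FilD.gr A p).map (sD K a hd i).hom) :
    ∃ (T' : A) (π : T' ⟶ T) (_ : Epi π) (x₁ : T' ⟶ (FilD.gr A p).obj (K.X i).obj),
      π ≫ x₂ = x₁ ≫ (FilD.gr A p).map (K.d i (i + 1)).hom := by
  by_cases h : i + 1 < a
  · exact hex p i (i + 1) (i + 1 + 1) rfl rfl h x₂ hx₂
  · have hi : a ≤ i + 1 := by omega
    have := gr_sπ_epi K a hd i p
    obtain ⟨T₁, π₁, hπ₁, k, hk⟩ :=
      surjective_up_to_refinements_of_epi ((FilD.gr A p).map (sπ K a hd i).hom) y₁
    have h0 : (π₁ ≫ x₂ - k ≫ (FilD.gr A p).map (K.d i (i + 1)).hom) ≫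
        (FilD.gr A p).map (sπ K a hd (i + 1)).hom = 0 := by
      rw [Preadditive.sub_comp, Category.assoc, e, ← Category.assoc, hk, Category.assoc,
        Category.assoc, gr_sπ_D, sub_self]
    obtain ⟨T₂, π₂, hπ₂, x, hx⟩ := s_ker_gr K a hd (i + 1) hi p _ h0
    obtain ⟨w, hw⟩ := su1_factor K a i
    refine ⟨T₂, π₂ ≫ π₁, epi_comp _ _, π₂ ≫ k + x ≫ (FilD.gr A p).map w.hom, ?_⟩
    have hw' : (FilD.gr A p).map (su1 K a (i + 1)).hom =
        (FilD.gr A p).map w.hom ≫ (FilD.gr A p).map (K.d i (i + 1)).hom := by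
      rw [← Functor.map_comp]
      exact congrArg (fun φ => (FilD.gr A p).map φ.hom) hw
    rw [hw', Preadditive.comp_sub] at hx
    rw [Preadditive.add_comp]
    simp only [Category.assoc]
    rw [← hx]
    abel

lemma s_epi_aux (p i : ℤ) ⦃T : A⦄ (y₂ : T ⟶ (FilD.gr A p).obj (sL K a hd (i + 1)).obj)
    (hy₂ : y₂ ≫ (FilD.gr A p).map (sD K a hd (i + 1)).hom = 0) :
    ∃ (T' : A) (π : T' ⟶ T) (_ : Epi π)
      (x₂ : T' ⟶ (FilD.gr A p).obj (K.X (i + 1)).obj)
      (_ : x₂ ≫ (FilD.gr A p).map (K.d (i + 1) (i + 1 + 1)).hom = 0)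
      (y₁ : T' ⟶ (FilD.gr A p).obj (sL K a hd i).obj),
      π ≫ y₂ = x₂ ≫ (FilD.gr A p).map (sπ K a hd (i + 1)).hom +
        y₁ ≫ (FilD.gr A p).map (sD K a hd i).hom := by
  by_cases h : i + 1 < a
  · have hz := gr_sL_isZero K a hd (i + 1) p h
    exact ⟨T, 𝟙 T, inferInstance, 0, zero_comp, 0, hz.eq_of_tgt _ _⟩
  · have hi : a ≤ i + 1 := by omega
    have := gr_sπ_epi K a hd (i + 1) p
    obtain ⟨T₁, π₁, hπ₁, k, hk⟩ :=
      surjective_up_to_refinements_of_epi ((FilD.gr A p).map (sπ K a hd (i + 1)).hom) y₂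
    have h0 : (k ≫ (FilD.gr A p).map (K.d (i + 1) (i + 1 + 1)).hom) ≫
        (FilD.gr A p).map (sπ K a hd (i + 1 + 1)).hom = 0 := by
      rw [Category.assoc, ← gr_sπ_D, ← Category.assoc, ← hk, Category.assoc, hy₂, comp_zero]
    obtain ⟨T₂, π₂, hπ₂, x, hx⟩ := s_ker_gr K a hd (i + 1 + 1) (by omega) p _ h0
    have hx0 : (π₂ ≫ k) ≫ (FilD.gr A p).map (K.d (i + 1) (i + 1 + 1)).hom = 0 := by
      rw [Category.assoc, hx, su1_of_ne K a (i + 1 + 1) (by omega)]
      have : (FilD.gr A p).map (0 : K.X (i + 1 + 1 - 1) ⟶ K.X (i + 1 + 1)).hom = 0 :=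
        (FilD.gr A p).map_zero _ _
      rw [this, comp_zero]
    exact ⟨T₂, π₂ ≫ π₁, epi_comp _ _, π₂ ≫ k, hx0, 0, by
      rw [zero_comp, add_zero, Category.assoc, hk, Category.assoc]⟩

end TruncGE

lemma strict_d_of_exact_GE (K : CochainComplex (FilD.FilF A) ℤ) (a : ℤ)
    (hex : ∀ (p i j k : ℤ), i + 1 = j → j + 1 = k → j < a →
      GrExact (K.d i j).hom (K.d j k).hom p) : StrictLift (K.d (a - 1) a).hom :=
  strictLift_g (d_hom_comp K (a - 1 - 1) (a - 1) a) (fun p => (K.X a).property.1 _)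
    (fun p => hex p (a - 1 - 1) (a - 1) a (by omega) (by omega) (by omega))

theorem exists_truncGE (K : CochainComplex (FilD.FilF A) ℤ) (a : ℤ)
    (hK : ∀ (p n : ℤ), n < a → IsZero (((FilD.grCx p).obj K).homology n)) :
    ∃ (L : CochainComplex (FilD.FilF A) ℤ) (φ : K ⟶ L),
      L.IsStrictlyGE a ∧ FilD.IsFilteredQuasiIso φ := by
  have hex : ∀ (p i j k : ℤ), i + 1 = j → j + 1 = k → j < a →
      GrExact (K.d i j).hom (K.d j k).hom p :=
    fun p i j k hij hjk hj => grExact_of_isZero_homology K p i j k hij hjk (hK p j hj)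
  have hd := strict_d_of_exact_GE K a hex
  refine ⟨sCx K a hd, sMap K a hd, inferInstance, fun p => ⟨fun n => ?_⟩⟩
  obtain ⟨i, hi⟩ : ∃ i : ℤ, i + 1 = n := ⟨n - 1, by omega⟩
  subst hi
  rw [quasiIsoAt_iff_isIso_homologyMap]
  have e4 : ((FilD.grCx p).obj (sCx K a hd)).d i (i + 1) =
      (FilD.gr A p).map (sD K a hd i).hom :=
    congrArg (fun φ : (sCx K a hd).X i ⟶ (sCx K a hd).X (i + 1) => (FilD.gr A p).map φ.hom)
      (sCx_d K a hd i)
  have e3 : ((FilD.grCx p).obj (sCx K a hd)).d (i + 1) (i + 1 + 1) =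
      (FilD.gr A p).map (sD K a hd (i + 1)).hom :=
    congrArg (fun φ : (sCx K a hd).X (i + 1) ⟶ (sCx K a hd).X (i + 1 + 1) =>
      (FilD.gr A p).map φ.hom) (sCx_d K a hd (i + 1))
  have hm : Mono (HomologicalComplex.homologyMap ((FilD.grCx p).map (sMap K a hd)) (i + 1)) := by
    rw [HomologicalComplex.mono_homologyMap_iff_up_to_refinements _ i (i + 1) (i + 1 + 1)
      (by rw [CochainComplex.prev]; omega) (by rw [CochainComplex.next])]
    intro T x₂ hx₂ y₁ e
    exact s_mono_aux K a hd hex p i x₂ hx₂ y₁ (e.trans (congrArg (fun z => y₁ ≫ z) e4))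
  have he : Epi (HomologicalComplex.homologyMap ((FilD.grCx p).map (sMap K a hd)) (i + 1)) := by
    rw [HomologicalComplex.epi_homologyMap_iff_up_to_refinements _ i (i + 1) (i + 1 + 1)
      (by rw [CochainComplex.prev]; omega) (by rw [CochainComplex.next])]
    intro T y₂ hy₂
    obtain ⟨T', π, hπ, x₂, hx₂, y₁, hy₁⟩ :=
      s_epi_aux K a hd p i y₂ ((congrArg (fun z => y₂ ≫ z) e3.symm).trans hy₂)
    exact ⟨T', π, hπ, x₂, hx₂, y₁, hy₁.trans
      (congrArg (fun z => x₂ ≫ (FilD.gr A p).map (sπ K a hd (i + 1)).hom + y₁ ≫ z) e4.symm)⟩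
  exact isIso_of_mono_of_epi _

end FilDLib
end Groth.Agent.H90
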