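import Mathlib
import Groth.Prelude.Def_FilD
import Groth.Agent.H90.FilDBasic
import Groth.Agent.H90.FilDHtpy
import Groth.Agent.H90.FilDCone
import Groth.Agent.H90.FilDRes
import Groth.Agent.H90.FilDTrunc
import Groth.Agent.H90.FilDTruncGE

/-!
# Filtered injective resolutions of bounded below complexes of finite filtered objects
-/

universe v u

open CategoryTheory CategoryTheory.Limits Opposite ZeroObject

namespace Groth.Agent.H90
namespace FilDLib

set_option linter.unusedSectionVars false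

variable {A : Type u} [Category.{v} A] [Abelian A]

/-- evaluation at a filtration level, as a functor. -/
noncomputable abbrev evF (p : ℤ) : FilD.FilF A ⥤ A :=
  (FilD.IsFinFil A).ι ⋙ (evaluation ℤᵒᵖ A).obj (op p)

instance (p : ℤ) : (evF (A := A) p).Additive := by
  unfold evF
  infer_instance

/-! ### Generic lemmas for an additive functor -/

section Generic

variable (Φ : FilD.FilF A ⥤ A) [Φ.Additive]

lemma Φ_total (X Y : FilD.FilF A) :
    Φ.map (biprod.fst : X ⊞ Y ⟶ X) ≫ Φ.map biprod.inl +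
      Φ.map (biprod.snd : X ⊞ Y ⟶ Y) ≫ Φ.map biprod.inr = 𝟙 _ := by
  rw [← Φ.map_comp, ← Φ.map_comp, ← Φ.map_add, biprod.total, Φ.map_id]

lemma Φ_decomp {X Y : FilD.FilF A} {T : A} (u : T ⟶ Φ.obj (X ⊞ Y)) :
    u = (u ≫ Φ.map biprod.fst) ≫ Φ.map biprod.inl + (u ≫ Φ.map biprod.snd) ≫ Φ.map biprod.inr := by
  calc u = u ≫ 𝟙 _ := (Category.comp_id u).symm
    _ = u ≫ (Φ.map biprod.fst ≫ Φ.map biprod.inl + Φ.map biprod.snd ≫ Φ.map biprod.inr) := by
        rw [Φ_total]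
    _ = _ := by
        rw [Preadditive.comp_add]
        simp only [Category.assoc]

lemma Φ_ext {X Y : FilD.FilF A} {T : A} (u v : T ⟶ Φ.obj (X ⊞ Y))
    (h1 : u ≫ Φ.map biprod.fst = v ≫ Φ.map biprod.fst)
    (h2 : u ≫ Φ.map biprod.snd = v ≫ Φ.map biprod.snd) : u = v := by
  rw [Φ_decomp Φ u, Φ_decomp Φ v, h1, h2]

/-- exactness after applying `Φ`, in refinement form. -/
def KerIn {X Y Z : FilD.FilF A} (f : X ⟶ Y) (g : Y ⟶ Z) : Prop :=
  ∀ ⦃T : A⦄ (y : T ⟶ Φ.obj Y), y ≫ Φ.map g = 0 →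
    ∃ (T' : A) (π : T' ⟶ T) (_ : Epi π) (x : T' ⟶ Φ.obj X), π ≫ y = x ≫ Φ.map f

variable {P Pn Pnn Ip Ic In Inn : FilD.FilF A} (d : P ⟶ Pn) (dn : Pn ⟶ Pnn)
  (ψ : P ⊞ Ip ⟶ Ic) (ψn : Pn ⊞ Ic ⟶ In) (ψnn : Pnn ⊞ In ⟶ Inn)

/-- the cone-type differential. -/
noncomputable def dC : P ⊞ Ip ⟶ Pn ⊞ Ic := biprod.lift (biprod.fst ≫ d) ψ

lemma dC_fst : dC d ψ ≫ biprod.fst = biprod.fst ≫ d := biprod.lift_fst _ _

lemma dC_snd : dC d ψ ≫ biprod.snd = ψ := biprod.lift_snd _ _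

lemma dC_eq : dC d ψ = (biprod.fst ≫ d) ≫ biprod.inl + ψ ≫ biprod.inr := biprod.lift_eq

/-- the relations between the components of consecutive `ψ`s. -/
lemma dC_rel (h : dC dn ψn ≫ ψnn = 0) :
    (biprod.inl ≫ ψn) ≫ (-(biprod.inr ≫ ψnn)) = dn ≫ (biprod.inl ≫ ψnn) ∧
      (-(biprod.inr ≫ ψn)) ≫ (-(biprod.inr ≫ ψnn)) = 0 := by
  rw [dC_eq, Preadditive.add_comp] at h
  constructor
  · have h1 := congrArg (fun t => (biprod.inl : Pn ⟶ Pn ⊞ Ic) ≫ t) h
    simp only [Preadditive.comp_add, Category.assoc, biprod.inl_fst_assoc, comp_zero] at h1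
    rw [Preadditive.comp_neg, neg_eq_iff_add_eq_zero, add_comm, Category.assoc]
    exact h1
  · have h2 := congrArg (fun t => (biprod.inr : Ic ⟶ Pn ⊞ Ic) ≫ t) h
    simp only [Preadditive.comp_add, Category.assoc, biprod.inr_fst_assoc, zero_comp, zero_add,
      comp_zero] at h2
    rw [Preadditive.neg_comp, Preadditive.comp_neg, neg_neg, Category.assoc]
    exact h2

/-- the kernel of `ψ` is killed by `fst ≫ d`, after applying `Φ`. -/
def LexP : Prop :=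
  ∀ ⦃T : A⦄ (x : T ⟶ Φ.obj (P ⊞ Ip)), x ≫ Φ.map ψ = 0 → x ≫ Φ.map (biprod.fst ≫ d) = 0

lemma lexP_next (w : d ≫ dn = 0) (hker : KerIn Φ (dC d ψ) ψn) : LexP Φ dn ψn := by
  intro T x hx
  obtain ⟨T', π, hπ, x', hx'⟩ := hker x hx
  have h0 : dC d ψ ≫ biprod.fst ≫ dn = 0 := by
    rw [← Category.assoc, dC_fst, Category.assoc, w, comp_zero]
  rw [← cancel_epi π, comp_zero, ← Category.assoc, hx', Category.assoc, ← Φ.map_comp, h0,
    Φ.map_zero, comp_zero]

lemma φn_mono (hker : KerIn Φ (dC d ψ) ψn) (hlex : LexP Φ d ψ) :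
    Mono (Φ.map (biprod.inl ≫ ψn)) := by
  apply Preadditive.mono_of_cancel_zero
  intro T x hx
  have hx1 : (x ≫ Φ.map (biprod.inl : Pn ⟶ Pn ⊞ Ic)) ≫ Φ.map ψn = 0 := by
    rw [Category.assoc, ← Φ.map_comp]
    exact hx
  obtain ⟨T', π, hπ, x', hx'⟩ := hker _ hx1
  have h2 : x' ≫ Φ.map ψ = 0 := by
    rw [← dC_snd d ψ, Φ.map_comp, ← Category.assoc, ← hx', Category.assoc, Category.assoc,
      ← Φ.map_comp, biprod.inl_snd, Φ.map_zero, comp_zero, comp_zero]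
  have h3 := hlex x' h2
  have h4 : π ≫ x = 0 := by
    calc π ≫ x = (π ≫ x ≫ Φ.map (biprod.inl : Pn ⟶ Pn ⊞ Ic)) ≫ Φ.map biprod.fst := by
          rw [Category.assoc, Category.assoc, ← Φ.map_comp, biprod.inl_fst, Φ.map_id,
            Category.comp_id]
      _ = x' ≫ Φ.map (dC d ψ ≫ biprod.fst) := by rw [hx', Category.assoc, ← Φ.map_comp]
      _ = 0 := by
          rw [dC_fst]
          exact h3
  exact (cancel_epi π).1 (h4.trans comp_zero.symm)

/-- injectivity on homology, in refinement form. -/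
lemma N_mono (hker : KerIn Φ (dC d ψ) ψn) ⦃T : A⦄ (x₂ : T ⟶ Φ.obj Pn) (y₁ : T ⟶ Φ.obj Ic)
    (e : x₂ ≫ Φ.map (biprod.inl ≫ ψn) = y₁ ≫ Φ.map (-(biprod.inr ≫ ψn))) :
    ∃ (T' : A) (π : T' ⟶ T) (_ : Epi π) (x₁ : T' ⟶ Φ.obj P), π ≫ x₂ = x₁ ≫ Φ.map d := by
  have hw : (x₂ ≫ Φ.map (biprod.inl : Pn ⟶ Pn ⊞ Ic) + y₁ ≫ Φ.map biprod.inr) ≫ Φ.map ψn = 0 := by
    rw [Preadditive.add_comp, Category.assoc, Category.assoc, ← Φ.map_comp, ← Φ.map_comp, e,
      Φ.map_neg, Preadditive.comp_neg, neg_add_cancel]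
  obtain ⟨T', π, hπ, z, hz⟩ := hker _ hw
  refine ⟨T', π, hπ, z ≫ Φ.map biprod.fst, ?_⟩
  have h1 : (x₂ ≫ Φ.map (biprod.inl : Pn ⟶ Pn ⊞ Ic) + y₁ ≫ Φ.map biprod.inr) ≫
      Φ.map biprod.fst = x₂ := by
    rw [Preadditive.add_comp, Category.assoc, Category.assoc, ← Φ.map_comp, ← Φ.map_comp,
      biprod.inl_fst, biprod.inr_fst, Φ.map_id, Φ.map_zero, comp_zero, add_zero,
      Category.comp_id]
  calc π ≫ x₂ = (π ≫ (x₂ ≫ Φ.map (biprod.inl : Pn ⟶ Pn ⊞ Ic) + y₁ ≫ Φ.map biprod.inr)) ≫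
        Φ.map biprod.fst := by rw [Category.assoc, h1]
    _ = z ≫ Φ.map (dC d ψ ≫ biprod.fst) := by rw [hz, Category.assoc, ← Φ.map_comp]
    _ = (z ≫ Φ.map biprod.fst) ≫ Φ.map d := by
        rw [dC_fst, Φ.map_comp, Category.assoc]

/-- surjectivity on homology, in refinement form. -/
lemma N_epi (hker : KerIn Φ (dC dn ψn) ψnn) ⦃T : A⦄ (y₂ : T ⟶ Φ.obj In)
    (hy₂ : y₂ ≫ Φ.map (-(biprod.inr ≫ ψnn)) = 0) :
    ∃ (T' : A) (π : T' ⟶ T) (_ : Epi π) (x₂ : T' ⟶ Φ.obj Pn) (_ : x₂ ≫ Φ.map dn = 0)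
      (y₁ : T' ⟶ Φ.obj Ic),
      π ≫ y₂ = x₂ ≫ Φ.map (biprod.inl ≫ ψn) + y₁ ≫ Φ.map (-(biprod.inr ≫ ψn)) := by
  have hw : (y₂ ≫ Φ.map (biprod.inr : In ⟶ Pnn ⊞ In)) ≫ Φ.map ψnn = 0 := by
    rw [Φ.map_neg, Preadditive.comp_neg, neg_eq_zero] at hy₂
    rw [Category.assoc, ← Φ.map_comp]
    exact hy₂
  obtain ⟨T', π, hπ, z, hz⟩ := hker _ hw
  have hcyc : (z ≫ Φ.map biprod.fst) ≫ Φ.map dn = 0 := by
    calc (z ≫ Φ.map biprod.fst) ≫ Φ.map dn = z ≫ Φ.map (dC dn ψn ≫ biprod.fst) := by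
          rw [dC_fst, Φ.map_comp, Category.assoc]
      _ = (π ≫ y₂ ≫ Φ.map biprod.inr) ≫ Φ.map biprod.fst := by
          rw [hz, Category.assoc, ← Φ.map_comp]
      _ = 0 := by
          rw [Category.assoc, Category.assoc, ← Φ.map_comp, biprod.inr_fst, Φ.map_zero,
            comp_zero, comp_zero]
  refine ⟨T', π, hπ, z ≫ Φ.map biprod.fst, hcyc, -(z ≫ Φ.map biprod.snd), ?_⟩
  have h1 : π ≫ y₂ = z ≫ Φ.map ψn := by
    calc π ≫ y₂ = (π ≫ y₂ ≫ Φ.map (biprod.inr : In ⟶ Pnn ⊞ In)) ≫ Φ.map biprod.snd := by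
          rw [Category.assoc, Category.assoc, ← Φ.map_comp, biprod.inr_snd, Φ.map_id,
            Category.comp_id]
      _ = z ≫ Φ.map (dC dn ψn ≫ biprod.snd) := by rw [hz, Category.assoc, ← Φ.map_comp]
      _ = z ≫ Φ.map ψn := by rw [dC_snd]
  rw [h1, Φ.map_neg, Preadditive.neg_comp, Preadditive.comp_neg, neg_neg, Φ.map_comp,
    Φ.map_comp]
  conv_lhs => rw [Φ_decomp Φ z]
  rw [Preadditive.add_comp]
  simp only [Category.assoc]

end Generic

/-! ### Stages of the construction -/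

/-- a stage of the inductive construction. -/
structure Stg {P Pn : FilD.FilF A} (d : P ⟶ Pn) where
  Ip : FilD.FilF A
  Ic : FilD.FilF A
  ψ : P ⊞ Ip ⟶ Ic
  inj : FilD.IsFilteredInjective Ic
  strictψ : StrictLift ψ.hom
  lex : ∀ p : ℤ, LexP (evF p) d ψ
  gex : ∀ p : ℤ, LexP (FilD.grF A p) d ψ

section Step

variable {P Pn Pnn : FilD.FilF A} (d : P ⟶ Pn) (dn : Pn ⟶ Pnn) (w : d ≫ dn = 0) (S : Stg d)

lemma Stg.strict_dC : StrictLift (dC d S.ψ).hom := by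
  intro p q h T x y e
  have hmono : Mono (tr Pn.obj h) := Pn.property.1 _
  have nat_snd : tr (Pn ⊞ S.Ic).obj h ≫ (evF p).map (biprod.snd : Pn ⊞ S.Ic ⟶ S.Ic) =
      (evF q).map (biprod.snd : Pn ⊞ S.Ic ⟶ S.Ic) ≫ tr S.Ic.obj h :=
    (biprod.snd : Pn ⊞ S.Ic ⟶ S.Ic).hom.naturality (homOfLE h).op
  have nat_fst : tr (Pn ⊞ S.Ic).obj h ≫ (evF p).map (biprod.fst : Pn ⊞ S.Ic ⟶ Pn) =
      (evF q).map (biprod.fst : Pn ⊞ S.Ic ⟶ Pn) ≫ tr Pn.obj h :=
    (biprod.fst : Pn ⊞ S.Ic ⟶ Pn).hom.naturality (homOfLE h).op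
  have natfd : tr (P ⊞ S.Ip).obj h ≫ (evF p).map (biprod.fst ≫ d : P ⊞ S.Ip ⟶ Pn) =
      (evF q).map (biprod.fst ≫ d : P ⊞ S.Ip ⟶ Pn) ≫ tr Pn.obj h :=
    (biprod.fst ≫ d : P ⊞ S.Ip ⟶ Pn).hom.naturality (homOfLE h).op
  have natψ : tr (P ⊞ S.Ip).obj h ≫ (evF p).map S.ψ = (evF q).map S.ψ ≫ tr S.Ic.obj h :=
    S.ψ.hom.naturality (homOfLE h).op
  have hds : ∀ r : ℤ, (evF r).map (dC d S.ψ) ≫ (evF r).map biprod.snd = (evF r).map S.ψ := by
    intro r
    rw [← Functor.map_comp, dC_snd]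
  have hdf : ∀ r : ℤ, (evF r).map (dC d S.ψ) ≫ (evF r).map biprod.fst =
      (evF r).map (biprod.fst ≫ d) := by
    intro r
    rw [← Functor.map_comp, dC_fst]
  have e' : x ≫ (evF p).map (dC d S.ψ) = y ≫ tr (Pn ⊞ S.Ic).obj h := e
  have e_snd : x ≫ (evF p).map S.ψ =
      (y ≫ (evF q).map (biprod.snd : Pn ⊞ S.Ic ⟶ S.Ic)) ≫ tr S.Ic.obj h := by
    rw [← hds p, ← Category.assoc, e', Category.assoc, nat_snd, Category.assoc]
  obtain ⟨T₁, π₁, hπ₁, x'', hx''⟩ :=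
    S.strictψ p q h x (y ≫ (evF q).map (biprod.snd : Pn ⊞ S.Ic ⟶ S.Ic)) e_snd
  have hx2 : π₁ ≫ y ≫ (evF q).map (biprod.snd : Pn ⊞ S.Ic ⟶ S.Ic) = x'' ≫ (evF q).map S.ψ :=
    hx''
  refine ⟨T₁, π₁, hπ₁, x'', ?_⟩
  apply Φ_ext (evF q)
  · have hz : (π₁ ≫ x - x'' ≫ tr (P ⊞ S.Ip).obj h) ≫ (evF p).map S.ψ = 0 := by
      rw [Preadditive.sub_comp, Category.assoc, e_snd, Category.assoc x'', natψ,
        ← Category.assoc x'', ← hx2]
      simp only [Category.assoc]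
      rw [sub_self]
    have hz' := S.lex p _ hz
    rw [Preadditive.sub_comp, sub_eq_zero] at hz'
    rw [← cancel_mono (tr Pn.obj h)]
    calc ((π₁ ≫ y) ≫ (evF q).map (biprod.fst : Pn ⊞ S.Ic ⟶ Pn)) ≫ tr Pn.obj h
        = π₁ ≫ (y ≫ tr (Pn ⊞ S.Ic).obj h) ≫ (evF p).map (biprod.fst : Pn ⊞ S.Ic ⟶ Pn) := by
          simp only [Category.assoc]
          rw [nat_fst]
      _ = (π₁ ≫ x) ≫ (evF p).map (biprod.fst ≫ d : P ⊞ S.Ip ⟶ Pn) := by
          rw [← e', Category.assoc, hdf p, Category.assoc]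
      _ = (x'' ≫ tr (P ⊞ S.Ip).obj h) ≫ (evF p).map (biprod.fst ≫ d : P ⊞ S.Ip ⟶ Pn) := hz'
      _ = ((x'' ≫ (evF q).map (dC d S.ψ)) ≫ (evF q).map biprod.fst) ≫ tr Pn.obj h := by
          rw [Category.assoc, natfd, Category.assoc x'', hdf q, Category.assoc]
  · calc (π₁ ≫ y) ≫ (evF q).map (biprod.snd : Pn ⊞ S.Ic ⟶ S.Ic)
        = x'' ≫ (evF q).map S.ψ := by
          rw [Category.assoc]
          exact hx2
      _ = (x'' ≫ (evF q).map (dC d S.ψ)) ≫ (evF q).map biprod.snd := by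
          rw [Category.assoc, hds q]

variable [EnoughInjectives A]

/-- the cokernel of the cone-type differential. -/
noncomputable def Stg.Q : FilD.FilF A := cokF (dC d S.ψ) (S.strict_dC d)

/-- the chosen embedding of the cokernel. -/
noncomputable def Stg.E : Emb (S.Q d) := emb (S.Q d)

/-- the next `ψ`. -/
noncomputable def Stg.ψn : Pn ⊞ S.Ic ⟶ (S.E d).I :=
  cokπ (dC d S.ψ) (S.strict_dC d) ≫ (S.E d).u

lemma Stg.dC_ψn : dC d S.ψ ≫ S.ψn d = 0 := by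
  unfold Stg.ψn
  rw [← Category.assoc, comp_cokπ, zero_comp]

lemma Stg.ker_lev (p : ℤ) : KerIn (evF p) (dC d S.ψ) (S.ψn d) := by
  intro T y hy
  have hm := (S.E d).mono_app p
  have h1 : y ≫ (cokernel.π (dC d S.ψ).hom).app (op p) = 0 := by
    have hy' : (y ≫ (cokπ (dC d S.ψ) (S.strict_dC d)).hom.app (op p)) ≫
        (S.E d).u.hom.app (op p) = 0 := by
      rw [Category.assoc]
      exact hy
    exact (cancel_mono ((S.E d).u.hom.app (op p))).1 (hy'.trans zero_comp.symm)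
  exact coker_levExact (dC d S.ψ) p y h1

lemma Stg.ker_gr (p : ℤ) : KerIn (FilD.grF A p) (dC d S.ψ) (S.ψn d) := by
  intro T y hy
  have hm := (S.E d).gr_u_mono p
  have h1 : y ≫ (FilD.gr A p).map (cokπ (dC d S.ψ) (S.strict_dC d)).hom = 0 := by
    have hy' : (y ≫ (FilD.gr A p).map (cokπ (dC d S.ψ) (S.strict_dC d)).hom) ≫
        (FilD.gr A p).map (S.E d).u.hom = 0 := by
      rw [Category.assoc, ← Functor.map_comp]
      exact hy
    exact (cancel_mono ((FilD.gr A p).map (S.E d).u.hom)).1 (hy'.trans zero_comp.symm)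
  exact grExact_cokπ (dC d S.ψ) (S.strict_dC d) p y h1

include w in
/-- the next stage. -/
noncomputable def Stg.next : Stg dn where
  Ip := S.Ic
  Ic := (S.E d).I
  ψ := S.ψn d
  inj := (S.E d).inj
  strictψ := by
    intro p q h T x y e
    obtain ⟨T₁, π₁, hπ₁, z, hz⟩ := (S.E d).strictLift p q h
      (x ≫ (cokπ (dC d S.ψ) (S.strict_dC d)).hom.app (op p)) y (by
        rw [Category.assoc]
        exact e)
    have := cokπ_epi_app (dC d S.ψ) (S.strict_dC d) q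
    obtain ⟨T₂, π₂, hπ₂, x'', hx''⟩ := surjective_up_to_refinements_of_epi
      ((cokπ (dC d S.ψ) (S.strict_dC d)).hom.app (op q)) z
    refine ⟨T₂, π₂ ≫ π₁, epi_comp _ _, x'', ?_⟩
    have hx2 : π₂ ≫ z = x'' ≫ (cokπ (dC d S.ψ) (S.strict_dC d)).hom.app (op q) := hx''
    rw [Category.assoc, hz, ← Category.assoc, hx2]
    exact Category.assoc _ _ _
  lex := fun p => lexP_next (evF p) d dn S.ψ (S.ψn d) w (S.ker_lev d p)
  gex := fun p => lexP_next (FilD.grF A p) d dn S.ψ (S.ψn d) w (S.ker_gr d p)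

lemma Stg.φn_lev_mono (p : ℤ) : Mono ((evF p).map (biprod.inl ≫ S.ψn d)) :=
  φn_mono (evF p) d S.ψ (S.ψn d) (S.ker_lev d p) (S.lex p)

lemma Stg.φn_gr_mono (p : ℤ) : Mono ((FilD.grF A p).map (biprod.inl ≫ S.ψn d)) :=
  φn_mono (FilD.grF A p) d S.ψ (S.ψn d) (S.ker_gr d p) (S.gex p)

end Step

/-- the trivial stage. -/
noncomputable def stg0 {P Pn : FilD.FilF A} (d : P ⟶ Pn) (hd : d = 0) : Stg d where
  Ip := 0
  Ic := 0
  ψ := 0
  inj := fun p => ((FilD.grF A p).map_isZero (isZero_zero (FilD.FilF A))).injective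
  strictψ := strictLift_zero _ _ (fun p q h => (0 : FilD.FilF A).property.1 _)
  lex := fun p T x _ => by
    subst hd
    rw [comp_zero, Functor.map_zero, comp_zero]
  gex := fun p T x _ => by
    subst hd
    rw [comp_zero, Functor.map_zero, comp_zero]

/-- a levelwise and `gr`-wise monomorphism is a strict monomorphism. -/
lemma mono_strict_of_lev_gr {X Y : FilD.FilF A} (φ : X ⟶ Y)
    (h1 : ∀ p : ℤ, Mono (φ.hom.app (op p))) (h2 : ∀ p : ℤ, Mono ((FilD.gr A p).map φ.hom)) :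
    Mono φ ∧ FilD.IsStrict φ := by
  constructor
  · have : Mono φ.hom := by
      apply NatTrans.mono_of_mono_app φ.hom
    exact (FilD.IsFinFil A).ι.mono_of_mono_map this
  · apply isStrict_of_strictLift
    refine strictLift_of_grExact (κ := (0 : X.obj ⟶ X.obj)) zero_comp
      (fun p => Y.property.1 _) (fun p => ?_)
    intro T y hy
    have := h2 p
    have y0 : y = 0 := by
      rw [← cancel_mono ((FilD.gr A p).map φ.hom), hy, zero_comp]
    exact ⟨T, 𝟙 T, inferInstance, 0, by rw [y0, comp_zero, zero_comp]⟩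

lemma mono_of_isZero_src {C : Type*} [Category C] {X Y : C} (h : IsZero X) (f : X ⟶ Y) : Mono f :=
  ⟨fun _ _ _ => h.eq_of_tgt _ _⟩

namespace CE

/-! ### The recursion -/

section Rec

variable [EnoughInjectives A] (K : CochainComplex (FilD.FilF A) ℤ)

/-- the objects of `K` in degrees `≥ 0`, with a zero in front. -/
noncomputable def KX : ℕ → FilD.FilF A
  | 0 => 0
  | m + 1 => K.X (Int.ofNat m)

/-- the differentials. -/
noncomputable def Kd : ∀ s : ℕ, KX K s ⟶ KX K (s + 1)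
  | 0 => 0
  | m + 1 => K.d (Int.ofNat m) (Int.ofNat (m + 1))

lemma Kd_sq : ∀ s : ℕ, Kd K s ≫ Kd K (s + 1) = 0
  | 0 => zero_comp
  | m + 1 =>
    (show K.d (Int.ofNat m) (Int.ofNat (m + 1)) ≫ K.d (Int.ofNat (m + 1)) (Int.ofNat (m + 1 + 1)) = 0
      from K.d_comp_d _ _ _)

/-- the stages. -/
noncomputable def stg : ∀ s : ℕ, Stg (Kd K s)
  | 0 => stg0 (Kd K 0) rfl
  | s + 1 => (stg s).next (Kd K s) (Kd K (s + 1)) (Kd_sq K s)

/-- the filtered injective objects. -/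
noncomputable abbrev IX (s : ℕ) : FilD.FilF A := (stg K s).Ic

/-- the structure maps `Kˢ ⊕ Iˢ⁻¹ ⟶ Iˢ`. -/
noncomputable def ψS (s : ℕ) : KX K (s + 1) ⊞ IX K s ⟶ IX K (s + 1) :=
  (stg K s).ψn (Kd K s)

/-- the comparison maps. -/
noncomputable def φS (s : ℕ) : KX K (s + 1) ⟶ IX K (s + 1) := biprod.inl ≫ ψS K s

/-- the differentials. -/
noncomputable def δS (s : ℕ) : IX K s ⟶ IX K (s + 1) := -(biprod.inr ≫ ψS K s)

lemma dC_ψS (s : ℕ) : dC (Kd K (s + 1)) (ψS K s) ≫ ψS K (s + 1) = 0 :=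
  (stg K (s + 1)).dC_ψn (Kd K (s + 1))

lemma φS_δS (s : ℕ) : φS K s ≫ δS K (s + 1) = Kd K (s + 1) ≫ φS K (s + 1) :=
  (dC_rel (Kd K (s + 1)) (ψS K s) (ψS K (s + 1)) (dC_ψS K s)).1

lemma δS_δS (s : ℕ) : δS K s ≫ δS K (s + 1) = 0 :=
  (dC_rel (Kd K (s + 1)) (ψS K s) (ψS K (s + 1)) (dC_ψS K s)).2

lemma kerS_gr (s : ℕ) (p : ℤ) :
    KerIn (FilD.grF A p) (dC (Kd K (s + 1)) (ψS K s)) (ψS K (s + 1)) :=
  (stg K (s + 1)).ker_gr (Kd K (s + 1)) p

lemma φS_lev_mono (s : ℕ) (p : ℤ) : Mono ((evF p).map (φS K s)) :=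
  (stg K s).φn_lev_mono (Kd K s) p

lemma φS_gr_mono (s : ℕ) (p : ℤ) : Mono ((FilD.grF A p).map (φS K s)) :=
  (stg K s).φn_gr_mono (Kd K s) p

lemma IX_inj (s : ℕ) : FilD.IsFilteredInjective (IX K s) := (stg K s).inj

end Rec

/-! ### Assembling the resolution of a complex in degrees `≥ 0` -/

section Assemble

variable [EnoughInjectives A] (K : CochainComplex (FilD.FilF A) ℤ)

/-- the terms of the resolution. -/
noncomputable def JX : ℤ → FilD.FilF A
  | Int.ofNat m => IX K (m + 1)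
  | Int.negSucc _ => 0

/-- the differentials of the resolution. -/
noncomputable def Jd : ∀ n : ℤ, JX K n ⟶ JX K (n + 1)
  | Int.ofNat m => (show IX K (m + 1) ⟶ IX K (m + 1 + 1) from δS K (m + 1))
  | Int.negSucc _ => 0

lemma Jd_sq : ∀ n : ℤ, Jd K n ≫ Jd K (n + 1) = 0
  | Int.ofNat m => (show δS K (m + 1) ≫ δS K (m + 1 + 1) = 0 from δS_δS K (m + 1))
  | Int.negSucc _ => zero_comp

/-- the resolution. -/
noncomputable def Jcx : CochainComplex (FilD.FilF A) ℤ :=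
  CochainComplex.of (JX K) (Jd K) (Jd_sq K)

lemma Jcx_d (n : ℤ) : (Jcx K).d n (n + 1) = Jd K n := CochainComplex.of_d _ _ n

lemma Jcx_d_ofNat (m : ℕ) : (Jcx K).d (Int.ofNat m) (Int.ofNat (m + 1)) = δS K (m + 1) :=
  Jcx_d K (Int.ofNat m)

/-- the components of the comparison map. -/
noncomputable def φf : ∀ n : ℤ, K.X n ⟶ JX K n
  | Int.ofNat m => φS K m
  | Int.negSucc _ => 0

lemma Jcx_isStrictlyGE : (Jcx K).IsStrictlyGE 0 := by
  rw [CochainComplex.isStrictlyGE_iff]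
  intro i hi
  match i, hi with
  | Int.negSucc k, _ => exact isZero_zero _
  | Int.ofNat m, hi => exact absurd hi (not_lt.2 (Int.natCast_nonneg m))

lemma Jcx_inj : ∀ n : ℤ, FilD.IsFilteredInjective ((Jcx K).X n)
  | Int.ofNat m => IX_inj K (m + 1)
  | Int.negSucc _ => fun p =>
    ((FilD.grF A p).map_isZero (isZero_zero (FilD.FilF A))).injective

variable [K.IsStrictlyGE 0]

lemma φf_comm : ∀ n : ℤ, φf K n ≫ Jd K n = K.d n (n + 1) ≫ φf K (n + 1)
  | Int.ofNat m =>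
    (show φS K m ≫ δS K (m + 1) = Kd K (m + 1) ≫ φS K (m + 1) from φS_δS K m)
  | Int.negSucc k =>
    (CochainComplex.isZero_of_isStrictlyGE K 0 (Int.negSucc k)
      (Int.negSucc_lt_zero k)).eq_of_src _ _

/-- the comparison map. -/
noncomputable def φJ : K ⟶ Jcx K where
  f := φf K
  comm' i j hij := by
    have hij' : i + 1 = j := hij
    subst hij'
    rw [Jcx_d]
    exact φf_comm K i

lemma prev_ofNat_succ (m : ℕ) :
    (ComplexShape.up ℤ).prev (Int.ofNat (m + 1)) = Int.ofNat m := by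
  rw [CochainComplex.prev]
  show ((m + 1 : ℕ) : ℤ) - 1 = (m : ℤ)
  push_cast
  ring

lemma φJ_mono (p : ℤ) : ∀ n : ℤ,
    Mono (HomologicalComplex.homologyMap ((FilD.grCx p).map (φJ K)) n)
  | Int.negSucc k => by
    rw [HomologicalComplex.mono_homologyMap_iff_up_to_refinements _ (Int.negSucc k - 1)
      (Int.negSucc k) (Int.negSucc k + 1) (CochainComplex.prev ℤ _) (CochainComplex.next ℤ _)]
    intro T x₂ _ y₁ _
    refine ⟨T, 𝟙 T, inferInstance, 0, ?_⟩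
    exact ((FilD.grF A p).map_isZero (CochainComplex.isZero_of_isStrictlyGE K 0 (Int.negSucc k)
      (Int.negSucc_lt_zero k))).eq_of_tgt _ _
  | Int.ofNat 0 => by
    rw [HomologicalComplex.mono_homologyMap_iff_up_to_refinements _ (Int.negSucc 0)
      (Int.ofNat 0) (Int.ofNat 0 + 1) (by rw [CochainComplex.prev]; rfl)
      (CochainComplex.next ℤ _)]
    intro T x₂ _ y₁ e
    have hy : y₁ = 0 :=
      ((FilD.grF A p).map_isZero (isZero_zero (FilD.FilF A))).eq_of_tgt _ _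
    have hm := φS_gr_mono K 0 p
    have hx : x₂ = 0 := by
      rw [hy, zero_comp] at e
      exact (cancel_mono ((FilD.grF A p).map (φS K 0))).1 (e.trans zero_comp.symm)
    exact ⟨T, 𝟙 T, inferInstance, 0, by rw [hx, comp_zero, zero_comp]⟩
  | Int.ofNat (m + 1) => by
    rw [HomologicalComplex.mono_homologyMap_iff_up_to_refinements _ (Int.ofNat m)
      (Int.ofNat (m + 1)) (Int.ofNat (m + 1) + 1) (prev_ofNat_succ m) (CochainComplex.next ℤ _)]
    intro T x₂ _ y₁ e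
    have e' : x₂ ≫ (FilD.grF A p).map (φS K (m + 1)) =
        y₁ ≫ (FilD.grF A p).map ((Jcx K).d (Int.ofNat m) (Int.ofNat (m + 1))) := e
    rw [Jcx_d_ofNat] at e'
    exact N_mono (FilD.grF A p) (Kd K (m + 1)) (ψS K m) (ψS K (m + 1)) (kerS_gr K m p) x₂ y₁ e'

lemma φJ_epi (p : ℤ) : ∀ n : ℤ,
    Epi (HomologicalComplex.homologyMap ((FilD.grCx p).map (φJ K)) n)
  | Int.negSucc k => by
    rw [HomologicalComplex.epi_homologyMap_iff_up_to_refinements _ (Int.negSucc k - 1)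
      (Int.negSucc k) (Int.negSucc k + 1) (CochainComplex.prev ℤ _) (CochainComplex.next ℤ _)]
    intro T y₂ _
    have hy : y₂ = 0 :=
      ((FilD.grF A p).map_isZero (isZero_zero (FilD.FilF A))).eq_of_tgt _ _
    refine ⟨T, 𝟙 T, inferInstance, 0, zero_comp, 0, ?_⟩
    rw [hy, comp_zero, zero_comp, zero_comp, add_zero]
  | Int.ofNat 0 => by
    rw [HomologicalComplex.epi_homologyMap_iff_up_to_refinements _ (Int.negSucc 0)
      (Int.ofNat 0) (Int.ofNat 0 + 1) (by rw [CochainComplex.prev]; rfl)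
      (CochainComplex.next ℤ _)]
    intro T y₂ hy₂
    have hd : (Jcx K).d (Int.ofNat 0) (Int.ofNat 0 + 1) = δS K 1 := Jcx_d K (Int.ofNat 0)
    have hy : y₂ ≫ (FilD.grF A p).map ((Jcx K).d (Int.ofNat 0) (Int.ofNat 0 + 1)) = 0 := hy₂
    rw [hd] at hy
    obtain ⟨T', π, hπ, x₂, hx₂, y₁, h⟩ := N_epi (FilD.grF A p) (Kd K 1) (ψS K 0) (ψS K 1)
      (kerS_gr K 0 p) y₂ hy
    have hy1 : y₁ = 0 :=
      ((FilD.grF A p).map_isZero (isZero_zero (FilD.FilF A))).eq_of_tgt _ _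
    refine ⟨T', π, hπ, x₂, hx₂, 0, ?_⟩
    rw [hy1, zero_comp, add_zero] at h
    rw [zero_comp, add_zero]
    exact h
  | Int.ofNat (m + 1) => by
    rw [HomologicalComplex.epi_homologyMap_iff_up_to_refinements _ (Int.ofNat m)
      (Int.ofNat (m + 1)) (Int.ofNat (m + 1) + 1) (prev_ofNat_succ m) (CochainComplex.next ℤ _)]
    intro T y₂ hy₂
    have hd : (Jcx K).d (Int.ofNat (m + 1)) (Int.ofNat (m + 1) + 1) = δS K (m + 2) :=
      Jcx_d K (Int.ofNat (m + 1))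
    have hy : y₂ ≫ (FilD.grF A p).map
        ((Jcx K).d (Int.ofNat (m + 1)) (Int.ofNat (m + 1) + 1)) = 0 := hy₂
    rw [hd] at hy
    obtain ⟨T', π, hπ, x₂, hx₂, y₁, h⟩ := N_epi (FilD.grF A p) (Kd K (m + 2)) (ψS K (m + 1))
      (ψS K (m + 2)) (kerS_gr K (m + 1) p) y₂ hy
    refine ⟨T', π, hπ, x₂, hx₂, y₁, ?_⟩
    have hd' : (Jcx K).d (Int.ofNat m) (Int.ofNat (m + 1)) = δS K (m + 1) := Jcx_d_ofNat K m
    have h3 : ((FilD.grCx p).obj (Jcx K)).d (Int.ofNat m) (Int.ofNat (m + 1)) =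
        (FilD.grF A p).map (δS K (m + 1)) := by
      show (FilD.grF A p).map ((Jcx K).d (Int.ofNat m) (Int.ofNat (m + 1))) = _
      rw [hd']
      rfl
    rw [h3]
    exact h

lemma φJ_qi (p : ℤ) : QuasiIso ((FilD.grCx p).map (φJ K)) := by
  rw [quasiIso_iff]
  intro n
  rw [quasiIsoAt_iff_isIso_homologyMap]
  have := φJ_mono K p n
  have := φJ_epi K p n
  exact isIso_of_mono_of_epi _

lemma φJ_lev_mono : ∀ (n p : ℤ), Mono ((evF p).map ((φJ K).f n))
  | Int.ofNat m, p => φS_lev_mono K m p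
  | Int.negSucc k, p => mono_of_isZero_src ((evF p).map_isZero
      (CochainComplex.isZero_of_isStrictlyGE K 0 (Int.negSucc k) (Int.negSucc_lt_zero k))) _

lemma φJ_gr_mono : ∀ (n p : ℤ), Mono ((FilD.grF A p).map ((φJ K).f n))
  | Int.ofNat m, p => φS_gr_mono K m p
  | Int.negSucc k, p => mono_of_isZero_src ((FilD.grF A p).map_isZero
      (CochainComplex.isZero_of_isStrictlyGE K 0 (Int.negSucc k) (Int.negSucc_lt_zero k))) _

end Assemble

/-! ### Naive shifts -/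

section Shift

/-- the naive shift of a cochain complex. -/
def shC (K : CochainComplex (FilD.FilF A) ℤ) (a : ℤ) : CochainComplex (FilD.FilF A) ℤ where
  X n := K.X (n + a)
  d i j := K.d (i + a) (j + a)
  shape i j hij := K.shape _ _ (fun h => hij (by
    have h' : i + a + 1 = j + a := h
    show i + 1 = j
    omega))
  d_comp_d' i j k _ _ := K.d_comp_d _ _ _

/-- the naive shift of a morphism. -/
def shMap {K L : CochainComplex (FilD.FilF A) ℤ} (φ : K ⟶ L) (a : ℤ) : shC K a ⟶ shC L a where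
  f n := φ.f (n + a)
  comm' _ _ _ := φ.comm _ _

lemma shC_isStrictlyGE (K : CochainComplex (FilD.FilF A) ℤ) (a b c : ℤ) (hc : b + a = c)
    [K.IsStrictlyGE c] : (shC K a).IsStrictlyGE b := by
  rw [CochainComplex.isStrictlyGE_iff]
  intro i hi
  exact CochainComplex.isZero_of_isStrictlyGE K c (i + a) (by omega)

lemma shMap_qi {K L : CochainComplex (FilD.FilF A) ℤ} (φ : K ⟶ L) (a p : ℤ)
    (h : QuasiIso ((FilD.grCx p).map φ)) : QuasiIso ((FilD.grCx p).map (shMap φ a)) := by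
  rw [quasiIso_iff] at h ⊢
  intro n
  have hn := h (n + a)
  rw [quasiIsoAt_iff' _ (n - 1) n (n + 1) (CochainComplex.prev ℤ _) (CochainComplex.next ℤ _)]
  rw [quasiIsoAt_iff' _ (n - 1 + a) (n + a) (n + 1 + a)
    (by rw [CochainComplex.prev]; omega) (by rw [CochainComplex.next]; omega)] at hn
  exact hn

/-- a complex is isomorphic to its double naive shift. -/
noncomputable def shIso (K : CochainComplex (FilD.FilF A) ℤ) (a : ℤ) :
    K ≅ shC (shC K a) (-a) :=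
  HomologicalComplex.Hom.isoOfComponents
    (fun n => K.XIsoOfEq (show n = n + -a + a by omega)) (by
      intro i j _
      show (K.XIsoOfEq _).hom ≫ K.d (i + -a + a) (j + -a + a) =
        K.d i j ≫ (K.XIsoOfEq _).hom
      rw [HomologicalComplex.XIsoOfEq_hom_comp_d, HomologicalComplex.d_comp_XIsoOfEq_hom])

end Shift

/-- **Existence of filtered injective resolutions** of bounded below complexes, with strict
monomorphisms as components. -/
theorem exists_resolution [EnoughInjectives A] (K : CochainComplex (FilD.FilF A) ℤ) (a : ℤ)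
    [K.IsStrictlyGE a] :
    ∃ (I : CochainComplex (FilD.FilF A) ℤ) (a' : ℤ) (φ : K ⟶ I), I.IsStrictlyGE a' ∧
      (∀ n, FilD.IsFilteredInjective (I.X n)) ∧
      FilD.IsFilteredQuasiIso φ ∧ ∀ n, Mono (φ.f n) ∧ FilD.IsStrict (φ.f n) := by
  have : (shC K a).IsStrictlyGE 0 := shC_isStrictlyGE K a 0 a (zero_add a)
  refine ⟨shC (Jcx (shC K a)) (-a), a, (shIso K a).hom ≫ shMap (φJ (shC K a)) (-a), ?_, ?_, ?_, ?_⟩
  · have := Jcx_isStrictlyGE (shC K a)
    exact shC_isStrictlyGE (Jcx (shC K a)) (-a) a 0 (by omega)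
  · intro n
    exact Jcx_inj (shC K a) (n + -a)
  · intro p
    have h1 : QuasiIso ((FilD.grCx p).map (shMap (φJ (shC K a)) (-a))) :=
      shMap_qi _ _ _ (φJ_qi (shC K a) p)
    rw [Functor.map_comp]
    infer_instance
  · intro n
    have hiso : IsIso ((shIso K a).hom.f n) := inferInstance
    apply mono_strict_of_lev_gr
    · intro p
      have h1 : IsIso ((evF p).map ((shIso K a).hom.f n)) := Functor.map_isIso _ _
      have h2 := φJ_lev_mono (shC K a) (n + -a) p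
      show Mono ((evF p).map ((shIso K a).hom.f n) ≫
        (evF p).map ((φJ (shC K a)).f (n + -a)))
      exact @mono_comp _ _ _ _ _ _ inferInstance _ h2
    · intro p
      have h1 : IsIso ((FilD.grF A p).map ((shIso K a).hom.f n)) := Functor.map_isIso _ _
      have h2 := φJ_gr_mono (shC K a) (n + -a) p
      have h3 : (FilD.gr A p).map (((shIso K a).hom ≫ shMap (φJ (shC K a)) (-a)).f n).hom =
          (FilD.grF A p).map ((shIso K a).hom.f n) ≫
            (FilD.grF A p).map ((φJ (shC K a)).f (n + -a)) := by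
        rw [← Functor.map_comp]
        rfl
      rw [h3]
      exact @mono_comp _ _ _ _ _ _ inferInstance _ h2

end CE

end FilDLib
end Groth.Agent.H90
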