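import Mathlib
import Groth.Prelude.Def_FilD
import Groth.Agent.H90.FilDBasic
import Groth.Agent.H90.FilDHtpy
import Groth.Agent.H90.FilDCone
import Groth.Agent.H90.FilDRes
import Groth.Agent.H90.FilDTrunc

/-!
# The filtered horseshoe lemma
-/

universe v u

open CategoryTheory CategoryTheory.Limits Opposite ZeroObject

namespace Groth.Agent.H90
namespace FilDLib

set_option linter.unusedSectionVars false

variable {A : Type u} [Category.{v} A] [Abelian A]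

/-! ### A general formula for null-homotopies -/

lemma htpy_comm' {K I : CochainComplex (FilD.FilF A) ℤ} {φ : K ⟶ I} (h : Homotopy φ 0)
    (i j k : ℤ) (hij : i + 1 = j) (hjk : j + 1 = k) :
    φ.f j = K.d j k ≫ h.hom k j + h.hom j i ≫ I.d i j := by
  have e := h.comm j
  rw [dNext_eq _ (show (ComplexShape.up ℤ).Rel j k from hjk),
    prevD_eq _ (show (ComplexShape.up ℤ).Rel i j from hij)] at e
  simpa using e

/-! ### The augmented complex `X ⟶ Y ⟶ J⁰ ⟶ J¹ ⟶ ⋯` in degrees `0, 1, 2, …` -/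

section Aug

variable (X Y : FilD.FilF A) (J : CochainComplex (FilD.FilF A) ℤ)

/-- the terms. -/
noncomputable def HX : ℤ → FilD.FilF A
  | Int.ofNat 0 => X
  | Int.ofNat 1 => Y
  | Int.ofNat (n + 2) => J.X (n : ℤ)
  | Int.negSucc _ => 0

variable {X Y J}
variable (f : X ⟶ Y) (g' : Y ⟶ J.X 0)

/-- the differentials. -/
noncomputable def Hd : ∀ m : ℤ, HX X Y J m ⟶ HX X Y J (m + 1)
  | Int.ofNat 0 => (show X ⟶ Y from f)
  | Int.ofNat 1 => (show Y ⟶ J.X ((0 : ℕ) : ℤ) from g')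
  | Int.ofNat (n + 2) => J.d (n : ℤ) ((n + 1 : ℕ) : ℤ)
  | Int.negSucc _ => 0

variable (hfg : f ≫ g' = 0) (hgd : g' ≫ J.d 0 1 = 0)

include hfg hgd in
lemma Hd_sq : ∀ m : ℤ, Hd f g' m ≫ Hd f g' (m + 1) = 0
  | Int.ofNat 0 => (show f ≫ g' = 0 from hfg)
  | Int.ofNat 1 => (show g' ≫ J.d 0 1 = 0 from hgd)
  | Int.ofNat (n + 2) =>
    (show J.d (n : ℤ) ((n + 1 : ℕ) : ℤ) ≫ J.d ((n + 1 : ℕ) : ℤ) ((n + 1 + 1 : ℕ) : ℤ) = 0 from
      J.d_comp_d _ _ _)
  | Int.negSucc _ => zero_comp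

/-- the augmented complex. -/
noncomputable def Haug : CochainComplex (FilD.FilF A) ℤ :=
  CochainComplex.of (HX X Y J) (Hd f g') (Hd_sq f g' hfg hgd)

lemma Haug_d (m : ℤ) : (Haug f g' hfg hgd).d m (m + 1) = Hd f g' m :=
  CochainComplex.of_d _ _ m

lemma Haug_d0 : (Haug f g' hfg hgd).d 0 1 = f := Haug_d f g' hfg hgd 0

lemma Haug_d1 : (Haug f g' hfg hgd).d 1 2 = g' := Haug_d f g' hfg hgd 1

lemma Haug_dn (n : ℕ) : (Haug f g' hfg hgd).d (Int.ofNat (n + 2)) (Int.ofNat (n + 2) + 1) =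
    J.d (n : ℤ) ((n + 1 : ℕ) : ℤ) := Haug_d f g' hfg hgd (Int.ofNat (n + 2))

end Aug

lemma exactAt_of_grExact (K : CochainComplex (FilD.FilF A) ℤ) (p i j k : ℤ)
    (hij : i + 1 = j) (hjk : j + 1 = k) (h : GrExact (K.d i j).hom (K.d j k).hom p) :
    ((FilD.grCx p).obj K).ExactAt j := by
  rw [HomologicalComplex.exactAt_iff' _ i j k (by rw [CochainComplex.prev]; omega)
    (by rw [CochainComplex.next]; omega), ShortComplex.exact_iff_exact_up_to_refinements]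
  intro T y hy
  exact h y hy

lemma grExact_of_mono {F G H : ℤᵒᵖ ⥤ A} (f : F ⟶ G) (g : G ⟶ H) (p : ℤ)
    (hm : Mono ((FilD.gr A p).map g)) : GrExact f g p := by
  intro T y hy
  have y0 : y = 0 := by
    rw [← cancel_mono ((FilD.gr A p).map g), hy, zero_comp]
  exact ⟨T, 𝟙 T, inferInstance, 0, by rw [y0, comp_zero, zero_comp]⟩

section Phi

variable {X Y : FilD.FilF A} {J I : CochainComplex (FilD.FilF A) ℤ}
variable (f : X ⟶ Y) (g' : Y ⟶ J.X 0) (hfg : f ≫ g' = 0) (hgd : g' ≫ J.d 0 1 = 0)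

lemma Haug_acyclic (hmono : ∀ p, Mono ((FilD.gr A p).map f.hom))
    (hex1 : ∀ p, GrExact f.hom g'.hom p)
    (hex2 : ∀ p, GrExact g'.hom (J.d 0 1).hom p)
    (hexJ : ∀ (p : ℤ) (n : ℕ), GrExact (J.d (n : ℤ) ((n + 1 : ℕ) : ℤ)).hom
      (J.d ((n + 1 : ℕ) : ℤ) ((n + 1 + 1 : ℕ) : ℤ)).hom p) :
    FilD.IsFilteredAcyclic (Haug f g' hfg hgd) := by
  intro p m
  match m with
  | Int.negSucc k =>
    apply ShortComplex.exact_of_isZero_X₂
    exact (FilD.grF A p).map_isZero (isZero_zero (FilD.FilF A))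
  | Int.ofNat 0 =>
    refine exactAt_of_grExact _ p (-1) 0 1 (by norm_num) (by norm_num) ?_
    rw [Haug_d0]
    exact grExact_of_mono _ _ p (hmono p)
  | Int.ofNat 1 =>
    refine exactAt_of_grExact _ p 0 1 2 (by norm_num) (by norm_num) ?_
    rw [Haug_d0, Haug_d1]
    exact hex1 p
  | Int.ofNat 2 =>
    have e : (Int.ofNat 2 : ℤ) = 1 + 1 := rfl
    rw [e]
    refine exactAt_of_grExact _ p 1 (1 + 1) (1 + 1 + 1) rfl rfl ?_
    rw [Haug_d, Haug_d]
    exact hex2 p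
  | Int.ofNat (n + 3) =>
    have e : Int.ofNat (n + 3) = Int.ofNat (n + 2) + 1 := rfl
    rw [e]
    refine exactAt_of_grExact _ p (Int.ofNat (n + 2)) (Int.ofNat (n + 2) + 1)
      (Int.ofNat (n + 2) + 1 + 1) rfl rfl ?_
    rw [Haug_d, Haug_d]
    exact hexJ p n

variable (a0 : X ⟶ I.X 0) (ha0 : a0 ≫ I.d 0 1 = 0)

/-- the components of the map from the augmented complex. -/
noncomputable def Hφf : ∀ m : ℤ, HX X Y J m ⟶ I.X m
  | Int.ofNat 0 => a0
  | Int.ofNat (_ + 1) => 0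
  | Int.negSucc _ => 0

include ha0 in
lemma Hφ_comm : ∀ m : ℤ, Hφf (Y := Y) (J := J) a0 m ≫ I.d m (m + 1) =
    Hd f g' m ≫ Hφf a0 (m + 1)
  | Int.ofNat 0 => (show a0 ≫ I.d 0 1 = f ≫ 0 from ha0.trans comp_zero.symm)
  | Int.ofNat (_ + 1) => zero_comp.trans comp_zero.symm
  | Int.negSucc _ => zero_comp.trans zero_comp.symm

/-- the map from the augmented complex. -/
noncomputable def Hφ : Haug f g' hfg hgd ⟶ I where
  f m := Hφf a0 m
  comm' i j hij := by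
    have hj : i + 1 = j := hij
    subst hj
    rw [Haug_d]
    exact Hφ_comm f g' a0 ha0 i

end Phi

/-! ### Extracting the twisting data from a null-homotopy -/

section Extract

variable {X Y : FilD.FilF A} {J I : CochainComplex (FilD.FilF A) ℤ}
variable (f : X ⟶ Y) (g' : Y ⟶ J.X 0) (hfg : f ≫ g' = 0) (hgd : g' ≫ J.d 0 1 = 0)
variable (a0 : X ⟶ I.X 0) (ha0 : a0 ≫ I.d 0 1 = 0)
variable (h : Homotopy (Hφ f g' hfg hgd a0 ha0) 0)

/-- the extension of `a0` to `Y`. -/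
noncomputable def Hρ : Y ⟶ I.X 0 := h.hom 1 0

/-- the twisting maps. -/
noncomputable def Hθ (n : ℕ) : J.X (Int.ofNat n) ⟶ I.X (Int.ofNat n + 1) :=
  h.hom (Int.ofNat (n + 2)) (Int.ofNat n + 1)

lemma Hρ_spec [I.IsStrictlyGE 0] : f ≫ Hρ f g' hfg hgd a0 ha0 h = a0 := by
  have e := htpy_comm' h (-1) 0 1 (by norm_num) (by norm_num)
  rw [Haug_d0] at e
  have hz : h.hom 0 (-1) = 0 :=
    (CochainComplex.isZero_of_isStrictlyGE I 0 (-1) (by norm_num)).eq_of_tgt _ _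
  rw [hz, zero_comp, add_zero] at e
  exact e.symm

lemma Hθ_zero_spec :
    Hρ f g' hfg hgd a0 ha0 h ≫ I.d 0 (0 + 1) + g' ≫ Hθ f g' hfg hgd a0 ha0 h 0 = 0 := by
  have e := htpy_comm' h 0 1 2 (by norm_num) (by norm_num)
  rw [Haug_d1, add_comm] at e
  exact e.symm

lemma Hθ_succ_spec (n : ℕ) :
    Hθ f g' hfg hgd a0 ha0 h n ≫ I.d (Int.ofNat n + 1) (Int.ofNat (n + 1) + 1) +
      J.d (Int.ofNat n) (Int.ofNat (n + 1)) ≫ Hθ f g' hfg hgd a0 ha0 h (n + 1) = 0 := by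
  have e := htpy_comm' h (Int.ofNat n + 1) (Int.ofNat (n + 2)) (Int.ofNat (n + 2) + 1) rfl rfl
  rw [Haug_dn] at e
  exact (add_comm _ _).trans e.symm

end Extract

/-! ### Extension of an `ℕ`-indexed family by zero -/

section ExtZ

variable {J I : CochainComplex (FilD.FilF A) ℤ}

/-- extension by zero. -/
noncomputable def extZ (θ : ∀ n : ℕ, J.X (Int.ofNat n) ⟶ I.X (Int.ofNat n + 1)) :
    ∀ m : ℤ, J.X m ⟶ I.X (m + 1)
  | Int.ofNat n => θ n
  | Int.negSucc _ => 0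

lemma extZ_rel [J.IsStrictlyGE 0] (θ : ∀ n : ℕ, J.X (Int.ofNat n) ⟶ I.X (Int.ofNat n + 1))
    (r : ∀ n : ℕ, θ n ≫ I.d (Int.ofNat n + 1) (Int.ofNat (n + 1) + 1) +
      J.d (Int.ofNat n) (Int.ofNat (n + 1)) ≫ θ (n + 1) = 0) :
    ∀ m : ℤ, extZ θ m ≫ I.d (m + 1) (m + 1 + 1) + J.d m (m + 1) ≫ extZ θ (m + 1) = 0
  | Int.ofNat n => r n
  | Int.negSucc k =>
    (CochainComplex.isZero_of_isStrictlyGE J 0 (Int.negSucc k) (Int.negSucc_lt_zero k)).eq_of_src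
      _ _

end ExtZ

/-! ### The twisted direct sum complex -/

section MCx

variable (I J : CochainComplex (FilD.FilF A) ℤ)

/-- the terms of the twisted sum. -/
noncomputable abbrev MX (m : ℤ) : FilD.FilF A := I.X m ⊞ J.X m

variable {I J}
variable (Θ : ∀ m : ℤ, J.X m ⟶ I.X (m + 1))

/-- the twisted differential. -/
noncomputable def Md (m : ℤ) : MX I J m ⟶ MX I J (m + 1) :=
  biprod.desc (I.d m (m + 1) ≫ biprod.inl) (Θ m ≫ biprod.inl + J.d m (m + 1) ≫ biprod.inr)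

lemma inl_Md (m : ℤ) : biprod.inl ≫ Md Θ m = I.d m (m + 1) ≫ biprod.inl := by
  unfold Md
  rw [biprod.inl_desc]

lemma inr_Md (m : ℤ) :
    biprod.inr ≫ Md Θ m = Θ m ≫ biprod.inl + J.d m (m + 1) ≫ biprod.inr := by
  unfold Md
  rw [biprod.inr_desc]

variable (R : ∀ m : ℤ, Θ m ≫ I.d (m + 1) (m + 1 + 1) + J.d m (m + 1) ≫ Θ (m + 1) = 0)

include R in
lemma Md_sq (m : ℤ) : Md Θ m ≫ Md Θ (m + 1) = 0 := by
  apply biprod.hom_ext'
  · rw [← Category.assoc, inl_Md, Category.assoc, inl_Md, ← Category.assoc, I.d_comp_d,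
      zero_comp, comp_zero]
  · rw [← Category.assoc, inr_Md, Preadditive.add_comp, Category.assoc, inl_Md,
      Category.assoc, inr_Md, Preadditive.comp_add, ← Category.assoc (J.d m (m + 1)),
      ← Category.assoc (J.d m (m + 1)), J.d_comp_d, zero_comp, add_zero, comp_zero,
      ← Category.assoc (Θ m), ← Preadditive.add_comp, R, zero_comp]

lemma Md_snd (m : ℤ) : Md Θ m ≫ biprod.snd = biprod.snd ≫ J.d m (m + 1) := by
  apply biprod.hom_ext'
  · rw [← Category.assoc, inl_Md, Category.assoc, biprod.inl_snd, comp_zero,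
      biprod.inl_snd_assoc, zero_comp]
  · rw [← Category.assoc, inr_Md, Preadditive.add_comp, Category.assoc, biprod.inl_snd,
      comp_zero, zero_add, Category.assoc, biprod.inr_snd, Category.comp_id,
      biprod.inr_snd_assoc]

/-- the twisted sum complex. -/
noncomputable def Mcx : CochainComplex (FilD.FilF A) ℤ :=
  CochainComplex.of (MX I J) (Md Θ) (Md_sq Θ R)

lemma Mcx_d (m : ℤ) : (Mcx Θ R).d m (m + 1) = Md Θ m := CochainComplex.of_d _ _ m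

/-- the inclusion of `I`. -/
noncomputable def Mα : I ⟶ Mcx Θ R where
  f m := biprod.inl
  comm' i j hij := by
    have hj : i + 1 = j := hij
    subst hj
    rw [Mcx_d]
    exact inl_Md Θ i

/-- the projection to `J`. -/
noncomputable def Mβ : Mcx Θ R ⟶ J where
  f m := biprod.snd
  comm' i j hij := by
    have hj : i + 1 = j := hij
    subst hj
    rw [Mcx_d]
    exact (Md_snd Θ i).symm

variable {Y : FilD.FilF A} (ρ : Y ⟶ I.X 0) (g' : Y ⟶ J.X 0)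
  (hρ : ρ ≫ I.d 0 (0 + 1) + g' ≫ Θ 0 = 0) (hg' : g' ≫ J.d 0 (0 + 1) = 0)

/-- the degree zero component of the map from `Y[0]`. -/
noncomputable def Mb0 : Y ⟶ MX I J 0 := biprod.lift ρ g'

include hρ hg' in
lemma Mb0_d : Mb0 ρ g' ≫ Md Θ 0 = 0 := by
  have e : Mb0 ρ g' = ρ ≫ biprod.inl + g' ≫ biprod.inr := by
    unfold Mb0
    apply biprod.hom_ext
    · rw [biprod.lift_fst, Preadditive.add_comp, Category.assoc, biprod.inl_fst,
        Category.comp_id, Category.assoc, biprod.inr_fst, comp_zero, add_zero]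
    · rw [biprod.lift_snd, Preadditive.add_comp, Category.assoc, biprod.inl_snd,
        comp_zero, Category.assoc, biprod.inr_snd, Category.comp_id, zero_add]
  rw [e, Preadditive.add_comp, Category.assoc, inl_Md, Category.assoc, inr_Md,
    Preadditive.comp_add, ← Category.assoc, ← Category.assoc g', ← Category.assoc g', hg',
    zero_comp, add_zero, ← Preadditive.add_comp, hρ, zero_comp]

/-- the map from `Y[0]`. -/
noncomputable def Mb : (CochainComplex.singleFunctor (FilD.FilF A) 0).obj Y ⟶ Mcx Θ R :=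
  HomologicalComplex.mkHomFromSingle (K := Mcx Θ R) (j := (0 : ℤ)) (Mb0 ρ g') (by
    intro k hk
    have hk' : (0 : ℤ) + 1 = k := hk
    subst hk'
    rw [Mcx_d]
    exact Mb0_d Θ ρ g' hρ hg')

lemma Mb_f_zero : (Mb Θ R ρ g' hρ hg').f 0 =
    (HomologicalComplex.singleObjXSelf (ComplexShape.up ℤ) 0 Y).hom ≫ Mb0 ρ g' :=
  HomologicalComplex.mkHomFromSingle_f _ _

end MCx

/-! ### Exactness lemmas -/

section GrLemmas2

variable {F G H H' : ℤᵒᵖ ⥤ A}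

lemma grExact_comp_mono (f : F ⟶ G) (g : G ⟶ H) (m : H ⟶ H') (p : ℤ)
    (hm : Mono ((FilD.gr A p).map m)) (h : GrExact f g p) : GrExact f (g ≫ m) p := by
  intro T y hy
  apply h y
  rw [Functor.map_comp, ← Category.assoc] at hy
  exact (cancel_mono ((FilD.gr A p).map m)).1 (hy.trans zero_comp.symm)

lemma grExact_epi_comp (e : F ⟶ G) (m : G ⟶ H) (d : H ⟶ H') (p : ℤ)
    (he : Epi ((FilD.gr A p).map e)) (h : GrExact m d p) : GrExact (e ≫ m) d p := by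
  intro T y hy
  obtain ⟨T₁, π₁, hπ₁, z, hz⟩ := h y hy
  obtain ⟨T₂, π₂, hπ₂, w, hw⟩ := surjective_up_to_refinements_of_epi ((FilD.gr A p).map e) z
  exact ⟨T₂, π₂ ≫ π₁, epi_comp _ _, w, by
    rw [Category.assoc, hz, ← Category.assoc, hw, Category.assoc, ← Functor.map_comp]⟩

end GrLemmas2

section FromS

variable (S : ShortComplex (FilD.FilF A))
  (hS : ∀ p : ℤ, (S.map ((FilD.IsFinFil A).ι ⋙ (evaluation ℤᵒᵖ A).obj (op p))).ShortExact)

lemma S_w : S.f.hom ≫ S.g.hom = 0 := congrArg (fun φ => φ.hom) S.zero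

include hS in
lemma S_levExact (p : ℤ) : LevExact S.f.hom S.g.hom p := by
  intro T y hy
  exact (hS p).exact.exact_up_to_refinements y hy

include hS in
lemma S_mono_app (p : ℤ) : Mono (S.f.hom.app (op p)) := (hS p).mono_f

include hS in
lemma S_epi_app (p : ℤ) : Epi (S.g.hom.app (op p)) := (hS p).epi_g

include hS in
lemma S_strict : StrictLift S.f.hom :=
  strictLift_f_of_levExact (S_w S) (fun p q h => S.X₃.property.1 _) (S_levExact S hS)

include hS in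
lemma S_gr_mono (p : ℤ) : Mono ((FilD.gr A p).map S.f.hom) :=
  gr_mono_of_strictLift S.f.hom (S_strict S hS) (S_mono_app S hS) p

include hS in
lemma S_grExact (p : ℤ) : GrExact S.f.hom S.g.hom p :=
  grExact_of_levExact S.f.hom S.g.hom (S_epi_app S hS) (S_levExact S hS) p

include hS in
lemma S_gr_epi (p : ℤ) : Epi ((FilD.gr A p).map S.g.hom) :=
  gr_epi_of_epi S.g.hom (S_epi_app S hS) p

end FromS

section FromQI

/-- the identification of the degree zero term of a single complex. -/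
noncomputable def sgl (Z : FilD.FilF A) :
    ((CochainComplex.singleFunctor (FilD.FilF A) 0).obj Z).X 0 ≅ Z :=
  HomologicalComplex.singleObjXSelf (ComplexShape.up ℤ) 0 Z

lemma single_gr_exactAt' (Z : FilD.FilF A) (p n : ℤ) (hn : n ≠ 0) :
    ((FilD.grCx p).obj ((CochainComplex.singleFunctor (FilD.FilF A) 0).obj Z)).ExactAt n := by
  apply ShortComplex.exact_of_isZero_X₂
  exact (FilD.grF A p).map_isZero
    (HomologicalComplex.isZero_single_obj_X (ComplexShape.up ℤ) 0 Z n hn)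

variable {Z : FilD.FilF A} {J : CochainComplex (FilD.FilF A) ℤ}
  (c : (CochainComplex.singleFunctor (FilD.FilF A) 0).obj Z ⟶ J)
  (hc : FilD.IsFilteredQuasiIso c)

include hc in
lemma qi_exact_pos (p i j k : ℤ) (hij : i + 1 = j) (hjk : j + 1 = k) (hj : j ≠ 0) :
    GrExact (J.d i j).hom (J.d j k).hom p := by
  have := hc p
  have hE : ((FilD.grCx p).obj J).ExactAt j :=
    (quasiIsoAt_iff_exactAt ((FilD.grCx p).map c) j (single_gr_exactAt' Z p j hj)).1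
      inferInstance
  rw [HomologicalComplex.exactAt_iff' _ i j k (by rw [CochainComplex.prev]; omega)
    (by rw [CochainComplex.next]; omega)] at hE
  intro T y hy
  exact hE.exact_up_to_refinements y hy

/-- the degree zero component of the augmentation. -/
noncomputable def qc0 : Z ⟶ J.X 0 := (sgl Z).inv ≫ c.f 0

lemma qc0_d : qc0 c ≫ J.d 0 1 = 0 := by
  have e : c.f 0 ≫ J.d 0 1 = 0 := by
    rw [c.comm 0 1]
    exact zero_comp
  unfold qc0
  rw [Category.assoc, e, comp_zero]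

lemma hom_comp_qc0 : (sgl Z).hom ≫ qc0 c = c.f 0 := by
  unfold qc0
  rw [Iso.hom_inv_id_assoc]

include hc in
lemma qi_zero [J.IsStrictlyGE 0] (p : ℤ) :
    Mono ((FilD.gr A p).map (c.f 0).hom) ∧
      ∀ ⦃T : A⦄ (y : T ⟶ (FilD.gr A p).obj (J.X 0).obj),
        y ≫ (FilD.gr A p).map (J.d 0 1).hom = 0 →
        ∃ (T' : A) (π : T' ⟶ T) (_ : Epi π)
          (x : T' ⟶ (FilD.gr A p).obj
            (((CochainComplex.singleFunctor (FilD.FilF A) 0).obj Z).X 0).obj),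
          π ≫ y = x ≫ (FilD.gr A p).map (c.f 0).hom := by
  have := hc p
  have hq : QuasiIsoAt ((FilD.grCx p).map c) 0 := inferInstance
  rw [quasiIsoAt_iff' _ (-1) 0 1 (by simp) (by simp)] at hq
  have A1 : (FilD.grF A p).map
      (((CochainComplex.singleFunctor (FilD.FilF A) 0).obj Z).d (-1) 0) = 0 :=
    (FilD.grF A p).map_zero _ _
  have A2 : (FilD.grF A p).map
      (((CochainComplex.singleFunctor (FilD.FilF A) 0).obj Z).d 0 1) = 0 :=
    (FilD.grF A p).map_zero _ _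
  have A3 : (FilD.grF A p).map (J.d (-1) 0) = 0 := by
    apply IsZero.eq_of_src
    exact (FilD.grF A p).map_isZero
      (CochainComplex.isZero_of_isStrictlyGE J 0 (-1) (by norm_num))
  obtain ⟨h1, h2⟩ := (ShortComplex.quasiIso_iff_of_zeros _ A1 A2 A3).1 hq
  exact ⟨h2, fun T y hy => h1.exact_up_to_refinements y hy⟩

lemma gr_qc0_eq (p : ℤ) : (FilD.gr A p).map (qc0 c).hom =
    (FilD.grF A p).map (sgl Z).inv ≫ (FilD.gr A p).map (c.f 0).hom :=
  (FilD.gr A p).map_comp _ _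

lemma gr_sgl_qc0 (p : ℤ) : (FilD.grF A p).map (sgl Z).hom ≫ (FilD.gr A p).map (qc0 c).hom =
    (FilD.gr A p).map (c.f 0).hom := by
  have e1 := congrArg (fun φ => (FilD.grF A p).map φ) (hom_comp_qc0 c)
  exact ((FilD.grF A p).map_comp _ _).symm.trans e1

include hc in
lemma qc0_gr_mono [J.IsStrictlyGE 0] (p : ℤ) : Mono ((FilD.gr A p).map (qc0 c).hom) := by
  have hm := (qi_zero c hc p).1
  rw [gr_qc0_eq]
  exact @mono_comp _ _ _ _ _ _ inferInstance _ hm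

include hc in
lemma qc0_grExact [J.IsStrictlyGE 0] (p : ℤ) : GrExact (qc0 c).hom (J.d 0 1).hom p := by
  intro T y hy
  obtain ⟨T', π, hπ, x, hx⟩ := (qi_zero c hc p).2 y hy
  refine ⟨T', π, hπ, x ≫ (FilD.grF A p).map (sgl Z).hom, ?_⟩
  rw [Category.assoc, gr_sgl_qc0]
  exact hx

end FromQI

/-! ### The two squares -/

section Squares

variable {I J : CochainComplex (FilD.FilF A) ℤ} (Θ : ∀ m : ℤ, J.X m ⟶ I.X (m + 1))
  (R : ∀ m : ℤ, Θ m ≫ I.d (m + 1) (m + 1 + 1) + J.d m (m + 1) ≫ Θ (m + 1) = 0)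
  {Y : FilD.FilF A} (ρ : Y ⟶ I.X 0) (g' : Y ⟶ J.X 0)
  (hρ : ρ ≫ I.d 0 (0 + 1) + g' ≫ Θ 0 = 0) (hg' : g' ≫ J.d 0 (0 + 1) = 0)

lemma single_map_f0 {X Y : FilD.FilF A} (f : X ⟶ Y) :
    ((CochainComplex.singleFunctor (FilD.FilF A) 0).map f).f 0 =
      (sgl X).hom ≫ f ≫ (sgl Y).inv :=
  HomologicalComplex.single_map_f_self (ComplexShape.up ℤ) 0 f

lemma Mb_f0 : (Mb Θ R ρ g' hρ hg').f 0 = (sgl Y).hom ≫ Mb0 ρ g' :=
  Mb_f_zero Θ R ρ g' hρ hg'

lemma Mb0_eq {X : FilD.FilF A} (f : X ⟶ Y) (a0 : X ⟶ I.X 0) (h1 : f ≫ ρ = a0)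
    (h2 : f ≫ g' = 0) : a0 ≫ (biprod.inl : I.X 0 ⟶ I.X 0 ⊞ J.X 0) = f ≫ Mb0 ρ g' := by
  unfold Mb0
  apply biprod.hom_ext
  · rw [Category.assoc, biprod.inl_fst, Category.comp_id, Category.assoc, biprod.lift_fst, h1]
  · rw [Category.assoc, biprod.inl_snd, comp_zero, Category.assoc, biprod.lift_snd, h2]

lemma sq_left {X : FilD.FilF A}
    (a : (CochainComplex.singleFunctor (FilD.FilF A) 0).obj X ⟶ I) (f : X ⟶ Y)
    (a0 : X ⟶ I.X 0) (ha0 : (sgl X).hom ≫ a0 = a.f 0) (h1 : f ≫ ρ = a0) (h2 : f ≫ g' = 0) :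
    a ≫ Mα Θ R = (CochainComplex.singleFunctor (FilD.FilF A) 0).map f ≫
      Mb Θ R ρ g' hρ hg' := by
  apply HomologicalComplex.from_single_hom_ext
  have e1 : (a ≫ Mα Θ R).f 0 = ((sgl X).hom ≫ a0) ≫ (biprod.inl : I.X 0 ⟶ I.X 0 ⊞ J.X 0) := by
    rw [ha0]
    rfl
  have e2 : ((CochainComplex.singleFunctor (FilD.FilF A) 0).map f ≫ Mb Θ R ρ g' hρ hg').f 0 =
      ((sgl X).hom ≫ f ≫ (sgl Y).inv) ≫ (sgl Y).hom ≫ Mb0 ρ g' := by
    rw [← single_map_f0, ← Mb_f0 Θ R ρ g' hρ hg']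
    rfl
  rw [e1, e2, Category.assoc, Category.assoc, Category.assoc, Iso.inv_hom_id_assoc,
    Mb0_eq ρ g' f a0 h1 h2]

lemma sq_right {Z : FilD.FilF A}
    (c : (CochainComplex.singleFunctor (FilD.FilF A) 0).obj Z ⟶ J) (g : Y ⟶ Z)
    (hg : g' = g ≫ qc0 c) :
    Mb Θ R ρ g' hρ hg' ≫ Mβ Θ R =
      (CochainComplex.singleFunctor (FilD.FilF A) 0).map g ≫ c := by
  apply HomologicalComplex.from_single_hom_ext
  have e1 : (Mb Θ R ρ g' hρ hg' ≫ Mβ Θ R).f 0 =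
      ((sgl Y).hom ≫ Mb0 ρ g') ≫ (biprod.snd : I.X 0 ⊞ J.X 0 ⟶ J.X 0) := by
    rw [← Mb_f0 Θ R ρ g' hρ hg']
    rfl
  have e2 : ((CochainComplex.singleFunctor (FilD.FilF A) 0).map g ≫ c).f 0 =
      ((sgl Y).hom ≫ g ≫ (sgl Z).inv) ≫ c.f 0 := by
    rw [← single_map_f0]
    rfl
  rw [e1, e2, Category.assoc, Category.assoc, Category.assoc]
  unfold Mb0
  rw [biprod.lift_snd, hg]
  rfl

end Squares

/-! ### The horseshoe lemma -/

theorem horseshoe (S : ShortComplex (FilD.FilF A))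
    (hS : ∀ p : ℤ, (S.map ((FilD.IsFinFil A).ι ⋙ (evaluation ℤᵒᵖ A).obj (op p))).ShortExact)
    (I : CochainComplex (FilD.FilF A) ℤ) [I.IsStrictlyGE 0]
    (hI : ∀ n, FilD.IsFilteredInjective (I.X n))
    (a : (CochainComplex.singleFunctor (FilD.FilF A) 0).obj S.X₁ ⟶ I)
    (J : CochainComplex (FilD.FilF A) ℤ) [J.IsStrictlyGE 0]
    (c : (CochainComplex.singleFunctor (FilD.FilF A) 0).obj S.X₃ ⟶ J)
    (hc : FilD.IsFilteredQuasiIso c) :
    ∃ (M : CochainComplex (FilD.FilF A) ℤ) (α : I ⟶ M) (β : M ⟶ J)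
      (b : (CochainComplex.singleFunctor (FilD.FilF A) 0).obj S.X₂ ⟶ M),
      (∀ n, ∃ (r : M.X n ⟶ I.X n) (s : J.X n ⟶ M.X n), α.f n ≫ r = 𝟙 _ ∧ s ≫ β.f n = 𝟙 _ ∧
        α.f n ≫ β.f n = 0 ∧ r ≫ α.f n + β.f n ≫ s = 𝟙 _) ∧
      a ≫ α = (CochainComplex.singleFunctor (FilD.FilF A) 0).map S.f ≫ b ∧
      b ≫ β = (CochainComplex.singleFunctor (FilD.FilF A) 0).map S.g ≫ c := by
  obtain ⟨a0, ha0def⟩ : ∃ a0 : S.X₁ ⟶ I.X 0, a0 = (sgl S.X₁).inv ≫ a.f 0 := ⟨_, rfl⟩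
  have ha0' : (sgl S.X₁).hom ≫ a0 = a.f 0 := by rw [ha0def, Iso.hom_inv_id_assoc]
  have ha0 : a0 ≫ I.d 0 1 = 0 := by
    have e : a.f 0 ≫ I.d 0 1 = 0 := by
      rw [a.comm 0 1]
      exact zero_comp
    rw [ha0def, Category.assoc, e, comp_zero]
  obtain ⟨g', hg'def⟩ : ∃ g' : S.X₂ ⟶ J.X 0, g' = S.g ≫ qc0 c := ⟨_, rfl⟩
  have hfg : S.f ≫ g' = 0 := by rw [hg'def, ← Category.assoc, S.zero, zero_comp]
  have hgd : g' ≫ J.d 0 1 = 0 := by rw [hg'def, Category.assoc, qc0_d, comp_zero]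
  have hex1 : ∀ p, GrExact S.f.hom g'.hom p := by
    intro p
    rw [hg'def]
    exact grExact_comp_mono S.f.hom S.g.hom (qc0 c).hom p (qc0_gr_mono c hc p)
      (S_grExact S hS p)
  have hex2 : ∀ p, GrExact g'.hom (J.d 0 1).hom p := by
    intro p
    rw [hg'def]
    exact grExact_epi_comp S.g.hom (qc0 c).hom (J.d 0 1).hom p (S_gr_epi S hS p)
      (qc0_grExact c hc p)
  have hexJ : ∀ (p : ℤ) (n : ℕ), GrExact (J.d (n : ℤ) ((n + 1 : ℕ) : ℤ)).hom
      (J.d ((n + 1 : ℕ) : ℤ) ((n + 1 + 1 : ℕ) : ℤ)).hom p :=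
    fun p n => qi_exact_pos c hc p _ _ _ (by omega) (by omega) (by omega)
  have hK := Haug_acyclic S.f g' hfg hgd (S_gr_mono S hS) hex1 hex2 hexJ
  obtain ⟨h⟩ := nullHomotopic (Hφ S.f g' hfg hgd a0 ha0) hK hI 0
  have hρ1 : S.f ≫ Hρ S.f g' hfg hgd a0 ha0 h = a0 := Hρ_spec S.f g' hfg hgd a0 ha0 h
  have hR := extZ_rel (Hθ S.f g' hfg hgd a0 ha0 h) (Hθ_succ_spec S.f g' hfg hgd a0 ha0 h)
  have hρ2 : Hρ S.f g' hfg hgd a0 ha0 h ≫ I.d 0 (0 + 1) +
      g' ≫ extZ (Hθ S.f g' hfg hgd a0 ha0 h) 0 = 0 := Hθ_zero_spec S.f g' hfg hgd a0 ha0 h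
  have hgd' : g' ≫ J.d 0 (0 + 1) = 0 := hgd
  refine ⟨Mcx _ hR, Mα _ hR, Mβ _ hR, Mb _ hR _ g' hρ2 hgd', ?_, ?_, ?_⟩
  · intro n
    exact ⟨biprod.fst, biprod.inr, biprod.inl_fst, biprod.inr_snd, biprod.inl_snd,
      biprod.total⟩
  · exact sq_left _ hR _ g' hρ2 hgd' a S.f a0 ha0' hρ1 hfg
  · exact sq_right _ hR _ g' hρ2 hgd' c S.g hg'def

end FilDLib
end Groth.Agent.H90
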