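import Groth.Prelude.Def_W4c5stacksedinertiaGpd
import Mathlib

set_option autoImplicit false

namespace Groth.Agent.H90

open W4c5stacksedinertia

universe u v

/-- The presentation `FinGrp.of G` is isomorphic to `G`. -/
noncomputable def ofEquiv (G : Type u) [Group G] [Finite G] : (FinGrp.of G).carrier ≃* G :=
  letI e : Fin (Nat.card G) ≃ G := (Nat.equivFinOfCardPos (α := G) Nat.card_pos.ne').symm
  { e with
    map_mul' := fun x y => by
      show e (e.symm (e x * e y)) = e x * e y
      simp }

theorem idxOf_eq_of_mulEquiv {G : Type u} {H : Type v} [Group G] [Finite G] [Group H] [Finite H]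
    (e : G ≃* H) : Idx.of G = Idx.of H :=
  Quotient.sound ⟨(ofEquiv G).trans (e.trans (ofEquiv H).symm)⟩

theorem cl_congr {G : Type u} {H : Type v} [Group G] [Finite G] [Group H] [Finite H]
    (e : G ≃* H) : cl G = cl H := by
  unfold cl; rw [idxOf_eq_of_mulEquiv e]

/-- The chosen representative of the class of `G` is isomorphic to `G`. -/
noncomputable def repEquiv (G : Type u) [Group G] [Finite G] : (Idx.of G).rep ≃* G :=
  (Classical.choice (Quotient.mk_out (s := FinGrp.setoid) (FinGrp.of G))).trans (ofEquiv G)

theorem idxOf_rep (i : Idx) : Idx.of i.rep = i := by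
  conv_rhs => rw [← Quotient.out_eq i]
  exact Quotient.sound ⟨ofEquiv _⟩

theorem cl_rep (i : Idx) : cl i.rep = Finsupp.single i 1 := by
  unfold cl; rw [idxOf_rep]

theorem card_idxOf (G : Type u) [Group G] [Finite G] : (Idx.of G).card = Nat.card G :=
  Nat.card_congr (repEquiv G).toEquiv

/-- A group isomorphism identifies the centres. -/
noncomputable def centerEquiv {G : Type u} {H : Type v} [Group G] [Group H] (e : G ≃* H) :
    Subgroup.center G ≃ Subgroup.center H where
  toFun z := ⟨e z.1, by
    rw [Subgroup.mem_center_iff]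
    intro h
    have := (Subgroup.mem_center_iff.mp z.2) (e.symm h)
    have := congrArg e this
    simpa using this⟩
  invFun z := ⟨e.symm z.1, by
    rw [Subgroup.mem_center_iff]
    intro g
    have := (Subgroup.mem_center_iff.mp z.2) (e g)
    have := congrArg e.symm this
    simpa using this⟩
  left_inv z := by simp
  right_inv z := by simp

theorem centerCard_idxOf (G : Type u) [Group G] [Finite G] :
    (Idx.of G).centerCard = Nat.card (Subgroup.center G) :=
  Nat.card_congr (centerEquiv (repEquiv G))

theorem inertiaR_single (r : ℕ) (i : Idx) (c : ℚ) :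
    inertiaR r (Finsupp.single i c) = c • inertiaROf r i.rep := by
  unfold inertiaR
  rw [Finsupp.linearCombination_single]

theorem mem_Kge_single {k : ℕ} {i : Idx} (c : ℚ) (h : k ≤ i.centerCard) :
    Finsupp.single i c ∈ Kge k := by
  unfold Kge
  rw [Finsupp.mem_supported]
  refine (Finset.coe_subset.mpr Finsupp.support_single_subset).trans ?_
  simpa using h

theorem cl_mem_Kge {G : Type u} [Group G] [Finite G] {k : ℕ}
    (h : k ≤ Nat.card (Subgroup.center G)) : cl G ∈ Kge k := by
  unfold cl
  exact mem_Kge_single 1 (by rw [centerCard_idxOf]; exact h)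

theorem Kge_anti {a b : ℕ} (h : a ≤ b) : Kge b ≤ Kge a :=
  Finsupp.supported_mono (fun _ hi => le_trans h hi)

end Groth.Agent.H90
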