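import Groth.Agent.H90.InertiaOps2

set_option autoImplicit false
set_option linter.style.haveILetI false
set_option linter.unusedSectionVars false

namespace Groth.Agent.H90

open W4c5stacksedinertia

universe u

section

variable {G : Type u} [Group G]

/-- all entries central -/
def IsCentralT {r : ℕ} (s : Fin r → G) : Prop := ∀ i, s i ∈ Subgroup.center G

theorem Cz_eq_top_of_central {r : ℕ} {s : Fin r → G} (hs : IsCentralT s) : Cz s = ⊤ := by
  ext x
  simp only [Subgroup.mem_top, iff_true]
  rw [mem_Cz]
  intro i
  exact ((Subgroup.mem_center_iff.mp (hs i)) x).symm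

theorem isCT_of_central_injective {r : ℕ} {s : Fin r → G} (hs : IsCentralT s)
    (hi : Function.Injective s) : IsCT s :=
  ⟨hi, fun i j => (commute_iff_eq _ _).mpr ((Subgroup.mem_center_iff.mp (hs j)) (s i))⟩

/-- central injective tuples are embeddings into the centre -/
def centralEquiv (r : ℕ) :
    {s : Fin r → G // Function.Injective s ∧ IsCentralT s} ≃ (Fin r ↪ Subgroup.center G) where
  toFun s := ⟨fun i => ⟨s.1 i, s.2.2 i⟩, fun i j h => s.2.1 (congrArg Subtype.val h)⟩
  invFun f := ⟨fun i => (f i).1, fun i j h => f.injective (Subtype.ext h), fun i => (f i).2⟩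
  left_inv s := rfl
  right_inv f := rfl

variable [Finite G]

theorem card_center_Cz_of_not_central {r : ℕ} {s : Fin r → G} (hs : IsCT s)
    (hnc : ¬ IsCentralT s) :
    Nat.card (Subgroup.center G) + 1 ≤ Nat.card (Subgroup.center (Cz s)) := by
  unfold IsCentralT at hnc
  push Not at hnc
  obtain ⟨j, hj⟩ := hnc
  have hsj : s j ∈ Cz s := range_subset_Cz hs ⟨j, rfl⟩
  let f : Option (Subgroup.center G) → Subgroup.center (Cz s) := fun o =>
    match o with
    | none => ⟨⟨s j, hsj⟩, by
        rw [Subgroup.mem_center_iff]
        intro x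
        apply Subtype.ext
        exact ((mem_Cz.mp x.2) j).symm⟩
    | some z => ⟨⟨z.1, by
        rw [mem_Cz]; intro i
        exact ((Subgroup.mem_center_iff.mp z.2) (s i))⟩, by
        rw [Subgroup.mem_center_iff]
        intro x
        apply Subtype.ext
        exact (Subgroup.mem_center_iff.mp z.2) x.1⟩
  have hf : Function.Injective f := by
    intro a b hab
    cases a with
    | none =>
      cases b with
      | none => rfl
      | some z =>
        exfalso
        have : s j = z.1 := congrArg (fun t : Subgroup.center (Cz s) => t.1.1) hab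
        exact hj (this ▸ z.2)
    | some z =>
      cases b with
      | none =>
        exfalso
        have : z.1 = s j := congrArg (fun t : Subgroup.center (Cz s) => t.1.1) hab
        exact hj (this ▸ z.2)
      | some z' =>
        have : z.1 = z'.1 := congrArg (fun t : Subgroup.center (Cz s) => t.1.1) hab
        rw [Subtype.ext this]
  have := Nat.card_le_card_of_injective f hf
  rw [Finite.card_option] at this
  exact this

open Classical in
theorem W_sub_mem_Kge (r : ℕ) :
    W r G - (((Nat.card (Subgroup.center G)).descFactorial r : ℚ) * (Nat.card G : ℚ)) • cl G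
      ∈ Kge (Nat.card (Subgroup.center G) + 1) := by
  letI : Fintype G := Fintype.ofFinite G
  rw [W_eq_sum]
  -- split according to centrality
  have hsplit : ∀ s : Fin r → G,
      (if IsCT s then (Nat.card (Cz s) : ℚ) • cl (Cz s) else 0)
      = (if Function.Injective s ∧ IsCentralT s then (Nat.card G : ℚ) • cl G else 0)
        + (if IsCT s ∧ ¬ IsCentralT s then (Nat.card (Cz s) : ℚ) • cl (Cz s) else 0) := by
    intro s
    by_cases hc : IsCentralT s
    · by_cases hi : Function.Injective s
      · have e : Cz s ≃* G :=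
          (MulEquiv.subgroupCongr (Cz_eq_top_of_central hc)).trans Subgroup.topEquiv
        rw [if_pos (isCT_of_central_injective hc hi), if_pos ⟨hi, hc⟩, if_neg (fun h => h.2 hc),
          add_zero, cl_congr e, Nat.card_congr e.toEquiv]
      · rw [if_neg (fun h : IsCT s => hi h.1), if_neg (fun h => hi h.1), if_neg (fun h => h.2 hc),
          add_zero]
    · rw [if_neg (fun h : Function.Injective s ∧ IsCentralT s => hc h.2), zero_add]
      by_cases h : IsCT s
      · rw [if_pos h, if_pos ⟨h, hc⟩]
      · rw [if_neg h, if_neg (fun h' => h h'.1)]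
  rw [Finset.sum_congr rfl (fun s _ => hsplit s), Finset.sum_add_distrib]
  have hcount : (∑ s : Fin r → G,
      if Function.Injective s ∧ IsCentralT s then (Nat.card G : ℚ) • cl G else 0)
      = (((Nat.card (Subgroup.center G)).descFactorial r : ℚ) * (Nat.card G : ℚ)) • cl G := by
    rw [← Finset.sum_filter, Finset.sum_const, ← Nat.cast_smul_eq_nsmul ℚ, smul_smul]
    congr 2
    rw [← Fintype.card_subtype]
    letI : Fintype (Subgroup.center G) := Fintype.ofFinite _
    rw [Fintype.card_congr (centralEquiv (G := G) r), Fintype.card_embedding_eq, Fintype.card_fin,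
      Nat.card_eq_fintype_card]
  rw [hcount, add_sub_cancel_left]
  apply Submodule.sum_mem
  intro s _
  split_ifs with h
  · apply Submodule.smul_mem
    exact cl_mem_Kge (card_center_Cz_of_not_central h.1 h.2)
  · exact Submodule.zero_mem _

end

theorem inertiaR_single_sub_mem_Kge (r k : ℕ) (i : Idx) (hi : k ≤ i.centerCard) :
    inertiaR r (Finsupp.single i 1) - ((k.descFactorial r : ℕ) : ℚ) • (Finsupp.single i 1 : K)
      ∈ Kge (k + 1) := by
  have hc : i.centerCard = Nat.card (Subgroup.center i.rep) := rfl
  rw [inertiaR_single, one_smul, inertiaROf_eq]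
  have hG : (Nat.card i.rep : ℚ) ≠ 0 := by exact_mod_cast (Nat.card_pos (α := i.rep)).ne'
  have key := W_sub_mem_Kge (G := i.rep) r
  rw [cl_rep, ← hc] at key
  have key2 := Submodule.smul_mem _ ((Nat.card i.rep : ℚ)⁻¹) key
  rw [smul_sub, smul_smul, mul_comm ((i.centerCard.descFactorial r : ℚ)), ← mul_assoc,
    inv_mul_cancel₀ hG, one_mul] at key2
  rcases Nat.eq_or_lt_of_le hi with hik | hik
  · rw [hik]; exact key2
  · have h1 : (Finsupp.single i 1 : K) ∈ Kge (k + 1) := mem_Kge_single 1 hik
    have h2 := Kge_anti (Nat.succ_le_succ hi) key2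
    have : (Nat.card i.rep : ℚ)⁻¹ • W r i.rep - ((k.descFactorial r : ℕ) : ℚ) • (Finsupp.single i 1 : K)
        = ((Nat.card i.rep : ℚ)⁻¹ • W r i.rep
            - ((i.centerCard.descFactorial r : ℕ) : ℚ) • (Finsupp.single i 1 : K))
          + (((i.centerCard.descFactorial r : ℕ) : ℚ) - ((k.descFactorial r : ℕ) : ℚ))
            • (Finsupp.single i 1 : K) := by
      rw [sub_smul]; abel
    rw [this]
    exact Submodule.add_mem _ h2 (Submodule.smul_mem _ _ h1)

theorem inertiaR_sub_mem_Kge (r k : ℕ) {v : K} (hv : v ∈ Kge k) :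
    inertiaR r v - ((k.descFactorial r : ℕ) : ℚ) • v ∈ Kge (k + 1) := by
  have hv' := (Finsupp.mem_supported ℚ v).mp hv
  have hsum : v = ∑ i ∈ v.support, v i • (Finsupp.single i 1 : K) := by
    conv_lhs => rw [← Finsupp.sum_single v]
    rw [Finsupp.sum]
    refine Finset.sum_congr rfl (fun i _ => ?_)
    rw [Finsupp.smul_single, smul_eq_mul, mul_one]
  have : inertiaR r v - ((k.descFactorial r : ℕ) : ℚ) • v
      = ∑ i ∈ v.support, v i • (inertiaR r (Finsupp.single i 1)
          - ((k.descFactorial r : ℕ) : ℚ) • (Finsupp.single i 1 : K)) := by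
    conv_lhs => rw [hsum]
    rw [map_sum, Finset.smul_sum, ← Finset.sum_sub_distrib]
    refine Finset.sum_congr rfl (fun i _ => ?_)
    rw [map_smul, smul_sub, smul_comm]
  rw [this]
  apply Submodule.sum_mem
  intro i hi
  apply Submodule.smul_mem
  exact inertiaR_single_sub_mem_Kge r k i (hv' hi)

end Groth.Agent.H90
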