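import Groth.Agent.H90.InertiaRec

set_option autoImplicit false
set_option linter.style.haveILetI false
set_option linter.unusedSectionVars false

namespace Groth.Agent.H90

open W4c5stacksedinertia Polynomial

universe u

theorem single_eq_smul_cl (i : Idx) (c : ℚ) : (Finsupp.single i c : K) = c • cl i.rep := by
  rw [cl_rep, Finsupp.smul_single, smul_eq_mul, mul_one]

/-- the recursion `I ∘ I_r = r I_r + I_{r+1}` -/
theorem inertia_comp_inertiaR (r : ℕ) (v : K) :
    inertiaR 1 (inertiaR r v) = (r : ℚ) • inertiaR r v + inertiaR (r + 1) v := by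
  have key : (inertiaR 1).comp (inertiaR r)
      = (r : ℚ) • inertiaR r + inertiaR (r + 1) := by
    apply Finsupp.lhom_ext
    intro i c
    rw [single_eq_smul_cl]
    simp only [LinearMap.comp_apply, LinearMap.add_apply, LinearMap.smul_apply, map_smul]
    rw [inertiaR_cl, inertiaR_cl, map_smul, inertia_W]
    simp only [smul_add, smul_smul]
    congr 2
    ring
  have := congrArg (fun f => f v) key
  simpa using this

theorem inertiaR_eq_aeval (r : ℕ) : inertiaR r = aeval (inertiaR 1) (descPochhammer ℚ r) := by
  induction r with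
  | zero => rw [descPochhammer_zero, map_one, inertiaR_zero]; rfl
  | succ r ih =>
    rw [descPochhammer_succ_right, map_mul, ← ih]
    apply LinearMap.ext
    intro v
    have h := inertia_comp_inertiaR r v
    have h2 : aeval (inertiaR 1) (X - (r : ℚ[X])) = inertiaR 1 - (r : ℚ) • 1 := by
      rw [map_sub, aeval_X, map_natCast]
      congr 1
    -- polynomials in I commute
    have hcomm : inertiaR r * aeval (inertiaR 1) (X - (r : ℚ[X]))
        = aeval (inertiaR 1) (X - (r : ℚ[X])) * inertiaR r := by
      rw [ih, ← map_mul, ← map_mul, mul_comm]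
    rw [hcomm, h2]
    simp only [Module.End.mul_apply, LinearMap.sub_apply, LinearMap.smul_apply,
      Module.End.one_apply]
    rw [h]; abel

theorem inertiaR_apply_of_mem_eigenspace (r k : ℕ) {v : K}
    (hv : v ∈ Module.End.eigenspace (inertiaR 1) (k : ℚ)) :
    inertiaR r v = ((Nat.factorial r * Nat.choose k r : ℕ) : ℚ) • v := by
  rw [Module.End.mem_eigenspace_iff] at hv
  have h : ∀ p : ℚ[X], aeval (inertiaR 1) p v = p.eval (k : ℚ) • v := by
    intro p
    induction p using Polynomial.induction_on' with
    | add p q hp hq => rw [map_add, LinearMap.add_apply, hp, hq, eval_add, add_smul]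
    | monomial n a =>
      rw [← C_mul_X_pow_eq_monomial, map_mul, aeval_C, map_pow, aeval_X, eval_mul, eval_C, eval_pow,
        eval_X, Module.End.mul_apply, Module.algebraMap_end_apply]
      have hpow : ∀ n : ℕ, (inertiaR 1 ^ n) v = (k : ℚ) ^ n • v := by
        intro n
        induction n with
        | zero => simp
        | succ n ihn => rw [pow_succ', Module.End.mul_apply, ihn, map_smul, hv, smul_smul, pow_succ]
      rw [hpow, smul_smul]
  rw [inertiaR_eq_aeval, h, descPochhammer_eval_eq_descFactorial,
    Nat.descFactorial_eq_factorial_mul_choose]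

theorem ker_aeval_X_sub (a : ℚ) :
    LinearMap.ker (aeval (inertiaR 1) (X - C a)) = Module.End.eigenspace (inertiaR 1) a := by
  rw [Module.End.eigenspace_def]
  congr 1
  simp [Algebra.algebraMap_eq_smul_one]

theorem ker_inertiaR (r : ℕ) :
    LinearMap.ker (inertiaR r)
      = ⨆ k ∈ Finset.range r, Module.End.eigenspace (inertiaR 1) (k : ℚ) := by
  induction r with
  | zero =>
    rw [inertiaR_zero]
    simp
  | succ r ih =>
    rw [inertiaR_eq_aeval, descPochhammer_succ_right]
    have hXr : (X - (r : ℚ[X])) = X - C (r : ℚ) := by simp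
    rw [hXr]
    have hcop : IsCoprime (descPochhammer ℚ r) (X - C (r : ℚ)) := by
      apply IsCoprime.symm
      rw [(irreducible_X_sub_C (r : ℚ)).coprime_iff_not_dvd, dvd_iff_isRoot, IsRoot.def,
        descPochhammer_eval_eq_descFactorial, Nat.descFactorial_self]
      exact_mod_cast (Nat.factorial_pos r).ne'
    rw [← sup_ker_aeval_eq_ker_aeval_mul_of_coprime _ hcop, ← inertiaR_eq_aeval, ih,
      ker_aeval_X_sub, Finset.range_add_one, Finset.iSup_insert, sup_comm]

end Groth.Agent.H90
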