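import Groth.Agent.H90.InertiaOps

set_option autoImplicit false
set_option linter.style.haveILetI false
set_option linter.unusedSectionVars false

namespace Groth.Agent.H90

open W4c5stacksedinertia Polynomial

universe u

theorem W_eq_zero_of_card_lt {G : Type u} [Group G] [Finite G] {r : ℕ} (h : Nat.card G < r) :
    W r G = 0 := by
  classical
  letI := Fintype.ofFinite G
  rw [W_eq_sum]
  apply Finset.sum_eq_zero
  intro s _
  rw [if_neg]
  intro hs
  have := Fintype.card_le_of_injective s hs.1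
  rw [Fintype.card_fin, ← Nat.card_eq_fintype_card] at this
  omega

theorem inertiaR_eq_zero_of_mem_Kle {n r : ℕ} (h : n < r) {v : K} (hv : v ∈ Kle n) :
    inertiaR r v = 0 := by
  have hv' := (Finsupp.mem_supported ℚ v).mp hv
  unfold inertiaR
  rw [Finsupp.linearCombination_apply]
  apply Finset.sum_eq_zero
  intro i hi
  have hin : i.card ≤ n := hv' hi
  show v i • inertiaROf r i.rep = 0
  rw [inertiaROf_eq, W_eq_zero_of_card_lt (lt_of_le_of_lt hin h), smul_zero, smul_zero]

theorem exists_mem_Kle (v : K) : ∃ n, v ∈ Kle n := by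
  refine ⟨v.support.sup Idx.card, ?_⟩
  unfold Kle
  rw [Finsupp.mem_supported]
  intro i hi
  exact Finset.le_sup (f := Idx.card) hi

theorem Kle_mono {a b : ℕ} (h : a ≤ b) : Kle a ≤ Kle b :=
  Finsupp.supported_mono (fun _ hi => le_trans hi h)

/-- the coefficient of the eigenprojection formula -/
noncomputable def projCoeff (r k : ℕ) : ℚ :=
  ((-1 : ℚ) ^ (r + k)) / (Nat.factorial r : ℚ) * (Nat.choose r k : ℚ)

theorem projCoeff_rec (r k : ℕ) :
    projCoeff (r + 1) k * (((r + 1 : ℕ) : ℚ) - (k : ℚ)) + projCoeff r k = 0 := by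
  unfold projCoeff
  have hf : ((r + 1).factorial : ℚ) = ((r + 1 : ℕ) : ℚ) * (r.factorial : ℚ) := by
    rw [Nat.factorial_succ]; push_cast; ring
  have hr1 : ((r + 1 : ℕ) : ℚ) ≠ 0 := by exact_mod_cast Nat.succ_ne_zero r
  have hrf : (r.factorial : ℚ) ≠ 0 := by exact_mod_cast (Nat.factorial_pos r).ne'
  have hpow : (-1 : ℚ) ^ (r + 1 + k) = -((-1 : ℚ) ^ (r + k)) := by
    rw [show r + 1 + k = (r + k) + 1 by ring, pow_succ]; ring
  rcases Nat.lt_or_ge (r + 1) k with hk | hk
  · rw [Nat.choose_eq_zero_of_lt hk, Nat.choose_eq_zero_of_lt (by omega : r < k)]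
    simp
  · have hid : ((r + 1 : ℕ) : ℚ) * (r.choose k : ℚ)
        = ((r + 1).choose k : ℚ) * (((r + 1 : ℕ) : ℚ) - (k : ℚ)) := by
      have := Nat.choose_mul_succ_eq r k
      have h2 : ((r.choose k * (r + 1) : ℕ) : ℚ) = (((r + 1).choose k * (r + 1 - k) : ℕ) : ℚ) := by
        rw [this]
      rw [Nat.cast_mul, Nat.cast_mul, Nat.cast_sub hk] at h2
      rw [mul_comm]; exact h2
    rw [hf, hpow]
    field_simp
    linear_combination (-1 : ℚ) ^ (r + k) * hid

theorem projCoeff_zero_left (k : ℕ) : projCoeff 0 k * (k : ℚ) = 0 := by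
  unfold projCoeff
  rcases Nat.eq_zero_or_pos k with rfl | hk
  · simp
  · rw [Nat.choose_eq_zero_of_lt hk]; simp

/-- the finite form of the eigenprojection -/
theorem eigenproj_mem (n k : ℕ) {v : K} (hv : v ∈ Kle n) :
    (∑ r ∈ Finset.range (n + 1), projCoeff r k • inertiaR r v)
      ∈ Module.End.eigenspace (inertiaR 1) (k : ℚ) := by
  rw [Module.End.mem_eigenspace_iff, map_sum]
  have h0 : inertiaR (n + 1) v = 0 := inertiaR_eq_zero_of_mem_Kle (Nat.lt_succ_self n) hv
  have h1 : ∀ r, inertiaR 1 (projCoeff r k • inertiaR r v)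
      = (projCoeff r k * (r : ℚ)) • inertiaR r v + projCoeff r k • inertiaR (r + 1) v := by
    intro r
    rw [map_smul, inertia_comp_inertiaR, smul_add, smul_smul]
  rw [Finset.sum_congr rfl (fun r _ => h1 r), Finset.sum_add_distrib, Finset.smul_sum]
  -- shift
  rw [Finset.sum_range_succ (fun r => projCoeff r k • inertiaR (r + 1) v), h0, smul_zero, add_zero]
  rw [Finset.sum_range_succ' (fun r => (projCoeff r k * (r : ℚ)) • inertiaR r v)]
  rw [Finset.sum_range_succ' (fun r => (k : ℚ) • projCoeff r k • inertiaR r v)]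
  simp only [Nat.cast_zero, mul_zero, zero_smul, add_zero]
  rw [smul_smul, mul_comm (k : ℚ), projCoeff_zero_left, zero_smul, add_zero, ← Finset.sum_add_distrib]
  refine Finset.sum_congr rfl (fun r _ => ?_)
  rw [← add_smul, smul_smul]
  congr 1
  have := projCoeff_rec r k
  linear_combination this

theorem eigenproj_sum (n : ℕ) {v : K} (hv : v ∈ Kle n) :
    (∑ k ∈ Finset.range (n + 1), ∑ r ∈ Finset.range (n + 1), projCoeff r k • inertiaR r v) = v := by
  rw [Finset.sum_comm]
  have h1 : ∀ r ∈ Finset.range (n + 1), (∑ k ∈ Finset.range (n + 1), projCoeff r k • inertiaR r v)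
      = (if r = 0 then (1 : ℚ) else 0) • inertiaR r v := by
    intro r hr
    rw [Finset.mem_range] at hr
    rw [← Finset.sum_smul]
    congr 1
    -- sum over k of projCoeff r k
    have hsub : Finset.range (r + 1) ⊆ Finset.range (n + 1) :=
      Finset.range_subset_range.mpr (by omega)
    rw [← Finset.sum_subset hsub]
    · unfold projCoeff
      have := Int.alternating_sum_range_choose (n := r)
      have h2 : (∑ m ∈ Finset.range (r + 1), (((-1) ^ m * (r.choose m : ℤ) : ℤ) : ℚ))
          = ((if r = 0 then (1 : ℤ) else 0 : ℤ) : ℚ) := by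
        rw [← Int.cast_sum, this]
      rw [show ((if r = 0 then (1 : ℤ) else 0 : ℤ) : ℚ) = if r = 0 then (1 : ℚ) else 0 by
        split_ifs <;> simp] at h2
      rw [← h2]
      rcases Nat.even_or_odd r with he | ho
      · have hr1 : (-1 : ℚ) ^ r = 1 := he.neg_one_pow
        rw [Finset.sum_congr rfl (fun m _ => show (-1 : ℚ) ^ (r + m) / (r.factorial : ℚ) * (r.choose m : ℚ)
          = (1 / (r.factorial : ℚ)) * (((-1) ^ m * (r.choose m : ℤ) : ℤ) : ℚ) by
            rw [pow_add, hr1]; push_cast; ring), ← Finset.mul_sum, h2]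
        split_ifs with h
        · subst h; simp
        · simp
      · have hr1 : (-1 : ℚ) ^ r = -1 := ho.neg_one_pow
        rw [Finset.sum_congr rfl (fun m _ => show (-1 : ℚ) ^ (r + m) / (r.factorial : ℚ) * (r.choose m : ℚ)
          = (-1 / (r.factorial : ℚ)) * (((-1) ^ m * (r.choose m : ℤ) : ℤ) : ℚ) by
            rw [pow_add, hr1]; push_cast; ring), ← Finset.mul_sum, h2]
        have hr0 : r ≠ 0 := by rintro rfl; simp at ho
        rw [if_neg hr0]; simp
    · intro k _ hk
      rw [Finset.mem_range] at hk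
      unfold projCoeff
      rw [Nat.choose_eq_zero_of_lt (by omega)]; simp
  rw [Finset.sum_congr rfl h1, Finset.sum_range_succ']
  simp only [if_true, one_smul]
  rw [Finset.sum_eq_zero, zero_add, inertiaR_zero, LinearMap.id_apply]
  intro r _
  rw [if_neg (Nat.succ_ne_zero r), zero_smul]

end Groth.Agent.H90
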