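import Groth.Agent.H90.InertiaW

set_option autoImplicit false
set_option linter.style.haveILetI false
set_option linter.unusedSectionVars false

namespace Groth.Agent.H90

open W4c5stacksedinertia

universe u v

section iso

variable {G : Type u} {H : Type v} [Group G] [Group H]

theorem isCT_map_iff (e : G ≃* H) {r : ℕ} (s : Fin r → G) :
    IsCT (fun i => e (s i)) ↔ IsCT s := by
  unfold IsCT
  constructor
  · rintro ⟨h1, h2⟩
    refine ⟨fun i j hij => h1 (by simp [hij]), fun i j => ?_⟩
    have := (h2 i j).map e.symm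
    simpa using this
  · rintro ⟨h1, h2⟩
    exact ⟨e.injective.comp h1, fun i j => (h2 i j).map e⟩

/-- an isomorphism identifies centralizers of corresponding tuples -/
noncomputable def CzMapEquiv (e : G ≃* H) {r : ℕ} (s : Fin r → G) :
    Cz s ≃* Cz (fun i => e (s i)) where
  toFun x := ⟨e x.1, by
    rw [mem_Cz]; intro i
    rw [← map_mul, ← map_mul, (mem_Cz.mp x.2) i]⟩
  invFun y := ⟨e.symm y.1, by
    rw [mem_Cz]; intro i
    have := congrArg e.symm ((mem_Cz.mp y.2) i)
    simpa using this⟩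
  left_inv x := by simp
  right_inv y := by simp
  map_mul' x y := by
    apply Subtype.ext
    simp

theorem W_congr [Finite G] [Finite H] (e : G ≃* H) (r : ℕ) : W r G = W r H := by
  classical
  letI := Fintype.ofFinite G
  letI := Fintype.ofFinite H
  rw [W_eq_sum, W_eq_sum]
  refine Fintype.sum_equiv (Equiv.piCongrRight fun _ => e.toEquiv) _ _ (fun s => ?_)
  have hs : (Equiv.piCongrRight fun _ => e.toEquiv) s = fun i => e (s i) := rfl
  rw [hs]
  by_cases h : IsCT s
  · rw [if_pos h, if_pos ((isCT_map_iff e s).mpr h), cl_congr (CzMapEquiv e s),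
      Nat.card_congr (CzMapEquiv e s).toEquiv]
  · rw [if_neg h, if_neg (fun h' => h ((isCT_map_iff e s).mp h'))]

theorem inertiaR_cl [Finite G] (r : ℕ) :
    inertiaR r (cl G) = (Nat.card G : ℚ)⁻¹ • W r G := by
  unfold cl
  rw [inertiaR_single, one_smul, inertiaROf_eq, W_congr (repEquiv G),
    Nat.card_congr (repEquiv G).toEquiv]

end iso

section zero

variable {G : Type u} [Group G] [Finite G]

theorem Cz_eq_top_of_isEmpty (s : Fin 0 → G) : Cz s = ⊤ := by
  ext x
  simp only [Subgroup.mem_top, iff_true]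
  rw [mem_Cz]
  intro i; exact i.elim0

theorem W_zero : W 0 G = (Nat.card G : ℚ) • cl G := by
  classical
  letI := Fintype.ofFinite G
  rw [W_eq_sum, Fintype.sum_unique]
  have h : IsCT (default : Fin 0 → G) :=
    ⟨fun i => i.elim0, fun i => i.elim0⟩
  rw [if_pos h]
  have e : Cz (default : Fin 0 → G) ≃* G :=
    (MulEquiv.subgroupCongr (Cz_eq_top_of_isEmpty _)).trans Subgroup.topEquiv
  rw [cl_congr e, Nat.card_congr e.toEquiv]

theorem inertiaR_zero_cl : inertiaR 0 (cl G) = cl G := by
  rw [inertiaR_cl, W_zero, smul_smul, inv_mul_cancel₀, one_smul]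
  exact_mod_cast (Nat.card_pos (α := G)).ne'

end zero

theorem inertiaR_zero : inertiaR 0 = LinearMap.id := by
  apply Finsupp.lhom_ext
  intro i c
  rw [LinearMap.id_apply]
  have : (Finsupp.single i c : K) = c • cl i.rep := by
    rw [cl_rep, Finsupp.smul_single, smul_eq_mul, mul_one]
  rw [this, map_smul, inertiaR_zero_cl]

section recursion

variable {G : Type u} [Group G]

theorem mem_Cz_cons {r : ℕ} {s : Fin r → G} {g x : G} :
    x ∈ Cz (Fin.cons g s : Fin (r + 1) → G) ↔ g * x = x * g ∧ x ∈ Cz s := by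
  rw [mem_Cz, mem_Cz, Fin.forall_fin_succ]
  simp only [Fin.cons_zero, Fin.cons_succ]

theorem isCT_cons_iff {r : ℕ} {s : Fin r → G} {g : G} :
    IsCT (Fin.cons g s : Fin (r + 1) → G) ↔ IsCT s ∧ g ∈ Cz s ∧ g ∉ Set.range s := by
  unfold IsCT
  rw [Fin.cons_injective_iff, mem_Cz]
  constructor
  · rintro ⟨⟨h1, h2⟩, h3⟩
    refine ⟨⟨h2, fun i j => ?_⟩, fun i => ?_, h1⟩
    · have := h3 i.succ j.succ
      simpa using this
    · have := h3 i.succ 0
      simp only [Fin.cons_succ, Fin.cons_zero] at this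
      exact this.eq
  · rintro ⟨⟨h1, h2⟩, h3, h4⟩
    refine ⟨⟨h4, h1⟩, fun i j => ?_⟩
    cases i using Fin.cases with
    | zero =>
      cases j using Fin.cases with
      | zero => exact Commute.refl _
      | succ j =>
        simp only [Fin.cons_zero, Fin.cons_succ]
        exact ((commute_iff_eq _ _).mpr (h3 j)).symm
    | succ i =>
      cases j using Fin.cases with
      | zero =>
        simp only [Fin.cons_zero, Fin.cons_succ]
        exact (commute_iff_eq _ _).mpr (h3 i)
      | succ j =>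
        simp only [Fin.cons_succ]
        exact h2 i j

theorem Cz_cons_of_mem_range {r : ℕ} {s : Fin r → G} {g : G} (hg : g ∈ Set.range s) :
    Cz (Fin.cons g s : Fin (r + 1) → G) = Cz s := by
  ext x
  rw [mem_Cz_cons]
  constructor
  · exact fun h => h.2
  · intro h
    obtain ⟨i, rfl⟩ := hg
    exact ⟨(mem_Cz.mp h) i, h⟩

theorem range_subset_Cz {r : ℕ} {s : Fin r → G} (hs : IsCT s) {g : G} (hg : g ∈ Set.range s) :
    g ∈ Cz s := by
  obtain ⟨j, rfl⟩ := hg
  rw [mem_Cz]
  intro i
  exact (hs.2 i j).eq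

/-- centralizer of an element inside `Cz s` vs centralizer of the extended tuple in `G` -/
noncomputable def CzSubEquiv {r : ℕ} (s : Fin r → G) (h : Cz s) :
    Cz (fun _ : Fin 1 => h) ≃* Cz (Fin.cons h.1 s : Fin (r + 1) → G) where
  toFun x := ⟨x.1.1, by
    rw [mem_Cz_cons]
    refine ⟨?_, x.1.2⟩
    have := (mem_Cz.mp x.2) 0
    exact congrArg Subtype.val this⟩
  invFun y := ⟨⟨y.1, (mem_Cz_cons.mp y.2).2⟩, by
    rw [mem_Cz]; intro _
    apply Subtype.ext
    exact (mem_Cz_cons.mp y.2).1⟩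
  left_inv x := rfl
  right_inv y := rfl
  map_mul' x y := rfl

variable [Finite G]

open Classical in
theorem W_one_Cz [Fintype G] {r : ℕ} (s : Fin r → G) :
    W 1 (Cz s) = ∑ g : G, if g ∈ Cz s then
      (Nat.card (Cz (Fin.cons g s : Fin (r + 1) → G)) : ℚ) • cl (Cz (Fin.cons g s : Fin (r + 1) → G))
      else 0 := by
  letI : Fintype (Cz s) := Fintype.ofFinite _
  have hR : (∑ g : G, if g ∈ Cz s then
      (Nat.card (Cz (Fin.cons g s : Fin (r + 1) → G)) : ℚ) • cl (Cz (Fin.cons g s : Fin (r + 1) → G))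
      else 0) = ∑ h : Cz s, (Nat.card (Cz (Fin.cons h.1 s : Fin (r + 1) → G)) : ℚ)
        • cl (Cz (Fin.cons h.1 s : Fin (r + 1) → G)) := by
    rw [← Finset.sum_filter]
    exact Finset.sum_subtype (Finset.univ.filter (fun g : G => g ∈ Cz s)) (p := fun g => g ∈ Cz s)
      (by intro x; simp)
      (fun g => (Nat.card (Cz (Fin.cons g s : Fin (r + 1) → G)) : ℚ)
        • cl (Cz (Fin.cons g s : Fin (r + 1) → G)))
  rw [W_eq_sum, hR]
  refine Fintype.sum_equiv (Equiv.funUnique (Fin 1) (Cz s)) _ _ (fun t => ?_)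
  have ht : t = fun _ => t default := by
    funext i; rw [Subsingleton.elim i default]
  have hct : IsCT t := ⟨fun i j _ => Subsingleton.elim i j, fun i j => by
    rw [Subsingleton.elim i j]; exact Commute.refl _⟩
  rw [if_pos hct]
  have hval : (Equiv.funUnique (Fin 1) (Cz s)) t = t default := rfl
  rw [hval]
  have e : Cz t ≃* Cz (Fin.cons (t default).1 s : Fin (r + 1) → G) := by
    rw [ht]; exact CzSubEquiv s (t default)
  rw [cl_congr e, Nat.card_congr e.toEquiv]

open Classical in
theorem sum_Cz_decomp [Fintype G] {r : ℕ} (s : Fin r → G) (hs : IsCT s) :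
    (∑ g : G, if g ∈ Cz s then
      (Nat.card (Cz (Fin.cons g s : Fin (r + 1) → G)) : ℚ) • cl (Cz (Fin.cons g s : Fin (r + 1) → G))
      else 0)
    = (r : ℚ) • ((Nat.card (Cz s) : ℚ) • cl (Cz s))
      + ∑ g : G, if IsCT (Fin.cons g s : Fin (r + 1) → G) then
          (Nat.card (Cz (Fin.cons g s : Fin (r + 1) → G)) : ℚ)
            • cl (Cz (Fin.cons g s : Fin (r + 1) → G))
        else 0 := by
  have hsplit : ∀ g : G, (if g ∈ Cz s then
      (Nat.card (Cz (Fin.cons g s : Fin (r + 1) → G)) : ℚ) • cl (Cz (Fin.cons g s : Fin (r + 1) → G))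
      else 0)
      = (if g ∈ Set.range s then (Nat.card (Cz s) : ℚ) • cl (Cz s) else 0)
        + (if IsCT (Fin.cons g s : Fin (r + 1) → G) then
          (Nat.card (Cz (Fin.cons g s : Fin (r + 1) → G)) : ℚ)
            • cl (Cz (Fin.cons g s : Fin (r + 1) → G))
        else 0) := by
    intro g
    by_cases hg : g ∈ Set.range s
    · have h1 : g ∈ Cz s := range_subset_Cz hs hg
      have h2 : ¬ IsCT (Fin.cons g s : Fin (r + 1) → G) := fun h => (isCT_cons_iff.mp h).2.2 hg
      rw [if_pos h1, if_pos hg, if_neg h2, add_zero]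
      have e : Cz (Fin.cons g s : Fin (r + 1) → G) ≃* Cz s :=
        MulEquiv.subgroupCongr (Cz_cons_of_mem_range hg)
      rw [cl_congr e, Nat.card_congr e.toEquiv]
    · rw [if_neg hg, zero_add]
      by_cases h1 : g ∈ Cz s
      · rw [if_pos h1, if_pos (isCT_cons_iff.mpr ⟨hs, h1, hg⟩)]
      · rw [if_neg h1, if_neg (fun h => h1 (isCT_cons_iff.mp h).2.1)]
  rw [Finset.sum_congr rfl (fun g _ => hsplit g), Finset.sum_add_distrib]
  congr 1
  rw [← Finset.sum_filter]
  have himg : Finset.univ.filter (fun g : G => g ∈ Set.range s) = Finset.univ.image s := by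
    ext g; simp [eq_comm]
  rw [himg, Finset.sum_image (fun i _ j _ h => hs.1 h), Finset.sum_const, Finset.card_univ,
    Fintype.card_fin, ← Nat.cast_smul_eq_nsmul ℚ]

open Classical in
theorem inertia_W (r : ℕ) :
    inertiaR 1 (W r G) = (r : ℚ) • W r G + W (r + 1) G := by
  letI : Fintype G := Fintype.ofFinite G
  have h1 : inertiaR 1 (W r G) = ∑ s : Fin r → G, if IsCT s then W 1 (Cz s) else 0 := by
    rw [W_eq_sum, map_sum]
    refine Finset.sum_congr rfl (fun s _ => ?_)
    split_ifs with h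
    · rw [map_smul, inertiaR_cl, smul_smul, mul_inv_cancel₀, one_smul]
      exact_mod_cast (Nat.card_pos (α := Cz s)).ne'
    · rw [map_zero]
  have h2 : W (r + 1) G = ∑ s : Fin r → G, ∑ g : G,
      if IsCT (Fin.cons g s : Fin (r + 1) → G) then
          (Nat.card (Cz (Fin.cons g s : Fin (r + 1) → G)) : ℚ)
            • cl (Cz (Fin.cons g s : Fin (r + 1) → G))
        else 0 := by
    rw [W_eq_sum, Finset.sum_comm, ← Fintype.sum_prod_type']
    symm
    refine Fintype.sum_equiv (Fin.consEquiv (fun _ => G)) _ _ (fun p => ?_)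
    rfl
  rw [h1, h2, W_eq_sum, Finset.smul_sum, ← Finset.sum_add_distrib]
  refine Finset.sum_congr rfl (fun s _ => ?_)
  split_ifs with h
  · rw [W_one_Cz, sum_Cz_decomp s h]
  · rw [smul_zero, zero_add]
    symm
    apply Finset.sum_eq_zero
    intro g _
    rw [if_neg (fun h' => h (isCT_cons_iff.mp h').1)]

end recursion

end Groth.Agent.H90
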