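import Groth.Agent.H90.InertiaBasic

set_option autoImplicit false

namespace Groth.Agent.H90

open W4c5stacksedinertia

universe u v

/-- Sum over a quotient of a class function, computed on representatives, as a weighted sum. -/
theorem sum_quotient_out {T : Type*} [Fintype T] (S : Setoid T) [DecidableRel S.r]
    [Fintype (Quotient S)] {M : Type*} [AddCommGroup M] [Module ℚ M]
    (f : T → M) (hf : ∀ a b, S.r a b → f a = f b) (w : T → ℚ)
    (hw : ∀ a : T, ∑ t ∈ Finset.univ.filter (fun t => S.r a t), w t = 1) :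
    ∑ q : Quotient S, f (Quotient.out q) = ∑ t : T, w t • f t := by
  classical
  rw [← Finset.sum_fiberwise (s := Finset.univ) (g := fun t => (Quotient.mk S t))
    (f := fun t => w t • f t)]
  refine Finset.sum_congr rfl (fun q _ => ?_)
  have h1 : ∀ t ∈ Finset.univ.filter (fun t => Quotient.mk S t = q),
      w t • f t = w t • f (Quotient.out q) := by
    intro t ht
    rw [Finset.mem_filter] at ht
    congr 1
    apply hf
    exact Quotient.exact (by rw [ht.2, Quotient.out_eq])
  rw [Finset.sum_congr rfl h1, ← Finset.sum_smul]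
  have h2 : Finset.univ.filter (fun t => Quotient.mk S t = q)
      = Finset.univ.filter (fun t => S.r (Quotient.out q) t) := by
    ext t
    simp only [Finset.mem_filter, Finset.mem_univ, true_and]
    constructor
    · intro h; exact Quotient.exact (by rw [h, Quotient.out_eq])
    · intro h
      have := Quotient.sound (s := S) h
      rw [Quotient.out_eq] at this
      exact this.symm
  rw [h2, hw, one_smul]

section

variable {G : Type u} [Group G]

/-- the defining property of commuting tuples -/
def IsCT {r : ℕ} (s : Fin r → G) : Prop :=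
  Function.Injective s ∧ ∀ i j, Commute (s i) (s j)

/-- centralizer of a tuple -/
abbrev Cz {r : ℕ} (s : Fin r → G) : Subgroup G := Subgroup.centralizer (Set.range s)

theorem mem_Cz {r : ℕ} {s : Fin r → G} {g : G} : g ∈ Cz s ↔ ∀ i, s i * g = g * s i := by
  rw [Subgroup.mem_centralizer_iff]
  constructor
  · intro h i; exact h _ ⟨i, rfl⟩
  · rintro h _ ⟨i, rfl⟩; exact h i

instance instFiniteCommTuple [Finite G] (r : ℕ) : Finite (CommTuple G r) := by
  unfold CommTuple; infer_instance

instance instFiniteOrbit [Finite G] (r : ℕ) : Finite (CommTuple.Orbit G r) := by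
  unfold CommTuple.Orbit; infer_instance

/-- conjugation of a commuting tuple -/
def conjCT {r : ℕ} (g : G) (s : CommTuple G r) : CommTuple G r :=
  ⟨fun i => MulAut.conj g (s.1 i),
    ⟨(MulAut.conj g).injective.comp s.2.1, fun i j => (s.2.2 i j).map (MulAut.conj g)⟩⟩

/-- the conjugation action on commuting tuples -/
@[reducible] def conjAction (r : ℕ) : MulAction G (CommTuple G r) where
  smul := conjCT
  one_smul s := by
    apply Subtype.ext; funext i
    show MulAut.conj 1 (s.1 i) = s.1 i
    simp
  mul_smul g h s := by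
    apply Subtype.ext; funext i
    show MulAut.conj (g * h) (s.1 i) = MulAut.conj g (MulAut.conj h (s.1 i))
    simp

attribute [local instance] conjAction

theorem setoid_iff_orbit {r : ℕ} (a t : CommTuple G r) :
    (CommTuple.setoid G r).r a t ↔ t ∈ MulAction.orbit G a := by
  rw [MulAction.mem_orbit_iff]
  constructor
  · rintro ⟨g, hg⟩
    refine ⟨g, Subtype.ext (funext fun i => ?_)⟩
    show MulAut.conj g (a.1 i) = t.1 i
    rw [MulAut.conj_apply]; exact hg i
  · rintro ⟨g, hg⟩
    refine ⟨g, fun i => ?_⟩
    have := congrFun (congrArg Subtype.val hg) i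
    rw [← this]
    show g * a.1 i * g⁻¹ = MulAut.conj g (a.1 i)
    rw [MulAut.conj_apply]

theorem stabilizer_eq_Cz {r : ℕ} (a : CommTuple G r) :
    MulAction.stabilizer G a = Cz a.1 := by
  ext g
  rw [MulAction.mem_stabilizer_iff, mem_Cz]
  constructor
  · intro h i
    have := congrFun (congrArg Subtype.val h) i
    have h2 : g * a.1 i * g⁻¹ = a.1 i := by
      rw [← MulAut.conj_apply]; exact this
    rw [mul_inv_eq_iff_eq_mul] at h2
    exact h2.symm
  · intro h
    apply Subtype.ext; funext i
    show MulAut.conj g (a.1 i) = a.1 i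
    rw [MulAut.conj_apply, mul_inv_eq_iff_eq_mul]
    exact (h i).symm

/-- conjugate tuples have isomorphic centralizers -/
noncomputable def CzConjEquiv {r : ℕ} (g : G) (s : Fin r → G) :
    Cz s ≃* Cz (fun i => MulAut.conj g (s i)) where
  toFun x := ⟨g * x.1 * g⁻¹, by
    rw [mem_Cz]; intro i
    have := (mem_Cz.mp x.2) i
    rw [MulAut.conj_apply]
    calc g * s i * g⁻¹ * (g * x.1 * g⁻¹) = g * (s i * x.1) * g⁻¹ := by group
      _ = g * (x.1 * s i) * g⁻¹ := by rw [this]
      _ = g * x.1 * g⁻¹ * (g * s i * g⁻¹) := by group⟩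
  invFun x := ⟨g⁻¹ * x.1 * g, by
    rw [mem_Cz]; intro i
    have := (mem_Cz.mp x.2) i
    rw [MulAut.conj_apply] at this
    calc s i * (g⁻¹ * x.1 * g) = g⁻¹ * ((g * s i * g⁻¹) * x.1) * g := by group
      _ = g⁻¹ * (x.1 * (g * s i * g⁻¹)) * g := by rw [this]
      _ = g⁻¹ * x.1 * g * s i := by group⟩
  left_inv x := by
    apply Subtype.ext
    show g⁻¹ * (g * x.1 * g⁻¹) * g = x.1
    group
  right_inv x := by
    apply Subtype.ext
    show g * (g⁻¹ * x.1 * g) * g⁻¹ = x.1
    group
  map_mul' x y := by
    apply Subtype.ext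
    show g * (x.1 * y.1) * g⁻¹ = (g * x.1 * g⁻¹) * (g * y.1 * g⁻¹)
    group

theorem cl_Cz_of_setoid [Finite G] {r : ℕ} (a t : CommTuple G r)
    (h : (CommTuple.setoid G r).r a t) : cl (Cz a.1) = cl (Cz t.1) := by
  obtain ⟨g, hg⟩ := h
  have : t.1 = fun i => MulAut.conj g (a.1 i) := by
    funext i; rw [MulAut.conj_apply]; exact (hg i).symm
  rw [this]
  exact cl_congr (CzConjEquiv g a.1)

theorem card_Cz_of_setoid [Finite G] {r : ℕ} (a t : CommTuple G r)
    (h : (CommTuple.setoid G r).r a t) : Nat.card (Cz a.1) = Nat.card (Cz t.1) := by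
  obtain ⟨g, hg⟩ := h
  have : t.1 = fun i => MulAut.conj g (a.1 i) := by
    funext i; rw [MulAut.conj_apply]; exact (hg i).symm
  rw [this]
  exact Nat.card_congr (CzConjEquiv g a.1).toEquiv

end

section

variable {G : Type u} [Group G] [Finite G]

attribute [local instance] conjAction

open Classical in
/-- unnormalized inertia sum -/
noncomputable def W (r : ℕ) (G : Type u) [Group G] [Finite G] : K :=
  ∑ᶠ s : Fin r → G, if IsCT s then (Nat.card (Cz s) : ℚ) • cl (Cz s) else 0

open Classical in
theorem W_eq_sum [Fintype G] (r : ℕ) :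
    W r G = ∑ s : Fin r → G, if IsCT s then (Nat.card (Cz s) : ℚ) • cl (Cz s) else 0 :=
  finsum_eq_sum_of_fintype _

theorem card_class_mul_card_Cz {r : ℕ} (a : CommTuple G r) [Fintype (CommTuple G r)]
    [DecidableRel (CommTuple.setoid G r).r] :
    ((Finset.univ.filter (fun t => (CommTuple.setoid G r).r a t)).card : ℚ)
      * (Nat.card (Cz a.1) : ℚ) = Nat.card G := by
  have h1 : (Finset.univ.filter (fun t => (CommTuple.setoid G r).r a t)).card
      = Nat.card (MulAction.orbit G a) := by
    rw [← Fintype.card_subtype, ← Nat.card_eq_fintype_card]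
    exact Nat.card_congr (Equiv.subtypeEquivRight (fun t => setoid_iff_orbit a t))
  have h2 : Nat.card (MulAction.orbit G a) * Nat.card (MulAction.stabilizer G a) = Nat.card G := by
    rw [← Nat.card_prod]
    exact Nat.card_congr (MulAction.orbitProdStabilizerEquivGroup G a)
  rw [stabilizer_eq_Cz] at h2
  rw [h1]; exact_mod_cast h2

theorem inertiaROf_eq (r : ℕ) : inertiaROf r G = (Nat.card G : ℚ)⁻¹ • W r G := by
  classical
  letI := Fintype.ofFinite G
  letI : Fintype (CommTuple G r) := Fintype.ofFinite _
  letI : Fintype (Quotient (CommTuple.setoid G r)) :=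
    @Fintype.ofFinite _ (instFiniteOrbit (G := G) r)
  have hG : (Nat.card G : ℚ) ≠ 0 := by exact_mod_cast (Nat.card_pos (α := G)).ne'
  have key := sum_quotient_out (CommTuple.setoid G r) (fun s : CommTuple G r => cl (Cz s.1))
    (fun a b h => cl_Cz_of_setoid a b h)
    (fun s => (Nat.card (Cz s.1) : ℚ) / Nat.card G) (by
      intro a
      have h1 : ∀ t ∈ Finset.univ.filter (fun t => (CommTuple.setoid G r).r a t),
          (Nat.card (Cz t.1) : ℚ) / Nat.card G = (Nat.card (Cz a.1) : ℚ) / Nat.card G := by
        intro t ht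
        rw [Finset.mem_filter] at ht
        rw [card_Cz_of_setoid a t ht.2]
      rw [Finset.sum_congr rfl h1, Finset.sum_const, nsmul_eq_mul, ← mul_div_assoc,
        card_class_mul_card_Cz a, div_self hG])
  unfold inertiaROf
  have e1 : (∑ᶠ O : CommTuple.Orbit G r,
      cl (Subgroup.centralizer (Set.range (Quotient.out (s := CommTuple.setoid G r) O).1)))
      = ∑ q : Quotient (CommTuple.setoid G r), cl (Cz (Quotient.out q).1) := by
    exact finsum_eq_sum_of_fintype (α := Quotient (CommTuple.setoid G r)) _
  rw [e1, key, W_eq_sum, Finset.smul_sum]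
  have e2 : (∑ t : CommTuple G r, ((Nat.card (Cz t.1) : ℚ) / Nat.card G) • cl (Cz t.1))
      = ∑ s ∈ Finset.univ.filter (fun s : Fin r → G => IsCT s),
          ((Nat.card (Cz s) : ℚ) / Nat.card G) • cl (Cz s) := by
    symm
    exact Finset.sum_subtype (Finset.univ.filter (fun s : Fin r → G => IsCT s))
      (by intro x; simp [IsCT]) (fun s => ((Nat.card (Cz s) : ℚ) / Nat.card G) • cl (Cz s))
  rw [e2, Finset.sum_filter]
  refine Finset.sum_congr rfl (fun s _ => ?_)
  split_ifs with h
  · rw [smul_smul, div_eq_inv_mul]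
  · rw [smul_zero]

end

end Groth.Agent.H90
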