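import Groth.Agent.S0934
import Groth.Agent.H8.FreeMod
import Groth.Agent.H90.PerfLoc
import Groth.Prelude.Def_CxOX
import Mathlib.CategoryTheory.Retract

/-!
# Modules which are locally retracts of finite free modules; top cohomology of strictly perfect
complexes (helper90)

* `IsRetrFree N`: `N` is a retract of `O^k`.
* `LRAt M y`: near `y`, `M` is a retract of a finite free module.
* `exists_lift_of_isRetrFree`: local lifting along epimorphisms (from S0934).
* `lrAt_cycles`: for a bounded above complex of finite locally free modules which is exact above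
  degree `n`, the cycles `Z^i`, `i ≥ n`, are locally retracts of finite free modules.
* `exists_presentation_homology`: the top cohomology of a strictly perfect complex has locally a
  finite presentation.
-/

set_option autoImplicit false
universe u
open CategoryTheory CategoryTheory.Limits AlgebraicGeometry
open AlgebraicGeometry.Scheme.Modules

namespace Groth.Agent.H90.LR

section Cat

variable {C : Type*} [Category C] [Preadditive C]

/-- A kernel `ι : K ⟶ A` of `f` is a retract of `A` as soon as there is an endomorphism `e` of `A`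
killed by `f` and restricting to the identity on the kernel. -/
lemma exists_retraction_of_kernelFork {A B K : C} {f : A ⟶ B} {ι : K ⟶ A} (w : ι ≫ f = 0)
    (hK : IsLimit (KernelFork.ofι ι w)) (e : A ⟶ A) (he : e ≫ f = 0) (hι : ι ≫ e = ι) :
    ∃ r : A ⟶ K, ι ≫ r = 𝟙 K := by
  obtain ⟨l, hl⟩ := KernelFork.IsLimit.lift' hK e he
  have hl' : l ≫ ι = e := hl
  refine ⟨l, Fork.IsLimit.hom_ext hK ?_⟩
  change (ι ≫ l) ≫ ι = 𝟙 K ≫ ι
  rw [Category.assoc, hl', hι, Category.id_comp]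

/-- The cokernel of a morphism `f : A ⟶ B`, where `B` is a retract of `Q`, is the cokernel of any
morphism `φ : R ⟶ Q` whose "relations" are those of `f` together with those of the retract. -/
noncomputable def isColimitOfRetract {A B H Q R : C} {f : A ⟶ B} {π : B ⟶ H} (w : f ≫ π = 0)
    (hπ : IsColimit (CokernelCofork.ofπ π w)) (rB : Retract B Q) (φ : R ⟶ Q)
    (h1 : φ ≫ rB.r ≫ π = 0)
    (h2 : ∀ {T : C} (t : Q ⟶ T), φ ≫ t = 0 → f ≫ rB.i ≫ t = 0 ∧ rB.r ≫ rB.i ≫ t = t) :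
    IsColimit (CokernelCofork.ofπ (rB.r ≫ π) h1) :=
  CokernelCofork.IsColimit.ofπ _ _
    (fun t ht => (CokernelCofork.IsColimit.desc' hπ (rB.i ≫ t) (h2 t ht).1).1)
    (fun t ht => by
      have h : π ≫ (CokernelCofork.IsColimit.desc' hπ (rB.i ≫ t) (h2 t ht).1).1 = rB.i ≫ t :=
        (CokernelCofork.IsColimit.desc' hπ (rB.i ≫ t) (h2 t ht).1).2
      rw [Category.assoc, h]
      exact (h2 t ht).2)
    (fun t ht m hm => by
      have h : π ≫ (CokernelCofork.IsColimit.desc' hπ (rB.i ≫ t) (h2 t ht).1).1 = rB.i ≫ t :=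
        (CokernelCofork.IsColimit.desc' hπ (rB.i ≫ t) (h2 t ht).1).2
      refine Cofork.IsColimit.hom_ext hπ ?_
      change π ≫ m = π ≫ _
      rw [h, ← hm, Category.assoc, rB.retract_assoc])

/-- The cokernel of a morphism between a retract `A` of `P` and a retract `B` of `Q` is the cokernel
of a morphism `R ≅ P ⊞ Q ⟶ Q`. -/
lemma exists_isColimit_of_retracts {A B H P Q R : C} [HasBinaryBiproduct P Q] {f : A ⟶ B}
    {π : B ⟶ H} (w : f ≫ π = 0) (hπ : IsColimit (CokernelCofork.ofπ π w))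
    (rA : Retract A P) (rB : Retract B Q) (e : R ≅ P ⊞ Q) :
    ∃ (φ : R ⟶ Q) (g : Q ⟶ H) (h : φ ≫ g = 0), Nonempty (IsColimit (CokernelCofork.ofπ g h)) := by
  have h1 : (e.hom ≫ biprod.desc (rA.r ≫ f ≫ rB.i) (𝟙 Q - rB.r ≫ rB.i)) ≫ rB.r ≫ π = 0 := by
    rw [Category.assoc, ← cancel_epi e.inv, Iso.inv_hom_id_assoc, comp_zero]
    apply biprod.hom_ext'
    · rw [biprod.inl_desc_assoc, comp_zero, Category.assoc, Category.assoc, rB.retract_assoc, w,
        comp_zero]
    · rw [biprod.inr_desc_assoc, comp_zero, Preadditive.sub_comp, Category.id_comp,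
        Category.assoc, rB.retract_assoc, sub_self]
  refine ⟨_, _, h1, ⟨isColimitOfRetract w hπ rB _ h1 ?_⟩⟩
  intro T t ht
  rw [Category.assoc] at ht
  have ht' : biprod.desc (rA.r ≫ f ≫ rB.i) (𝟙 Q - rB.r ≫ rB.i) ≫ t = 0 := by
    rw [← cancel_epi e.hom, ht, comp_zero]
  constructor
  · have := congrArg (fun z => rA.i ≫ biprod.inl ≫ z) ht'
    simp only [biprod.inl_desc_assoc, comp_zero, Category.assoc, rA.retract_assoc] at this
    exact this
  · have := congrArg (fun z => biprod.inr ≫ z) ht'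
    simp only [biprod.inr_desc_assoc, comp_zero, Preadditive.sub_comp, Category.id_comp,
      Category.assoc, sub_eq_zero] at this
    exact this.symm

end Cat

section CatAb

variable {C D : Type*} [Category C] [Abelian C] [Category D] [Abelian D]

lemma iCycles_toCycles (E : CochainComplex C ℤ) (i j : ℤ) :
    E.iCycles i ≫ E.toCycles i j = 0 := by
  rw [← cancel_mono (E.iCycles j), Category.assoc, E.toCycles_i, E.iCycles_d, zero_comp]

/-- If `F` is exact and `F (E^i ⟶ Z^{i+1})` has a section, then `F (Z^i)` is a retract of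
`F (E^i)`. -/
lemma exists_retraction_map_iCycles (F : C ⥤ D) [F.Additive] [PreservesFiniteLimits F]
    (E : CochainComplex C ℤ) (i : ℤ) (ψ : F.obj (E.cycles (i + 1)) ⟶ F.obj (E.X i))
    (hψ : ψ ≫ F.map (E.toCycles i (i + 1)) = 𝟙 _) :
    ∃ r : F.obj (E.X i) ⟶ F.obj (E.cycles i), F.map (E.iCycles i) ≫ r = 𝟙 _ := by
  have w : F.map (E.iCycles i) ≫ F.map (E.d i (i + 1)) = 0 := by
    rw [← F.map_comp, E.iCycles_d, F.map_zero]
  have hK : IsLimit (KernelFork.ofι (F.map (E.iCycles i)) w) :=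
    (KernelFork.ofι (E.iCycles i) (E.iCycles_d i (i + 1))).mapIsLimit
      (E.cyclesIsKernel i (i + 1) (by simp)) F
  have hd : F.map (E.d i (i + 1)) =
      F.map (E.toCycles i (i + 1)) ≫ F.map (E.iCycles (i + 1)) := by
    rw [← F.map_comp, E.toCycles_i]
  refine exists_retraction_of_kernelFork w hK (𝟙 _ - F.map (E.toCycles i (i + 1)) ≫ ψ) ?_ ?_
  · rw [hd, Preadditive.sub_comp, Category.id_comp, Category.assoc, reassoc_of% hψ, sub_self]
  · change F.map (E.iCycles i) ≫ _ = F.map (E.iCycles i)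
    rw [Preadditive.comp_sub, Category.comp_id, ← Category.assoc, ← F.map_comp,
      iCycles_toCycles, F.map_zero, zero_comp, sub_zero]

end CatAb

section Retr

/-- `N` is a retract of a finite free module. -/
def IsRetrFree {Y : Scheme.{u}} (N : Y.Modules) : Prop :=
  ∃ k : ℕ, Nonempty (Retract N (FlatMod.freeMod Y k))

lemma IsRetrFree.of_retract {Y : Scheme.{u}} {N N' : Y.Modules} (r : Retract N' N)
    (h : IsRetrFree N) : IsRetrFree N' := by
  obtain ⟨k, ⟨s⟩⟩ := h
  exact ⟨k, ⟨r.trans s⟩⟩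

lemma IsRetrFree.of_iso {Y : Scheme.{u}} {N N' : Y.Modules} (e : N ≅ N') (h : IsRetrFree N) :
    IsRetrFree N' :=
  h.of_retract (Retract.ofIso e.symm)

lemma isRetrFree_freeMod (Y : Scheme.{u}) (k : ℕ) : IsRetrFree (FlatMod.freeMod Y k) :=
  ⟨k, ⟨Retract.refl _⟩⟩

lemma IsRetrFree.map_restrict {Y Z : Scheme.{u}} (j : Z ⟶ Y) [IsOpenImmersion j] {N : Y.Modules}
    (h : IsRetrFree N) : IsRetrFree ((restrictFunctor j).obj N) := by
  obtain ⟨k, ⟨s⟩⟩ := h
  exact ⟨k, ⟨(s.map (restrictFunctor j)).trans (Retract.ofIso (H8.restrictFreeIso j k))⟩⟩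

lemma IsRetrFree.comp {Y Z Z' : Scheme.{u}} (i : Z' ⟶ Z) (j : Z ⟶ Y) [IsOpenImmersion i]
    [IsOpenImmersion j] {M : Y.Modules} (h : IsRetrFree ((restrictFunctor j).obj M)) :
    IsRetrFree ((restrictFunctor (i ≫ j)).obj M) :=
  (h.map_restrict i).of_iso ((restrictFunctorComp i j).app M).symm

lemma isFinLocFree_freeMod (Y : Scheme.{u}) (k : ℕ) : FlatMod.IsFinLocFree (FlatMod.freeMod Y k) :=
  fun _ => ⟨⊤, k, trivial, ⟨H8.restrictFreeIso _ k⟩⟩

/-- Local lifting along epimorphisms from a retract of a finite free module. -/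
theorem exists_lift_of_isRetrFree {Y : Scheme.{u}} {N F G : Y.Modules} (hN : IsRetrFree N)
    (p : G ⟶ F) [Epi p] (φ : N ⟶ F) (y : Y) :
    ∃ (V : Y.Opens) (ψ : (restrictFunctor V.ι).obj N ⟶ (restrictFunctor V.ι).obj G), y ∈ V ∧
      ψ ≫ (restrictFunctor V.ι).map p = (restrictFunctor V.ι).map φ := by
  obtain ⟨k, ⟨r⟩⟩ := hN
  obtain ⟨V, ψ', hyV, hψ'⟩ := Groth.Agent.S0934.result p (r.r ≫ φ) (isFinLocFree_freeMod Y k) y
  refine ⟨V, (restrictFunctor V.ι).map r.i ≫ ψ', hyV, ?_⟩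
  rw [Category.assoc, hψ', ← Functor.map_comp, r.retract_assoc]

/-- `M` is, near `y`, a retract of a finite free module. -/
def LRAt {Y : Scheme.{u}} (M : Y.Modules) (y : Y) : Prop :=
  ∃ (Z : Scheme.{u}) (j : Z ⟶ Y) (_ : IsOpenImmersion j) (z : Z), j z = y ∧
    IsRetrFree ((restrictFunctor j).obj M)

lemma LRAt.of_iso {Y : Scheme.{u}} {M M' : Y.Modules} (e : M ≅ M') {y : Y} (h : LRAt M y) :
    LRAt M' y := by
  obtain ⟨Z, j, hj, z, hz, hM⟩ := h
  exact ⟨Z, j, hj, z, hz, hM.of_iso ((restrictFunctor j).mapIso e)⟩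

lemma lrAt_of_isFinLocFree {Y : Scheme.{u}} {M : Y.Modules} (hM : FlatMod.IsFinLocFree M)
    (y : Y) : LRAt M y := by
  obtain ⟨U, n, hy, ⟨e⟩⟩ := hM y
  exact ⟨U, U.ι, inferInstance, ⟨y, hy⟩, rfl, (isRetrFree_freeMod _ n).of_iso e.symm⟩

lemma LRAt.and_finLocFree {Y : Scheme.{u}} {M A : Y.Modules} {y : Y} (hM : LRAt M y)
    (hA : FlatMod.IsFinLocFree A) :
    ∃ (Z : Scheme.{u}) (j : Z ⟶ Y) (_ : IsOpenImmersion j) (z : Z), j z = y ∧
      IsRetrFree ((restrictFunctor j).obj M) ∧ IsRetrFree ((restrictFunctor j).obj A) := by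
  obtain ⟨Z₁, j₁, hj₁, z₁, hz₁, hM₁⟩ := hM
  obtain ⟨U, n, hzU, ⟨e⟩⟩ := SPerf.isFinLocFree_restrict j₁ hA z₁
  refine ⟨U, U.ι ≫ j₁, inferInstance, ⟨z₁, hzU⟩, ?_, hM₁.comp U.ι j₁, ?_⟩
  · exact hz₁
  · exact ((isRetrFree_freeMod _ n).of_iso e.symm).of_iso ((restrictFunctorComp U.ι j₁).app A).symm

end Retr

section Cycles

variable {Y : Scheme.{u}} (E : CochainComplex Y.Modules ℤ)

theorem lrAt_cycles_step (i : ℤ) (hfl : FlatMod.IsFinLocFree (E.X i))
    (hH : IsZero (E.homology (i + 1))) (y : Y) (h : LRAt (E.cycles (i + 1)) y) :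
    LRAt (E.cycles i) y := by
  obtain ⟨Z, j, hj, z, hz, hN, hA⟩ := h.and_finLocFree hfl
  have hepi : Epi (E.toCycles i (i + 1)) :=
    Preadditive.epi_of_isZero_cokernel' _ (E.homologyIsCokernel i (i + 1) (by simp)) hH
  have hepi' : Epi ((restrictFunctor j).map (E.toCycles i (i + 1))) := inferInstance
  obtain ⟨V, ψ, hzV, hψ⟩ := exists_lift_of_isRetrFree hN
    ((restrictFunctor j).map (E.toCycles i (i + 1))) (𝟙 _) z
  rw [CategoryTheory.Functor.map_id] at hψ
  obtain ⟨r, hr⟩ := exists_retraction_map_iCycles (restrictFunctor j ⋙ restrictFunctor V.ι) E i ψ hψ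
  have h1 : IsRetrFree ((restrictFunctor j ⋙ restrictFunctor V.ι).obj (E.cycles i)) :=
    (hA.map_restrict V.ι).of_retract ⟨_, r, hr⟩
  exact ⟨V, V.ι ≫ j, inferInstance, ⟨z, hzV⟩, hz,
    h1.of_iso ((restrictFunctorComp V.ι j).app _).symm⟩

theorem lrAt_cycles (n b : ℤ) (hfl : ∀ i, FlatMod.IsFinLocFree (E.X i))
    (hb : ∀ i, b < i → IsZero (E.X i)) (hH : ∀ i, n < i → IsZero (E.homology i)) (y : Y) :
    ∀ (d : ℕ) (i : ℤ), n ≤ i → b ≤ i + d → LRAt (E.cycles i) y := by
  intro d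
  induction d with
  | zero =>
    intro i _ hbi
    have h0 : E.d i (i + 1) = 0 := (hb (i + 1) (by omega)).eq_of_tgt _ _
    have := E.isIso_iCycles i (i + 1) (by simp) h0
    exact (lrAt_of_isFinLocFree (hfl i) y).of_iso (asIso (E.iCycles i)).symm
  | succ d ih =>
    intro i hni hbi
    exact lrAt_cycles_step E i (hfl i) (hH (i + 1) (by omega)) y
      (ih (i + 1) (by omega) (by push_cast at hbi ⊢; omega))

set_option backward.isDefEq.respectTransparency false in
/-- The top cohomology of a strictly perfect complex has, locally, a finite presentation. -/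
theorem exists_presentation_homology (n : ℤ) (hE : DCoh.IsStrictlyPerfect E)
    (hH : ∀ i, n < i → IsZero (E.homology i)) (y : Y) :
    ∃ (Z : Scheme.{u}) (j : Z ⟶ Y) (_ : IsOpenImmersion j) (z : Z), j z = y ∧
      ∃ P : ((restrictFunctor j).obj (E.homology n)).Presentation, P.IsFinite := by
  obtain ⟨⟨a, b, hab⟩, hfl⟩ := hE
  have hZ : LRAt (E.cycles n) y :=
    lrAt_cycles E n b hfl (fun i hi => hab i (Or.inr hi)) hH y (b - n).toNat n le_rfl (by omega)
  obtain ⟨Z, j, hj, z, hz, hB, hA⟩ := hZ.and_finLocFree (hfl (n - 1))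
  obtain ⟨a', ⟨rA⟩⟩ := hA
  obtain ⟨b', ⟨rB⟩⟩ := hB
  have w : (restrictFunctor j).map (E.toCycles (n - 1) n) ≫
      (restrictFunctor j).map (E.homologyπ n) = 0 := by
    rw [← CategoryTheory.Functor.map_comp, E.toCycles_comp_homologyπ,
      CategoryTheory.Functor.map_zero]
  have hπ : IsColimit (CokernelCofork.ofπ ((restrictFunctor j).map (E.homologyπ n)) w) :=
    (CokernelCofork.ofπ (E.homologyπ n) (E.toCycles_comp_homologyπ (n - 1) n)).mapIsColimit
      (E.homologyIsCokernel (n - 1) n (by simp)) (restrictFunctor j)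
  obtain ⟨φ, g, h, ⟨hcol⟩⟩ := exists_isColimit_of_retracts w hπ rA
    (rB.trans (Retract.ofIso (H8.freeIsoFreeMod Z b').symm))
    (H8.freeIsoFreeMod Z (a' + b') ≪≫ (SPerf.freeBiprodIso Z a' b').symm ≪≫
      biprod.mapIso (Iso.refl _) (H8.freeIsoFreeMod Z b').symm)
  refine ⟨Z, j, hj, z, hz, SheafOfModules.presentationOfIsCokernelFree φ g h hcol, ⟨⟨?_⟩, ⟨?_⟩⟩⟩
  · exact inferInstanceAs (Finite (ULift.{u} (Fin b')))
  · exact inferInstanceAs (Finite (ULift.{u} (Fin (a' + b'))))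

end Cycles

end Groth.Agent.H90.LR
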