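import Mathlib

/-!
# Abstract homological lemmas for (pure) resolutions

* `splice_exact`: exactness of a short complex obtained by splicing.
* `chain_quasiIso_iff`, `cochain_quasiIso_iff`: a map to/from a complex concentrated in degree `0`
  is a quasi-isomorphism iff the complex is a resolution.
* `chain_res_qi`, `cochain_res_qi`: a complex spliced from short exact sequences which stay short exact
  after applying an additive functor `F` gives a resolution after applying `F`.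
* `ChainLift`, `CochainLift`: abstract comparison theorems (existence of (co)chain maps and homotopies).
-/

set_option autoImplicit false

open CategoryTheory Category Limits

namespace Groth.Agent.H90.PureCat

universe v u v' u'

section Splice

variable {B : Type u} [Category.{v} B] [Abelian B]

theorem splice_exact (S T : ShortComplex B) (a : S.X₁ ⟶ T.X₁) (w : T.X₂ ⟶ S.X₂) (e : T.X₃ ⟶ S.X₃)
    (ha : Epi a) (hw : IsIso w) (he : Mono e)
    (hf : S.f = a ≫ T.f ≫ w) (hg : w ≫ S.g = T.g ≫ e) (hT : T.Exact) : S.Exact := by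
  have hz : (T.f ≫ w) ≫ S.g = 0 := by
    rw [assoc, hg, T.zero_assoc, zero_comp]
  let φ₁ : S ⟶ ShortComplex.mk (T.f ≫ w) S.g hz :=
    { τ₁ := a
      τ₂ := 𝟙 _
      τ₃ := 𝟙 _
      comm₁₂ := by
        show a ≫ (T.f ≫ w) = S.f ≫ 𝟙 _
        rw [comp_id, hf]
      comm₂₃ := by
        show 𝟙 _ ≫ S.g = S.g ≫ 𝟙 _
        rw [id_comp, comp_id] }
  let φ₂ : T ⟶ ShortComplex.mk (T.f ≫ w) S.g hz :=
    { τ₁ := 𝟙 _
      τ₂ := w
      τ₃ := e
      comm₁₂ := by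
        show 𝟙 _ ≫ (T.f ≫ w) = T.f ≫ w
        rw [id_comp]
      comm₂₃ := by
        show w ≫ S.g = T.g ≫ e
        exact hg }
  have : Epi φ₁.τ₁ := by show Epi a; infer_instance
  have : IsIso φ₁.τ₂ := by show IsIso (𝟙 S.X₂); infer_instance
  have : Mono φ₁.τ₃ := by show Mono (𝟙 S.X₃); infer_instance
  have : Epi φ₂.τ₁ := by show Epi (𝟙 T.X₁); infer_instance
  have : IsIso φ₂.τ₂ := by show IsIso w; infer_instance
  have : Mono φ₂.τ₃ := by show Mono e; infer_instance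
  exact (ShortComplex.exact_iff_of_epi_of_isIso_of_mono φ₁).2
    ((ShortComplex.exact_iff_of_epi_of_isIso_of_mono φ₂).1 hT)

end Splice

section QI

variable {A : Type u} [Category.{v} A] [Abelian A]

theorem chain_quasiIso_iff {K L : ChainComplex A ℕ} (φ : K ⟶ L) (hL : ∀ n, IsZero (L.X (n + 1)))
    (hw : K.d 1 0 ≫ φ.f 0 = 0) :
    QuasiIso φ ↔ (∀ n, (K.sc' (n + 2) (n + 1) n).Exact) ∧
      (ShortComplex.mk (K.d 1 0) (φ.f 0) hw).Exact ∧ Epi (φ.f 0) := by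
  have hLd : L.d 1 0 = 0 := (hL 0).eq_of_src _ _
  have h0 : QuasiIsoAt φ 0 ↔ (ShortComplex.mk (K.d 1 0) (φ.f 0) hw).Exact ∧ Epi (φ.f 0) := by
    rw [ChainComplex.quasiIsoAt₀_iff,
      ShortComplex.quasiIso_iff_of_zeros' _ (K.shape 0 0 (by simp)) hLd (L.shape 0 0 (by simp))]
    rfl
  have hs : ∀ n, QuasiIsoAt φ (n + 1) ↔ (K.sc' (n + 2) (n + 1) n).Exact := by
    intro n
    rw [quasiIsoAt_iff_exactAt' φ (n + 1) (HomologicalComplex.ExactAt.of_isZero (hL n)),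
      HomologicalComplex.exactAt_iff' K (n + 2) (n + 1) n
        (by have := ChainComplex.prev ℕ (n + 1); omega) (by simp)]
  rw [quasiIso_iff]
  constructor
  · intro h
    exact ⟨fun n => (hs n).1 (h (n + 1)), h0.1 (h 0)⟩
  · rintro ⟨h1, h2⟩ (_ | n)
    · exact h0.2 h2
    · exact (hs n).2 (h1 n)

theorem cochain_quasiIso_iff {K L : CochainComplex A ℕ} (φ : L ⟶ K)
    (hL : ∀ n, IsZero (L.X (n + 1))) (hw : φ.f 0 ≫ K.d 0 1 = 0) :
    QuasiIso φ ↔ (∀ n, (K.sc' n (n + 1) (n + 2)).Exact) ∧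
      (ShortComplex.mk (φ.f 0) (K.d 0 1) hw).Exact ∧ Mono (φ.f 0) := by
  have hLd : L.d 0 1 = 0 := (hL 0).eq_of_tgt _ _
  have h0 : QuasiIsoAt φ 0 ↔ (ShortComplex.mk (φ.f 0) (K.d 0 1) hw).Exact ∧ Mono (φ.f 0) := by
    rw [CochainComplex.quasiIsoAt₀_iff,
      ShortComplex.quasiIso_iff_of_zeros _ (L.shape 0 0 (by simp)) hLd (K.shape 0 0 (by simp))]
    rfl
  have hs : ∀ n, QuasiIsoAt φ (n + 1) ↔ (K.sc' n (n + 1) (n + 2)).Exact := by
    intro n
    rw [quasiIsoAt_iff_exactAt φ (n + 1) (HomologicalComplex.ExactAt.of_isZero (hL n)),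
      HomologicalComplex.exactAt_iff' K n (n + 1) (n + 2) (by simp)
        (by have := CochainComplex.next ℕ (n + 1); omega)]
  rw [quasiIso_iff]
  constructor
  · intro h
    exact ⟨fun n => (hs n).1 (h (n + 1)), h0.1 (h 0)⟩
  · rintro ⟨h1, h2⟩ (_ | n)
    · exact h0.2 h2
    · exact (hs n).2 (h1 n)

theorem chain_hw {K L : ChainComplex A ℕ} (φ : K ⟶ L) (hL : ∀ n, IsZero (L.X (n + 1))) :
    K.d 1 0 ≫ φ.f 0 = 0 := by
  rw [← φ.comm 1 0, (hL 0).eq_of_src (L.d 1 0) 0, comp_zero]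

theorem cochain_hw {K L : CochainComplex A ℕ} (φ : L ⟶ K) (hL : ∀ n, IsZero (L.X (n + 1))) :
    φ.f 0 ≫ K.d 0 1 = 0 := by
  rw [φ.comm 0 1, (hL 0).eq_of_tgt (L.d 0 1) 0, zero_comp]

end QI

section SpliceCx

variable {A : Type u} [Category.{v} A] [Abelian A]

section Chain

variable (Z X : ℕ → A) (i : ∀ n, Z (n + 1) ⟶ X n) (p : ∀ n, X n ⟶ Z n)
  (hip : ∀ n, i n ≫ p n = 0)

/-- The chain complex obtained by splicing short complexes `Z (n+1) ⟶ X n ⟶ Z n`. -/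
noncomputable def spliceCx : ChainComplex A ℕ :=
  ChainComplex.of X (fun n => p (n + 1) ≫ i n) (fun n => by
    rw [assoc, reassoc_of% (hip (n + 1)), zero_comp, comp_zero])

/-- The terms of `spliceCx`. -/
noncomputable def spliceX (n : ℕ) : (spliceCx Z X i p hip).X n ≅ X n := Iso.refl _

theorem spliceCx_d (n : ℕ) : (spliceCx Z X i p hip).d (n + 1) n =
    (spliceX Z X i p hip (n + 1)).hom ≫ p (n + 1) ≫ i n ≫ (spliceX Z X i p hip n).inv := by
  have h : (spliceCx Z X i p hip).d (n + 1) n = p (n + 1) ≫ i n := by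
    show ChainComplex.of.d X (fun n => p (n + 1) ≫ i n) (n + 1) n = _
    rw [ChainComplex.of_d]
  rw [h]
  show p (n + 1) ≫ i n = 𝟙 (X (n + 1)) ≫ p (n + 1) ≫ i n ≫ 𝟙 (X n)
  rw [id_comp, comp_id]

/-- The augmentation of `spliceCx`. -/
noncomputable def spliceAug : spliceCx Z X i p hip ⟶ (ChainComplex.single₀ A).obj (Z 0) :=
  HomologicalComplex.mkHomToSingle ((spliceX Z X i p hip 0).hom ≫ p 0) (by
    intro k hk
    obtain rfl : k = 1 := by simpa using hk.symm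
    have h : (spliceCx Z X i p hip).d 1 0 =
        (spliceX Z X i p hip 1).hom ≫ p 1 ≫ i 0 ≫ (spliceX Z X i p hip 0).inv :=
      spliceCx_d Z X i p hip 0
    rw [h]
    simp [hip])

theorem spliceAug_f0 : (spliceAug Z X i p hip).f 0 =
    (spliceX Z X i p hip 0).hom ≫ p 0 ≫
      (HomologicalComplex.singleObjXSelf (ComplexShape.down ℕ) 0 (Z 0)).inv := by
  rw [spliceAug, HomologicalComplex.mkHomToSingle_f, assoc]

end Chain

section Cochain

variable (Z X : ℕ → A) (i : ∀ n, Z n ⟶ X n) (p : ∀ n, X n ⟶ Z (n + 1))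
  (hip : ∀ n, i n ≫ p n = 0)

/-- The cochain complex obtained by splicing short complexes `Z n ⟶ X n ⟶ Z (n+1)`. -/
noncomputable def cospliceCx : CochainComplex A ℕ :=
  CochainComplex.of X (fun n => p n ≫ i (n + 1)) (fun n => by
    rw [assoc, reassoc_of% (hip (n + 1)), zero_comp, comp_zero])

/-- The terms of `cospliceCx`. -/
noncomputable def cospliceX (n : ℕ) : (cospliceCx Z X i p hip).X n ≅ X n := Iso.refl _

theorem cospliceCx_d (n : ℕ) : (cospliceCx Z X i p hip).d n (n + 1) =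
    (cospliceX Z X i p hip n).hom ≫ p n ≫ i (n + 1) ≫ (cospliceX Z X i p hip (n + 1)).inv := by
  have h : (cospliceCx Z X i p hip).d n (n + 1) = p n ≫ i (n + 1) := by
    show CochainComplex.of.d X (fun n => p n ≫ i (n + 1)) n (n + 1) = _
    rw [CochainComplex.of_d]
  rw [h]
  show p n ≫ i (n + 1) = 𝟙 (X n) ≫ p n ≫ i (n + 1) ≫ 𝟙 (X (n + 1))
  rw [id_comp, comp_id]

/-- The coaugmentation of `cospliceCx`. -/
noncomputable def cospliceAug : (CochainComplex.single₀ A).obj (Z 0) ⟶ cospliceCx Z X i p hip :=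
  HomologicalComplex.mkHomFromSingle (i 0 ≫ (cospliceX Z X i p hip 0).inv) (by
    intro k hk
    obtain rfl : k = 1 := by simpa using hk.symm
    have h : (cospliceCx Z X i p hip).d 0 1 =
        (cospliceX Z X i p hip 0).hom ≫ p 0 ≫ i 1 ≫ (cospliceX Z X i p hip 1).inv :=
      cospliceCx_d Z X i p hip 0
    rw [h]
    simp [reassoc_of% (hip 0)])

theorem cospliceAug_f0 : (cospliceAug Z X i p hip).f 0 =
    (HomologicalComplex.singleObjXSelf (ComplexShape.up ℕ) 0 (Z 0)).hom ≫ i 0 ≫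
      (cospliceX Z X i p hip 0).inv := by
  rw [cospliceAug, HomologicalComplex.mkHomFromSingle_f]

end Cochain

end SpliceCx

section Res

variable {A : Type u} [Category.{v} A] [Abelian A] {B : Type u'} [Category.{v'} B] [Abelian B]
variable (F : A ⥤ B) [F.Additive]

theorem chain_res_qi (K : ChainComplex A ℕ) (Y : A) (π : K ⟶ (ChainComplex.single₀ A).obj Y)
    (Z X : ℕ → A) (i : ∀ n, Z (n + 1) ⟶ X n) (p : ∀ n, X n ⟶ Z n) (hip : ∀ n, i n ≫ p n = 0)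
    (e : ∀ n, K.X n ≅ X n) (j : Z 0 ≅ ((ChainComplex.single₀ A).obj Y).X 0)
    (hd : ∀ n, K.d (n + 1) n = (e (n + 1)).hom ≫ p (n + 1) ≫ i n ≫ (e n).inv)
    (hπ : π.f 0 = (e 0).hom ≫ p 0 ≫ j.hom)
    (hSE : ∀ n, ((ShortComplex.mk (i n) (p n) (hip n)).map F).ShortExact) :
    QuasiIso ((F.mapHomologicalComplex (ComplexShape.down ℕ)).map π) := by
  have : ∀ n, Epi (F.map (p n)) := fun n => (hSE n).epi_g
  have : ∀ n, Mono (F.map (i n)) := fun n => (hSE n).mono_f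
  have hL : ∀ n, IsZero (((F.mapHomologicalComplex (ComplexShape.down ℕ)).obj
      ((ChainComplex.single₀ A).obj Y)).X (n + 1)) := fun n =>
    F.map_isZero (HomologicalComplex.isZero_single_obj_X (ComplexShape.down ℕ) 0 Y (n + 1) (by simp))
  have hw : ((F.mapHomologicalComplex (ComplexShape.down ℕ)).obj K).d 1 0 ≫
      ((F.mapHomologicalComplex (ComplexShape.down ℕ)).map π).f 0 = 0 := by
    rw [← HomologicalComplex.Hom.comm, (hL 0).eq_of_src (HomologicalComplex.d _ 1 0) 0, comp_zero]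
  refine (chain_quasiIso_iff _ hL hw).2 ⟨fun n => ?_, ?_, ?_⟩
  · have h1 : K.d (n + 2) (n + 1) = (e (n + 2)).hom ≫ p (n + 2) ≫ i (n + 1) ≫ (e (n + 1)).inv :=
      hd (n + 1)
    refine splice_exact _ ((ShortComplex.mk (i (n + 1)) (p (n + 1)) (hip (n + 1))).map F)
      (F.map (e (n + 2)).hom ≫ F.map (p (n + 2))) (F.map (e (n + 1)).inv)
      (F.map (i n) ≫ F.map (e n).inv)
      (inferInstance : Epi (F.map (e (n + 2)).hom ≫ F.map (p (n + 2))))
      (inferInstance : IsIso (F.map (e (n + 1)).inv))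
      (inferInstance : Mono (F.map (i n) ≫ F.map (e n).inv)) ?_ ?_ (hSE (n + 1)).exact
    · show F.map (K.d (n + 2) (n + 1)) = _
      rw [h1]
      simp
      try rfl
    · show F.map (e (n + 1)).inv ≫ F.map (K.d (n + 1) n) = _
      rw [hd n]
      simp
      try rfl
  · have h1 : K.d 1 0 = (e 1).hom ≫ p 1 ≫ i 0 ≫ (e 0).inv := hd 0
    refine splice_exact _ ((ShortComplex.mk (i 0) (p 0) (hip 0)).map F)
      (F.map (e 1).hom ≫ F.map (p 1)) (F.map (e 0).inv) (F.map j.hom)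
      (inferInstance : Epi (F.map (e 1).hom ≫ F.map (p 1)))
      (inferInstance : IsIso (F.map (e 0).inv))
      (inferInstance : Mono (F.map j.hom)) ?_ ?_ (hSE 0).exact
    · show F.map (K.d 1 0) = _
      rw [h1]
      simp
      try rfl
    · show F.map (e 0).inv ≫ F.map (π.f 0) = _
      rw [hπ]
      simp
      try rfl
  · show Epi (F.map (π.f 0))
    rw [hπ, F.map_comp, F.map_comp]
    infer_instance

theorem cochain_res_qi (K : CochainComplex A ℕ) (Y : A) (η : (CochainComplex.single₀ A).obj Y ⟶ K)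
    (Z X : ℕ → A) (i : ∀ n, Z n ⟶ X n) (p : ∀ n, X n ⟶ Z (n + 1)) (hip : ∀ n, i n ≫ p n = 0)
    (e : ∀ n, K.X n ≅ X n) (j : ((CochainComplex.single₀ A).obj Y).X 0 ≅ Z 0)
    (hd : ∀ n, K.d n (n + 1) = (e n).hom ≫ p n ≫ i (n + 1) ≫ (e (n + 1)).inv)
    (hη : η.f 0 = j.hom ≫ i 0 ≫ (e 0).inv)
    (hSE : ∀ n, ((ShortComplex.mk (i n) (p n) (hip n)).map F).ShortExact) :
    QuasiIso ((F.mapHomologicalComplex (ComplexShape.up ℕ)).map η) := by
  have : ∀ n, Epi (F.map (p n)) := fun n => (hSE n).epi_g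
  have : ∀ n, Mono (F.map (i n)) := fun n => (hSE n).mono_f
  have hL : ∀ n, IsZero (((F.mapHomologicalComplex (ComplexShape.up ℕ)).obj
      ((CochainComplex.single₀ A).obj Y)).X (n + 1)) := fun n =>
    F.map_isZero (HomologicalComplex.isZero_single_obj_X (ComplexShape.up ℕ) 0 Y (n + 1) (by simp))
  have hw : ((F.mapHomologicalComplex (ComplexShape.up ℕ)).map η).f 0 ≫
      ((F.mapHomologicalComplex (ComplexShape.up ℕ)).obj K).d 0 1 = 0 := by
    rw [HomologicalComplex.Hom.comm, (hL 0).eq_of_tgt (HomologicalComplex.d _ 0 1) 0, zero_comp]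
  refine (cochain_quasiIso_iff _ hL hw).2 ⟨fun n => ?_, ?_, ?_⟩
  · have h1 : K.d (n + 1) (n + 2) =
        (e (n + 1)).hom ≫ p (n + 1) ≫ i (n + 2) ≫ (e (n + 2)).inv := hd (n + 1)
    refine splice_exact _ ((ShortComplex.mk (i (n + 1)) (p (n + 1)) (hip (n + 1))).map F)
      (F.map (e n).hom ≫ F.map (p n)) (F.map (e (n + 1)).inv)
      (F.map (i (n + 2)) ≫ F.map (e (n + 2)).inv)
      (inferInstance : Epi (F.map (e n).hom ≫ F.map (p n)))
      (inferInstance : IsIso (F.map (e (n + 1)).inv))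
      (inferInstance : Mono (F.map (i (n + 2)) ≫ F.map (e (n + 2)).inv)) ?_ ?_ (hSE (n + 1)).exact
    · show F.map (K.d n (n + 1)) = _
      rw [hd n]
      simp
      try rfl
    · show F.map (e (n + 1)).inv ≫ F.map (K.d (n + 1) (n + 2)) = _
      rw [h1]
      simp
      try rfl
  · have h1 : K.d 0 1 = (e 0).hom ≫ p 0 ≫ i 1 ≫ (e 1).inv := hd 0
    refine splice_exact _ ((ShortComplex.mk (i 0) (p 0) (hip 0)).map F)
      (F.map j.hom) (F.map (e 0).inv) (F.map (i 1) ≫ F.map (e 1).inv)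
      (inferInstance : Epi (F.map j.hom))
      (inferInstance : IsIso (F.map (e 0).inv))
      (inferInstance : Mono (F.map (i 1) ≫ F.map (e 1).inv)) ?_ ?_ (hSE 0).exact
    · show F.map (η.f 0) = _
      rw [hη]
      simp
      try rfl
    · show F.map (e 0).inv ≫ F.map (K.d 0 1) = _
      rw [h1]
      simp
      try rfl
  · show Mono (F.map (η.f 0))
    rw [hη, F.map_comp, F.map_comp]
    infer_instance

end Res

section ChainCompare

variable {A : Type u} [Category.{v} A] [Abelian A] {Y Z : A}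

/-- Lifting hypotheses for the comparison theorem for chain complexes. -/
structure ChainLift (P Q : ChainComplex A ℕ) (ε : Q ⟶ (ChainComplex.single₀ A).obj Z) : Prop where
  h0 : ∀ n (φ : P.X n ⟶ ((ChainComplex.single₀ A).obj Z).X 0), ∃ ψ : P.X n ⟶ Q.X 0, ψ ≫ ε.f 0 = φ
  h1 : ∀ n (φ : P.X n ⟶ Q.X 0), φ ≫ ε.f 0 = 0 → ∃ ψ : P.X n ⟶ Q.X 1, ψ ≫ Q.d 1 0 = φ
  hs : ∀ n m (φ : P.X n ⟶ Q.X (m + 1)), φ ≫ Q.d (m + 1) m = 0 →
    ∃ ψ : P.X n ⟶ Q.X (m + 2), ψ ≫ Q.d (m + 2) (m + 1) = φ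

variable {P Q : ChainComplex A ℕ} {ε : Q ⟶ (ChainComplex.single₀ A).obj Z}

theorem ChainLift.exists_chainMap (H : ChainLift P Q ε)
    (π : P ⟶ (ChainComplex.single₀ A).obj Y) (f : Y ⟶ Z) :
    ∃ φ : P ⟶ Q, φ ≫ ε = π ≫ (ChainComplex.single₀ A).map f := by
  have hπ : P.d 1 0 ≫ π.f 0 = 0 := by
    rw [← π.comm 1 0, HomologicalComplex.single_obj_d, comp_zero]
  obtain ⟨φ0, h0⟩ := H.h0 0 (π.f 0 ≫ ((ChainComplex.single₀ A).map f).f 0)
  obtain ⟨φ1, h1⟩ := H.h1 1 (P.d 1 0 ≫ φ0) (by rw [assoc, h0, reassoc_of% hπ, zero_comp])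
  have hs2 : ∀ (n : ℕ) (φ : P.X (n + 2) ⟶ Q.X (n + 1)), φ ≫ Q.d (n + 1) n = 0 →
      ∃ ψ : P.X (n + 2) ⟶ Q.X (n + 2), ψ ≫ Q.d (n + 2) (n + 1) = φ :=
    fun n φ h => H.hs (n + 2) n φ h
  let succ : ∀ (n : ℕ) (p : Σ' (f : P.X n ⟶ Q.X n) (f' : P.X (n + 1) ⟶ Q.X (n + 1)),
        f' ≫ Q.d (n + 1) n = P.d (n + 1) n ≫ f),
      Σ' f'' : P.X (n + 2) ⟶ Q.X (n + 2),
        f'' ≫ Q.d (n + 2) (n + 1) = P.d (n + 2) (n + 1) ≫ p.2.1 :=
    fun n p =>
      have hz : (P.d (n + 2) (n + 1) ≫ p.2.1) ≫ Q.d (n + 1) n = 0 := by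
        rw [assoc, p.2.2, HomologicalComplex.d_comp_d_assoc, zero_comp]
      ⟨Classical.choose (hs2 n _ hz), Classical.choose_spec (hs2 n _ hz)⟩
  refine ⟨ChainComplex.mkHom P Q φ0 φ1 h1 succ, ?_⟩
  apply HomologicalComplex.to_single_hom_ext
  rw [HomologicalComplex.comp_f, HomologicalComplex.comp_f, ChainComplex.mkHom_f_0, h0]

theorem ChainLift.nonempty_homotopy_zero (H : ChainLift P Q ε) (γ : P ⟶ Q) (hγ : γ ≫ ε = 0) :
    Nonempty (Homotopy γ 0) := by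
  have hγ0 : γ.f 0 ≫ ε.f 0 = 0 := by
    have := HomologicalComplex.congr_hom hγ 0
    rwa [HomologicalComplex.comp_f, HomologicalComplex.zero_f] at this
  obtain ⟨z, hz⟩ := H.h1 0 (γ.f 0) hγ0
  have h1' : (γ.f 1 - P.d 1 0 ≫ z) ≫ Q.d 1 0 = 0 := by
    rw [Preadditive.sub_comp, assoc, hz, γ.comm 1 0, sub_self]
  obtain ⟨o, ho⟩ : ∃ o : P.X 1 ⟶ Q.X 2, o ≫ Q.d 2 1 = γ.f 1 - P.d 1 0 ≫ z := H.hs 1 0 _ h1'
  have hs3 : ∀ (n : ℕ) (φ : P.X (n + 2) ⟶ Q.X (n + 2)), φ ≫ Q.d (n + 2) (n + 1) = 0 →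
      ∃ ψ : P.X (n + 2) ⟶ Q.X (n + 3), ψ ≫ Q.d (n + 3) (n + 2) = φ :=
    fun n φ h => H.hs (n + 2) (n + 1) φ h
  let succ : ∀ (n : ℕ) (p : Σ' (f : P.X n ⟶ Q.X (n + 1)) (f' : P.X (n + 1) ⟶ Q.X (n + 2)),
        γ.f (n + 1) = P.d (n + 1) n ≫ f + f' ≫ Q.d (n + 2) (n + 1)),
      Σ' f'' : P.X (n + 2) ⟶ Q.X (n + 3),
        γ.f (n + 2) = P.d (n + 2) (n + 1) ≫ p.2.1 + f'' ≫ Q.d (n + 3) (n + 2) :=
    fun n ⟨g, g', w⟩ =>
      have h2 : g' ≫ Q.d (n + 2) (n + 1) = γ.f (n + 1) - P.d (n + 1) n ≫ g := by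
        rw [w]; abel
      have hz' : (γ.f (n + 2) - P.d (n + 2) (n + 1) ≫ g') ≫ Q.d (n + 2) (n + 1) = 0 := by
        rw [Preadditive.sub_comp, assoc, γ.comm (n + 2) (n + 1), h2, Preadditive.comp_sub,
          HomologicalComplex.d_comp_d_assoc, zero_comp, sub_zero, sub_self]
      ⟨Classical.choose (hs3 n _ hz'), by
        rw [Classical.choose_spec (hs3 n _ hz')]; abel⟩
  exact ⟨Homotopy.mkInductive γ z hz.symm o (by rw [ho]; abel) succ⟩

theorem ChainLift.nonempty_homotopy (H : ChainLift P Q ε) (α β : P ⟶ Q) (h : α ≫ ε = β ≫ ε) :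
    Nonempty (Homotopy α β) := by
  obtain ⟨h'⟩ := H.nonempty_homotopy_zero (α - β) (by rw [Preadditive.sub_comp, h, sub_self])
  exact ⟨Homotopy.equivSubZero.symm h'⟩

end ChainCompare

section CochainCompare

variable {A : Type u} [Category.{v} A] [Abelian A] {Y N : A}

/-- Extension hypotheses for the comparison theorem for cochain complexes. -/
structure CochainLift (M' I : CochainComplex A ℕ) (η : (CochainComplex.single₀ A).obj Y ⟶ M') :
    Prop where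
  k0 : ∀ n (φ : ((CochainComplex.single₀ A).obj Y).X 0 ⟶ I.X n), ∃ ψ : M'.X 0 ⟶ I.X n, η.f 0 ≫ ψ = φ
  k1 : ∀ n (φ : M'.X 0 ⟶ I.X n), η.f 0 ≫ φ = 0 → ∃ ψ : M'.X 1 ⟶ I.X n, M'.d 0 1 ≫ ψ = φ
  ks : ∀ n m (φ : M'.X (m + 1) ⟶ I.X n), M'.d m (m + 1) ≫ φ = 0 →
    ∃ ψ : M'.X (m + 2) ⟶ I.X n, M'.d (m + 1) (m + 2) ≫ ψ = φ

variable {M' I : CochainComplex A ℕ} {η : (CochainComplex.single₀ A).obj Y ⟶ M'}

theorem CochainLift.exists_cochainMap (H : CochainLift M' I η)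
    (ε : (CochainComplex.single₀ A).obj N ⟶ I) (f : Y ⟶ N) :
    ∃ φ : M' ⟶ I, η ≫ φ = (CochainComplex.single₀ A).map f ≫ ε := by
  have hε : ε.f 0 ≫ I.d 0 1 = 0 := by
    rw [ε.comm 0 1, HomologicalComplex.single_obj_d, zero_comp]
  obtain ⟨φ0, h0⟩ := H.k0 0 (((CochainComplex.single₀ A).map f).f 0 ≫ ε.f 0)
  obtain ⟨φ1, h1⟩ := H.k1 1 (φ0 ≫ I.d 0 1) (by rw [← assoc, h0, assoc, hε, comp_zero])
  have ks2 : ∀ (n : ℕ) (φ : M'.X (n + 1) ⟶ I.X (n + 2)), M'.d n (n + 1) ≫ φ = 0 →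
      ∃ ψ : M'.X (n + 2) ⟶ I.X (n + 2), M'.d (n + 1) (n + 2) ≫ ψ = φ :=
    fun n φ h => H.ks (n + 2) n φ h
  let succ : ∀ (n : ℕ) (p : Σ' (f : M'.X n ⟶ I.X n) (f' : M'.X (n + 1) ⟶ I.X (n + 1)),
        f ≫ I.d n (n + 1) = M'.d n (n + 1) ≫ f'),
      Σ' f'' : M'.X (n + 2) ⟶ I.X (n + 2),
        p.2.1 ≫ I.d (n + 1) (n + 2) = M'.d (n + 1) (n + 2) ≫ f'' :=
    fun n p =>
      have hz : M'.d n (n + 1) ≫ (p.2.1 ≫ I.d (n + 1) (n + 2)) = 0 := by
        rw [← assoc, ← p.2.2, assoc, HomologicalComplex.d_comp_d, comp_zero]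
      ⟨Classical.choose (ks2 n _ hz), (Classical.choose_spec (ks2 n _ hz)).symm⟩
  refine ⟨CochainComplex.mkHom M' I φ0 φ1 h1.symm succ, ?_⟩
  apply HomologicalComplex.from_single_hom_ext
  rw [HomologicalComplex.comp_f, HomologicalComplex.comp_f, CochainComplex.mkHom_f_0, h0]

theorem CochainLift.nonempty_homotopy_zero (H : CochainLift M' I η) (γ : M' ⟶ I) (hγ : η ≫ γ = 0) :
    Nonempty (Homotopy γ 0) := by
  have hγ0 : η.f 0 ≫ γ.f 0 = 0 := by
    have := HomologicalComplex.congr_hom hγ 0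
    rwa [HomologicalComplex.comp_f, HomologicalComplex.zero_f] at this
  obtain ⟨z, hz⟩ := H.k1 0 (γ.f 0) hγ0
  have h1' : M'.d 0 1 ≫ (γ.f 1 - z ≫ I.d 0 1) = 0 := by
    rw [Preadditive.comp_sub, ← assoc, hz, γ.comm 0 1, sub_self]
  obtain ⟨o, ho⟩ : ∃ o : M'.X 2 ⟶ I.X 1, M'.d 1 2 ≫ o = γ.f 1 - z ≫ I.d 0 1 := H.ks 1 0 _ h1'
  have ks3 : ∀ (n : ℕ) (φ : M'.X (n + 2) ⟶ I.X (n + 2)), M'.d (n + 1) (n + 2) ≫ φ = 0 →
      ∃ ψ : M'.X (n + 3) ⟶ I.X (n + 2), M'.d (n + 2) (n + 3) ≫ ψ = φ :=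
    fun n φ h => H.ks (n + 2) (n + 1) φ h
  let succ : ∀ (n : ℕ) (p : Σ' (f : M'.X (n + 1) ⟶ I.X n) (f' : M'.X (n + 2) ⟶ I.X (n + 1)),
        γ.f (n + 1) = f ≫ I.d n (n + 1) + M'.d (n + 1) (n + 2) ≫ f'),
      Σ' f'' : M'.X (n + 3) ⟶ I.X (n + 2),
        γ.f (n + 2) = p.2.1 ≫ I.d (n + 1) (n + 2) + M'.d (n + 2) (n + 3) ≫ f'' :=
    fun n ⟨g, g', w⟩ =>
      have h2 : M'.d (n + 1) (n + 2) ≫ g' = γ.f (n + 1) - g ≫ I.d n (n + 1) := by
        rw [w]; abel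
      have hz' : M'.d (n + 1) (n + 2) ≫ (γ.f (n + 2) - g' ≫ I.d (n + 1) (n + 2)) = 0 := by
        rw [Preadditive.comp_sub, ← γ.comm (n + 1) (n + 2), ← assoc (M'.d (n + 1) (n + 2)) g', h2,
          Preadditive.sub_comp, assoc, HomologicalComplex.d_comp_d, comp_zero, sub_zero, sub_self]
      ⟨Classical.choose (ks3 n _ hz'), by
        rw [Classical.choose_spec (ks3 n _ hz')]; abel⟩
  exact ⟨Homotopy.mkCoinductive γ z hz.symm o (by rw [ho]; abel) succ⟩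

theorem CochainLift.nonempty_homotopy (H : CochainLift M' I η) (α β : M' ⟶ I)
    (h : η ≫ α = η ≫ β) : Nonempty (Homotopy α β) := by
  obtain ⟨h'⟩ := H.nonempty_homotopy_zero (α - β) (by rw [Preadditive.comp_sub, h, sub_self])
  exact ⟨Homotopy.equivSubZero.symm h'⟩

end CochainCompare

end Groth.Agent.H90.PureCat
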