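import Mathlib
import Groth.Prelude.Def_CAlgX
import Groth.Prelude.Def_W4stkadequatePure
import Groth.Agent.S2057
import Groth.Agent.S6302
import Groth.Agent.S8772
import Groth.Agent.S8773
import Groth.Agent.H90.PureCat

/-!
# Pure projective / pure injective modules: module level lemmas
-/

set_option autoImplicit false

open TensorProduct

namespace Groth.Agent.H90.PureMod

universe u

section Basic

variable (R : Type u) [CommRing R]

/-- Pure projective lifting property. -/
def PP (P : Type u) [AddCommGroup P] [Module R P] : Prop :=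
  ∀ ⦃L N : Type u⦄ [AddCommGroup L] [Module R L] [AddCommGroup N] [Module R N] (g : L →ₗ[R] N),
    Function.Surjective g → CAlgX.UniversallyInjective R (LinearMap.ker g).subtype →
    ∀ φ : P →ₗ[R] N, ∃ ψ : P →ₗ[R] L, g ∘ₗ ψ = φ

/-- Pure injective extension property. -/
def PI (I : Type u) [AddCommGroup I] [Module R I] : Prop :=
  ∀ ⦃K L : Type u⦄ [AddCommGroup K] [Module R K] [AddCommGroup L] [Module R L] (g : K →ₗ[R] L),
    CAlgX.UniversallyInjective R g → ∀ φ : K →ₗ[R] I, ∃ ψ : L →ₗ[R] I, ψ ∘ₗ g = φ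

variable {R}

theorem ui_of_comp {M N P : Type u} [AddCommGroup M] [Module R M] [AddCommGroup N] [Module R N]
    [AddCommGroup P] [Module R P] (f : M →ₗ[R] N) (g : N →ₗ[R] P)
    (h : CAlgX.UniversallyInjective R (g ∘ₗ f)) : CAlgX.UniversallyInjective R f := by
  intro Q _ _
  have h1 := h Q
  rw [LinearMap.rTensor_comp, LinearMap.coe_comp] at h1
  exact Function.Injective.of_comp h1

theorem ui_subtype_congr {A : Type u} [AddCommGroup A] [Module R A] {S S' : Submodule R A}
    (h : S = S') (hS : CAlgX.UniversallyInjective R S.subtype) :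
    CAlgX.UniversallyInjective R S'.subtype := by
  subst h
  exact hS

theorem rid_rTensor {A B : Type u} [AddCommGroup A] [Module R A] [AddCommGroup B] [Module R B]
    (a : A →ₗ[R] B) (t : A ⊗[R] R) :
    TensorProduct.rid R B (a.rTensor R t) = a (TensorProduct.rid R A t) := by
  induction t using TensorProduct.induction_on with
  | zero => simp
  | tmul x r => simp
  | add x y hx hy => simp only [map_add, hx, hy]

theorem surjective_of_rTensor {A B : Type u} [AddCommGroup A] [Module R A] [AddCommGroup B]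
    [Module R B] (a : A →ₗ[R] B) (h : Function.Surjective (a.rTensor R)) :
    Function.Surjective a := by
  intro y
  obtain ⟨t, ht⟩ := h (y ⊗ₜ[R] (1 : R))
  refine ⟨TensorProduct.rid R A t, ?_⟩
  rw [← rid_rTensor, ht, TensorProduct.rid_tmul, one_smul]

theorem exact_of_rTensor {A B C : Type u} [AddCommGroup A] [Module R A] [AddCommGroup B]
    [Module R B] [AddCommGroup C] [Module R C] (a : A →ₗ[R] B) (b : B →ₗ[R] C)
    (h : Function.Exact (a.rTensor R) (b.rTensor R)) : Function.Exact a b := by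
  intro y
  constructor
  · intro hb
    have h1 : (b.rTensor R) (y ⊗ₜ[R] (1 : R)) = 0 := by
      rw [LinearMap.rTensor_tmul, hb, TensorProduct.zero_tmul]
    obtain ⟨t, ht⟩ := (h _).1 h1
    refine ⟨TensorProduct.rid R A t, ?_⟩
    rw [← rid_rTensor, ht, TensorProduct.rid_tmul, one_smul]
  · rintro ⟨x, rfl⟩
    have h1 : (b.rTensor R) ((a.rTensor R) (x ⊗ₜ[R] (1 : R))) = 0 := (h _).2 ⟨_, rfl⟩
    rw [LinearMap.rTensor_tmul, LinearMap.rTensor_tmul] at h1
    have h2 := congrArg (TensorProduct.rid R C) h1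
    rwa [TensorProduct.rid_tmul, one_smul, map_zero] at h2

/-- Finitely presented modules are pure projective. -/
theorem pp_of_fp (Q : Type u) [AddCommGroup Q] [Module R Q] [Module.FinitePresentation R Q] :
    PP R Q := by
  intro L N _ _ _ _ g hg hK φ
  let E : Submodule R (L × Q) :=
    LinearMap.ker (g ∘ₗ LinearMap.fst R L Q - φ ∘ₗ LinearMap.snd R L Q)
  have hE : ∀ x : L × Q, x ∈ E ↔ g x.1 = φ x.2 := by
    intro x
    show (g ∘ₗ LinearMap.fst R L Q - φ ∘ₗ LinearMap.snd R L Q) x = 0 ↔ _
    rw [LinearMap.sub_apply, LinearMap.comp_apply, LinearMap.comp_apply, LinearMap.fst_apply,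
      LinearMap.snd_apply, sub_eq_zero]
  let f' : LinearMap.ker g →ₗ[R] E :=
    LinearMap.codRestrict E (LinearMap.inl R L Q ∘ₗ (LinearMap.ker g).subtype) (by
      intro k
      rw [hE]
      show g (k : L) = φ 0
      rw [map_zero]
      exact LinearMap.mem_ker.1 k.2)
  let g' : E →ₗ[R] Q := LinearMap.snd R L Q ∘ₗ E.subtype
  have hex : Function.Exact f' g' := by
    intro x
    constructor
    · intro hx
      have h1 : g x.1.1 = φ x.1.2 := (hE x.1).1 x.2
      have h2 : x.1.2 = 0 := hx
      refine ⟨⟨x.1.1, ?_⟩, ?_⟩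
      · rw [LinearMap.mem_ker, h1, h2, map_zero]
      · apply Subtype.ext
        apply Prod.ext
        · rfl
        · exact h2.symm
    · rintro ⟨k, rfl⟩
      rfl
  have hsurj : Function.Surjective g' := by
    intro q
    obtain ⟨l, hl⟩ := hg (φ q)
    exact ⟨⟨(l, q), (hE _).2 hl⟩, rfl⟩
  have hui : CAlgX.UniversallyInjective R f' := by
    apply ui_of_comp f' (LinearMap.fst R L Q ∘ₗ E.subtype)
    have : (LinearMap.fst R L Q ∘ₗ E.subtype) ∘ₗ f' = (LinearMap.ker g).subtype := by
      ext k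
      rfl
    rw [this]
    exact hK
  obtain ⟨s, hs⟩ := Groth.Agent.S6302.result f' g' hex hsurj hui
  refine ⟨LinearMap.fst R L Q ∘ₗ E.subtype ∘ₗ s, ?_⟩
  ext q
  have h1 : g (s q).1.1 = φ (s q).1.2 := (hE _).1 (s q).2
  have h2 : (s q).1.2 = q := LinearMap.congr_fun hs q
  show g (s q).1.1 = φ q
  rw [h1, h2]

/-- Direct sums of pure projectives are pure projective. -/
theorem pp_dfinsupp {ι : Type u} (Q : ι → Type u) [∀ i, AddCommGroup (Q i)] [∀ i, Module R (Q i)]
    (h : ∀ i, PP R (Q i)) : PP R (Π₀ i, Q i) := by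
  classical
  intro L N _ _ _ _ g hg hK φ
  have : ∀ i, ∃ ψ : Q i →ₗ[R] L, g ∘ₗ ψ = φ ∘ₗ DFinsupp.lsingle i := fun i => h i g hg hK _
  choose ψ hψ using this
  refine ⟨DFinsupp.lsum ℕ ψ, ?_⟩
  apply DFinsupp.lhom_ext
  intro i x
  have := LinearMap.congr_fun (hψ i) x
  simpa [DFinsupp.lsum_single] using this

/-- Retracts of pure projectives are pure projective. -/
theorem pp_of_retract {P P' : Type u} [AddCommGroup P] [Module R P] [AddCommGroup P'] [Module R P']
    (s : P →ₗ[R] P') (r : P' →ₗ[R] P) (hrs : r ∘ₗ s = LinearMap.id) (h : PP R P') : PP R P := by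
  intro L N _ _ _ _ g hg hK φ
  obtain ⟨ψ, hψ⟩ := h g hg hK (φ ∘ₗ r)
  refine ⟨ψ ∘ₗ s, ?_⟩
  rw [← LinearMap.comp_assoc, hψ, LinearMap.comp_assoc, hrs, LinearMap.comp_id]

/-- Character modules are pure injective. -/
theorem pi_charModule (B : Type u) [AddCommGroup B] [Module R B] : PI R (CharacterModule B) := by
  intro K L _ _ _ _ g hg φ
  have h := hg B
  rw [rTensor_injective_iff_lcomp_surjective] at h
  obtain ⟨ψ, hψ⟩ := h φ
  exact ⟨ψ, hψ⟩

theorem pi_of_equiv {I J : Type u} [AddCommGroup I] [Module R I] [AddCommGroup J] [Module R J]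
    (e : I ≃ₗ[R] J) (h : PI R J) : PI R I := by
  intro K L _ _ _ _ g hg φ
  obtain ⟨ψ, hψ⟩ := h g hg (e.toLinearMap ∘ₗ φ)
  refine ⟨e.symm.toLinearMap ∘ₗ ψ, ?_⟩
  rw [LinearMap.comp_assoc, hψ]
  ext k
  simp

/-- Lifting lemma: `X` pure projective, `A'' → A' → A → B → C` universally exact at `A'`, exact at
`A` and `B`. -/
theorem ue_lift {X A'' A' A B C : Type u} [AddCommGroup X] [Module R X] [AddCommGroup A'']
    [Module R A''] [AddCommGroup A'] [Module R A'] [AddCommGroup A] [Module R A] [AddCommGroup B]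
    [Module R B] [AddCommGroup C] [Module R C] (hX : PP R X)
    (a'' : A'' →ₗ[R] A') (a' : A' →ₗ[R] A) (a : A →ₗ[R] B) (b : B →ₗ[R] C)
    (h0 : ∀ (Q : Type u) [AddCommGroup Q] [Module R Q],
      Function.Exact (a''.rTensor Q) (a'.rTensor Q))
    (h1 : Function.Exact a' a) (h2 : Function.Exact a b)
    (φ : X →ₗ[R] B) (hφ : b ∘ₗ φ = 0) : ∃ ψ : X →ₗ[R] A, a ∘ₗ ψ = φ := by
  have hui0 : CAlgX.UniversallyInjective R (LinearMap.range a').subtype :=
    Groth.Agent.S8773.result R a'' a' h0
  have hker : LinearMap.ker a.rangeRestrict = LinearMap.range a' := by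
    rw [LinearMap.ker_rangeRestrict]
    exact LinearMap.exact_iff.1 h1
  have hui : CAlgX.UniversallyInjective R (LinearMap.ker a.rangeRestrict).subtype :=
    ui_subtype_congr hker.symm hui0
  have hmem : ∀ x, φ x ∈ LinearMap.range a := by
    intro x
    have hx : b (φ x) = 0 := LinearMap.congr_fun hφ x
    obtain ⟨y, hy⟩ := (h2 (φ x)).1 hx
    exact ⟨y, hy⟩
  obtain ⟨ψ, hψ⟩ := hX a.rangeRestrict (LinearMap.surjective_rangeRestrict a) hui
    (φ.codRestrict (LinearMap.range a) hmem)
  refine ⟨ψ, ?_⟩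
  ext x
  exact congrArg Subtype.val (LinearMap.congr_fun hψ x)

/-- Extension lemma: `X` pure injective, `A → B → C` universally exact at `B`. -/
theorem ue_ext {X A B C : Type u} [AddCommGroup X] [Module R X] [AddCommGroup A] [Module R A]
    [AddCommGroup B] [Module R B] [AddCommGroup C] [Module R C] (hX : PI R X)
    (a : A →ₗ[R] B) (b : B →ₗ[R] C)
    (h : ∀ (Q : Type u) [AddCommGroup Q] [Module R Q], Function.Exact (a.rTensor Q) (b.rTensor Q))
    (ψ : B →ₗ[R] X) (hψ : ψ ∘ₗ a = 0) : ∃ χ : C →ₗ[R] X, χ ∘ₗ b = ψ := by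
  have hex : Function.Exact a b := exact_of_rTensor a b (h R)
  have hui : CAlgX.UniversallyInjective R (LinearMap.range b).subtype :=
    Groth.Agent.S8773.result R a b h
  have hle : LinearMap.ker b ≤ LinearMap.ker ψ := by
    intro x hx
    obtain ⟨y, rfl⟩ := (hex x).1 hx
    exact LinearMap.congr_fun hψ y
  let ψ' : LinearMap.range b →ₗ[R] X :=
    (LinearMap.ker b).liftQ ψ hle ∘ₗ (b.quotKerEquivRange).symm.toLinearMap
  obtain ⟨χ, hχ⟩ := hX (LinearMap.range b).subtype hui ψ'
  refine ⟨χ, ?_⟩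
  ext x
  have h1 := LinearMap.congr_fun hχ (b.rangeRestrict x)
  have h2 : (b.quotKerEquivRange).symm (b.rangeRestrict x) = (LinearMap.ker b).mkQ x :=
    b.quotKerEquivRange_symm_apply_image x _
  show χ (b x) = ψ x
  have h3 : ψ' (b.rangeRestrict x) = ψ x := by
    show (LinearMap.ker b).liftQ ψ hle ((b.quotKerEquivRange).symm (b.rangeRestrict x)) = ψ x
    rw [h2]
    rfl
  rw [← h3, ← h1]
  rfl

end Basic

section Cover

variable (R : Type u) [CommRing R] (M : Type u) [AddCommGroup M] [Module R M]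

/-- Index type of the canonical cover of `M` by finitely presented modules. -/
def CovIdx : Type u :=
  Σ (n : ℕ) (S : Finset (Fin n → R)),
    ((Fin n → R) ⧸ Submodule.span R (S : Set (Fin n → R))) →ₗ[R] M

/-- The finitely presented pieces of the canonical cover. -/
def CovQ (i : CovIdx R M) : Type u :=
  (Fin i.1 → R) ⧸ Submodule.span R ((i.2.1 : Finset (Fin i.1 → R)) : Set (Fin i.1 → R))

instance covQ_addCommGroup (i : CovIdx R M) : AddCommGroup (CovQ R M i) :=
  inferInstanceAs (AddCommGroup ((Fin i.1 → R) ⧸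
    Submodule.span R ((i.2.1 : Finset (Fin i.1 → R)) : Set (Fin i.1 → R))))

instance covQ_module (i : CovIdx R M) : Module R (CovQ R M i) :=
  inferInstanceAs (Module R ((Fin i.1 → R) ⧸
    Submodule.span R ((i.2.1 : Finset (Fin i.1 → R)) : Set (Fin i.1 → R))))

/-- The quotient map onto a piece. -/
def covMk (i : CovIdx R M) : (Fin i.1 → R) →ₗ[R] CovQ R M i :=
  Submodule.mkQ (Submodule.span R ((i.2.1 : Finset (Fin i.1 → R)) : Set (Fin i.1 → R)))

/-- The structure map of a piece. -/
def covOut (i : CovIdx R M) : CovQ R M i →ₗ[R] M := i.2.2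

theorem covMk_surjective (i : CovIdx R M) : Function.Surjective (covMk R M i) :=
  Submodule.mkQ_surjective _

theorem ker_covMk (i : CovIdx R M) : LinearMap.ker (covMk R M i) =
    Submodule.span R ((i.2.1 : Finset (Fin i.1 → R)) : Set (Fin i.1 → R)) :=
  Submodule.ker_mkQ _

instance covQ_fp (i : CovIdx R M) : Module.FinitePresentation R (CovQ R M i) :=
  Module.finitePresentation_of_free_of_surjective (covMk R M i) (covMk_surjective R M i)
    (by rw [ker_covMk]; exact Submodule.fg_span (Finset.finite_toSet _))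

open Classical in
/-- The canonical map from the direct sum of all finitely presented modules over `M`. -/
noncomputable def covMap : (Π₀ i : CovIdx R M, CovQ R M i) →ₗ[R] M :=
  DFinsupp.lsum ℕ (fun i => covOut R M i)

open Classical in
/-- The index given by a matrix of relations and a compatible linear map. -/
@[reducible] noncomputable def mkIdx {n m : ℕ} (a : Fin n → Fin m → R) (h0 : (Fin m → R) →ₗ[R] M)
    (hle : ∀ i, h0 (a i) = 0) : CovIdx R M :=
  ⟨m, Finset.univ.image a, (Submodule.span R _).liftQ h0 (by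
      rw [Submodule.span_le]
      intro x hx
      obtain ⟨i, -, rfl⟩ := Finset.mem_image.1 (Finset.mem_coe.1 hx)
      exact LinearMap.mem_ker.2 (hle i))⟩

open Classical in
theorem covOut_mkIdx {n m : ℕ} (a : Fin n → Fin m → R) (h0 : (Fin m → R) →ₗ[R] M)
    (hle : ∀ i, h0 (a i) = 0) (c : Fin m → R) :
    covOut R M (mkIdx R M a h0 hle) (covMk R M (mkIdx R M a h0 hle) c) = h0 c := rfl

open Classical in
theorem covMk_mkIdx_row {n m : ℕ} (a : Fin n → Fin m → R) (h0 : (Fin m → R) →ₗ[R] M)
    (hle : ∀ i, h0 (a i) = 0) (i : Fin n) :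
    covMk R M (mkIdx R M a h0 hle) (a i) = 0 := by
  have h : a i ∈ LinearMap.ker (covMk R M (mkIdx R M a h0 hle)) := by
    rw [ker_covMk]
    exact Submodule.subset_span
      (Finset.mem_coe.2 (Finset.mem_image_of_mem a (Finset.mem_univ i)))
  exact LinearMap.mem_ker.1 h

open Classical in
theorem covMap_single (i : CovIdx R M) (x : CovQ R M i) :
    covMap R M (DFinsupp.single i x) = covOut R M i x := by
  rw [covMap, DFinsupp.lsum_single]

open Classical in
theorem covMap_surjective : Function.Surjective (covMap R M) := by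
  intro m
  let h0 : (Fin 1 → R) →ₗ[R] M := Fintype.linearCombination R (fun _ : Fin 1 => m)
  let a : Fin 0 → Fin 1 → R := fun i => i.elim0
  have hle : ∀ i, h0 (a i) = 0 := fun i => i.elim0
  refine ⟨DFinsupp.single (mkIdx R M a h0 hle) (covMk R M (mkIdx R M a h0 hle) (Pi.single 0 1)), ?_⟩
  rw [covMap_single, covOut_mkIdx]
  show Fintype.linearCombination R (fun _ : Fin 1 => m) (Pi.single 0 1) = m
  rw [Fintype.linearCombination_apply_single, one_smul]

open Classical in
theorem covMap_ker_ui : CAlgX.UniversallyInjective R (LinearMap.ker (covMap R M)).subtype := by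
  rw [Groth.Agent.S2057.result _ (Submodule.injective_subtype _)]
  intro n m x y a hxy
  let g := covMap R M
  let h0 : (Fin m → R) →ₗ[R] M := g ∘ₗ Fintype.linearCombination R y
  have hle : ∀ i, h0 (a i) = 0 := by
    intro i
    show g (Fintype.linearCombination R y (a i)) = 0
    rw [Fintype.linearCombination_apply, ← hxy i]
    exact LinearMap.mem_ker.1 (x i).2
  let ℓ : (Fin m → R) →ₗ[R] (Π₀ i, CovQ R M i) :=
    DFinsupp.lsingle (mkIdx R M a h0 hle) ∘ₗ covMk R M (mkIdx R M a h0 hle)
  have hgℓ : ∀ c, g (ℓ c) = h0 c := by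
    intro c
    show covMap R M (DFinsupp.single (mkIdx R M a h0 hle) (covMk R M (mkIdx R M a h0 hle) c)) = h0 c
    rw [covMap_single, covOut_mkIdx]
  have hℓa : ∀ i, ℓ (a i) = 0 := by
    intro i
    show DFinsupp.single (mkIdx R M a h0 hle) (covMk R M (mkIdx R M a h0 hle) (a i)) = 0
    rw [covMk_mkIdx_row, DFinsupp.single_zero]
  have hz : ∀ j, y j - ℓ (Pi.single j 1) ∈ LinearMap.ker g := by
    intro j
    rw [LinearMap.mem_ker, map_sub, hgℓ]
    show g (y j) - g (Fintype.linearCombination R y (Pi.single j 1)) = 0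
    rw [Fintype.linearCombination_apply_single, one_smul, sub_self]
  refine ⟨fun j => ⟨y j - ℓ (Pi.single j 1), hz j⟩, fun i => ?_⟩
  have h1 : ∑ j, a i j • ℓ (Pi.single j 1) = ℓ (a i) := by
    conv_rhs => rw [pi_eq_sum_univ' (a i)]
    rw [map_sum]
    simp only [map_smul]
  apply Subtype.ext
  rw [Submodule.coe_sum]
  simp only [Submodule.coe_smul, smul_sub, Finset.sum_sub_distrib]
  rw [h1, hℓa i, sub_zero]
  exact hxy i

/-- The canonical cover is pure projective. -/
theorem pp_cov : PP R (Π₀ i : CovIdx R M, CovQ R M i) :=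
  pp_dfinsupp _ (fun _ => pp_of_fp _)

end Cover

end Groth.Agent.H90.PureMod
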