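import Mathlib
import Groth.Agent.H90.PureMod

/-!
# Pure projective / pure injective resolutions in `ModuleCat`
-/

set_option autoImplicit false

open CategoryTheory MonoidalCategory Limits

namespace Groth.Agent.H90.PureRes

universe u

open Groth.Agent.H90.PureMod

variable (R : Type u) [CommRing R]

section Extract

variable {R}

theorem chain_ue (K : ChainComplex (ModuleCat.{u} R) ℕ) (Z : ModuleCat.{u} R)
    (ε : K ⟶ (ChainComplex.single₀ (ModuleCat.{u} R)).obj Z)
    (h : ∀ T : ModuleCat.{u} R,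
      QuasiIso (((tensorRight T).mapHomologicalComplex (ComplexShape.down ℕ)).map ε))
    (Q : Type u) [AddCommGroup Q] [Module R Q] :
    (∀ n, Function.Exact ((K.d (n + 2) (n + 1)).hom.rTensor Q) ((K.d (n + 1) n).hom.rTensor Q)) ∧
    Function.Exact ((K.d 1 0).hom.rTensor Q) ((ε.f 0).hom.rTensor Q) ∧
    Function.Surjective ((ε.f 0).hom.rTensor Q) := by
  have hL : ∀ n, IsZero ((((tensorRight (ModuleCat.of R Q)).mapHomologicalComplex
      (ComplexShape.down ℕ)).obj ((ChainComplex.single₀ (ModuleCat.{u} R)).obj Z)).X (n + 1)) :=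
    fun n => (tensorRight (ModuleCat.of R Q)).map_isZero
      (HomologicalComplex.isZero_single_obj_X (ComplexShape.down ℕ) 0 Z (n + 1) (by simp))
  obtain ⟨h1, h2, h3⟩ :=
    (PureCat.chain_quasiIso_iff _ hL (PureCat.chain_hw _ hL)).1 (h (ModuleCat.of R Q))
  refine ⟨fun n => ?_, ?_, ?_⟩
  · exact (ShortComplex.ShortExact.moduleCat_exact_iff_function_exact _).1 (h1 n)
  · exact (ShortComplex.ShortExact.moduleCat_exact_iff_function_exact _).1 h2
  · exact (ModuleCat.epi_iff_surjective _).1 h3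

theorem cochain_ue (K : CochainComplex (ModuleCat.{u} R) ℕ) (Y : ModuleCat.{u} R)
    (η : (CochainComplex.single₀ (ModuleCat.{u} R)).obj Y ⟶ K)
    (h : ∀ T : ModuleCat.{u} R,
      QuasiIso (((tensorRight T).mapHomologicalComplex (ComplexShape.up ℕ)).map η))
    (Q : Type u) [AddCommGroup Q] [Module R Q] :
    (∀ n, Function.Exact ((K.d n (n + 1)).hom.rTensor Q) ((K.d (n + 1) (n + 2)).hom.rTensor Q)) ∧
    Function.Exact ((η.f 0).hom.rTensor Q) ((K.d 0 1).hom.rTensor Q) ∧
    Function.Injective ((η.f 0).hom.rTensor Q) := by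
  have hL : ∀ n, IsZero ((((tensorRight (ModuleCat.of R Q)).mapHomologicalComplex
      (ComplexShape.up ℕ)).obj ((CochainComplex.single₀ (ModuleCat.{u} R)).obj Y)).X (n + 1)) :=
    fun n => (tensorRight (ModuleCat.of R Q)).map_isZero
      (HomologicalComplex.isZero_single_obj_X (ComplexShape.up ℕ) 0 Y (n + 1) (by simp))
  obtain ⟨h1, h2, h3⟩ :=
    (PureCat.cochain_quasiIso_iff _ hL (PureCat.cochain_hw _ hL)).1 (h (ModuleCat.of R Q))
  refine ⟨fun n => ?_, ?_, ?_⟩
  · exact (ShortComplex.ShortExact.moduleCat_exact_iff_function_exact _).1 (h1 n)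
  · exact (ShortComplex.ShortExact.moduleCat_exact_iff_function_exact _).1 h2
  · exact (ModuleCat.mono_iff_injective _).1 h3

theorem cat_lift {X A'' A' A B C : ModuleCat.{u} R} (hX : PP R X)
    (a'' : A'' ⟶ A') (a' : A' ⟶ A) (a : A ⟶ B) (b : B ⟶ C)
    (h0 : ∀ (Q : Type u) [AddCommGroup Q] [Module R Q],
      Function.Exact (a''.hom.rTensor Q) (a'.hom.rTensor Q))
    (h1 : Function.Exact a'.hom a.hom) (h2 : Function.Exact a.hom b.hom)
    (φ : X ⟶ B) (hφ : φ ≫ b = 0) : ∃ ψ : X ⟶ A, ψ ≫ a = φ := by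
  obtain ⟨ψ, hψ⟩ := ue_lift hX a''.hom a'.hom a.hom b.hom h0 h1 h2 φ.hom (by
    rw [← ModuleCat.hom_comp, hφ]
    rfl)
  refine ⟨ModuleCat.ofHom ψ, ?_⟩
  apply ModuleCat.hom_ext
  rw [ModuleCat.hom_comp, ModuleCat.hom_ofHom]
  exact hψ

theorem cat_ext {X A B C : ModuleCat.{u} R} (hX : PI R X) (a : A ⟶ B) (b : B ⟶ C)
    (h : ∀ (Q : Type u) [AddCommGroup Q] [Module R Q],
      Function.Exact (a.hom.rTensor Q) (b.hom.rTensor Q))
    (ψ : B ⟶ X) (hψ : a ≫ ψ = 0) : ∃ χ : C ⟶ X, b ≫ χ = ψ := by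
  obtain ⟨χ, hχ⟩ := ue_ext hX a.hom b.hom h ψ.hom (by
    rw [← ModuleCat.hom_comp, hψ]
    rfl)
  refine ⟨ModuleCat.ofHom χ, ?_⟩
  apply ModuleCat.hom_ext
  rw [ModuleCat.hom_comp, ModuleCat.hom_ofHom]
  exact hχ

theorem chainLift_of {N : ModuleCat.{u} R} (P N' : ChainComplex (ModuleCat.{u} R) ℕ)
    (ε : N' ⟶ (ChainComplex.single₀ (ModuleCat.{u} R)).obj N) (hP : ∀ n, PP R (P.X n))
    (hN' : ∀ T : ModuleCat.{u} R,
      QuasiIso (((tensorRight T).mapHomologicalComplex (ComplexShape.down ℕ)).map ε)) :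
    PureCat.ChainLift P N' ε := by
  have hu : ∀ (Q : Type u) [AddCommGroup Q] [Module R Q], _ :=
    fun Q _ _ => chain_ue N' N ε hN' Q
  have hpl : ∀ n, Function.Exact (N'.d (n + 2) (n + 1)).hom (N'.d (n + 1) n).hom :=
    fun n => exact_of_rTensor _ _ ((hu R).1 n)
  have hpl0 : Function.Exact (N'.d 1 0).hom (ε.f 0).hom := exact_of_rTensor _ _ (hu R).2.1
  have hsurj : Function.Surjective (ε.f 0).hom := surjective_of_rTensor _ (hu R).2.2
  refine ⟨?_, ?_, ?_⟩
  · intro n φ
    exact cat_lift (hP n) (N'.d 2 1) (N'.d 1 0) (ε.f 0)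
      (0 : _ ⟶ ((ChainComplex.single₀ (ModuleCat.{u} R)).obj N).X 0)
      (fun Q _ _ => (hu Q).1 0) hpl0 (fun y => ⟨fun _ => hsurj y, fun _ => rfl⟩) φ comp_zero
  · intro n φ hφ
    exact cat_lift (hP n) (N'.d 3 2) (N'.d 2 1) (N'.d 1 0) (ε.f 0)
      (fun Q _ _ => (hu Q).1 1) (hpl 0) hpl0 φ hφ
  · intro n m φ hφ
    exact cat_lift (hP n) (N'.d (m + 4) (m + 3)) (N'.d (m + 3) (m + 2)) (N'.d (m + 2) (m + 1))
      (N'.d (m + 1) m) (fun Q _ _ => (hu Q).1 (m + 2)) (hpl (m + 1)) (hpl m) φ hφ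

theorem cochainLift_of {Y : ModuleCat.{u} R} (M' I : CochainComplex (ModuleCat.{u} R) ℕ)
    (η : (CochainComplex.single₀ (ModuleCat.{u} R)).obj Y ⟶ M') (hI : ∀ n, PI R (I.X n))
    (hM' : ∀ T : ModuleCat.{u} R,
      QuasiIso (((tensorRight T).mapHomologicalComplex (ComplexShape.up ℕ)).map η)) :
    PureCat.CochainLift M' I η := by
  have hu : ∀ (Q : Type u) [AddCommGroup Q] [Module R Q], _ :=
    fun Q _ _ => cochain_ue M' Y η hM' Q
  refine ⟨?_, ?_, ?_⟩
  · intro n φ
    obtain ⟨ψ, hψ⟩ := hI n (η.f 0).hom (fun Q _ _ => (hu Q).2.2) φ.hom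
    refine ⟨ModuleCat.ofHom ψ, ?_⟩
    apply ModuleCat.hom_ext
    rw [ModuleCat.hom_comp, ModuleCat.hom_ofHom]
    exact hψ
  · intro n φ hφ
    exact cat_ext (hI n) (η.f 0) (M'.d 0 1) (fun Q _ _ => (hu Q).2.1) φ hφ
  · intro n m φ hφ
    exact cat_ext (hI n) (M'.d m (m + 1)) (M'.d (m + 1) (m + 2)) (fun Q _ _ => (hu Q).1 m) φ hφ

end Extract

section ProjRes

/-- The canonical pure projective cover, as an object of `ModuleCat`. -/
noncomputable def covObj (N : ModuleCat.{u} R) : ModuleCat.{u} R :=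
  ModuleCat.of R (Π₀ i : CovIdx R N, CovQ R N i)

/-- The canonical cover map. -/
noncomputable def covHom (N : ModuleCat.{u} R) : covObj R N ⟶ N := ModuleCat.ofHom (covMap R N)

/-- The kernel of the canonical cover. -/
noncomputable def kerObj (N : ModuleCat.{u} R) : ModuleCat.{u} R :=
  ModuleCat.of R (LinearMap.ker (covMap R N))

/-- The inclusion of the kernel of the canonical cover. -/
noncomputable def kerHom (N : ModuleCat.{u} R) : kerObj R N ⟶ covObj R N :=
  ModuleCat.ofHom (LinearMap.ker (covMap R N)).subtype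

theorem kerHom_covHom (N : ModuleCat.{u} R) : kerHom R N ≫ covHom R N = 0 := by
  apply ModuleCat.hom_ext
  apply LinearMap.ext
  intro x
  exact LinearMap.mem_ker.1 (x : LinearMap.ker (covMap R N)).2

theorem cov_ses_tensor (N T : ModuleCat.{u} R) :
    ((ShortComplex.mk (kerHom R N) (covHom R N) (kerHom_covHom R N)).map
      (tensorRight T)).ShortExact := by
  have hex : Function.Exact ((LinearMap.ker (covMap R N)).subtype.rTensor T)
      ((covMap R N).rTensor T) :=
    rTensor_exact T (LinearMap.exact_subtype_ker_map _) (covMap_surjective R N)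
  refine ShortComplex.ShortExact.mk' ?_ ?_ ?_
  · exact (ShortComplex.ShortExact.moduleCat_exact_iff_function_exact _).2 hex
  · exact (ModuleCat.mono_iff_injective _).2 (covMap_ker_ui R N T)
  · exact (ModuleCat.epi_iff_surjective _).2
      (LinearMap.rTensor_surjective T (covMap_surjective R N))

/-- The sequence of iterated syzygies. -/
noncomputable def Mseq (M : ModuleCat.{u} R) : ℕ → ModuleCat.{u} R
  | 0 => M
  | n + 1 => kerObj R (Mseq M n)

theorem exists_pp_resolution (M : ModuleCat.{u} R) :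
    ∃ (P : ChainComplex (ModuleCat.{u} R) ℕ)
      (π : P ⟶ (ChainComplex.single₀ (ModuleCat.{u} R)).obj M),
      (∀ n : ℕ, ∃ (ι : Type u) (Q : ι → Type u) (_ : ∀ i, AddCommGroup (Q i))
        (_ : ∀ i, Module R (Q i)), (∀ i, Module.FinitePresentation R (Q i)) ∧
        ∃ (s : P.X n →ₗ[R] (Π₀ i, Q i)) (r : (Π₀ i, Q i) →ₗ[R] P.X n), r ∘ₗ s = LinearMap.id) ∧
      ∀ N : ModuleCat.{u} R,
        QuasiIso (((tensorRight N).mapHomologicalComplex (ComplexShape.down ℕ)).map π) := by
  let Z : ℕ → ModuleCat.{u} R := Mseq R M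
  let X : ℕ → ModuleCat.{u} R := fun n => covObj R (Z n)
  let i : ∀ n, Z (n + 1) ⟶ X n := fun n => kerHom R (Z n)
  let p : ∀ n, X n ⟶ Z n := fun n => covHom R (Z n)
  have hip : ∀ n, i n ≫ p n = 0 := fun n => kerHom_covHom R (Z n)
  refine ⟨PureCat.spliceCx Z X i p hip, PureCat.spliceAug Z X i p hip, ?_, ?_⟩
  · intro n
    refine ⟨CovIdx R (Z n), CovQ R (Z n), fun _ => inferInstance, fun _ => inferInstance,
      fun _ => inferInstance, (PureCat.spliceX Z X i p hip n).hom.hom,
      (PureCat.spliceX Z X i p hip n).inv.hom, ?_⟩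
    apply LinearMap.ext
    intro x
    have h := congrArg (fun f => f.hom x) (PureCat.spliceX Z X i p hip n).hom_inv_id
    exact h
  · intro N
    exact PureCat.chain_res_qi (tensorRight N) _ M _ Z X i p hip (PureCat.spliceX Z X i p hip)
      (HomologicalComplex.singleObjXSelf (ComplexShape.down ℕ) 0 M).symm
      (PureCat.spliceCx_d Z X i p hip) (PureCat.spliceAug_f0 Z X i p hip)
      (fun n => cov_ses_tensor R (Z n) N)

end ProjRes

section InjRes

/-- The double character module, as an object of `ModuleCat`. -/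
noncomputable def ddObj (N : ModuleCat.{u} R) : ModuleCat.{u} R :=
  ModuleCat.of R (CharacterModule (CharacterModule N))

/-- The evaluation map into the double character module. -/
noncomputable def ddHom (N : ModuleCat.{u} R) : N ⟶ ddObj R N :=
  ModuleCat.ofHom (PureExt.charEval R N)

/-- The cokernel of the evaluation map. -/
noncomputable def cokObj (N : ModuleCat.{u} R) : ModuleCat.{u} R :=
  ModuleCat.of R (CharacterModule (CharacterModule N) ⧸ LinearMap.range (PureExt.charEval R N))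

/-- The projection to the cokernel of the evaluation map. -/
noncomputable def cokHom (N : ModuleCat.{u} R) : ddObj R N ⟶ cokObj R N :=
  ModuleCat.ofHom (LinearMap.range (PureExt.charEval R N)).mkQ

theorem ddHom_cokHom (N : ModuleCat.{u} R) : ddHom R N ≫ cokHom R N = 0 := by
  apply ModuleCat.hom_ext
  apply LinearMap.ext
  intro x
  exact (Submodule.Quotient.mk_eq_zero _).2 ⟨x, rfl⟩

theorem dd_ses_tensor (N T : ModuleCat.{u} R) :
    ((ShortComplex.mk (ddHom R N) (cokHom R N) (ddHom_cokHom R N)).map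
      (tensorRight T)).ShortExact := by
  have hex : Function.Exact ((PureExt.charEval R N).rTensor T)
      ((LinearMap.range (PureExt.charEval R N)).mkQ.rTensor T) :=
    rTensor_exact T (LinearMap.exact_map_mkQ_range _) (Submodule.mkQ_surjective _)
  refine ShortComplex.ShortExact.mk' ?_ ?_ ?_
  · exact (ShortComplex.ShortExact.moduleCat_exact_iff_function_exact _).2 hex
  · exact (ModuleCat.mono_iff_injective _).2 (Groth.Agent.S8772.result R N T)
  · exact (ModuleCat.epi_iff_surjective _).2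
      (LinearMap.rTensor_surjective T (Submodule.mkQ_surjective _))

/-- The sequence of iterated cosyzygies. -/
noncomputable def Cseq (M : ModuleCat.{u} R) : ℕ → ModuleCat.{u} R
  | 0 => M
  | n + 1 => cokObj R (Cseq M n)

theorem exists_pi_resolution (M : ModuleCat.{u} R) :
    ∃ (I : CochainComplex (ModuleCat.{u} R) ℕ)
      (η : (CochainComplex.single₀ (ModuleCat.{u} R)).obj M ⟶ I),
      (∀ n : ℕ, PI R (I.X n)) ∧
      ∀ T : ModuleCat.{u} R,
        QuasiIso (((tensorRight T).mapHomologicalComplex (ComplexShape.up ℕ)).map η) := by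
  let Z : ℕ → ModuleCat.{u} R := Cseq R M
  let X : ℕ → ModuleCat.{u} R := fun n => ddObj R (Z n)
  let i : ∀ n, Z n ⟶ X n := fun n => ddHom R (Z n)
  let p : ∀ n, X n ⟶ Z (n + 1) := fun n => cokHom R (Z n)
  have hip : ∀ n, i n ≫ p n = 0 := fun n => ddHom_cokHom R (Z n)
  refine ⟨PureCat.cospliceCx Z X i p hip, PureCat.cospliceAug Z X i p hip, ?_, ?_⟩
  · intro n
    exact pi_of_equiv (PureCat.cospliceX Z X i p hip n).toLinearEquiv
      (pi_charModule (CharacterModule (Z n)))
  · intro T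
    exact PureCat.cochain_res_qi (tensorRight T) _ M _ Z X i p hip
      (PureCat.cospliceX Z X i p hip)
      (HomologicalComplex.singleObjXSelf (ComplexShape.up ℕ) 0 M)
      (PureCat.cospliceCx_d Z X i p hip) (PureCat.cospliceAug_f0 Z X i p hip)
      (fun n => dd_ses_tensor R (Z n) T)

end InjRes

end Groth.Agent.H90.PureRes
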