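import Groth.Agent.H90.ChartMod
import Groth.Agent.H90.PCohTop
import Groth.Prelude.Def_DCoh3

/-!
# Bounded complexes of finitely presented modules flat over the base are relatively perfect
(helper90; converse direction of S7275)
-/

set_option autoImplicit false
set_option linter.style.haveILetI false
set_option maxHeartbeats 400000
universe u
open CategoryTheory CategoryTheory.Limits AlgebraicGeometry TopologicalSpace Opposite
open AlgebraicGeometry.Scheme.Modules

attribute [local instance] HasDerivedCategory.standard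

namespace Groth.Agent.H90.Chart

open Groth.Agent.H56
open Groth.Agent.H90.SPerf Groth.Agent.H90.LR Groth.Agent.H90.QH Groth.Agent.H28.PCohD
open Groth.Agent.H90.CPC Groth.Agent.H90.TPC Groth.Agent.H90.TPerf Groth.Agent.H90.CPerf

variable {X S : Scheme.{u}}

/-- A finitely presented module flat over the base of a flat morphism locally of finite
presentation is pseudo-coherent. -/
theorem rel_inD_of_isFP_flatOver {V : Scheme.{u}} (g : V ⟶ S) [Flat g]
    [LocallyOfFinitePresentation g] (N : V.Modules) (hfp : CohB1.IsFP N)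
    (hfl : FlatMod.IsFlatOver g N) (k : ℤ) :
    DerSch.IsPseudoCoherentRel g k (DCoh.inD V N) := by
  have hg : ∀ n : ℤ, DerSch.IsNPseudoCoherent g n := fun n => isNPseudoCoherent_of_flat_lfp g n
  have h1 : DCoh.IsPseudoCoherentD (-1) (DCoh.inD V N) := (isPC_single_iff N).2.2 hfp
  have h2 : DerSch.IsPseudoCoherentRel g (-1) (DCoh.inD V N) :=
    (isPC_iff_isPseudoCoherentRel g hg (-1) _).1 h1
  exact core_inD g N hfl (rel_of_iso (toDSingleIso N).symm h2) k

/-- A bounded above complex of finitely presented modules flat over the base is pseudo-coherent. -/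
theorem isPC_of_fp_flat_terms {V : Scheme.{u}} (g : V ⟶ S) [Flat g]
    [LocallyOfFinitePresentation g] (G : CochainComplex V.Modules ℤ) (b : ℤ)
    (hb : ∀ i : ℤ, b < i → IsZero (G.X i))
    (hG : ∀ i : ℤ, CohB1.IsFP (G.X i) ∧ FlatMod.IsFlatOver g (G.X i)) (m : ℤ) :
    DCoh.IsPseudoCoherentD m (DerivedCategory.Q.obj G) := by
  have hg : ∀ n : ℤ, DerSch.IsNPseudoCoherent g n := fun n => isNPseudoCoherent_of_flat_lfp g n
  refine (isPC_iff_isPseudoCoherentRel g hg m _).2 ?_
  exact rel_toD_of_termwise (f := g) m G b hb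
    (fun i => rel_inD_of_isFP_flatOver g (G.X i) (hG i).1 (hG i).2 (m - i))

/-- Converse direction of S7275. -/
theorem relPerfect_of_locally_fp_flat (f : X ⟶ S) [Flat f] [LocallyOfFinitePresentation f]
    (E : DCoh.D X)
    (H : ∀ x : X, ∃ V : X.Opens, x ∈ V ∧ ∀ F : CochainComplex X.Modules ℤ,
      Nonempty (DCoh.toD X F ≅ E) →
      ∃ (G : CochainComplex (V : Scheme.{u}).Modules ℤ) (a b : ℤ), DCoh.VanishesOutside G a b ∧
        (∀ i : ℤ, CohB1.IsFP (G.X i) ∧ FlatMod.IsFlatOver (V.ι ≫ f) (G.X i)) ∧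
        Nonempty (DerivedCategory.Q.obj ((DCoh.restrictCx V).obj F) ≅ DerivedCategory.Q.obj G)) :
    (∀ m : ℤ, DCoh.IsPseudoCoherentD m E) ∧ DCoh.LocHasFiniteRelTorDim f E := by
  let F₀ := DerivedCategory.Q.objPreimage E
  have e₀ : DCoh.toD X F₀ ≅ E := DerivedCategory.Q.objObjPreimageIso E
  constructor
  · intro m
    rw [isPC_iff]
    intro x
    obtain ⟨V, hxV, hV⟩ := H x
    obtain ⟨G, a, b, hv, hG, ⟨e⟩⟩ := hV F₀ ⟨e₀⟩
    have h1 : DCoh.IsPseudoCoherentD m (DerivedCategory.Q.obj G) :=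
      isPC_of_fp_flat_terms (V.ι ≫ f) G b (fun i hi => hv i (Or.inr hi)) hG m
    have h2 : DCoh.IsPseudoCoherentD m
        (DerivedCategory.Q.obj ((DCoh.restrictCx V).obj F₀)) := isPC_of_iso e.symm h1
    rw [isPC_iff] at h2
    have h3 := (locPC_Q_restrictCx_iff V F₀ m ⟨x, hxV⟩).1 (h2 ⟨x, hxV⟩)
    exact locPC_of_iso e₀ h3
  · intro x
    obtain ⟨V, hxV, hV⟩ := H x
    obtain ⟨G, a, b, hv, hG, ⟨e⟩⟩ := hV F₀ ⟨e₀⟩
    refine ⟨V, a, b, hxV, fun F' hF' => ?_⟩
    obtain ⟨e'⟩ := hF'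
    exact ⟨G, hv, fun i => (hG i).2, ⟨e.symm ≪≫ restrictQIso V (e₀ ≪≫ e'.symm)⟩⟩

end Groth.Agent.H90.Chart
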