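import Mathlib

/-!
# The total complex functor preserves quasi-isomorphisms (uniformly bounded below case)
-/

universe v u

open CategoryTheory CategoryTheory.Limits HomologicalComplex

namespace Groth.Agent.H90
namespace TotQI

set_option linter.unusedSectionVars false

variable {A : Type u} [Category.{v} A] [Abelian A]

local notation "cu" => ComplexShape.up ℤ

section Basic

variable (K : HomologicalComplex₂ A cu cu) [K.HasTotal cu]

/-- inclusion of a summand. -/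
noncomputable def ιT (p q n : ℤ) (h : p + q = n) : (K.X p).X q ⟶ (K.total cu).X n :=
  K.ιTotal cu p q n h

/-- projection onto a summand. -/
noncomputable def πT (p q n : ℤ) (h : p + q = n) : (K.total cu).X n ⟶ (K.X p).X q :=
  K.totalDesc (fun p' q' h' => if hq : q' = q then
    (K.XXIsoOfEq _ _ _ (show p' = p by have h'' : p' + q' = n := h'; omega) hq).hom else 0)

lemma ι_π (p' q' p q n : ℤ) (h' : p' + q' = n) (h : p + q = n) :
    ιT K p' q' n h' ≫ πT K p q n h =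
      if hq : q' = q then (K.XXIsoOfEq _ _ _ (show p' = p by omega) hq).hom else 0 :=
  K.ι_totalDesc _ p' q' h'

@[reassoc]
lemma ι_π_self (p q n : ℤ) (h h' : p + q = n) : ιT K p q n h ≫ πT K p q n h' = 𝟙 _ := by
  rw [ι_π, dif_pos rfl]
  simp

@[reassoc]
lemma ι_π_ne (p' q' p q n : ℤ) (h' : p' + q' = n) (h : p + q = n) (hq : q' ≠ q) :
    ιT K p' q' n h' ≫ πT K p q n h = 0 := by
  rw [ι_π, dif_neg hq]

@[reassoc]
lemma ι_d (p q N : ℤ) (h : p + q = N) :
    ιT K p q N h ≫ (K.total cu).d N (N + 1) =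
      (K.d p (p + 1)).f q ≫ ιT K (p + 1) q (N + 1) (by omega) +
      (ComplexShape.ε₂ cu cu cu (p, q)) •
        ((K.X p).d q (q + 1) ≫ ιT K p (q + 1) (N + 1) (by omega)) := by
  unfold ιT
  rw [K.total_d, Preadditive.comp_add, K.ι_D₁, K.ι_D₂,
    K.d₁_eq cu (show (ComplexShape.up ℤ).Rel p (p + 1) from rfl) q (N + 1) (show p + 1 + q = N + 1 by omega),
    K.d₂_eq cu p (show (ComplexShape.up ℤ).Rel q (q + 1) from rfl) (N + 1) (show p + (q + 1) = N + 1 by omega)]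
  simp

lemma ιDπ_low (p₁ q₁ N : ℤ) (h₁ : p₁ + q₁ = N) (p q : ℤ) (h : p + q = N + 1) (hq : q < q₁) :
    ιT K p₁ q₁ N h₁ ≫ (K.total cu).d N (N + 1) ≫ πT K p q (N + 1) h = 0 := by
  rw [ι_d_assoc, Preadditive.add_comp, Category.assoc, ι_π_ne K _ _ _ _ _ _ _ (by omega),
    comp_zero, Linear.units_smul_comp, Category.assoc, ι_π_ne K _ _ _ _ _ _ _ (by omega),
    comp_zero, smul_zero, add_zero]

lemma ιDπ_same (p₁ q₁ N : ℤ) (h₁ : p₁ + q₁ = N) (h : p₁ + 1 + q₁ = N + 1) :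
    ιT K p₁ q₁ N h₁ ≫ (K.total cu).d N (N + 1) ≫ πT K (p₁ + 1) q₁ (N + 1) h =
      (K.d p₁ (p₁ + 1)).f q₁ := by
  rw [ι_d_assoc, Preadditive.add_comp, Category.assoc, ι_π_self, Category.comp_id,
    Linear.units_smul_comp, Category.assoc, ι_π_ne K _ _ _ _ _ _ _ (by omega),
    comp_zero, smul_zero, add_zero]

lemma D_π (p q₀ N : ℤ) (h : p + (q₀ + 1) = N) :
    (K.total cu).d N (N + 1) ≫ πT K (p + 1) (q₀ + 1) (N + 1) (by omega) =
      πT K p (q₀ + 1) N h ≫ (K.d p (p + 1)).f (q₀ + 1) +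
      (ComplexShape.ε₂ cu cu cu (p + 1, q₀)) •
        (πT K (p + 1) q₀ N (by omega) ≫ (K.X (p + 1)).d q₀ (q₀ + 1)) := by
  apply HomologicalComplex₂.total.hom_ext
  intro p' q' h'
  have h'' : p' + q' = N := h'
  show ιT K p' q' N h'' ≫ _ = ιT K p' q' N h'' ≫ _
  by_cases h1 : q' = q₀ + 1
  · subst h1
    obtain rfl : p' = p := by omega
    rw [ιDπ_same, Preadditive.comp_add, ι_π_self_assoc, Linear.comp_units_smul,
      ι_π_ne_assoc K _ _ _ _ _ _ _ (by omega), zero_comp, smul_zero, add_zero]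
  · by_cases h2 : q' = q₀
    · subst h2
      obtain rfl : p' = p + 1 := by omega
      rw [ι_d_assoc, Preadditive.add_comp, Category.assoc,
        ι_π_ne K _ _ _ _ _ _ _ (by omega), comp_zero, zero_add, Linear.units_smul_comp,
        Category.assoc, ι_π_self, Category.comp_id, Preadditive.comp_add,
        ι_π_ne_assoc K _ _ _ _ _ _ _ (by omega), zero_comp, zero_add, Linear.comp_units_smul,
        ι_π_self_assoc]
    · rw [ι_d_assoc, Preadditive.add_comp, Category.assoc,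
        ι_π_ne K _ _ _ _ _ _ _ (by omega), comp_zero, zero_add, Linear.units_smul_comp,
        Category.assoc, ι_π_ne K _ _ _ _ _ _ _ (by omega), comp_zero, smul_zero,
        Preadditive.comp_add, ι_π_ne_assoc K _ _ _ _ _ _ _ (by omega), zero_comp, zero_add,
        Linear.comp_units_smul, ι_π_ne_assoc K _ _ _ _ _ _ _ (by omega), zero_comp, smul_zero]

variable (a b : ℤ) (hK : ∀ p q : ℤ, p < a ∨ q < b → IsZero ((K.X p).X q))

include hK in
lemma sum_π_ι (n : ℤ) :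
    ∑ q ∈ Finset.Icc b (n - a), πT K (n - q) q n (by omega) ≫ ιT K (n - q) q n (by omega) =
      𝟙 _ := by
  apply HomologicalComplex₂.total.hom_ext
  intro p' q' h'
  have h'' : p' + q' = n := h'
  show ιT K p' q' n h'' ≫ _ = ιT K p' q' n h'' ≫ _
  rw [Category.comp_id, Preadditive.comp_sum]
  by_cases hmem : q' ∈ Finset.Icc b (n - a)
  · rw [Finset.sum_eq_single q']
    · obtain rfl : p' = n - q' := by omega
      rw [ι_π_self_assoc]
    · intro q _ hne
      rw [ι_π_ne_assoc K _ _ _ _ _ _ _ (Ne.symm hne), zero_comp]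
    · intro hnot
      exact absurd hmem hnot
  · apply (hK p' q' _).eq_of_src
    rw [Finset.mem_Icc] at hmem
    omega

include hK in
lemma into_ext (n : ℤ) {T : A} (x y : T ⟶ (K.total cu).X n)
    (h : ∀ (p q : ℤ) (hpq : p + q = n), x ≫ πT K p q n hpq = y ≫ πT K p q n hpq) : x = y := by
  have key : ∀ z : T ⟶ (K.total cu).X n,
      z = ∑ q ∈ Finset.Icc b (n - a),
        (z ≫ πT K (n - q) q n (by omega)) ≫ ιT K (n - q) q n (by omega) := by
    intro z
    conv_lhs => rw [← Category.comp_id z, ← sum_π_ι K a b hK n, Preadditive.comp_sum]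
    simp only [Category.assoc]
  rw [key x, key y]
  refine Finset.sum_congr rfl (fun q _ => ?_)
  rw [h]

/-- the components in rows `< m` vanish. -/
def SuppGE (m : ℤ) {T : A} {N : ℤ} (x : T ⟶ (K.total cu).X N) : Prop :=
  ∀ (p q : ℤ) (h : p + q = N), q < m → x ≫ πT K p q N h = 0

include hK in
lemma eq_zero_of_suppGE {T : A} {N : ℤ} (x : T ⟶ (K.total cu).X N) (m : ℤ) (hm : N - a < m)
    (hx : SuppGE K m x) : x = 0 := by
  apply into_ext K a b hK
  intro p q hpq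
  rw [zero_comp]
  by_cases hq : q < m
  · exact hx p q hpq hq
  · exact (hK p q (Or.inl (by omega))).eq_of_tgt _ _

include hK in
lemma suppGE_all {T : A} {N : ℤ} (x : T ⟶ (K.total cu).X N) : SuppGE K b x := by
  intro p q _ hq
  exact (hK p q (Or.inr hq)).eq_of_tgt _ _

lemma Dπ_of_supp {T : A} {N : ℤ} (x : T ⟶ (K.total cu).X N) (m : ℤ) (hx : SuppGE K m x)
    (p : ℤ) (h : p + m = N) :
    (x ≫ (K.total cu).d N (N + 1)) ≫ πT K (p + 1) m (N + 1) (by omega) =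
      (x ≫ πT K p m N h) ≫ (K.d p (p + 1)).f m := by
  obtain ⟨q₀, rfl⟩ : ∃ q₀, m = q₀ + 1 := ⟨m - 1, by omega⟩
  rw [Category.assoc, D_π K p q₀ N h, Preadditive.comp_add, Linear.comp_units_smul,
    ← Category.assoc x (πT K (p + 1) q₀ N _), hx (p + 1) q₀ (by omega) (by omega), zero_comp,
    smul_zero, add_zero, Category.assoc]

end Basic

section Main

variable (K L : HomologicalComplex₂ A cu cu) (φ : K ⟶ L) [K.HasTotal cu] [L.HasTotal cu]

lemma φ_comm_f (i j m : ℤ) :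
    (φ.f i).f m ≫ (L.d i j).f m = (K.d i j).f m ≫ (φ.f j).f m := by
  rw [← comp_f, ← comp_f, φ.comm]

lemma ι_map (p q N : ℤ) (h : p + q = N) :
    ιT K p q N h ≫ (HomologicalComplex₂.total.map φ cu).f N = (φ.f p).f q ≫ ιT L p q N h :=
  HomologicalComplex₂.ιTotal_map K L φ cu p q N h

lemma map_π (p q N : ℤ) (h : p + q = N) :
    (HomologicalComplex₂.total.map φ cu).f N ≫ πT L p q N h =
      πT K p q N h ≫ (φ.f p).f q := by
  apply HomologicalComplex₂.total.hom_ext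
  intro p' q' h'
  have h'' : p' + q' = N := h'
  show ιT K p' q' N h'' ≫ _ = ιT K p' q' N h'' ≫ _
  rw [← Category.assoc, ι_map, Category.assoc, ← Category.assoc (ιT K p' q' N h'')]
  by_cases hq : q' = q
  · subst hq
    obtain rfl : p' = p := by omega
    rw [ι_π_self, ι_π_self, Category.comp_id, Category.id_comp]
  · rw [ι_π_ne L _ _ _ _ _ _ _ hq, ι_π_ne K _ _ _ _ _ _ _ hq, comp_zero, zero_comp]

lemma row_cone_exact [QuasiIso φ] (p m : ℤ) {T : A} (ξ : T ⟶ (K.X (p + 1 + 1)).X m)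
    (η : T ⟶ (L.X (p + 1)).X m)
    (h1 : ξ ≫ (K.d (p + 1 + 1) (p + 1 + 1 + 1)).f m = 0)
    (h2 : ξ ≫ (φ.f (p + 1 + 1)).f m + η ≫ (L.d (p + 1) (p + 1 + 1)).f m = 0) :
    ∃ (T' : A) (π : T' ⟶ T) (_ : Epi π) (u : T' ⟶ (K.X (p + 1)).X m) (v : T' ⟶ (L.X p).X m),
      π ≫ ξ = -(u ≫ (K.d (p + 1) (p + 1 + 1)).f m) ∧
      π ≫ η = u ≫ (φ.f (p + 1)).f m + v ≫ (L.d p (p + 1)).f m := by
  have hqi : QuasiIso (((HomologicalComplex.eval A cu m).mapHomologicalComplex cu).map φ) :=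
    inferInstance
  have hm : Mono (homologyMap
      (((HomologicalComplex.eval A cu m).mapHomologicalComplex cu).map φ) (p + 1 + 1)) := by
    have := hqi.quasiIsoAt (p + 1 + 1)
    rw [quasiIsoAt_iff_isIso_homologyMap] at this
    infer_instance
  have he : Epi (homologyMap
      (((HomologicalComplex.eval A cu m).mapHomologicalComplex cu).map φ) (p + 1)) := by
    have := hqi.quasiIsoAt (p + 1)
    rw [quasiIsoAt_iff_isIso_homologyMap] at this
    infer_instance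
  rw [mono_homologyMap_iff_up_to_refinements _ (p + 1) (p + 1 + 1) (p + 1 + 1 + 1)
    (by simp) (by simp)] at hm
  rw [epi_homologyMap_iff_up_to_refinements _ p (p + 1) (p + 1 + 1) (by simp) (by simp)] at he
  obtain ⟨T₁, π₁, hπ₁, x₁, hx₁⟩ : ∃ (T₁ : A) (π₁ : T₁ ⟶ T) (_ : Epi π₁)
      (x₁ : T₁ ⟶ (K.X (p + 1)).X m), π₁ ≫ ξ = x₁ ≫ (K.d (p + 1) (p + 1 + 1)).f m :=
    hm ξ h1 (-η) (by
      show ξ ≫ (φ.f (p + 1 + 1)).f m = (-η) ≫ (L.d (p + 1) (p + 1 + 1)).f m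
      rw [Preadditive.neg_comp]
      exact eq_neg_of_add_eq_zero_left h2)
  have hw : (x₁ ≫ (φ.f (p + 1)).f m + π₁ ≫ η) ≫ (L.d (p + 1) (p + 1 + 1)).f m = 0 := by
    rw [Preadditive.add_comp, Category.assoc, φ_comm_f, ← Category.assoc, ← hx₁, Category.assoc,
      Category.assoc, ← Preadditive.comp_add, h2, comp_zero]
  obtain ⟨T₂, π₂, hπ₂, x₂, hx₂, y₁, hy₁⟩ : ∃ (T₂ : A) (π₂ : T₂ ⟶ T₁) (_ : Epi π₂)
      (x₂ : T₂ ⟶ (K.X (p + 1)).X m) (_ : x₂ ≫ (K.d (p + 1) (p + 1 + 1)).f m = 0)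
      (y₁ : T₂ ⟶ (L.X p).X m),
      π₂ ≫ (x₁ ≫ (φ.f (p + 1)).f m + π₁ ≫ η) =
        x₂ ≫ (φ.f (p + 1)).f m + y₁ ≫ (L.d p (p + 1)).f m :=
    he (x₁ ≫ (φ.f (p + 1)).f m + π₁ ≫ η) hw
  refine ⟨T₂, π₂ ≫ π₁, epi_comp _ _, x₂ - π₂ ≫ x₁, y₁, ?_, ?_⟩
  · rw [Category.assoc, hx₁, Preadditive.sub_comp, hx₂, zero_sub, neg_neg, Category.assoc]
  · rw [Preadditive.comp_add] at hy₁
    rw [Preadditive.sub_comp, Category.assoc, Category.assoc, eq_sub_of_add_eq' hy₁]
    abel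

variable (a b : ℤ) (hK : ∀ p q : ℤ, p < a ∨ q < b → IsZero ((K.X p).X q))
  (hL : ∀ p q : ℤ, p < a ∨ q < b → IsZero ((L.X p).X q))

include hK hL in
lemma stair [QuasiIso φ] (n : ℤ) (k : ℕ) : ∀ (m : ℤ), n + 1 + 1 - a < m + k →
    ∀ ⦃T : A⦄ (x : T ⟶ (K.total cu).X (n + 1 + 1)) (y : T ⟶ (L.total cu).X (n + 1)),
      x ≫ (K.total cu).d (n + 1 + 1) (n + 1 + 1 + 1) = 0 →
      x ≫ (HomologicalComplex₂.total.map φ cu).f (n + 1 + 1) +
        y ≫ (L.total cu).d (n + 1) (n + 1 + 1) = 0 →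
      SuppGE K m x → SuppGE L m y →
      ∃ (T' : A) (π : T' ⟶ T) (_ : Epi π) (x' : T' ⟶ (K.total cu).X (n + 1))
        (y' : T' ⟶ (L.total cu).X n),
        π ≫ x = -(x' ≫ (K.total cu).d (n + 1) (n + 1 + 1)) ∧
        π ≫ y = x' ≫ (HomologicalComplex₂.total.map φ cu).f (n + 1) +
          y' ≫ (L.total cu).d n (n + 1) := by
  induction k with
  | zero =>
    intro m hm T x y _ _ sx sy
    have x0 : x = 0 := eq_zero_of_suppGE K a b hK x m (by omega) sx
    have y0 : y = 0 := eq_zero_of_suppGE L a b hL y m (by omega) sy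
    refine ⟨T, 𝟙 T, inferInstance, 0, 0, ?_, ?_⟩
    · rw [x0, comp_zero, zero_comp, neg_zero]
    · rw [y0, comp_zero, zero_comp, zero_comp, add_zero]
  | succ k ih =>
    intro m hm T x y hx hxy sx sy
    obtain ⟨q₀, rfl⟩ : ∃ q₀, m = q₀ + 1 := ⟨m - 1, by omega⟩
    obtain ⟨p₀, hp₀⟩ : ∃ p₀, p₀ + (q₀ + 1) = n := ⟨n - (q₀ + 1), by omega⟩
    -- the components in row `q₀ + 1`
    have hi : (x ≫ πT K (p₀ + 1 + 1) (q₀ + 1) (n + 1 + 1) (by omega)) ≫
        (K.d (p₀ + 1 + 1) (p₀ + 1 + 1 + 1)).f (q₀ + 1) = 0 := by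
      rw [← Dπ_of_supp K x (q₀ + 1) sx (p₀ + 1 + 1) (by omega), hx, zero_comp]
    have hii : (x ≫ πT K (p₀ + 1 + 1) (q₀ + 1) (n + 1 + 1) (by omega)) ≫
        (φ.f (p₀ + 1 + 1)).f (q₀ + 1) +
        (y ≫ πT L (p₀ + 1) (q₀ + 1) (n + 1) (by omega)) ≫
          (L.d (p₀ + 1) (p₀ + 1 + 1)).f (q₀ + 1) = 0 := by
      rw [← Dπ_of_supp L y (q₀ + 1) sy (p₀ + 1) (by omega), Category.assoc, ← map_π,
        ← Category.assoc, ← Preadditive.add_comp, hxy, zero_comp]
    obtain ⟨T₁, π₁, hπ₁, u, v, e1, e2⟩ := row_cone_exact K L φ p₀ (q₀ + 1) _ _ hi hii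
    -- the corrected pair
    have hx' : (π₁ ≫ x + (u ≫ ιT K (p₀ + 1) (q₀ + 1) (n + 1) (by omega)) ≫
        (K.total cu).d (n + 1) (n + 1 + 1)) ≫ (K.total cu).d (n + 1 + 1) (n + 1 + 1 + 1) = 0 := by
      rw [Preadditive.add_comp, Category.assoc, hx, comp_zero, Category.assoc, d_comp_d,
        comp_zero, add_zero]
    have hxy' : (π₁ ≫ x + (u ≫ ιT K (p₀ + 1) (q₀ + 1) (n + 1) (by omega)) ≫
          (K.total cu).d (n + 1) (n + 1 + 1)) ≫
          (HomologicalComplex₂.total.map φ cu).f (n + 1 + 1) +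
        (π₁ ≫ y - (u ≫ ιT K (p₀ + 1) (q₀ + 1) (n + 1) (by omega)) ≫
          (HomologicalComplex₂.total.map φ cu).f (n + 1) -
          (v ≫ ιT L p₀ (q₀ + 1) n hp₀) ≫ (L.total cu).d n (n + 1)) ≫
          (L.total cu).d (n + 1) (n + 1 + 1) = 0 := by
      have h0 : π₁ ≫ x ≫ (HomologicalComplex₂.total.map φ cu).f (n + 1 + 1) +
          π₁ ≫ y ≫ (L.total cu).d (n + 1) (n + 1 + 1) = 0 := by
        rw [← Preadditive.comp_add, hxy, comp_zero]
      simp only [Preadditive.add_comp, Preadditive.sub_comp, Category.assoc, d_comp_d, comp_zero,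
        sub_zero]
      rw [← (HomologicalComplex₂.total.map φ cu).comm (n + 1) (n + 1 + 1)]
      rw [← h0]
      abel
    have sx' : SuppGE K (q₀ + 1 + 1) (π₁ ≫ x +
        (u ≫ ιT K (p₀ + 1) (q₀ + 1) (n + 1) (by omega)) ≫
          (K.total cu).d (n + 1) (n + 1 + 1)) := by
      intro p q h hq
      rw [Preadditive.add_comp, Category.assoc, Category.assoc, Category.assoc]
      by_cases hq' : q < q₀ + 1
      · rw [sx p q h hq', comp_zero, ιDπ_low K _ _ _ _ _ _ h hq', comp_zero, add_zero]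
      · obtain rfl : q = q₀ + 1 := by omega
        obtain rfl : p = p₀ + 1 + 1 := by omega
        rw [ιDπ_same, e1, neg_add_cancel]
    have sy' : SuppGE L (q₀ + 1 + 1) (π₁ ≫ y -
        (u ≫ ιT K (p₀ + 1) (q₀ + 1) (n + 1) (by omega)) ≫
          (HomologicalComplex₂.total.map φ cu).f (n + 1) -
        (v ≫ ιT L p₀ (q₀ + 1) n hp₀) ≫ (L.total cu).d n (n + 1)) := by
      intro p q h hq
      rw [Preadditive.sub_comp, Preadditive.sub_comp, Category.assoc, Category.assoc,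
        Category.assoc, Category.assoc, Category.assoc, map_π]
      by_cases hq' : q < q₀ + 1
      · rw [sy p q h hq', comp_zero, ι_π_ne_assoc K _ _ _ _ _ _ _ (by omega), zero_comp, comp_zero,
          ιDπ_low L _ _ _ _ _ _ h hq', comp_zero, sub_zero, sub_zero]
      · obtain rfl : q = q₀ + 1 := by omega
        obtain rfl : p = p₀ + 1 := by omega
        rw [ι_π_self_assoc, ιDπ_same, e2]
        abel
    obtain ⟨T₂, π₂, hπ₂, x'', y'', e3, e4⟩ :=
      ih (q₀ + 1 + 1) (by push_cast at hm; omega) _ _ hx' hxy' sx' sy'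
    refine ⟨T₂, π₂ ≫ π₁, epi_comp _ _, x'' + π₂ ≫ u ≫ ιT K (p₀ + 1) (q₀ + 1) (n + 1) (by omega),
      y'' + π₂ ≫ v ≫ ιT L p₀ (q₀ + 1) n hp₀, ?_, ?_⟩
    · simp only [Preadditive.comp_add, Preadditive.add_comp, Category.assoc] at e3 ⊢
      rw [neg_add, ← e3]
      abel
    · simp only [Preadditive.comp_sub, Preadditive.add_comp, Category.assoc] at e4 ⊢
      rw [add_add_add_comm, ← e4]
      abel

include hK hL in
lemma cone_exact [QuasiIso φ] (n : ℤ) ⦃T : A⦄ (x : T ⟶ (K.total cu).X (n + 1 + 1))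
    (y : T ⟶ (L.total cu).X (n + 1))
    (hx : x ≫ (K.total cu).d (n + 1 + 1) (n + 1 + 1 + 1) = 0)
    (hxy : x ≫ (HomologicalComplex₂.total.map φ cu).f (n + 1 + 1) +
        y ≫ (L.total cu).d (n + 1) (n + 1 + 1) = 0) :
    ∃ (T' : A) (π : T' ⟶ T) (_ : Epi π) (x' : T' ⟶ (K.total cu).X (n + 1))
      (y' : T' ⟶ (L.total cu).X n),
      π ≫ x = -(x' ≫ (K.total cu).d (n + 1) (n + 1 + 1)) ∧
      π ≫ y = x' ≫ (HomologicalComplex₂.total.map φ cu).f (n + 1) +
        y' ≫ (L.total cu).d n (n + 1) :=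
  stair K L φ a b hK hL n (n + 1 + 1 - a + 1 - b).toNat b (by omega) x y hx hxy
    (suppGE_all K a b hK x) (suppGE_all L a b hL y)

include hK hL in
theorem quasiIso_total_map [QuasiIso φ] : QuasiIso (HomologicalComplex₂.total.map φ cu) := by
  rw [quasiIso_iff]
  intro j
  rw [quasiIsoAt_iff_isIso_homologyMap]
  have hm : Mono (homologyMap (HomologicalComplex₂.total.map φ cu) j) := by
    obtain ⟨n, rfl⟩ : ∃ n, j = n + 1 + 1 := ⟨j - 2, by omega⟩
    rw [mono_homologyMap_iff_up_to_refinements _ (n + 1) (n + 1 + 1) (n + 1 + 1 + 1)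
      (by simp) (by simp)]
    intro T x₂ hx₂ y₁ e
    obtain ⟨T', π, hπ, x', y', e1, _⟩ := cone_exact K L φ a b hK hL n x₂ (-y₁) hx₂ (by
      rw [e, Preadditive.neg_comp, add_neg_cancel])
    refine ⟨T', π, hπ, -x', ?_⟩
    rw [e1, Preadditive.neg_comp]
  have he : Epi (homologyMap (HomologicalComplex₂.total.map φ cu) j) := by
    obtain ⟨n, rfl⟩ : ∃ n, j = n + 1 := ⟨j - 1, by omega⟩
    rw [epi_homologyMap_iff_up_to_refinements _ n (n + 1) (n + 1 + 1) (by simp) (by simp)]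
    intro T y₂ hy₂
    obtain ⟨T', π, hπ, x', y', e1, e2⟩ := cone_exact K L φ a b hK hL n 0 y₂ zero_comp (by
      rw [zero_comp, zero_add, hy₂])
    refine ⟨T', π, hπ, x', ?_, y', e2⟩
    rw [comp_zero] at e1
    exact neg_eq_zero.1 e1.symm
  exact isIso_of_mono_of_epi _

end Main

end TotQI
end Groth.Agent.H90
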