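import Mathlib
import Groth.Agent.H90.TotQI

/-!
# Total complexes and quasi-isomorphisms: uniformly bounded above, inner direction

If `φ : K ⟶ L` is a morphism of double complexes, both vanishing for `p > a` or `q > b`, such that
each `φ.f p : K.X p ⟶ L.X p` is a quasi-isomorphism, then `Tot φ` is a quasi-isomorphism.
-/

universe v u

open CategoryTheory CategoryTheory.Limits HomologicalComplex

namespace Groth.Agent.H90
namespace TotQIA

open TotQI

set_option linter.unusedSectionVars false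

variable {A : Type u} [Category.{v} A] [Abelian A]

local notation "cu" => ComplexShape.up ℤ

section General

variable {C D : CochainComplex A ℤ} (f : C ⟶ D)

/-- exactness of the cone of a quasi-isomorphism, in element form. -/
lemma cone_exact_of_quasiIso [QuasiIso f] (q : ℤ) {T : A}
    (ξ : T ⟶ C.X (q + 1 + 1)) (η : T ⟶ D.X (q + 1))
    (h1 : ξ ≫ C.d (q + 1 + 1) (q + 1 + 1 + 1) = 0)
    (h2 : ξ ≫ f.f (q + 1 + 1) + η ≫ D.d (q + 1) (q + 1 + 1) = 0) :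
    ∃ (T' : A) (π : T' ⟶ T) (_ : Epi π) (u : T' ⟶ C.X (q + 1)) (v : T' ⟶ D.X q),
      π ≫ ξ = -(u ≫ C.d (q + 1) (q + 1 + 1)) ∧
      π ≫ η = u ≫ f.f (q + 1) + v ≫ D.d q (q + 1) := by
  have hqi : QuasiIso f := inferInstance
  have hm : Mono (homologyMap f (q + 1 + 1)) := by
    have := hqi.quasiIsoAt (q + 1 + 1)
    rw [quasiIsoAt_iff_isIso_homologyMap] at this
    infer_instance
  have he : Epi (homologyMap f (q + 1)) := by
    have := hqi.quasiIsoAt (q + 1)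
    rw [quasiIsoAt_iff_isIso_homologyMap] at this
    infer_instance
  rw [mono_homologyMap_iff_up_to_refinements _ (q + 1) (q + 1 + 1) (q + 1 + 1 + 1)
    (by simp) (by simp)] at hm
  rw [epi_homologyMap_iff_up_to_refinements _ q (q + 1) (q + 1 + 1) (by simp) (by simp)] at he
  obtain ⟨T₁, π₁, hπ₁, x₁, hx₁⟩ : ∃ (T₁ : A) (π₁ : T₁ ⟶ T) (_ : Epi π₁)
      (x₁ : T₁ ⟶ C.X (q + 1)), π₁ ≫ ξ = x₁ ≫ C.d (q + 1) (q + 1 + 1) :=
    hm ξ h1 (-η) (by
      rw [Preadditive.neg_comp]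
      exact eq_neg_of_add_eq_zero_left h2)
  have hw : (x₁ ≫ f.f (q + 1) + π₁ ≫ η) ≫ D.d (q + 1) (q + 1 + 1) = 0 := by
    rw [Preadditive.add_comp, Category.assoc, f.comm, ← Category.assoc, ← hx₁, Category.assoc,
      Category.assoc, ← Preadditive.comp_add, h2, comp_zero]
  obtain ⟨T₂, π₂, hπ₂, x₂, hx₂, y₁, hy₁⟩ : ∃ (T₂ : A) (π₂ : T₂ ⟶ T₁) (_ : Epi π₂)
      (x₂ : T₂ ⟶ C.X (q + 1)) (_ : x₂ ≫ C.d (q + 1) (q + 1 + 1) = 0)
      (y₁ : T₂ ⟶ D.X q),
      π₂ ≫ (x₁ ≫ f.f (q + 1) + π₁ ≫ η) = x₂ ≫ f.f (q + 1) + y₁ ≫ D.d q (q + 1) :=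
    he (x₁ ≫ f.f (q + 1) + π₁ ≫ η) hw
  refine ⟨T₂, π₂ ≫ π₁, epi_comp _ _, x₂ - π₂ ≫ x₁, y₁, ?_, ?_⟩
  · rw [Category.assoc, hx₁, Preadditive.sub_comp, hx₂, zero_sub, neg_neg, Category.assoc]
  · rw [Preadditive.comp_add] at hy₁
    rw [Preadditive.sub_comp, Category.assoc, Category.assoc, eq_sub_of_add_eq' hy₁]
    abel

/-- correcting a cone cycle by a cone boundary gives a cone cycle. -/
lemma corr (n : ℤ) {T T₁ : A} (π₁ : T₁ ⟶ T) (x : T ⟶ C.X (n + 1 + 1)) (y : T ⟶ D.X (n + 1))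
    (X : T₁ ⟶ C.X (n + 1)) (Y : T₁ ⟶ D.X n)
    (hx : x ≫ C.d (n + 1 + 1) (n + 1 + 1 + 1) = 0)
    (hxy : x ≫ f.f (n + 1 + 1) + y ≫ D.d (n + 1) (n + 1 + 1) = 0) :
    (π₁ ≫ x + X ≫ C.d (n + 1) (n + 1 + 1)) ≫ C.d (n + 1 + 1) (n + 1 + 1 + 1) = 0 ∧
    (π₁ ≫ x + X ≫ C.d (n + 1) (n + 1 + 1)) ≫ f.f (n + 1 + 1) +
      (π₁ ≫ y - X ≫ f.f (n + 1) - Y ≫ D.d n (n + 1)) ≫ D.d (n + 1) (n + 1 + 1) = 0 := by
  constructor
  · rw [Preadditive.add_comp, Category.assoc, hx, comp_zero, Category.assoc, d_comp_d,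
      comp_zero, add_zero]
  · have h0 : π₁ ≫ x ≫ f.f (n + 1 + 1) + π₁ ≫ y ≫ D.d (n + 1) (n + 1 + 1) = 0 := by
      rw [← Preadditive.comp_add, hxy, comp_zero]
    simp only [Preadditive.add_comp, Preadditive.sub_comp, Category.assoc, d_comp_d, comp_zero,
      sub_zero]
    rw [← f.comm (n + 1) (n + 1 + 1), ← h0]
    abel

/-- undoing the correction. -/
lemma finish (n : ℤ) {T T₁ T₂ : A} (π₁ : T₁ ⟶ T) (π₂ : T₂ ⟶ T₁) (x : T ⟶ C.X (n + 1 + 1))
    (y : T ⟶ D.X (n + 1)) (X : T₁ ⟶ C.X (n + 1)) (Y : T₁ ⟶ D.X n)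
    (x'' : T₂ ⟶ C.X (n + 1)) (y'' : T₂ ⟶ D.X n)
    (e3 : π₂ ≫ (π₁ ≫ x + X ≫ C.d (n + 1) (n + 1 + 1)) = -(x'' ≫ C.d (n + 1) (n + 1 + 1)))
    (e4 : π₂ ≫ (π₁ ≫ y - X ≫ f.f (n + 1) - Y ≫ D.d n (n + 1)) =
      x'' ≫ f.f (n + 1) + y'' ≫ D.d n (n + 1)) :
    (π₂ ≫ π₁) ≫ x = -((x'' + π₂ ≫ X) ≫ C.d (n + 1) (n + 1 + 1)) ∧
    (π₂ ≫ π₁) ≫ y = (x'' + π₂ ≫ X) ≫ f.f (n + 1) + (y'' + π₂ ≫ Y) ≫ D.d n (n + 1) := by
  constructor
  · simp only [Preadditive.comp_add, Preadditive.add_comp, Category.assoc] at e3 ⊢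
    rw [neg_add, ← e3]
    abel
  · simp only [Preadditive.comp_sub, Preadditive.add_comp, Category.assoc] at e4 ⊢
    rw [add_add_add_comm, ← e4]
    abel

end General

section Basic

variable (K : HomologicalComplex₂ A cu cu) [K.HasTotal cu]

@[reassoc]
lemma ι_d' (p q N : ℤ) (h : p + q = N) :
    ιT K p q N h ≫ (K.total cu).d N (N + 1) =
      (K.d p (p + 1)).f q ≫ ιT K (p + 1) q (N + 1) (by omega) +
      p.negOnePow • ((K.X p).d q (q + 1) ≫ ιT K p (q + 1) (N + 1) (by omega)) :=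
  ι_d K p q N h

lemma ιDπ_low' (p₁ q₁ N : ℤ) (h₁ : p₁ + q₁ = N) (p q : ℤ) (h : p + q = N + 1) (hp : p < p₁) :
    ιT K p₁ q₁ N h₁ ≫ (K.total cu).d N (N + 1) ≫ πT K p q (N + 1) h = 0 := by
  rw [ι_d'_assoc, Preadditive.add_comp, Category.assoc, ι_π_ne K _ _ _ _ _ _ _ (by omega),
    comp_zero, Linear.units_smul_comp, Category.assoc, ι_π_ne K _ _ _ _ _ _ _ (by omega),
    comp_zero, smul_zero, add_zero]

lemma ιDπ_same' (p₁ q₁ N : ℤ) (h₁ : p₁ + q₁ = N) (h : p₁ + (q₁ + 1) = N + 1) :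
    ιT K p₁ q₁ N h₁ ≫ (K.total cu).d N (N + 1) ≫ πT K p₁ (q₁ + 1) (N + 1) h =
      p₁.negOnePow • (K.X p₁).d q₁ (q₁ + 1) := by
  rw [ι_d'_assoc, Preadditive.add_comp, Category.assoc, ι_π_ne K _ _ _ _ _ _ _ (by omega),
    comp_zero, Linear.units_smul_comp, Category.assoc, ι_π_self, Category.comp_id, zero_add]

/-- the components in columns `< m` vanish. -/
def SuppCol (m : ℤ) {T : A} {N : ℤ} (x : T ⟶ (K.total cu).X N) : Prop :=
  ∀ (p q : ℤ) (h : p + q = N), p < m → x ≫ πT K p q N h = 0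

lemma Dπ_of_suppCol {T : A} {N : ℤ} (x : T ⟶ (K.total cu).X N) (m : ℤ) (hx : SuppCol K m x)
    (q : ℤ) (h : m + q = N) :
    (x ≫ (K.total cu).d N (N + 1)) ≫ πT K m (q + 1) (N + 1) (by omega) =
      m.negOnePow • ((x ≫ πT K m q N h) ≫ (K.X m).d q (q + 1)) := by
  obtain ⟨p₀, rfl⟩ : ∃ p₀, m = p₀ + 1 := ⟨m - 1, by omega⟩
  rw [Category.assoc, D_π K p₀ q N (by omega), Preadditive.comp_add,
    ← Category.assoc x (πT K p₀ (q + 1) N _), hx p₀ (q + 1) (by omega) (by omega), zero_comp,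
    zero_add, Linear.comp_units_smul, Category.assoc]
  rfl

variable (a b : ℤ) (hK : ∀ p q : ℤ, a < p ∨ b < q → IsZero ((K.X p).X q))

include hK in
lemma sum_π_ι' (n : ℤ) :
    ∑ q ∈ Finset.Icc (n - a) b, πT K (n - q) q n (by omega) ≫ ιT K (n - q) q n (by omega) =
      𝟙 _ := by
  apply HomologicalComplex₂.total.hom_ext
  intro p' q' h'
  have h'' : p' + q' = n := h'
  show ιT K p' q' n h'' ≫ _ = ιT K p' q' n h'' ≫ _
  rw [Category.comp_id, Preadditive.comp_sum]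
  by_cases hmem : q' ∈ Finset.Icc (n - a) b
  · rw [Finset.sum_eq_single q']
    · obtain rfl : p' = n - q' := by omega
      rw [ι_π_self_assoc]
    · intro q _ hne
      rw [ι_π_ne_assoc K _ _ _ _ _ _ _ (Ne.symm hne), zero_comp]
    · intro hnot
      exact absurd hmem hnot
  · apply (hK p' q' _).eq_of_src
    rw [Finset.mem_Icc] at hmem
    omega

include hK in
lemma into_ext' (n : ℤ) {T : A} (x y : T ⟶ (K.total cu).X n)
    (h : ∀ (p q : ℤ) (hpq : p + q = n), x ≫ πT K p q n hpq = y ≫ πT K p q n hpq) : x = y := by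
  have key : ∀ z : T ⟶ (K.total cu).X n,
      z = ∑ q ∈ Finset.Icc (n - a) b,
        (z ≫ πT K (n - q) q n (by omega)) ≫ ιT K (n - q) q n (by omega) := by
    intro z
    conv_lhs => rw [← Category.comp_id z, ← sum_π_ι' K a b hK n, Preadditive.comp_sum]
    simp only [Category.assoc]
  rw [key x, key y]
  refine Finset.sum_congr rfl (fun q _ => ?_)
  rw [h]

include hK in
lemma eq_zero_of_suppCol {T : A} {N : ℤ} (x : T ⟶ (K.total cu).X N) (m : ℤ) (hm : a < m)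
    (hx : SuppCol K m x) : x = 0 := by
  apply into_ext' K a b hK
  intro p q hpq
  rw [zero_comp]
  by_cases hp : p < m
  · exact hx p q hpq hp
  · exact (hK p q (Or.inl (by omega))).eq_of_tgt _ _

include hK in
lemma suppCol_init {T : A} {N : ℤ} (x : T ⟶ (K.total cu).X N) (m : ℤ) (hm : m ≤ N - b) :
    SuppCol K m x := by
  intro p q h hp
  exact (hK p q (Or.inr (by omega))).eq_of_tgt _ _

end Basic

section Main

variable (K L : HomologicalComplex₂ A cu cu) (φ : K ⟶ L) [K.HasTotal cu] [L.HasTotal cu]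
variable (a b : ℤ) (hK : ∀ p q : ℤ, a < p ∨ b < q → IsZero ((K.X p).X q))
  (hL : ∀ p q : ℤ, a < p ∨ b < q → IsZero ((L.X p).X q))
  (hφ : ∀ p : ℤ, QuasiIso (φ.f p))

include hK hL hφ in
lemma stair' (n : ℤ) (k : ℕ) : ∀ (m : ℤ), a < m + k →
    ∀ ⦃T : A⦄ (x : T ⟶ (K.total cu).X (n + 1 + 1)) (y : T ⟶ (L.total cu).X (n + 1)),
      x ≫ (K.total cu).d (n + 1 + 1) (n + 1 + 1 + 1) = 0 →
      x ≫ (HomologicalComplex₂.total.map φ cu).f (n + 1 + 1) +
        y ≫ (L.total cu).d (n + 1) (n + 1 + 1) = 0 →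
      SuppCol K m x → SuppCol L m y →
      ∃ (T' : A) (π : T' ⟶ T) (_ : Epi π) (x' : T' ⟶ (K.total cu).X (n + 1))
        (y' : T' ⟶ (L.total cu).X n),
        π ≫ x = -(x' ≫ (K.total cu).d (n + 1) (n + 1 + 1)) ∧
        π ≫ y = x' ≫ (HomologicalComplex₂.total.map φ cu).f (n + 1) +
          y' ≫ (L.total cu).d n (n + 1) := by
  induction k with
  | zero =>
    intro m hm T x y _ _ sx sy
    have x0 : x = 0 := eq_zero_of_suppCol K a b hK x m (by omega) sx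
    have y0 : y = 0 := eq_zero_of_suppCol L a b hL y m (by omega) sy
    refine ⟨T, 𝟙 T, inferInstance, 0, 0, ?_, ?_⟩
    · rw [x0, comp_zero, zero_comp, neg_zero]
    · rw [y0, comp_zero, zero_comp, zero_comp, add_zero]
  | succ k ih =>
    intro m hm T x y hx hxy sx sy
    obtain ⟨q₀, hq₀⟩ : ∃ q₀, m + q₀ = n := ⟨n - m, by omega⟩
    have := hφ m
    -- the components in column `m`
    have hi : (x ≫ πT K m (q₀ + 1 + 1) (n + 1 + 1) (by omega)) ≫
        (K.X m).d (q₀ + 1 + 1) (q₀ + 1 + 1 + 1) = 0 := by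
      have h := Dπ_of_suppCol K x m sx (q₀ + 1 + 1) (by omega)
      rw [hx, zero_comp] at h
      exact (smul_eq_zero_iff_eq m.negOnePow).1 h.symm
    have hii : (x ≫ πT K m (q₀ + 1 + 1) (n + 1 + 1) (by omega)) ≫ (φ.f m).f (q₀ + 1 + 1) +
        (m.negOnePow • (y ≫ πT L m (q₀ + 1) (n + 1) (by omega))) ≫
          (L.X m).d (q₀ + 1) (q₀ + 1 + 1) = 0 := by
      rw [Linear.units_smul_comp, ← Dπ_of_suppCol L y m sy (q₀ + 1) (by omega), Category.assoc,
        ← map_π, ← Category.assoc, ← Preadditive.add_comp, hxy, zero_comp]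
    obtain ⟨T₁, π₁, hπ₁, u, v, e1, e2⟩ := cone_exact_of_quasiIso (φ.f m) q₀ _ _ hi hii
    obtain ⟨hx', hxy'⟩ := corr (HomologicalComplex₂.total.map φ cu) n π₁ x y
      (m.negOnePow • (u ≫ ιT K m (q₀ + 1) (n + 1) (by omega))) (v ≫ ιT L m q₀ n hq₀) hx hxy
    have sx' : SuppCol K (m + 1) (π₁ ≫ x +
        (m.negOnePow • (u ≫ ιT K m (q₀ + 1) (n + 1) (by omega))) ≫
          (K.total cu).d (n + 1) (n + 1 + 1)) := by
      intro p q h hp
      rw [Preadditive.add_comp, Category.assoc, Category.assoc, Linear.units_smul_comp,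
        Category.assoc]
      by_cases hp' : p < m
      · rw [sx p q h hp', comp_zero, ιDπ_low' K _ _ _ _ _ _ h hp', comp_zero, smul_zero,
          add_zero]
      · obtain rfl : p = m := by omega
        obtain rfl : q = q₀ + 1 + 1 := by omega
        rw [ιDπ_same', Linear.comp_units_smul, smul_smul, Int.units_mul_self, one_smul, e1,
          neg_add_cancel]
    have sy' : SuppCol L (m + 1) (π₁ ≫ y -
        (m.negOnePow • (u ≫ ιT K m (q₀ + 1) (n + 1) (by omega))) ≫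
          (HomologicalComplex₂.total.map φ cu).f (n + 1) -
        (v ≫ ιT L m q₀ n hq₀) ≫ (L.total cu).d n (n + 1)) := by
      intro p q h hp
      rw [Preadditive.sub_comp, Preadditive.sub_comp, Category.assoc, Category.assoc,
        Category.assoc, Category.assoc, map_π, Linear.units_smul_comp, Category.assoc]
      by_cases hp' : p < m
      · rw [sy p q h hp', comp_zero, ι_π_ne_assoc K _ _ _ _ _ _ _ (by omega), zero_comp,
          comp_zero, smul_zero, ιDπ_low' L _ _ _ _ _ _ h hp', comp_zero, sub_zero, sub_zero]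
      · obtain rfl : p = m := by omega
        obtain rfl : q = q₀ + 1 := by omega
        rw [Linear.comp_units_smul] at e2
        have e2' : π₁ ≫ y ≫ πT L p (q₀ + 1) (n + 1) h =
            p.negOnePow • (u ≫ (φ.f p).f (q₀ + 1) + v ≫ (L.X p).d q₀ (q₀ + 1)) := by
          rw [← e2, smul_smul, Int.units_mul_self, one_smul]
        rw [ι_π_self_assoc, ιDπ_same', Linear.comp_units_smul, e2', smul_add]
        abel
    obtain ⟨T₂, π₂, hπ₂, x'', y'', e3, e4⟩ :=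
      ih (m + 1) (by push_cast at hm; omega) _ _ hx' hxy' sx' sy'
    obtain ⟨r1, r2⟩ := finish (HomologicalComplex₂.total.map φ cu) n π₁ π₂ x y _ _ x'' y'' e3 e4
    exact ⟨T₂, π₂ ≫ π₁, epi_comp _ _, _, _, r1, r2⟩

include hK hL hφ in
lemma cone_exact' (n : ℤ) ⦃T : A⦄ (x : T ⟶ (K.total cu).X (n + 1 + 1))
    (y : T ⟶ (L.total cu).X (n + 1))
    (hx : x ≫ (K.total cu).d (n + 1 + 1) (n + 1 + 1 + 1) = 0)
    (hxy : x ≫ (HomologicalComplex₂.total.map φ cu).f (n + 1 + 1) +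
        y ≫ (L.total cu).d (n + 1) (n + 1 + 1) = 0) :
    ∃ (T' : A) (π : T' ⟶ T) (_ : Epi π) (x' : T' ⟶ (K.total cu).X (n + 1))
      (y' : T' ⟶ (L.total cu).X n),
      π ≫ x = -(x' ≫ (K.total cu).d (n + 1) (n + 1 + 1)) ∧
      π ≫ y = x' ≫ (HomologicalComplex₂.total.map φ cu).f (n + 1) +
        y' ≫ (L.total cu).d n (n + 1) :=
  stair' K L φ a b hK hL hφ n (a + 1 - (n + 1 - b)).toNat (n + 1 - b) (by omega) x y hx hxy
    (suppCol_init K a b hK x _ (by omega)) (suppCol_init L a b hL y _ (by omega))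

include hK hL hφ in
/-- `Tot` of a columnwise quasi-isomorphism of uniformly bounded above double complexes is a
quasi-isomorphism. -/
theorem quasiIso_total_map_inner : QuasiIso (HomologicalComplex₂.total.map φ cu) := by
  rw [quasiIso_iff]
  intro j
  rw [quasiIsoAt_iff_isIso_homologyMap]
  have hm : Mono (homologyMap (HomologicalComplex₂.total.map φ cu) j) := by
    obtain ⟨n, rfl⟩ : ∃ n, j = n + 1 + 1 := ⟨j - 2, by omega⟩
    rw [mono_homologyMap_iff_up_to_refinements _ (n + 1) (n + 1 + 1) (n + 1 + 1 + 1)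
      (by simp) (by simp)]
    intro T x₂ hx₂ y₁ e
    obtain ⟨T', π, hπ, x', y', e1, _⟩ := cone_exact' K L φ a b hK hL hφ n x₂ (-y₁) hx₂ (by
      rw [e, Preadditive.neg_comp, add_neg_cancel])
    refine ⟨T', π, hπ, -x', ?_⟩
    rw [e1, Preadditive.neg_comp]
  have he : Epi (homologyMap (HomologicalComplex₂.total.map φ cu) j) := by
    obtain ⟨n, rfl⟩ : ∃ n, j = n + 1 := ⟨j - 1, by omega⟩
    rw [epi_homologyMap_iff_up_to_refinements _ n (n + 1) (n + 1 + 1) (by simp) (by simp)]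
    intro T y₂ hy₂
    obtain ⟨T', π, hπ, x', y', e1, e2⟩ := cone_exact' K L φ a b hK hL hφ n 0 y₂ zero_comp (by
      rw [zero_comp, zero_add, hy₂])
    refine ⟨T', π, hπ, x', ?_, y', e2⟩
    rw [comp_zero] at e1
    exact neg_eq_zero.1 e1.symm
  exact isIso_of_mono_of_epi _

end Main

end TotQIA
end Groth.Agent.H90
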